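import Groth.Prelude.Def_AlgGrp
import Mathlib.AlgebraicGeometry.Morphisms.UniversallyOpen
import Mathlib.AlgebraicGeometry.PullbackCarrier

set_option autoImplicit false
set_option linter.style.haveILetI false
open CategoryTheory CategoryTheory.Limits AlgebraicGeometry MonoidalCategory
open MonObj GrpObj CartesianMonoidalCategory
universe u

/-!
# Translation arguments for universally open loci of homomorphisms of group schemes (helper78)
-/

namespace Groth.Agent.Lib.Helper78.GrpTransl

theorem universallyOpen_of_comp_surjective {X Y Z : Scheme.{u}} (f : X ⟶ Y) (g : Y ⟶ Z)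
    [UniversallyOpen (f ≫ g)] [Surjective f] : UniversallyOpen g := by
  constructor
  intro X' Y' i₁ i₂ f' H
  have := UniversallyOpen.universally_isOpenMap _ _ _
    ((IsPullback.of_hasPullback i₁ f).paste_horiz H)
  have hs : Function.Surjective (pullback.fst i₁ f) :=
    (inferInstance : Surjective (pullback.fst i₁ f)).surj
  intro A hA
  have : f' '' A = (pullback.fst i₁ f ≫ f') '' ((pullback.fst i₁ f) ⁻¹' A) := by
    rw [Scheme.Hom.comp_base, TopCat.coe_comp, Set.image_comp, Set.image_preimage_eq _ hs]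
  rw [this]
  exact ‹IsOpenMap (pullback.fst i₁ f ≫ f')› _ (hA.preimage (Scheme.Hom.continuous _))

variable {S : Scheme.{u}}

/-- the shear automorphism `(t, k) ↦ (t, a(t) k)` of `T × K`. -/
noncomputable def shear {T K : Over S} [GrpObj K] (a : T ⟶ K) : T ⊗ K ≅ T ⊗ K where
  hom := lift (fst T K) ((fst T K ≫ a) * snd T K)
  inv := lift (fst T K) ((fst T K ≫ a)⁻¹ * snd T K)
  hom_inv_id := by
    apply CartesianMonoidalCategory.hom_ext
    · simp
    · rw [Category.assoc, lift_snd, MonObj.comp_mul, GrpObj.comp_inv, ← Category.assoc, lift_fst,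
        lift_snd, Category.id_comp]
      group
  inv_hom_id := by
    apply CartesianMonoidalCategory.hom_ext
    · simp
    · rw [Category.assoc, lift_snd, MonObj.comp_mul, ← Category.assoc, lift_fst,
        lift_snd, Category.id_comp]
      group

theorem tensorHom_mul_eq {T T' K : Over S} [GrpObj K] (a : T ⟶ K) (c : T' ⟶ K) :
    (a ⊗ₘ c) ≫ μ[K] = (T ◁ c) ≫ (shear a).hom ≫ snd T K := by
  have e1 : (a ⊗ₘ c) = lift (fst T T' ≫ a) (snd T T' ≫ c) := by
    apply CartesianMonoidalCategory.hom_ext <;> simp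
  rw [e1, ← Hom.mul_def]
  simp only [shear, lift_snd, MonObj.comp_mul]
  congr 1
  · simp
  · simp

theorem universallyOpen_tensorHom_mul {T T' K : Over S} [GrpObj K] (a : T ⟶ K) (c : T' ⟶ K)
    [hT : UniversallyOpen T.hom] [hc : UniversallyOpen c.left] :
    UniversallyOpen ((a ⊗ₘ c) ≫ μ[K]).left := by
  rw [tensorHom_mul_eq]
  simp only [Over.comp_left]
  have h1 : UniversallyOpen (T ◁ c).left := by
    rw [Over.whiskerLeft_left]
    exact MorphismProperty.pullbackMap (P := @UniversallyOpen)
      (inferInstance : UniversallyOpen (𝟙 T.left)) hc (Category.id_comp _).symm (Over.w c).symm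
  have h2 : UniversallyOpen (snd T K).left := by
    rw [Over.snd_left]
    infer_instance
  have h3 : IsIso (shear a).hom.left :=
    (inferInstance : IsIso ((Over.forget S).map (shear a).hom))
  infer_instance

/-- maximality: the image of an open map whose composite with `u` is universally open lies in `V`. -/
theorem range_subset_of_max {G H X : Scheme.{u}} (u : G ⟶ H) (V : G.Opens)
    (hmax : ∀ W : G.Opens, UniversallyOpen (W.ι ≫ u) → W ≤ V)
    (ψ : X ⟶ G) (hψ : IsOpenMap ψ.base) [hψu : UniversallyOpen (ψ ≫ u)] (x : X) :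
    ψ.base x ∈ V := by
  let W : G.Opens := ⟨Set.range ψ.base, hψ.isOpen_range⟩
  have hr : Set.range ψ.base ⊆ Set.range W.ι.base := by
    rw [Scheme.Opens.range_ι]
    exact subset_rfl
  let ψ' : X ⟶ W.toScheme := IsOpenImmersion.lift W.ι ψ hr
  have hψ' : ψ' ≫ W.ι = ψ := IsOpenImmersion.lift_fac _ _ _
  haveI : Surjective ψ' := by
    constructor
    intro w
    obtain ⟨x, hx⟩ : W.ι.base w ∈ Set.range ψ.base := by
      have h : W.ι.base w ∈ Set.range W.ι.base := Set.mem_range_self w
      rw [Scheme.Opens.range_ι] at h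
      exact h
    refine ⟨x, ?_⟩
    apply W.ι.isOpenEmbedding.injective
    rw [← Scheme.Hom.comp_apply, hψ', hx]
  haveI : UniversallyOpen (ψ' ≫ (W.ι ≫ u)) := by
    rw [← Category.assoc, hψ']
    exact hψu
  have hW : UniversallyOpen (W.ι ≫ u) := universallyOpen_of_comp_surjective ψ' _
  exact hmax W hW ⟨x, rfl⟩

theorem maxOpen_universallyOpen_isSubgroup (S : Scheme.{u}) (G H : Over S) [GrpObj G] [GrpObj H]
    (u : G ⟶ H) [IsMonHom u] (hG : UniversallyOpen G.hom ∨ UniversallyOpen H.hom)
    (V : G.left.Opens) (hV : UniversallyOpen (V.ι ≫ u.left))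
    (hmax : ∀ W : G.left.Opens, UniversallyOpen (W.ι ≫ u.left) → W ≤ V) :
    IsOpen (G.hom.base '' (V : Set G.left)) ∧
    (∀ g ∈ V, ∀ p : ↥(𝟙_ (Over S)).left, (𝟙_ (Over S)).hom.base p = G.hom.base g → η[G].left.base p ∈ V) ∧
    (∀ g ∈ V, ι[G].left.base g ∈ V) ∧
    (∀ z : ↥(G ⊗ G).left, (fst G G).left.base z ∈ V → (snd G G).left.base z ∈ V → μ[G].left.base z ∈ V) := by
  let T : Over S := Over.mk (V.ι ≫ G.hom)
  let τ : T ⟶ G := Over.homMk V.ι rfl
  haveI hT : UniversallyOpen T.hom := by
    rcases hG with hG | hH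
    · change UniversallyOpen (V.ι ≫ G.hom)
      infer_instance
    · change UniversallyOpen (V.ι ≫ G.hom)
      rw [← Over.w u, ← Category.assoc]
      infer_instance
  haveI hτ : UniversallyOpen τ.left := by
    change UniversallyOpen V.ι
    infer_instance
  haveI hτu : UniversallyOpen (τ ≫ u).left := by
    change UniversallyOpen (V.ι ≫ u.left)
    exact hV
  -- the key inclusion
  have key : ∀ (a : T ⟶ G) (x : ↥(T ⊗ T).left), ((a ⊗ₘ τ) ≫ μ[G]).left.base x ∈ V := by
    intro a x
    haveI h1 : UniversallyOpen ((a ⊗ₘ τ) ≫ μ[G]).left := universallyOpen_tensorHom_mul a τ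
    haveI h2 : UniversallyOpen (((a ⊗ₘ τ) ≫ μ[G]).left ≫ u.left) := by
      have e : ((a ⊗ₘ τ) ≫ μ[G]).left ≫ u.left = (((a ≫ u) ⊗ₘ (τ ≫ u)) ≫ μ[H]).left := by
        rw [← Over.comp_left, Category.assoc, IsMonHom.mul_hom, ← Category.assoc,
          tensorHom_comp_tensorHom]
      rw [e]
      exact universallyOpen_tensorHom_mul (a ≫ u) (τ ≫ u)
    exact range_subset_of_max u.left V hmax _ (Scheme.Hom.isOpenMap _) x
  refine ⟨?_, ?_, ?_, ?_⟩
  · have : G.hom.base '' (V : Set G.left) = Set.range T.hom.base := by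
      change _ = Set.range (V.ι ≫ G.hom).base
      rw [Scheme.Hom.comp_base, TopCat.coe_comp, Set.range_comp, Scheme.Opens.range_ι]
    rw [this]
    exact (Scheme.Hom.isOpenMap T.hom).isOpen_range
  · intro g hg p hp
    let g' : ↥T.left := ⟨g, hg⟩
    have h := key τ⁻¹ ((lift (𝟙 T) (𝟙 T)).left.base g')
    rw [← Scheme.Hom.comp_apply, ← Over.comp_left] at h
    have e : lift (𝟙 T) (𝟙 T) ≫ (τ⁻¹ ⊗ₘ τ) ≫ μ[G] = toUnit T ≫ η[G] := by
      rw [lift_map_assoc, Category.id_comp, Category.id_comp, ← Hom.mul_def, inv_mul_cancel,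
        Hom.one_def]
    rw [e, Over.comp_left, Scheme.Hom.comp_apply] at h
    have hp' : (toUnit T).left.base g' = p := by
      change G.hom.base (V.ι.base g') = p
      exact hp.symm
    rw [hp'] at h
    exact h
  · intro g hg
    let g' : ↥T.left := ⟨g, hg⟩
    haveI : IsIso ι[G].left := (inferInstance : IsIso ((Over.forget S).map ι[G]))
    haveI : IsIso ι[H].left := (inferInstance : IsIso ((Over.forget S).map ι[H]))
    haveI h1 : UniversallyOpen (τ ≫ ι[G]).left := by
      rw [Over.comp_left]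
      infer_instance
    haveI h2 : UniversallyOpen ((τ ≫ ι[G]).left ≫ u.left) := by
      have e : (τ ≫ ι[G]).left ≫ u.left = (τ ≫ u).left ≫ ι[H].left := by
        rw [← Over.comp_left, ← Over.comp_left, Category.assoc, Category.assoc,
          GrpObj.inv_hom]
      rw [e]
      infer_instance
    exact range_subset_of_max u.left V hmax (τ ≫ ι[G]).left (Scheme.Hom.isOpenMap _) g'
  · intro z hz1 hz2
    have hr : z ∈ Set.range (τ ⊗ₘ τ).left.base := by
      rw [Over.tensorHom_left, Scheme.Pullback.range_map]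
      refine ⟨?_, ?_⟩
      · rw [Set.mem_preimage, show τ.left = V.ι from rfl, Scheme.Opens.range_ι]
        exact hz1
      · rw [Set.mem_preimage, show τ.left = V.ι from rfl, Scheme.Opens.range_ι]
        exact hz2
    obtain ⟨z', rfl⟩ := hr
    have h := key τ z'
    rw [Over.comp_left, Scheme.Hom.comp_apply] at h
    exact h

end Groth.Agent.Lib.Helper78.GrpTransl
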