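import Groth.Agent.Lib.Helper78.ModStalk
import Groth.Agent.Lib.Helper42.ModSheaf
import Mathlib.Topology.Sheaves.Abelian
import Mathlib.Algebra.Homology.ShortComplex.Ab
import Mathlib.Algebra.Homology.ShortComplex.ExactFunctor

set_option autoImplicit false
universe u
open CategoryTheory CategoryTheory.Limits AlgebraicGeometry Opposite TopologicalSpace

namespace Groth.Agent.Lib.Helper78.ModStalkExact

open Groth.Agent.Lib.Helper78.ModStalk

variable {X : Scheme.{u}}

/-- the underlying abelian sheaf functor -/
noncomputable def toSh (X : Scheme.{u}) : X.Modules ⥤ TopCat.Sheaf Ab.{u} X :=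
  SheafOfModules.toSheaf X.ringCatSheaf

instance : (toSh X).Additive :=
  inferInstanceAs (SheafOfModules.toSheaf.{u} X.ringCatSheaf).Additive

instance : PreservesFiniteLimits (toSh X) :=
  inferInstanceAs (PreservesFiniteLimits (SheafOfModules.toSheaf.{u} X.ringCatSheaf))

instance : PreservesFiniteColimits (toSh X) :=
  have : PreservesFiniteColimits (SheafOfModules.toSheaf.{u} X.ringCatSheaf) :=
    PreservesColimitsOfSize.preservesFiniteColimits _
  inferInstanceAs (PreservesFiniteColimits (SheafOfModules.toSheaf.{u} X.ringCatSheaf))

/-- the image of a short exact sequence of O_X-modules in abelian sheaves is short exact -/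
theorem shortExact_toSh (S : ShortComplex X.Modules) (hS : S.ShortExact) :
    (S.map (toSh X)).ShortExact :=
  hS.map_of_exact (toSh X)

theorem stalk_function_exact (S : ShortComplex X.Modules) (hS : S.ShortExact) (x : X) :
    Function.Exact (stalkMap S.f x) (stalkMap S.g x) := by
  have hT := shortExact_toSh S hS
  have h1 := (TopCat.Sheaf.exact_iff_stalkFunctor_map_exact (S.map (toSh X))).mp hT.exact x
  have h2 := (ShortComplex.ab_exact_iff_function_exact _).mp h1
  exact h2

theorem stalk_surjective (S : ShortComplex X.Modules) (hS : S.ShortExact) (x : X) :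
    Function.Surjective (stalkMap S.g x) := by
  have hT := shortExact_toSh S hS
  have := hT.epi_g
  have h1 : Epi ((TopCat.Sheaf.forget Ab.{u} X ⋙ TopCat.Presheaf.stalkFunctor Ab.{u} x).map
      (S.map (toSh X)).g) := inferInstance
  exact (AddCommGrpCat.epi_iff_surjective _).mp h1

theorem stalk_injective (S : ShortComplex X.Modules) (hS : S.ShortExact) (x : X) :
    Function.Injective (stalkMap S.f x) := by
  have := hS.mono_f
  exact stalkMap_injective_of_mono S.f x

end Groth.Agent.Lib.Helper78.ModStalkExact
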