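import Groth.Prelude.Def_TorSh
import Groth.Prelude.Def_Coh
import Mathlib.AlgebraicGeometry.FunctionField

set_option autoImplicit false
universe u
open CategoryTheory CategoryTheory.Limits AlgebraicGeometry Opposite TopologicalSpace

namespace Groth.Agent.Lib.Helper78.ModStalk

variable {X : Scheme.{u}}

/-- injectivity on sections of a monomorphism of O_X-modules -/
theorem app_injective_of_mono {M N : X.Modules} (φ : M ⟶ N) [Mono φ] (U : X.Opens) :
    Function.Injective (φ.app U) := by
  have h1 : Mono ((Scheme.Modules.toPresheaf X).map φ) := inferInstance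
  have h2 : Mono (((Scheme.Modules.toPresheaf X).map φ).app (op U)) := inferInstance
  exact (AddCommGrpCat.mono_iff_injective _).mp h2

theorem germ_smul (M : X.Modules) (x : X) (U : X.Opens) (hx : x ∈ U) (r : Γ(X, U)) (m : Γ(M, U)) :
    M.presheaf.germ U x hx (r • m) = X.presheaf.germ U x hx r • M.presheaf.germ U x hx m :=
  PresheafOfModules.germ_smul (R := X.presheaf)
    (show PresheafOfModules (X.presheaf ⋙ forget₂ CommRingCat RingCat) from M.val) x U hx r m

/-- common representatives of a germ of function and a germ of section -/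
theorem exists_germ_eq₂ (M : X.Modules) (x : X) (r : X.presheaf.stalk x) (m : M.presheaf.stalk x) :
    ∃ (W : X.Opens) (hx : x ∈ W) (r' : Γ(X, W)) (m' : Γ(M, W)),
      X.presheaf.germ W x hx r' = r ∧ M.presheaf.germ W x hx m' = m := by
  obtain ⟨U, hxU, r', rfl⟩ := X.presheaf.exists_germ_eq (x := x) r
  obtain ⟨V, hxV, m', rfl⟩ := M.presheaf.exists_germ_eq (x := x) m
  refine ⟨U ⊓ V, ⟨hxU, hxV⟩, X.presheaf.map (homOfLE inf_le_left).op r',
    M.presheaf.map (homOfLE inf_le_right).op m', ?_, ?_⟩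
  · exact TopCat.Presheaf.germ_res_apply _ _ _ _ _
  · exact TopCat.Presheaf.germ_res_apply _ _ _ _ _

/-- the map on stalks induced by a morphism of O_X-modules -/
noncomputable def stalkMap {M N : X.Modules} (φ : M ⟶ N) (x : X) :
    M.presheaf.stalk x →ₗ[X.presheaf.stalk x] N.presheaf.stalk x where
  toFun := (TopCat.Presheaf.stalkFunctor Ab x).map φ.mapPresheaf
  map_add' a b := map_add _ a b
  map_smul' r m := by
    obtain ⟨W, hxW, r', m', rfl, rfl⟩ := exists_germ_eq₂ M x r m
    rw [← germ_smul]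
    simp only [RingHom.id_apply]
    erw [TopCat.Presheaf.stalkFunctor_map_germ_apply W x hxW φ.mapPresheaf (r' • m'),
      TopCat.Presheaf.stalkFunctor_map_germ_apply W x hxW φ.mapPresheaf m']
    rw [Scheme.Modules.mapPresheaf_app]
    erw [Scheme.Modules.Hom.app_smul]
    exact germ_smul N x W hxW r' _

theorem stalkMap_germ {M N : X.Modules} (φ : M ⟶ N) (x : X) (U : X.Opens) (hx : x ∈ U)
    (m : Γ(M, U)) :
    stalkMap φ x (M.presheaf.germ U x hx m) = N.presheaf.germ U x hx (φ.app U m) :=
  TopCat.Presheaf.stalkFunctor_map_germ_apply U x hx φ.mapPresheaf m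

theorem stalkMap_injective_of_mono {M N : X.Modules} (φ : M ⟶ N) [Mono φ] (x : X) :
    Function.Injective (stalkMap φ x) :=
  TopCat.Presheaf.stalkFunctor_map_injective_of_app_injective
    (f := φ.mapPresheaf) (fun U => app_injective_of_mono φ U) x

theorem exists_section_ne_zero {G : X.Modules} (hG : ¬ IsZero G) :
    ∃ (U : X.Opens) (s : Γ(G, U)), s ≠ 0 := by
  by_contra h
  simp only [not_exists, not_not] at h
  apply hG
  rw [IsZero.iff_id_eq_zero]
  apply Scheme.Modules.hom_ext
  intro U
  ext s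
  exact (h U _).trans (h U _).symm

section RatFun

variable (X : Scheme.{u}) [IsIntegral X]

/-- the sheaf of rational functions as a pushforward -/
noncomputable abbrev ratSheaf : X.Modules :=
  (Scheme.Modules.pushforward (X.fromSpecStalk (genericPoint X))).obj
    (Coh.structureModule (Spec (X.presheaf.stalk (genericPoint X))))


theorem ratSheaf_smul (U : X.Opens) (r : Γ(X, U)) (m : Γ(ratSheaf X, U)) :
    (r • m : Γ(ratSheaf X, U)) =
      (((X.fromSpecStalk (genericPoint X)).app U r *
        (show Γ(Spec (X.presheaf.stalk (genericPoint X)), X.fromSpecStalk (genericPoint X) ⁻¹ᵁ U) from m) :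
        Γ(Spec (X.presheaf.stalk (genericPoint X)), X.fromSpecStalk (genericPoint X) ⁻¹ᵁ U))) := rfl

theorem ratSheaf_map {U V : X.Opens} (h : V ≤ U) (m : Γ(ratSheaf X, U)) :
    ((ratSheaf X).presheaf.map (homOfLE h).op m : Γ(ratSheaf X, V)) =
      ((Spec (X.presheaf.stalk (genericPoint X))).presheaf.map
        (homOfLE ((X.fromSpecStalk (genericPoint X)).preimage_mono h)).op
        (show Γ(Spec (X.presheaf.stalk (genericPoint X)), X.fromSpecStalk (genericPoint X) ⁻¹ᵁ U) from m)) := rfl


local notation "ξ" => genericPoint X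
local notation "KK" => X.presheaf.stalk (genericPoint X)
local notation "SK" => Spec (X.presheaf.stalk (genericPoint X))
local notation "jj" => X.fromSpecStalk (genericPoint X)

noncomputable instance : Field KK := inferInstanceAs (Field X.functionField)

theorem jj_apply (p : SK) : jj p = ξ := by
  have hp : p = IsLocalRing.closedPoint KK := by
    apply PrimeSpectrum.ext
    change p.asIdeal = IsLocalRing.maximalIdeal KK
    rw [IsLocalRing.maximalIdeal_eq_bot]
    exact (Ideal.eq_bot_or_top p.asIdeal).resolve_right p.isPrime.ne_top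
  rw [hp]
  exact Scheme.fromSpecStalk_closedPoint

theorem gen_mem_of_mem {U : X.Opens} {x : X} (hx : x ∈ U) : ξ ∈ U :=
  ((genericPoint_spec X).mem_open_set_iff U.isOpen).mpr ⟨x, trivial, hx⟩

theorem nonempty_preimage {U : X.Opens} (hU : ξ ∈ U) : Nonempty ((jj ⁻¹ᵁ U : (SK).Opens) : Scheme.{u}) :=
  ⟨⟨IsLocalRing.closedPoint KK, by
    change jj (IsLocalRing.closedPoint KK) ∈ U
    rw [jj_apply]; exact hU⟩⟩

theorem gen_mem_of_preimage {U : X.Opens} (p : SK) (hp : p ∈ jj ⁻¹ᵁ U) : ξ ∈ U := by
  have : jj p ∈ U := hp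
  rwa [jj_apply] at this

theorem app_injective {U : X.Opens} (hU : ξ ∈ U) : Function.Injective ((jj).app U) := by
  have := nonempty_preimage X hU
  rw [Scheme.fromSpecStalk_app hU]
  intro a b hab
  simp only [CommRingCat.hom_comp, RingHom.coe_comp, Function.comp_apply] at hab
  have h1 := map_injective_of_isIntegral SK (homOfLE (le_top : jj ⁻¹ᵁ U ≤ ⊤)) hab
  have h2 : Function.Injective (Scheme.ΓSpecIso KK).inv :=
    ((ConcreteCategory.isIso_iff_bijective _).mp inferInstance).1
  exact germ_injective_of_isIntegral X _ hU (h2 h1)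

theorem ratSheaf_map_injective {U V : X.Opens} (h : V ≤ U) (hV : ξ ∈ V) :
    Function.Injective ((ratSheaf X).presheaf.map (homOfLE h).op) := by
  have := nonempty_preimage X hV
  intro a b hab
  exact map_injective_of_isIntegral SK (homOfLE ((jj).preimage_mono h)) hab

theorem ratSheaf_germ_injective {U : X.Opens} (x : X) (hx : x ∈ U) :
    Function.Injective ((ratSheaf X).presheaf.germ U x hx) := by
  rw [injective_iff_map_eq_zero]
  intro t ht
  rw [← ((ratSheaf X).presheaf.germ U x hx).hom.map_zero] at ht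
  obtain ⟨W, hW, iU, iV, e⟩ := (ratSheaf X).presheaf.germ_eq _ hx hx _ _ ht
  cases Subsingleton.elim iU iV
  rw [map_zero] at e
  have := ratSheaf_map_injective X (leOfHom iU) (gen_mem_of_mem X hW)
  exact this (e.trans (map_zero _).symm)

theorem ratSheaf_isDomain {U : X.Opens} (hU : ξ ∈ U) : IsDomain Γ(SK, jj ⁻¹ᵁ U) := by
  have := nonempty_preimage X hU
  infer_instance

theorem ratSheaf_isTorsionFree (x : X) :
    Module.IsTorsionFree (X.presheaf.stalk x) ((ratSheaf X).presheaf.stalk x) := by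
  apply Module.IsTorsionFree.of_smul_eq_zero
  intro r m hrm
  obtain ⟨W, hxW, r', m', rfl, rfl⟩ := exists_germ_eq₂ (ratSheaf X) x r m
  rw [← germ_smul] at hrm
  have h0 := ratSheaf_germ_injective X x hxW (hrm.trans (map_zero _).symm)
  have hdom := ratSheaf_isDomain X (gen_mem_of_mem X hxW)
  have h0' : ((jj).app W r' * (show Γ(SK, jj ⁻¹ᵁ W) from m')) = (0 : Γ(SK, jj ⁻¹ᵁ W)) := h0
  rcases mul_eq_zero.mp h0' with h | h
  · left
    have := app_injective X (gen_mem_of_mem X hxW) (h.trans (map_zero _).symm)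
    rw [this, map_zero]
  · right
    have : m' = 0 := h
    rw [this, map_zero]

/-- the unit section of the sheaf of rational functions -/
noncomputable def ratOne (U : X.Opens) : Γ(ratSheaf X, U) :=
  (show Γ(ratSheaf X, U) from (1 : Γ(SK, jj ⁻¹ᵁ U)))

theorem ratOne_map {U V : X.Opens} (h : V ≤ U) :
    (ratSheaf X).presheaf.map (homOfLE h).op (ratOne X U) = ratOne X V := by
  rw [ratSheaf_map]
  exact map_one ((SK).presheaf.map (homOfLE ((jj).preimage_mono h)).op).hom

theorem exists_top_section (P : (SK).Opens) (hP : P = ⊤) (t : Γ(SK, P)) :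
    ∃ t'' : Γ(SK, ⊤), (SK).presheaf.map (homOfLE (le_top : P ≤ ⊤)).op t'' = t := by
  subst hP
  refine ⟨t, ?_⟩
  have : (homOfLE (le_top : (⊤ : (SK).Opens) ≤ ⊤)) = 𝟙 _ := rfl
  rw [this, op_id, CategoryTheory.Functor.map_id]
  rfl

theorem preimage_eq_top {U : X.Opens} (hU : ξ ∈ U) : jj ⁻¹ᵁ U = ⊤ := by
  refine (IsLocalRing.closedPoint_mem_iff (R := KK) (jj ⁻¹ᵁ U)).mp ?_
  change jj (IsLocalRing.closedPoint KK) ∈ U
  rw [jj_apply]
  exact hU

/-- the stalk at the generic point of the sheaf of rational functions is generated by one element -/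
theorem ratSheaf_stalk_gen (m : (ratSheaf X).presheaf.stalk ξ) :
    ∃ r : KK, r • (ratSheaf X).presheaf.germ ⊤ ξ trivial (ratOne X ⊤) = m := by
  obtain ⟨U, hU, m', rfl⟩ := (ratSheaf X).presheaf.exists_germ_eq (x := ξ) m
  obtain ⟨t'', ht''⟩ := exists_top_section X (jj ⁻¹ᵁ U) (preimage_eq_top X hU) m'
  obtain ⟨U', hU', r', hr'⟩ := X.presheaf.exists_germ_eq (x := ξ) ((Scheme.ΓSpecIso KK).hom t'')
  refine ⟨(Scheme.ΓSpecIso KK).hom t'', ?_⟩
  have hW : ξ ∈ U ⊓ U' := ⟨hU, hU'⟩
  have e1 : (ratSheaf X).presheaf.germ ⊤ ξ trivial (ratOne X ⊤) =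
      (ratSheaf X).presheaf.germ (U ⊓ U') ξ hW (ratOne X (U ⊓ U')) := by
    rw [← ratOne_map X (le_top : U ⊓ U' ≤ ⊤)]
    exact (TopCat.Presheaf.germ_res_apply _ _ _ _ _).symm
  have e2 : (Scheme.ΓSpecIso KK).hom t'' =
      X.presheaf.germ (U ⊓ U') ξ hW (X.presheaf.map (homOfLE inf_le_right).op r') := by
    rw [← hr']
    exact (TopCat.Presheaf.germ_res_apply _ _ _ _ _).symm
  have e3 : (ratSheaf X).presheaf.germ U ξ hU m' =
      (ratSheaf X).presheaf.germ (U ⊓ U') ξ hW
        ((ratSheaf X).presheaf.map (homOfLE inf_le_left).op m') :=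
    (TopCat.Presheaf.germ_res_apply _ _ _ _ _).symm
  rw [e1, e2, e3, ← germ_smul]
  congr 1
  rw [ratSheaf_smul, ratSheaf_map]
  change (jj).app (U ⊓ U') (X.presheaf.map (homOfLE inf_le_right).op r') *
      (1 : Γ(SK, jj ⁻¹ᵁ (U ⊓ U'))) =
    (SK).presheaf.map (homOfLE ((jj).preimage_mono inf_le_left)).op
      (show Γ(SK, jj ⁻¹ᵁ U) from m')
  rw [mul_one, Scheme.fromSpecStalk_app hW]
  simp only [CommRingCat.hom_comp, RingHom.coe_comp, Function.comp_apply]
  rw [← e2, ← ht'']
  have h3 : (Scheme.ΓSpecIso KK).inv ((Scheme.ΓSpecIso KK).hom t'') = t'' :=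
    Iso.hom_inv_id_apply (Scheme.ΓSpecIso KK) t''
  rw [h3, ← ConcreteCategory.comp_apply, ← Functor.map_comp]
  rfl

theorem ratSheaf_subsingleton_of_not_mem {U : X.Opens} (hU : ξ ∉ U) :
    Subsingleton Γ(ratSheaf X, U) := by
  have h : jj ⁻¹ᵁ U = ⊥ := by
    ext p
    simp only [Opens.coe_bot, Set.mem_empty_iff_false, iff_false]
    exact fun hp => hU (gen_mem_of_preimage X p hp)
  have : ∀ (P : (SK).Opens), P = ⊥ → Subsingleton Γ(SK, P) := by
    intro P hP
    subst hP
    infer_instance
  exact this _ h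

/-- a nonzero submodule of the sheaf of rational functions is torsion-free of rank one -/
theorem torsionFree_and_rank_one (G : X.Modules) (i : G ⟶ ratSheaf X) [Mono i]
    (hG : ¬ IsZero G) :
    TorSh.IsTorsionFree G ∧
      Module.finrank KK (G.presheaf.stalk ξ) = 1 := by
  constructor
  · intro x
    have := ratSheaf_isTorsionFree X x
    exact Function.Injective.moduleIsTorsionFree (stalkMap i x) (stalkMap_injective_of_mono i x)
      (fun r m => map_smul _ r m)
  · obtain ⟨U, s, hs⟩ := exists_section_ne_zero hG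
    have his : i.app U s ≠ 0 := fun h => hs (app_injective_of_mono i U (h.trans (map_zero _).symm))
    have hU : ξ ∈ U := by
      by_contra hU
      have := ratSheaf_subsingleton_of_not_mem X hU
      exact his (Subsingleton.elim _ _)
    set v := G.presheaf.germ U ξ hU s with hv
    have hθv : stalkMap i ξ v = (ratSheaf X).presheaf.germ U ξ hU (i.app U s) := stalkMap_germ i ξ U hU s
    have hθv0 : stalkMap i ξ v ≠ 0 := by
      rw [hθv]
      intro h
      exact his (ratSheaf_germ_injective X ξ hU (h.trans (map_zero _).symm))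
    have hv0 : v ≠ 0 := fun h => hθv0 (by rw [h, map_zero])
    rw [finrank_eq_one_iff_of_nonzero' v hv0]
    intro w
    obtain ⟨a, ha⟩ := ratSheaf_stalk_gen X (stalkMap i ξ v)
    obtain ⟨b, hb⟩ := ratSheaf_stalk_gen X (stalkMap i ξ w)
    have ha0 : a ≠ 0 := by
      intro h
      rw [h, zero_smul] at ha
      exact hθv0 ha.symm
    refine ⟨b * a⁻¹, ?_⟩
    apply stalkMap_injective_of_mono i ξ
    rw [map_smul, ← ha, ← hb, smul_smul, inv_mul_cancel_right₀ ha0]

end RatFun

end Groth.Agent.Lib.Helper78.ModStalk
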