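import Mathlib.RingTheory.Flat.Equalizer
import Mathlib.RingTheory.Flat.Basic

set_option autoImplicit false
universe u v

open TensorProduct

namespace Groth.Agent.Lib.Helper78.FlatSES

variable {R : Type u} [CommRing R] {M1 M2 M3 : Type v} [AddCommGroup M1] [AddCommGroup M2]
  [AddCommGroup M3] [Module R M1] [Module R M2] [Module R M3]

/-- in a short exact sequence with flat cokernel, the middle term is flat iff the kernel is -/
theorem flat_iff_of_exact (f : M1 →ₗ[R] M2) (g : M2 →ₗ[R] M3) (hf : Function.Injective f)
    (hfg : Function.Exact f g) (hg : Function.Surjective g) [Module.Flat R M3] :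
    Module.Flat R M2 ↔ Module.Flat R M1 := by
  constructor
  · intro h2
    rw [Module.Flat.iff_rTensor_preserves_injective_linearMap]
    intro A B _ _ _ _ i hi
    have h1 : Function.Injective (f.lTensor A) :=
      LinearMap.lTensor_injective_of_exact_of_flat g hg f hf hfg A
    have h3 : Function.Injective (i.rTensor M2) :=
      Module.Flat.rTensor_preserves_injective_linearMap i hi
    have hcomm : (f.lTensor B) ∘ₗ (i.rTensor M1) = (i.rTensor M2) ∘ₗ (f.lTensor A) := by
      rw [LinearMap.lTensor_comp_rTensor, LinearMap.rTensor_comp_lTensor]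
    have : Function.Injective ((f.lTensor B) ∘ₗ (i.rTensor M1)) := by
      rw [hcomm]
      exact h3.comp h1
    exact Function.Injective.of_comp this
  · intro h1
    rw [Module.Flat.iff_rTensor_preserves_injective_linearMap]
    intro A B _ _ _ _ i hi
    have hfA : Function.Exact (f.lTensor A) (g.lTensor A) := lTensor_exact A hfg hg
    have hfB : Function.Injective (f.lTensor B) :=
      LinearMap.lTensor_injective_of_exact_of_flat g hg f hf hfg B
    have hα1 : Function.Injective (i.rTensor M1) :=
      Module.Flat.rTensor_preserves_injective_linearMap i hi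
    have hα3 : Function.Injective (i.rTensor M3) :=
      Module.Flat.rTensor_preserves_injective_linearMap i hi
    have hc12 : ∀ w, (f.lTensor B) ((i.rTensor M1) w) = (i.rTensor M2) ((f.lTensor A) w) := by
      intro w
      rw [← LinearMap.comp_apply, ← LinearMap.comp_apply, LinearMap.lTensor_comp_rTensor,
        LinearMap.rTensor_comp_lTensor]
    have hc23 : ∀ z, (g.lTensor B) ((i.rTensor M2) z) = (i.rTensor M3) ((g.lTensor A) z) := by
      intro z
      rw [← LinearMap.comp_apply, ← LinearMap.comp_apply, LinearMap.lTensor_comp_rTensor,
        LinearMap.rTensor_comp_lTensor]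
    rw [injective_iff_map_eq_zero]
    intro z hz
    have h3 : (g.lTensor A) z = 0 := by
      apply hα3
      rw [← hc23, hz, map_zero, map_zero]
    obtain ⟨w, rfl⟩ := (hfA z).mp h3
    have hw : (i.rTensor M1) w = 0 := by
      apply hfB
      rw [hc12, hz, map_zero]
    have : w = 0 := hα1 (hw.trans (map_zero _).symm)
    rw [this, map_zero]

end Groth.Agent.Lib.Helper78.FlatSES
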