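import Groth.Agent.Lib.Helper78.FpqcCov
import Groth.Prelude.Def_AlgGrp
import Mathlib.CategoryTheory.Monoidal.Cartesian.Over
import Mathlib.CategoryTheory.Monoidal.Grp

/-!
# fpqc quotients of group schemes: descent of morphisms and the group structure (helper78)

Setting of SGA3 VI_B 9.2: `i : H ⟶ G` a homomorphism of `S`-groups, `q : G ⟶ Q` a morphism of
`S`-schemes covering for the fpqc topology, with `G × H ≅ G ×_Q G`.
-/

set_option autoImplicit false
set_option linter.style.haveILetI false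
set_option linter.unusedSectionVars false
set_option linter.dupNamespace false
universe u
open CategoryTheory CategoryTheory.Limits AlgebraicGeometry MonoidalCategory
open MonObj GrpObj CartesianMonoidalCategory

namespace Groth.Agent.Lib.Helper78.FpqcQuot

open Groth.Agent.Lib.Helper78.FpqcCov

section General

variable {C : Type*} [Category C] [CartesianMonoidalCategory C]

theorem isPullback_whiskerRight {A A' : C} (a : A ⟶ A') (B : C) :
    IsPullback (a ▷ B) (fst A B) (fst A' B) a := by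
  refine ⟨⟨by simp⟩, ⟨PullbackCone.IsLimit.mk _ (fun s => lift s.snd (s.fst ≫ snd A' B))
    ?_ ?_ ?_⟩⟩
  · intro s
    apply CartesianMonoidalCategory.hom_ext
    · simpa using s.condition.symm
    · simp
  · intro s
    simp
  · intro s m h1 h2
    apply CartesianMonoidalCategory.hom_ext
    · simpa using h2
    · have := congr_arg (fun φ => φ ≫ snd A' B) h1
      simpa using this

theorem isPullback_whiskerLeft (A : C) {B B' : C} (b : B ⟶ B') :
    IsPullback (A ◁ b) (snd A B) (snd A B') b := by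
  refine ⟨⟨by simp⟩, ⟨PullbackCone.IsLimit.mk _ (fun s => lift (s.fst ≫ fst A B') s.snd)
    ?_ ?_ ?_⟩⟩
  · intro s
    apply CartesianMonoidalCategory.hom_ext
    · simp
    · simpa using s.condition.symm
  · intro s
    simp
  · intro s m h1 h2
    apply CartesianMonoidalCategory.hom_ext
    · have := congr_arg (fun φ => φ ≫ fst A B') h1
      simpa using this
    · simpa using h2


theorem isPullback_kernelPair_diag {X Y : C} (p : X ⟶ Y) [HasPullback p p] :
    IsPullback (lift (pullback.fst p p) (pullback.snd p p)) (pullback.fst p p ≫ p) (p ⊗ₘ p)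
      (lift (𝟙 Y) (𝟙 Y)) := by
  refine ⟨⟨?_⟩, ⟨PullbackCone.IsLimit.mk _
    (fun s => pullback.lift (s.fst ≫ fst X X) (s.fst ≫ snd X X) ?_) ?_ ?_ ?_⟩⟩
  · apply CartesianMonoidalCategory.hom_ext
    · simp
    · simp [pullback.condition]
  · have h1 := congr_arg (fun φ => φ ≫ fst Y Y) s.condition
    have h2 := congr_arg (fun φ => φ ≫ snd Y Y) s.condition
    simp only [Category.assoc, tensorHom_fst, tensorHom_snd, lift_fst, lift_snd,
      Category.comp_id] at h1 h2
    rw [Category.assoc, Category.assoc, h1, h2]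
  · intro s
    apply CartesianMonoidalCategory.hom_ext
    · simp only [Category.assoc, lift_fst, pullback.lift_fst]
    · simp only [Category.assoc, lift_snd, pullback.lift_snd]
  · intro s
    have h1 := congr_arg (fun φ => φ ≫ fst Y Y) s.condition
    simp only [Category.assoc, tensorHom_fst, lift_fst, Category.comp_id] at h1
    rw [← Category.assoc, pullback.lift_fst, Category.assoc, h1]
  · intro s m h1 h2
    apply pullback.hom_ext
    · have := congr_arg (fun φ => φ ≫ fst X X) h1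
      simp only [Category.assoc, lift_fst] at this
      rw [this, pullback.lift_fst]
    · have := congr_arg (fun φ => φ ≫ snd X X) h1
      simp only [Category.assoc, lift_snd] at this
      rw [this, pullback.lift_snd]

end General

variable {S : Scheme.{u}}

theorem fpqcCov_whiskerRight {A A' : Over S} (a : A ⟶ A') (B : Over S) (ha : FpqcCov a.left) :
    FpqcCov (a ▷ B).left :=
  ha.of_isPullback ((isPullback_whiskerRight a B).map (Over.forget S))

theorem fpqcCov_whiskerLeft (A : Over S) {B B' : Over S} (b : B ⟶ B') (hb : FpqcCov b.left) :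
    FpqcCov (A ◁ b).left :=
  hb.of_isPullback ((isPullback_whiskerLeft A b).map (Over.forget S))

theorem fpqcCov_tensorHom {A A' B B' : Over S} (a : A ⟶ A') (b : B ⟶ B')
    (ha : FpqcCov a.left) (hb : FpqcCov b.left) : FpqcCov (a ⊗ₘ b).left := by
  rw [tensorHom_def, Over.comp_left]
  exact (fpqcCov_whiskerRight a B ha).comp (fpqcCov_whiskerLeft A' b hb)

theorem epi_of_fpqcCov {A B : Over S} (a : A ⟶ B) (ha : FpqcCov a.left) : Epi a := by
  haveI : Epi a.left := ha.epi
  exact (Over.forget S).epi_of_epi_map ‹Epi a.left›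

/-- descent of morphisms along a morphism covering for the fpqc topology. -/
theorem exists_desc_of_fpqcCov {A B K : Over S} (p : A ⟶ B) (hp : FpqcCov p.left) (f : A ⟶ K)
    (hf : ∀ (Z : Over S) (g₁ g₂ : Z ⟶ A), g₁ ≫ p = g₂ ≫ p → g₁ ≫ f = g₂ ≫ f) :
    ∃ g : B ⟶ K, p ≫ g = f := by
  have key : ∀ {T : Scheme.{u}} (g₁ g₂ : T ⟶ A.left), g₁ ≫ p.left = g₂ ≫ p.left →
      g₁ ≫ f.left = g₂ ≫ f.left := by
    intro T g₁ g₂ h12
    let Z' : Over S := Over.mk (g₁ ≫ A.hom)
    let g₁' : Z' ⟶ A := Over.homMk g₁ rfl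
    have hg₂ : g₂ ≫ A.hom = g₁ ≫ A.hom := by
      calc g₂ ≫ A.hom = g₂ ≫ p.left ≫ B.hom := by rw [Over.w p]
        _ = g₁ ≫ p.left ≫ B.hom := by rw [← Category.assoc, ← h12, Category.assoc]
        _ = g₁ ≫ A.hom := by rw [Over.w p]
    let g₂' : Z' ⟶ A := Over.homMk g₂ hg₂
    have h12' : g₁' ≫ p = g₂' ≫ p := by ext1; exact h12
    exact congr_arg Over.Hom.left (hf Z' g₁' g₂' h12')
  obtain ⟨Z, q, r, hrq, hq⟩ := hp
  haveI := hq.effectiveEpi
  haveI : Epi q := hq.epi
  have keyq : ∀ {T : Scheme.{u}} (g₁ g₂ : T ⟶ Z), g₁ ≫ q = g₂ ≫ q →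
      g₁ ≫ r ≫ f.left = g₂ ≫ r ≫ f.left := by
    intro T g₁ g₂ h12
    rw [← Category.assoc, ← Category.assoc]
    apply key
    rw [Category.assoc, Category.assoc, hrq, h12]
  let g' : B.left ⟶ K.left := EffectiveEpi.desc q (r ≫ f.left) keyq
  have hg' : q ≫ g' = r ≫ f.left := EffectiveEpi.fac q (r ≫ f.left) keyq
  have hpg : p.left ≫ g' = f.left := by
    haveI : Epi (pullback.fst p.left q) :=
      (hq.of_isPullback (IsPullback.of_hasPullback p.left q)).epi
    rw [← cancel_epi (pullback.fst p.left q), ← Category.assoc, pullback.condition,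
      Category.assoc, hg']
    rw [← Category.assoc]
    symm
    apply key
    rw [pullback.condition, Category.assoc, hrq]
  refine ⟨Over.homMk g' ?_, ?_⟩
  · rw [← cancel_epi q, ← Category.assoc, hg', Category.assoc, Over.w f, ← hrq, Category.assoc,
      Over.w p]
  · ext1
    exact hpg

section Quotient

variable {H G Q : Over S} [GrpObj H] [GrpObj G]

/-- right translation by a point of `H` does not change the image in the quotient. -/
theorem mul_comp_q (i : H ⟶ G) (q : G ⟶ Q) (hsq : IsPullback (fst G H) ((G ◁ i) ≫ μ[G]) q q)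
    {Z : Over S} (g : Z ⟶ G) (h : Z ⟶ H) : (g * (h ≫ i)) ≫ q = g ≫ q := by
  have hw := hsq.w
  have := congr_arg (fun φ => lift g h ≫ φ) hw
  simp only [lift_fst_assoc, Category.assoc] at this
  rw [this, lift_whiskerLeft_assoc, Hom.mul_def, Category.assoc]

/-- kernel pair description of the quotient map. -/
theorem exists_of_comp_eq (i : H ⟶ G) (q : G ⟶ Q)
    (hsq : IsPullback (fst G H) ((G ◁ i) ≫ μ[G]) q q)
    {Z : Over S} (g₁ g₂ : Z ⟶ G) (h : g₁ ≫ q = g₂ ≫ q) :
    ∃ h' : Z ⟶ H, g₂ = g₁ * (h' ≫ i) := by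
  obtain ⟨z, hz1, hz2⟩ := hsq.exists_lift g₁ g₂ h
  refine ⟨z ≫ snd G H, ?_⟩
  have hz : z = lift g₁ (z ≫ snd G H) := by
    apply CartesianMonoidalCategory.hom_ext
    · rw [lift_fst, hz1]
    · rw [lift_snd]
  rw [← hz2, Hom.mul_def]
  conv_lhs => rw [hz]
  rw [lift_whiskerLeft_assoc]

/-- descent of morphisms along the quotient map. -/
theorem exists_desc (i : H ⟶ G) (q : G ⟶ Q) (hsq : IsPullback (fst G H) ((G ◁ i) ≫ μ[G]) q q)
    (hcov : FpqcCov q.left) {K : Over S} (f : G ⟶ K)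
    (hf : ∀ (Z : Over S) (g : Z ⟶ G) (h : Z ⟶ H), (g * (h ≫ i)) ≫ f = g ≫ f) :
    ∃ g : Q ⟶ K, q ≫ g = f := by
  refine exists_desc_of_fpqcCov q hcov f ?_
  intro Z g₁ g₂ h12
  obtain ⟨h', hh'⟩ := exists_of_comp_eq i q hsq g₁ g₂ h12
  rw [hh', hf]

theorem exists_mul (i : H ⟶ G) [IsMonHom i] (hn : AlgGrp.IsNormalHom i)
    (q : G ⟶ Q) (hsq : IsPullback (fst G H) ((G ◁ i) ≫ μ[G]) q q) (hcov : FpqcCov q.left) :
    ∃ m : Q ⊗ Q ⟶ Q, (q ⊗ₘ q) ≫ m = μ[G] ≫ q := by
  refine exists_desc_of_fpqcCov (q ⊗ₘ q) (fpqcCov_tensorHom q q hcov hcov) (μ[G] ≫ q) ?_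
  intro Z g₁ g₂ h12
  have ha : (g₁ ≫ fst G G) ≫ q = (g₂ ≫ fst G G) ≫ q := by
    have := congr_arg (fun φ => φ ≫ fst Q Q) h12
    simpa only [Category.assoc, tensorHom_fst] using this
  have hb : (g₁ ≫ snd G G) ≫ q = (g₂ ≫ snd G G) ≫ q := by
    have := congr_arg (fun φ => φ ≫ snd Q Q) h12
    simpa only [Category.assoc, tensorHom_snd] using this
  obtain ⟨h, hh⟩ := exists_of_comp_eq i q hsq _ _ ha
  obtain ⟨h', hh'⟩ := exists_of_comp_eq i q hsq _ _ hb
  obtain ⟨n', hn'⟩ := hn Z (g₁ ≫ snd G G)⁻¹ h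
  have e1 : ∀ g : Z ⟶ G ⊗ G, g ≫ μ[G] = (g ≫ fst G G) * (g ≫ snd G G) := fun g => by
    have hg : g = lift (g ≫ fst G G) (g ≫ snd G G) := by
      apply CartesianMonoidalCategory.hom_ext <;> simp
    conv_lhs => rw [hg]
    rfl
  rw [← Category.assoc, ← Category.assoc, e1 g₁, e1 g₂, hh, hh']
  set a := g₁ ≫ fst G G
  set b := g₁ ≫ snd G G
  have e2 : a * (h ≫ i) * (b * (h' ≫ i)) = (a * b) * ((n' * h') ≫ i) := by
    rw [MonObj.mul_comp, ← hn']
    group
  rw [e2, mul_comp_q i q hsq]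

theorem exists_inv (i : H ⟶ G) [IsMonHom i] (hn : AlgGrp.IsNormalHom i)
    (q : G ⟶ Q) (hsq : IsPullback (fst G H) ((G ◁ i) ≫ μ[G]) q q) (hcov : FpqcCov q.left) :
    ∃ v : Q ⟶ Q, q ≫ v = ι[G] ≫ q := by
  refine exists_desc i q hsq hcov (ι[G] ≫ q) ?_
  intro Z g h
  obtain ⟨n', hn'⟩ := hn Z g h⁻¹
  rw [← Category.assoc, ← Category.assoc, ← Hom.inv_def, ← Hom.inv_def]
  have e : (g * (h ≫ i))⁻¹ = g⁻¹ * (n' ≫ i) := by
    rw [← hn', GrpObj.inv_comp]
    group
  rw [e, mul_comp_q i q hsq]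

theorem fpqcCov_id (A : Over S) : FpqcCov (𝟙 A : A ⟶ A).left :=
  FpqcCov.of_isFpqc1 (by rw [Over.id_left]; exact isFpqc1_of_isIso _)

/-- the group structure on the fpqc quotient by a normal subgroup, for which `q` is a
homomorphism. -/
theorem exists_grpObj (i : H ⟶ G) [IsMonHom i] (hn : AlgGrp.IsNormalHom i)
    (q : G ⟶ Q) (hsq : IsPullback (fst G H) ((G ◁ i) ≫ μ[G]) q q) (hcov : FpqcCov q.left) :
    ∃ s : GrpObj Q, @IsMonHom (Over S) _ _ G Q _ s.toMonObj q := by
  obtain ⟨m, hm⟩ := exists_mul i hn q hsq hcov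
  obtain ⟨v, hv⟩ := exists_inv i hn q hsq hcov
  haveI := epi_of_fpqcCov q hcov
  haveI : Epi (q ⊗ₘ q) := epi_of_fpqcCov _ (fpqcCov_tensorHom q q hcov hcov)
  haveI : Epi ((q ⊗ₘ q) ⊗ₘ q) :=
    epi_of_fpqcCov _ (fpqcCov_tensorHom _ q (fpqcCov_tensorHom q q hcov hcov) hcov)
  haveI : ∀ A : Over S, Epi (q ▷ A) := fun A => epi_of_fpqcCov _ (fpqcCov_whiskerRight q A hcov)
  haveI : ∀ A : Over S, Epi (A ◁ q) := fun A => epi_of_fpqcCov _ (fpqcCov_whiskerLeft A q hcov)
  let sM : MonObj Q :=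
    { one := η[G] ≫ q
      mul := m
      one_mul := by
        rw [← cancel_epi (𝟙_ (Over S) ◁ q)]
        have : (𝟙_ (Over S) ◁ q) ≫ ((η[G] ≫ q) ▷ Q) = (η[G] ▷ G) ≫ (q ⊗ₘ q) := by
          rw [tensorHom_def, ← comp_whiskerRight_assoc, whisker_exchange]
        rw [← Category.assoc, this, Category.assoc, hm, ← Category.assoc, MonObj.one_mul]
        simp
      mul_one := by
        rw [← cancel_epi (q ▷ 𝟙_ (Over S))]
        have : (q ▷ 𝟙_ (Over S)) ≫ (Q ◁ (η[G] ≫ q)) = (G ◁ η[G]) ≫ (q ⊗ₘ q) := by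
          rw [tensorHom_def', ← whiskerLeft_comp_assoc, ← whisker_exchange]
        rw [← Category.assoc, this, Category.assoc, hm, ← Category.assoc, MonObj.mul_one]
        simp
      mul_assoc := by
        rw [← cancel_epi ((q ⊗ₘ q) ⊗ₘ q)]
        have h1 : ((q ⊗ₘ q) ⊗ₘ q) ≫ (m ▷ Q) = (μ[G] ▷ G) ≫ (q ⊗ₘ q) := by
          rw [← tensorHom_id, ← tensorHom_id, tensorHom_comp_tensorHom, tensorHom_comp_tensorHom,
            hm, Category.comp_id, Category.id_comp]
        have h2 : ((q ⊗ₘ q) ⊗ₘ q) ≫ (α_ Q Q Q).hom ≫ (Q ◁ m) =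
            (α_ G G G).hom ≫ (G ◁ μ[G]) ≫ (q ⊗ₘ q) := by
          rw [← Category.assoc, associator_naturality, Category.assoc, ← id_tensorHom,
            ← id_tensorHom, tensorHom_comp_tensorHom, tensorHom_comp_tensorHom, hm,
            Category.comp_id, Category.id_comp]
        have h2' := h2 =≫ m
        simp only [Category.assoc] at h2'
        rw [reassoc_of% h1, hm, h2', hm, MonObj.mul_assoc_assoc] }
  let sG : GrpObj Q :=
    { sM with
      inv := v
      left_inv := by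
        rw [← cancel_epi q]
        change q ≫ lift v (𝟙 Q) ≫ m = q ≫ toUnit Q ≫ η[G] ≫ q
        have e : q ≫ lift v (𝟙 Q) = lift ι[G] (𝟙 G) ≫ (q ⊗ₘ q) := by
          apply CartesianMonoidalCategory.hom_ext <;> simp [hv]
        rw [reassoc_of% e, hm, GrpObj.left_inv_assoc, ← Category.assoc q,
          toUnit_unique (q ≫ toUnit Q) (toUnit G)]
      right_inv := by
        rw [← cancel_epi q]
        change q ≫ lift (𝟙 Q) v ≫ m = q ≫ toUnit Q ≫ η[G] ≫ q
        have e : q ≫ lift (𝟙 Q) v = lift (𝟙 G) ι[G] ≫ (q ⊗ₘ q) := by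
          apply CartesianMonoidalCategory.hom_ext <;> simp [hv]
        rw [reassoc_of% e, hm, GrpObj.right_inv_assoc, ← Category.assoc q,
          toUnit_unique (q ≫ toUnit Q) (toUnit G)] }
  refine ⟨sG, ?_⟩
  exact @IsMonHom.mk (Over S) _ _ G Q _ sG.toMonObj q rfl hm.symm

/-- the subgroup is the fibre of the quotient map over the image of the unit section. -/
theorem isPullback_kernel (i : H ⟶ G) [IsMonHom i] [Mono i] (q : G ⟶ Q)
    (hsq : IsPullback (fst G H) ((G ◁ i) ≫ μ[G]) q q) :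
    IsPullback i (toUnit H) q (η[G] ≫ q) := by
  have hw : i ≫ q = toUnit H ≫ η[G] ≫ q := by
    have := mul_comp_q i q hsq (1 : H ⟶ G) (𝟙 H)
    rw [Category.id_comp, _root_.one_mul, Hom.one_def, Category.assoc] at this
    exact this
  have hex : ∀ s : PullbackCone q (η[G] ≫ q), ∃ h' : s.pt ⟶ H, h' ≫ i = s.fst := by
    intro s
    have h1 : (1 : s.pt ⟶ G) ≫ q = s.fst ≫ q := by
      rw [s.condition, Hom.one_def, Category.assoc, toUnit_unique s.snd (toUnit s.pt)]
    obtain ⟨h', hh'⟩ := exists_of_comp_eq i q hsq _ _ h1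
    exact ⟨h', by rw [hh', _root_.one_mul]⟩
  refine ⟨⟨hw⟩, ⟨PullbackCone.IsLimit.mk _ (fun s => (hex s).choose)
    (fun s => (hex s).choose_spec) (fun s => toUnit_unique _ _) ?_⟩⟩
  intro s m h1 _
  rw [← cancel_mono i, h1, (hex s).choose_spec]

/-- the shear automorphism `(a, b) ↦ (ab, a)` of `G × G`. -/
noncomputable def shearSwap (G : Over S) [GrpObj G] : G ⊗ G ≅ G ⊗ G where
  hom := lift (fst G G * snd G G) (fst G G)
  inv := lift (snd G G) ((snd G G)⁻¹ * fst G G)
  hom_inv_id := by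
    apply CartesianMonoidalCategory.hom_ext
    · rw [Category.assoc, lift_fst, lift_snd, Category.id_comp]
    · rw [Category.assoc, lift_snd, MonObj.comp_mul, GrpObj.comp_inv, lift_snd, lift_fst,
        Category.id_comp]
      group
  inv_hom_id := by
    apply CartesianMonoidalCategory.hom_ext
    · rw [Category.assoc, lift_fst, MonObj.comp_mul, lift_fst, lift_snd, Category.id_comp]
      group
    · rw [Category.assoc, lift_snd, lift_fst, Category.id_comp]

theorem lift_act_fst_eq (i : H ⟶ G) :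
    lift ((G ◁ i) ≫ μ[G]) (fst G H) = (G ◁ i) ≫ (shearSwap G).hom := by
  apply CartesianMonoidalCategory.hom_ext
  · rw [lift_fst, Category.assoc, shearSwap, lift_fst, ← MonObj.mul_eq_mul]
  · rw [lift_snd, Category.assoc, shearSwap, lift_snd, whiskerLeft_fst]

end Quotient

end Groth.Agent.Lib.Helper78.FpqcQuot
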