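import Mathlib
import Groth.Agent.Lib.Helper51.GeomIrr
import Groth.Agent.S18824

/-!
# Geometric connectedness from a rational point; group schemes with connected fibres (helper78)

* `geometricallyConnected_of_section`: a connected scheme over a field with a rational point is
  geometrically connected (Stacks 04KV).
* `geometricallyConnected_of_grpObj`: a group scheme whose fibres are connected is geometrically
  connected over its base.
-/

set_option autoImplicit false
universe u
open CategoryTheory CategoryTheory.Limits AlgebraicGeometry

namespace Groth.Agent.Lib.Helper78.GeomConn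

set_option backward.isDefEq.respectTransparency.types false
set_option linter.style.haveILetI false
set_option linter.unusedSectionVars false

/-- A connected scheme over a field with a rational point stays connected over a separable closure. -/
theorem connectedSpace_sepClosure_of_section {k : Type u} [Field k] {X : Scheme.{u}}
    (f : X ⟶ Spec (CommRingCat.of k)) [ConnectedSpace X] (σ : Spec (CommRingCat.of k) ⟶ X)
    (hσ : σ ≫ f = 𝟙 _) :
    ConnectedSpace ↥(pullback f (Spec.map (CommRingCat.ofHom (algebraMap k (SeparableClosure k))))) := by
  set j := Spec.map (CommRingCat.ofHom (algebraMap k (SeparableClosure k))) with hj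
  let p := pullback.fst f j
  let q := pullback.snd f j
  haveI : IsIntegralHom j := by
    rw [hj, IsIntegralHom.SpecMap_iff]
    exact Algebra.IsIntegral.isIntegral (R := k) (A := SeparableClosure k)
  haveI : Surjective j := ⟨fun y => ⟨default, Subsingleton.elim _ _⟩⟩
  haveI : IsIntegralHom p := inferInstance
  haveI : Surjective p := inferInstance
  haveI : UniversallyOpen p := inferInstance
  -- the section over the separable closure
  let σ' : Spec (CommRingCat.of (SeparableClosure k)) ⟶ pullback f j :=
    pullback.lift (j ≫ σ) (𝟙 _) (by rw [Category.assoc, hσ, Category.comp_id, Category.id_comp])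
  have sq : IsPullback σ' j p σ := by
    have right : IsPullback q p j f := (IsPullback.of_hasPullback f j).flip
    refine IsPullback.of_right ?_ (pullback.lift_fst _ _ _) right
    have e1 : σ' ≫ q = 𝟙 _ := pullback.lift_snd _ _ _
    rw [e1, hσ]
    exact IsPullback.of_horiz_isIso ⟨by simp⟩
  -- uniqueness of the preimage of the rational point
  let x₀ : X := σ.base default
  have huniq : ∀ w : ↥(pullback f j), p.base w = x₀ → w = σ'.base default := by
    intro w hw
    obtain ⟨z, hz, -⟩ := Groth.Agent.S18824.exists_preimage_of_isPullback sq w default hw
    rw [← hz]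
    congr 1
    exact Subsingleton.elim _ _
  haveI : Nonempty ↥(pullback f j) := ⟨σ'.base default⟩
  haveI : PreconnectedSpace ↥(pullback f j) := by
    rw [preconnectedSpace_iff_clopen]
    intro W hW
    by_contra hcon
    rw [not_or] at hcon
    obtain ⟨hne, hnu⟩ := hcon
    have h1 : IsClopen (p.base '' W) :=
      ⟨p.isClosedMap _ hW.1, p.isOpenMap _ hW.2⟩
    have h2 : IsClopen (p.base '' Wᶜ) :=
      ⟨p.isClosedMap _ hW.compl.1, p.isOpenMap _ hW.compl.2⟩
    have h1' : p.base '' W = Set.univ := by
      rcases isClopen_iff.mp h1 with h | h
      · exact absurd (Set.image_eq_empty.mp h) hne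
      · exact h
    have h2' : p.base '' Wᶜ = Set.univ := by
      rcases isClopen_iff.mp h2 with h | h
      · exact absurd (Set.compl_empty_iff.mp (Set.image_eq_empty.mp h)) hnu
      · exact h
    obtain ⟨w, hwW, hw⟩ : x₀ ∈ p.base '' W := h1' ▸ Set.mem_univ _
    obtain ⟨w', hwW', hw'⟩ : x₀ ∈ p.base '' Wᶜ := h2' ▸ Set.mem_univ _
    rw [huniq w hw] at hwW
    rw [huniq w' hw'] at hwW'
    exact hwW' hwW
  exact ⟨inferInstance⟩

/-- A connected scheme over a field with a rational point is geometrically connected. -/
theorem geometricallyConnected_of_section {k : Type u} [Field k] {X : Scheme.{u}}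
    (f : X ⟶ Spec (CommRingCat.of k)) [ConnectedSpace X] (σ : Spec (CommRingCat.of k) ⟶ X)
    (hσ : σ ≫ f = 𝟙 _) : GeometricallyConnected f := by
  haveI := connectedSpace_sepClosure_of_section f σ hσ
  exact Groth.Agent.Lib.Helper51.geometricallyConnected_of_separableClosure f

end Groth.Agent.Lib.Helper78.GeomConn

namespace Groth.Agent.Lib.Helper78.GeomConn
open MonoidalCategory CartesianMonoidalCategory MonObj GrpObj

set_option backward.isDefEq.respectTransparency.types false
set_option linter.style.haveILetI false

/-- A group scheme with connected fibres is geometrically connected over its base. -/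
theorem geometricallyConnected_of_grpObj {S : Scheme.{u}} (G : Over S) [GrpObj G]
    (hconn : ∀ s : S, ConnectedSpace (G.hom.fiber s)) : GeometricallyConnected G.hom := by
  rw [GeometricallyConnected.iff_geometricallyConnected_fiber]
  intro s
  haveI := hconn s
  have hη : η[G].left ≫ G.hom = 𝟙 S := Over.w η[G]
  let σ : Spec (S.residueField s) ⟶ G.hom.fiber s :=
    pullback.lift (S.fromSpecResidueField s ≫ η[G].left) (𝟙 _)
      (by rw [Category.assoc, hη, Category.comp_id, Category.id_comp])
  have hσ : σ ≫ G.hom.fiberToSpecResidueField s = 𝟙 _ := pullback.lift_snd _ _ _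
  exact geometricallyConnected_of_section (k := S.residueField s)
    (G.hom.fiberToSpecResidueField s) σ hσ

end Groth.Agent.Lib.Helper78.GeomConn
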