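import Mathlib
import Groth.Prelude.Def_AlgGrp
import Groth.Prelude.Def_ChGrp
import Groth.Prelude.Def_Red
import Groth.Agent.Lib.Helper78.GeomConnBase
import Groth.Agent.Lib.Helper78.FpqcQuot
import Groth.Agent.Lib.Helper51.Tower
import Groth.Agent.S0348

/-!
# Separatedness of homogeneous spaces (helper78)

SGA3 VI_B: if a group scheme `G/S`, universally open with connected fibres, acts on `X/S` so that
`G ×_S X → X ×_S X`, `(g, x) ↦ (g x, x)` is surjective, then `X` is separated over `S`.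

The proof shows that the range `D` of the diagonal is closed in `X ×_S X`.  With
`π : G × (X × X) → X × X` the (open) projection and `Θ (h, x₁, x₂) = (h x₁, h x₂)`,
a point `z` of the closure of `D` is of the form `π p` with `Θ p` in an open `U ×_S U`
on which `D` is closed (`U` affine); such `p` exists because the fibre `π⁻¹ z ≅ G_z` is irreducible
(a connected group scheme over a field is irreducible).  Then `Θ p ∈ D` and translating back by
`h⁻¹` gives `z ∈ D`.
-/

set_option autoImplicit false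
set_option linter.style.haveILetI false
universe u
open CategoryTheory MonoidalCategory CartesianMonoidalCategory MonObj GrpObj AlgebraicGeometry Limits

namespace Groth.Agent.Lib.Helper78.HomogSep

section Topology

/-- The topological core of the separatedness argument. -/
theorem mem_of_mem_closure {P XX : Type*} [TopologicalSpace P] [TopologicalSpace XX]
    (π Θ Θ' : P → XX) (τ : P → P) (D O' : Set XX)
    (hπo : IsOpenMap π) (hΘc : Continuous Θ)
    (h1 : ∀ p, π p ∈ D → Θ p ∈ D) (h1' : ∀ p, π p ∈ D → Θ' p ∈ D)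
    (hτ1 : ∀ p, π (τ p) = Θ p) (hτ2 : ∀ p, Θ' (τ p) = π p)
    (hloc : closure D ∩ O' ⊆ D)
    (p : P) (hz : π p ∈ closure D) (hpO : Θ p ∈ O') : π p ∈ D := by
  have h2 : p ∈ closure (π ⁻¹' D) := hπo.preimage_closure_subset_closure_preimage hz
  have h3 : p ∈ closure (Θ ⁻¹' D) := closure_mono (fun q hq => h1 q hq) h2
  have h4 : Θ p ∈ closure D := hΘc.closure_preimage_subset D h3
  have h5 : Θ p ∈ D := hloc ⟨h4, hpO⟩
  have h6 : π (τ p) ∈ D := by rw [hτ1]; exact h5
  have h7 := h1' (τ p) h6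
  rwa [hτ2] at h7

end Topology

section Identities

variable {S : Scheme.{u}} {G X : Over S} [GrpObj G] (a : AlgGrp.Action G X)

/-- `(h, x₁, x₂) ↦ (h x₁, h x₂)`. -/
noncomputable def Θ : G ⊗ (X ⊗ X) ⟶ X ⊗ X :=
  lift ((G ◁ fst X X) ≫ a.act) ((G ◁ snd X X) ≫ a.act)

/-- `(h, x₁, x₂) ↦ (h⁻¹ x₁, h⁻¹ x₂)`. -/
noncomputable def Θ' : G ⊗ (X ⊗ X) ⟶ X ⊗ X := (ι[G] ▷ (X ⊗ X)) ≫ Θ a

/-- `(h, x₁, x₂) ↦ (h, h x₁, h x₂)`. -/
noncomputable def τ : G ⊗ (X ⊗ X) ⟶ G ⊗ (X ⊗ X) := lift (fst G (X ⊗ X)) (Θ a)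

/-- the diagonal. -/
noncomputable def δ (X : Over S) : X ⟶ X ⊗ X := lift (𝟙 X) (𝟙 X)

/-- the unit section `(x₁, x₂) ↦ (e, x₁, x₂)`. -/
noncomputable def e' (G X : Over S) [GrpObj G] : X ⊗ X ⟶ G ⊗ (X ⊗ X) :=
  lift (toUnit (X ⊗ X) ≫ η[G]) (𝟙 (X ⊗ X))

/-- `(h, x) ↦ (h, h x, x)`. -/
noncomputable def c : G ⊗ X ⟶ G ⊗ (X ⊗ X) := lift (fst G X) (lift a.act (snd G X))

theorem lift_Θ {T : Over S} (g : T ⟶ G) (x₁ x₂ : T ⟶ X) :
    lift g (lift x₁ x₂) ≫ Θ a = lift (lift g x₁ ≫ a.act) (lift g x₂ ≫ a.act) := by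
  unfold Θ
  rw [comp_lift, lift_whiskerLeft_assoc, lift_whiskerLeft_assoc, lift_fst, lift_snd]

theorem lift_Θ' {T : Over S} (g : T ⟶ G) (x₁ x₂ : T ⟶ X) :
    lift g (lift x₁ x₂) ≫ Θ' a = lift (lift g⁻¹ x₁ ≫ a.act) (lift g⁻¹ x₂ ≫ a.act) := by
  unfold Θ'
  rw [lift_whiskerRight_assoc, lift_Θ]
  rfl

theorem τ_snd : τ a ≫ snd G (X ⊗ X) = Θ a := lift_snd _ _

theorem τ_Θ' : τ a ≫ Θ' a = snd G (X ⊗ X) := by
  have h1 : τ a = lift (fst G (X ⊗ X)) (lift (lift (fst G (X ⊗ X)) (snd G (X ⊗ X) ≫ fst X X) ≫ a.act)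
      (lift (fst G (X ⊗ X)) (snd G (X ⊗ X) ≫ snd X X) ≫ a.act)) := by
    unfold τ
    congr 1
  rw [h1, lift_Θ']
  have key : ∀ x : G ⊗ (X ⊗ X) ⟶ X, lift (fst G (X ⊗ X))⁻¹ (lift (fst G (X ⊗ X)) x ≫ a.act) ≫ a.act = x := by
    intro x
    rw [← a.lift_mul_act, inv_mul_cancel, a.lift_one_act]
  rw [key, key]
  apply CartesianMonoidalCategory.hom_ext
  · rw [lift_fst]
  · rw [lift_snd]

theorem whiskerLeft_δ_Θ : (G ◁ δ X) ≫ Θ a = a.act ≫ δ X := by
  unfold Θ δ
  rw [comp_lift, ← whiskerLeft_comp_assoc, ← whiskerLeft_comp_assoc, lift_fst, lift_snd, comp_lift,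
    Category.comp_id, whiskerLeft_id, Category.id_comp]

theorem whiskerLeft_δ_Θ' : (G ◁ δ X) ≫ Θ' a = (ι[G] ▷ X) ≫ a.act ≫ δ X := by
  unfold Θ'
  rw [← Category.assoc, whisker_exchange, Category.assoc, whiskerLeft_δ_Θ]

theorem e'_snd : e' G X ≫ snd G (X ⊗ X) = 𝟙 _ := lift_snd _ _

theorem e'_Θ : e' G X ≫ Θ a = 𝟙 _ := by
  have : e' G X = lift (1 : X ⊗ X ⟶ G) (lift (fst X X) (snd X X)) := by
    unfold e'
    congr 1
    apply CartesianMonoidalCategory.hom_ext
    · rw [lift_fst, Category.id_comp]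
    · rw [lift_snd, Category.id_comp]
  rw [this, lift_Θ, a.lift_one_act, a.lift_one_act]
  apply CartesianMonoidalCategory.hom_ext
  · rw [lift_fst, Category.id_comp]
  · rw [lift_snd, Category.id_comp]

theorem c_snd : c a ≫ snd G (X ⊗ X) = lift a.act (snd G X) := lift_snd _ _

theorem c_Θ_snd : c a ≫ Θ a ≫ snd X X = a.act := by
  unfold c
  rw [← Category.assoc, lift_Θ, lift_snd]
  have : lift (fst G X) (snd G X) = 𝟙 (G ⊗ X) := by
    apply CartesianMonoidalCategory.hom_ext
    · rw [lift_fst, Category.id_comp]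
    · rw [lift_snd, Category.id_comp]
  rw [this, Category.id_comp]

end Identities

section SchemeLevel

/-- Local closedness of the diagonal: on the open `U ×_S U` with `U → S` separated, the closure of
the diagonal is contained in the diagonal. -/
theorem closure_range_diagonal_inter_subset {X S : Scheme.{u}} (f : X ⟶ S) (U : X.Opens)
    [IsSeparated (U.ι ≫ f)] :
    closure (Set.range (pullback.diagonal f)) ∩
      ((pullback.fst f f) ⁻¹' (U : Set X) ∩ (pullback.snd f f) ⁻¹' (U : Set X)) ⊆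
      Set.range (pullback.diagonal f) := by
  let ι₂ : pullback (U.ι ≫ f) (U.ι ≫ f) ⟶ pullback f f :=
    pullback.map (U.ι ≫ f) (U.ι ≫ f) f f U.ι U.ι (𝟙 S) (by simp) (by simp)
  have : IsOpenImmersion ι₂ := Scheme.pullback_map_isOpenImmersion ..
  have hfst : ι₂ ≫ pullback.fst f f = pullback.fst _ _ ≫ U.ι := pullback.lift_fst _ _ _
  have hsnd : ι₂ ≫ pullback.snd f f = pullback.snd _ _ ≫ U.ι := pullback.lift_snd _ _ _
  have hcomm : pullback.diagonal (U.ι ≫ f) ≫ ι₂ = U.ι ≫ pullback.diagonal f := by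
    apply pullback.hom_ext
    · rw [Category.assoc, hfst, pullback.diagonal_fst_assoc, Category.assoc, pullback.diagonal_fst,
        Category.comp_id]
    · rw [Category.assoc, hsnd, pullback.diagonal_snd_assoc, Category.assoc, pullback.diagonal_snd,
        Category.comp_id]
  have hrange : Set.range ι₂ =
      (pullback.fst f f) ⁻¹' (U : Set X) ∩ (pullback.snd f f) ⁻¹' (U : Set X) := by
    rw [Scheme.Pullback.range_map]
    simp
  rintro y ⟨hy, hyO⟩
  rw [← hrange] at hyO
  obtain ⟨w, rfl⟩ := hyO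
  have hsub : ι₂ ⁻¹' Set.range (pullback.diagonal f) ⊆ Set.range (pullback.diagonal (U.ι ≫ f)) := by
    rintro w' ⟨x, hx⟩
    have hxU : x ∈ Set.range U.ι := by
      have h1 : pullback.fst f f (ι₂ w') = x := by
        rw [← hx, ← Scheme.Hom.comp_apply, pullback.diagonal_fst]
        rfl
      have h2 : pullback.fst f f (ι₂ w') = U.ι (pullback.fst (U.ι ≫ f) (U.ι ≫ f) w') := by
        rw [← Scheme.Hom.comp_apply, ← Scheme.Hom.comp_apply, hfst]
      rw [← h1, h2]
      exact ⟨_, rfl⟩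
    obtain ⟨u, rfl⟩ := hxU
    refine ⟨u, ?_⟩
    apply ι₂.isOpenEmbedding.injective
    rw [← Scheme.Hom.comp_apply, hcomm, Scheme.Hom.comp_apply, ← hx]
  have hclosed : IsClosed (Set.range (pullback.diagonal (U.ι ≫ f))) :=
    (pullback.diagonal (U.ι ≫ f)).isClosedEmbedding.isClosed_range
  have hw : w ∈ closure (ι₂ ⁻¹' Set.range (pullback.diagonal f)) :=
    ι₂.isOpenEmbedding.isOpenMap.preimage_closure_subset_closure_preimage hy
  have hw2 : w ∈ Set.range (pullback.diagonal (U.ι ≫ f)) :=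
    hclosed.closure_subset_iff.mpr hsub hw
  obtain ⟨u, rfl⟩ := hw2
  refine ⟨U.ι u, ?_⟩
  rw [← Scheme.Hom.comp_apply, ← hcomm, Scheme.Hom.comp_apply]

set_option backward.isDefEq.respectTransparency.types false in
/-- For a group scheme `G/S` with connected fibres, the fibres of any base change
`G ×_S T → T` are irreducible. -/
theorem isIrreducible_preimage_snd {S : Scheme.{u}} (G : Over S) [GrpObj G]
    (hconn : ∀ s : S, _root_.IsConnected (G.hom.base ⁻¹' {s})) {T : Scheme.{u}} (t : T ⟶ S)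
    (z : T) : IsIrreducible ((pullback.snd G.hom t) ⁻¹' {z}) := by
  have hgc : GeometricallyConnected G.hom := by
    apply GeomConn.geometricallyConnected_of_grpObj G
    intro s
    haveI : ConnectedSpace ↥(G.hom.base ⁻¹' {s}) := isConnected_iff_connectedSpace.mp (hconn s)
    exact (Scheme.Hom.fiberHomeo G.hom s).symm.surjective.connectedSpace
      (Scheme.Hom.fiberHomeo G.hom s).symm.continuous
  let fz := T.fromSpecResidueField z
  let Gz : Over (Spec (CommRingCat.of (T.residueField z))) := Red.bc (fz ≫ t) G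
  haveI : Subsingleton ↥(Spec (CommRingCat.of (T.residueField z))) :=
    inferInstanceAs (Subsingleton (PrimeSpectrum (T.residueField z)))
  haveI : Nonempty ↥(Spec (CommRingCat.of (T.residueField z))) :=
    inferInstanceAs (Nonempty (PrimeSpectrum (T.residueField z)))
  haveI : ConnectedSpace Gz.left :=
    GeometricallyConnected.connectedSpace_of_subsingleton (f := pullback.snd G.hom (fz ≫ t))
  haveI : IrreducibleSpace Gz.left := Groth.Agent.S0348.result (T.residueField z) Gz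
  let m : Gz.left ⟶ pullback G.hom t :=
    pullback.map G.hom (fz ≫ t) G.hom t (𝟙 _) fz (𝟙 _) (by simp) (by simp)
  have hr : Set.range m = (pullback.snd G.hom t) ⁻¹' {z} := by
    rw [Scheme.Pullback.range_map, Scheme.range_fromSpecResidueField]
    simp
  rw [← hr, ← Set.image_univ]
  exact (IrreducibleSpace.isIrreducible_univ _).image _ m.continuous.continuousOn

end SchemeLevel

section Main

variable {S : Scheme.{u}}

theorem left_apply_of_eq {A B C : Over S} {f : A ⟶ B} {g : B ⟶ C} {h : A ⟶ C} (w : f ≫ g = h)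
    (p : A.left) : g.left (f.left p) = h.left p := by
  rw [← w, Over.comp_left, Scheme.Hom.comp_apply]

theorem δ_left (X : Over S) : (δ X).left = pullback.diagonal X.hom := by
  apply pullback.hom_ext
  · rw [pullback.diagonal_fst]
    exact congrArg CommaMorphism.left (lift_fst (𝟙 X) (𝟙 X))
  · rw [pullback.diagonal_snd]
    exact congrArg CommaMorphism.left (lift_snd (𝟙 X) (𝟙 X))

/-- **SGA3 VI_B**: a homogeneous space under a universally open group scheme with connected fibres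
is separated. -/
theorem isSeparated_of_transitive {G X : Over S} [GrpObj G] [UniversallyOpen G.hom]
    (hconn : ∀ s : S, _root_.IsConnected (G.hom.base ⁻¹' {s}))
    (a : AlgGrp.Action G X) (hΦ : Surjective (lift a.act (snd G X)).left) :
    IsSeparated X.hom := by
  refine ⟨IsClosedImmersion.of_isPreimmersion _ ?_⟩
  rw [← δ_left, ← closure_subset_iff_isClosed]
  intro z hz
  obtain ⟨U, hUaff, hxU, -⟩ :=
    exists_isAffineOpen_mem_and_subset (x := (fst X X).left z) (U := ⊤) trivial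
  haveI : IsAffine U := hUaff
  haveI : IsSeparated (U.ι ≫ X.hom) := inferInstance
  have hirr := isIrreducible_preimage_snd G hconn (X ⊗ X).hom z
  obtain ⟨q, hq⟩ := hΦ.surj z
  -- pullback square for `π⁻¹ D`
  have hpb : IsPullback (G ◁ δ X).left (snd G X).left (snd G (X ⊗ X)).left (δ X).left :=
    (FpqcQuot.isPullback_whiskerLeft G (δ X)).map (Over.forget S)
  have hpre : (snd G (X ⊗ X)).left ⁻¹' Set.range (δ X).left = Set.range (G ◁ δ X).left :=
    (Helper51.IsPullback.range_fst_eq hpb).symm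
  -- the point `p` of the fibre over `z` with `Θ p ∈ U × U`
  have hO1 : IsOpen ((Θ a ≫ fst X X).left ⁻¹' (U : Set X.left)) :=
    U.2.preimage (Θ a ≫ fst X X).left.continuous
  have hO2 : IsOpen ((Θ a ≫ snd X X).left ⁻¹' (U : Set X.left)) :=
    U.2.preimage (Θ a ≫ snd X X).left.continuous
  have hne1 : ((snd G (X ⊗ X)).left ⁻¹' {z} ∩ (Θ a ≫ fst X X).left ⁻¹' (U : Set X.left)).Nonempty := by
    refine ⟨(e' G X).left z, ?_, ?_⟩
    · show (snd G (X ⊗ X)).left ((e' G X).left z) = z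
      rw [left_apply_of_eq (e'_snd (G := G) (X := X))]
      rfl
    · show (Θ a ≫ fst X X).left ((e' G X).left z) ∈ U
      rw [left_apply_of_eq (h := fst X X) (by rw [← Category.assoc, e'_Θ, Category.id_comp])]
      exact hxU
  have hne2 : ((snd G (X ⊗ X)).left ⁻¹' {z} ∩ (Θ a ≫ snd X X).left ⁻¹' (U : Set X.left)).Nonempty := by
    refine ⟨(c a).left q, ?_, ?_⟩
    · show (snd G (X ⊗ X)).left ((c a).left q) = z
      rw [left_apply_of_eq (c_snd a)]
      exact hq
    · show (Θ a ≫ snd X X).left ((c a).left q) ∈ U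
      rw [left_apply_of_eq (c_Θ_snd a)]
      have : a.act.left q = (fst X X).left z := by
        rw [← hq]
        exact (left_apply_of_eq (lift_fst a.act (snd G X)) q).symm
      rw [this]
      exact hxU
  obtain ⟨p, hpF, hp1, hp2⟩ := hirr.isPreirreducible _ _ hO1 hO2 hne1 hne2
  have hpz : (snd G (X ⊗ X)).left p = z := hpF
  rw [← hpz]
  refine mem_of_mem_closure (snd G (X ⊗ X)).left (Θ a).left (Θ' a).left (τ a).left
    (Set.range (δ X).left)
    ((pullback.fst X.hom X.hom) ⁻¹' (U : Set X.left) ∩ (pullback.snd X.hom X.hom) ⁻¹' (U : Set X.left))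
    (pullback.snd G.hom (X ⊗ X).hom).isOpenMap (Θ a).left.continuous ?_ ?_ ?_ ?_ ?_ p ?_ ?_
  · intro p' hp'
    have : p' ∈ Set.range (G ◁ δ X).left := hpre ▸ hp'
    obtain ⟨r, rfl⟩ := this
    rw [left_apply_of_eq (whiskerLeft_δ_Θ a), Over.comp_left, Scheme.Hom.comp_apply]
    exact ⟨_, rfl⟩
  · intro p' hp'
    have : p' ∈ Set.range (G ◁ δ X).left := hpre ▸ hp'
    obtain ⟨r, rfl⟩ := this
    rw [left_apply_of_eq (whiskerLeft_δ_Θ' a), Over.comp_left, Over.comp_left,
      Scheme.Hom.comp_apply, Scheme.Hom.comp_apply]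
    exact ⟨_, rfl⟩
  · intro p'
    exact left_apply_of_eq (τ_snd a) p'
  · intro p'
    exact left_apply_of_eq (τ_Θ' a) p'
  · rw [δ_left]
    exact closure_range_diagonal_inter_subset X.hom U
  · rw [hpz]
    exact hz
  · exact ⟨hp1, hp2⟩

end Main

end Groth.Agent.Lib.Helper78.HomogSep
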