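import Mathlib
import Groth.Prelude.Def_AlgGrp
import Groth.Agent.Lib.Helper78.HomogSep
import Groth.Agent.Lib.Helper72.SchDominant
import Groth.Agent.Lib.Helper72.SubGrp

/-!
# Images of homomorphisms of group schemes over a field (helper78)

* `mem_range_of_isMaxPt`: for a quasi-compact morphism, a maximal point (one without proper
  generizations) of the target lying in the closure of the range lies in the range.
* `surjective_of_denseRange`: a quasi-compact homomorphism of group schemes over a field with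
  dense range is surjective (SGA3 VI_B 1.2, no finiteness hypothesis).
-/

set_option autoImplicit false
set_option linter.style.haveILetI false
universe u
open CategoryTheory MonoidalCategory CartesianMonoidalCategory MonObj GrpObj AlgebraicGeometry Limits

namespace Groth.Agent.Lib.Helper78.HomImage

open Groth.Agent.Lib.Helper78.HomogSep

/-- A point without proper generizations. -/
def IsMaxPt {X : Type*} [TopologicalSpace X] (x : X) : Prop := ∀ x', x' ⤳ x → x' = x

theorem IsMaxPt.map {X Y : Type*} [TopologicalSpace X] [TopologicalSpace Y] {g : X → Y}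
    (hg : GeneralizingMap g) {ξ : X} (h : IsMaxPt ξ) : IsMaxPt (g ξ) := by
  intro y' hy'
  obtain ⟨ξ', hξ', rfl⟩ := hg hy'
  rw [h ξ' hξ']

theorem IsMaxPt.of_inverse {X Y : Type*} [TopologicalSpace X] [TopologicalSpace Y] {g : X → Y}
    {g' : Y → X} (hg' : Continuous g') (h1 : ∀ x, g' (g x) = x) (h2 : ∀ y, g (g' y) = y)
    {ξ : X} (h : IsMaxPt ξ) : IsMaxPt (g ξ) := by
  intro y' hy'
  have : g' y' ⤳ g' (g ξ) := hy'.map hg'
  rw [h1] at this
  rw [← h2 y', h _ this]

theorem exists_isMaxPt (P : Scheme.{u}) [Nonempty P] : ∃ ξ : P, IsMaxPt ξ := by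
  obtain ⟨x⟩ := ‹Nonempty P›
  obtain ⟨ξ, hξ⟩ := QuasiSober.sober (isIrreducible_irreducibleComponent (x := x))
    isClosed_irreducibleComponent
  refine ⟨ξ, fun ξ' hξ' => ?_⟩
  have h1 : irreducibleComponent x ⊆ closure {ξ'} := by
    rw [← hξ.def]
    exact closure_minimal (Set.singleton_subset_iff.mpr (specializes_iff_mem_closure.mp hξ'))
      isClosed_closure
  have h2 : closure {ξ'} = irreducibleComponent x :=
    (eq_irreducibleComponent (isIrreducible_singleton.closure.isPreirreducible) h1)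
  have hξ'' : IsGenericPoint ξ' (irreducibleComponent x) := h2
  exact hξ''.eq hξ

/-- For a quasi-compact morphism, maximal points in the closure of the range are in the range. -/
theorem mem_range_of_isMaxPt {X Y : Scheme.{u}} (f : X ⟶ Y) [QuasiCompact f] (y : Y)
    (hy : IsMaxPt y) (hcl : y ∈ closure (Set.range f)) : y ∈ Set.range f := by
  obtain ⟨V, hV, hyV, -⟩ := exists_isAffineOpen_mem_and_subset (x := y) (U := ⊤) trivial
  have hc : IsCompact (f ⁻¹ᵁ V : Set X) := f.isCompact_preimage hV.isCompact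
  obtain ⟨s, hs, hsU₀⟩ := (isCompact_iff_finite_and_eq_biUnion_affineOpens).mp hc
  have hsU : (f ⁻¹ᵁ V : Set X) = ⋃ i ∈ s, ((i : X.Opens) : Set X) := by
    rw [hsU₀]; simp
  -- `y` lies in the closure of the image of one affine piece
  have h1 : y ∈ closure (f '' (f ⁻¹ᵁ V : Set X)) := by
    rw [mem_closure_iff]
    intro N hN hyN
    obtain ⟨z, ⟨hzN, hzV⟩, x, rfl⟩ := mem_closure_iff.mp hcl (N ∩ V) (hN.inter V.2) ⟨hyN, hyV⟩
    exact ⟨f x, hzN, x, hzV, rfl⟩
  rw [hsU, Set.image_iUnion₂, hs.closure_biUnion] at h1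
  obtain ⟨U, hUs, hyU⟩ := Set.mem_iUnion₂.mp h1
  have hUV : U.1 ≤ f ⁻¹ᵁ V := by
    intro x hx
    have : x ∈ (f ⁻¹ᵁ V : Set X) := by rw [hsU]; exact Set.mem_biUnion hUs hx
    exact this
  have hU : IsAffineOpen U.1 := U.2
  let φ := f.appLE V U.1 hUV
  have hsq : Spec.map φ ≫ hV.fromSpec = hU.fromSpec ≫ f := IsAffineOpen.SpecMap_appLE_fromSpec f hV hU hUV
  -- the point `p` of `Spec Γ(Y, V)` corresponding to `y`
  obtain ⟨p, rfl⟩ : y ∈ Set.range hV.fromSpec := by rw [hV.range_fromSpec]; exact hyV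
  have himg : f '' (U.1 : Set X) = hV.fromSpec '' Set.range (Spec.map φ) := by
    rw [← hU.range_fromSpec, ← Set.range_comp, ← Set.range_comp]
    have : (⇑f ∘ ⇑hU.fromSpec) = (⇑hV.fromSpec ∘ ⇑(Spec.map φ)) := by
      funext q
      show f (hU.fromSpec q) = hV.fromSpec (Spec.map φ q)
      rw [← Scheme.Hom.comp_apply, ← Scheme.Hom.comp_apply, hsq]
    rw [this]
  rw [himg] at hyU
  have hp : p ∈ closure (Set.range (Spec.map φ)) := by
    have := hV.fromSpec.isOpenEmbedding.isInducing.closure_eq_preimage_closure_image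
      (Set.range (Spec.map φ))
    rw [this]
    exact hyU
  have hp' : p ∈ PrimeSpectrum.zeroLocus (RingHom.ker φ.hom : Set Γ(Y, V)) := by
    have h2 : closure (Set.range (PrimeSpectrum.comap φ.hom)) =
        PrimeSpectrum.zeroLocus (RingHom.ker φ.hom) := PrimeSpectrum.closure_range_comap _
    rw [← h2]
    exact hp
  have hle : RingHom.ker φ.hom ≤ p.asIdeal := (PrimeSpectrum.mem_zeroLocus _ _).mp hp'
  haveI : p.asIdeal.IsPrime := p.isPrime
  obtain ⟨p₀, hp₀, hp₀p⟩ := Ideal.exists_minimalPrimes_le hle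
  obtain ⟨q, hq, -, hqp₀⟩ := Ideal.exists_comap_eq_of_mem_minimalPrimes (I := ⊥) φ.hom p₀ hp₀
  haveI := hp₀.1.1
  let P₀ : ↥(Spec Γ(Y, V)) := ⟨p₀, hp₀.1.1⟩
  have hspec : P₀ ⤳ p := (PrimeSpectrum.le_iff_specializes P₀ p).mp hp₀p
  have hspec' : hV.fromSpec P₀ ⤳ hV.fromSpec p := hspec.map hV.fromSpec.continuous
  have heq : hV.fromSpec P₀ = hV.fromSpec p := hy _ hspec'
  let Q : ↥(Spec Γ(X, U.1)) := ⟨q, hq⟩
  have hQ : Spec.map φ Q = P₀ := PrimeSpectrum.ext hqp₀
  refine ⟨hU.fromSpec Q, ?_⟩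
  rw [← heq, ← hQ, ← Scheme.Hom.comp_apply, ← Scheme.Hom.comp_apply, hsq]

section Surj

variable {k : Type u} [Field k]

/-- **SGA3 VI_B 1.2**: a quasi-compact homomorphism of group schemes over a field whose range is
dense is surjective. -/
theorem surjective_of_denseRange {G H : Over (Spec (CommRingCat.of k))} [GrpObj G] [GrpObj H]
    (f : G ⟶ H) [IsMonHom f] [QuasiCompact f.left] (hf : DenseRange f.left) :
    Surjective f.left := by
  refine ⟨fun y => ?_⟩
  haveI : Subsingleton ↥(Spec (CommRingCat.of k)) :=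
    inferInstanceAs (Subsingleton (PrimeSpectrum k))
  -- the residue field point
  let ιy := H.left.fromSpecResidueField y
  let T : Over (Spec (CommRingCat.of k)) := Over.mk (ιy ≫ H.hom)
  let ybar : T ⟶ H := Over.homMk ιy rfl
  let a : H ⊗ T ⟶ H := fst H T
  let c : H ⊗ T ⟶ H := snd H T ≫ ybar
  let b : H ⊗ T ⟶ H := c * a⁻¹
  let τ : H ⊗ T ⟶ H ⊗ T := lift b (snd H T)
  let τ' : H ⊗ T ⟶ H ⊗ T := lift (a⁻¹ * c) (snd H T)
  have hτa : τ ≫ a = b := lift_fst _ _
  have hτs : τ ≫ snd H T = snd H T := lift_snd _ _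
  have hτ'a : τ' ≫ a = a⁻¹ * c := lift_fst _ _
  have hτ's : τ' ≫ snd H T = snd H T := lift_snd _ _
  have hτc : τ ≫ c = c := by
    show τ ≫ snd H T ≫ ybar = snd H T ≫ ybar
    rw [← Category.assoc, hτs]
  have hτ'c : τ' ≫ c = c := by
    show τ' ≫ snd H T ≫ ybar = snd H T ≫ ybar
    rw [← Category.assoc, hτ's]
  have h1 : τ ≫ τ' = 𝟙 _ := by
    have : τ ≫ (a⁻¹ * c) = a := by
      rw [MonObj.comp_mul, GrpObj.comp_inv, hτa, hτc]
      show (c * a⁻¹)⁻¹ * c = a
      group
    rw [comp_lift, this, hτs]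
    exact lift_fst_snd
  have h2 : τ' ≫ τ = 𝟙 _ := by
    have : τ' ≫ b = a := by
      show τ' ≫ (c * a⁻¹) = a
      rw [MonObj.comp_mul, GrpObj.comp_inv, hτ'a, hτ'c]
      group
    rw [comp_lift, this, hτ's]
    exact lift_fst_snd
  -- a maximal point of `H ⊗ T`
  haveI : Nonempty (H ⊗ T).left := by
    obtain ⟨t⟩ : Nonempty ↥(Spec (H.left.residueField y)) :=
      inferInstanceAs (Nonempty (PrimeSpectrum (H.left.residueField y)))
    obtain ⟨w, -, -⟩ := Scheme.Pullback.exists_preimage_pullback (f := H.hom) (g := T.hom) y t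
      (by show H.hom y = (ιy ≫ H.hom) t
          rw [Scheme.Hom.comp_apply, Scheme.fromSpecResidueField_apply])
    exact ⟨w⟩
  obtain ⟨ξ, hξ⟩ := exists_isMaxPt (H ⊗ T).left
  haveI : Flat T.hom := inferInstance
  haveI : Flat a.left := by
    show Flat (pullback.fst H.hom T.hom)
    infer_instance
  have hmax1 : IsMaxPt (a.left ξ) := hξ.map (Flat.generalizingMap a.left)
  have hmaxτ : IsMaxPt (τ.left ξ) :=
    hξ.of_inverse τ'.left.continuous (fun x => left_apply_of_eq h1 x) (fun x => left_apply_of_eq h2 x)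
  have hmax2 : IsMaxPt (b.left ξ) := by
    rw [← left_apply_of_eq hτa ξ]
    exact hmaxτ.map (Flat.generalizingMap a.left)
  obtain ⟨g₁, hg₁⟩ := mem_range_of_isMaxPt f.left _ hmax1 (hf _)
  obtain ⟨g₂, hg₂⟩ := mem_range_of_isMaxPt f.left _ hmax2 (hf _)
  -- the point `w = (b ξ, a ξ)` of `H × H` lies in the range of `f × f`
  let w := (lift b a).left ξ
  have hw1 : (fst H H).left w = b.left ξ := left_apply_of_eq (lift_fst b a) ξ
  have hw2 : (snd H H).left w = a.left ξ := left_apply_of_eq (lift_snd b a) ξ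
  have hrange : Set.range (f ⊗ₘ f).left =
      (fst H H).left ⁻¹' Set.range f.left ∩ (snd H H).left ⁻¹' Set.range f.left := by
    rw [Over.tensorHom_left]
    exact Scheme.Pullback.range_map _ _ _ _ _ _ _ _ _
  have hwr : w ∈ Set.range (f ⊗ₘ f).left := by
    rw [hrange]
    exact ⟨by rw [Set.mem_preimage, hw1]; exact ⟨g₂, hg₂⟩,
      by rw [Set.mem_preimage, hw2]; exact ⟨g₁, hg₁⟩⟩
  obtain ⟨cc, hcc⟩ := hwr
  refine ⟨μ[G].left cc, ?_⟩
  have hmul : (f ⊗ₘ f) ≫ μ[H] = μ[G] ≫ f := (IsMonHom.mul_hom (f := f)).symm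
  rw [left_apply_of_eq hmul.symm cc, Over.comp_left, Scheme.Hom.comp_apply, hcc]
  have hba : lift b a ≫ μ[H] = c := by
    have : lift b a ≫ μ[H] = b * a := rfl
    rw [this]
    show c * a⁻¹ * a = c
    group
  show μ[H].left ((lift b a).left ξ) = y
  rw [left_apply_of_eq hba ξ]
  show (snd H T ≫ ybar).left ξ = y
  rw [Over.comp_left, Scheme.Hom.comp_apply]
  exact Scheme.fromSpecResidueField_apply _ _

/-- The scheme-theoretic image of a quasi-compact homomorphism of group schemes over a field is a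
closed subgroup scheme, onto which the homomorphism is surjective.  Here the image is presented
by any closed immersion `i : K ⟶ G` through which `f` factors by a scheme-theoretically dominant
morphism `g`. -/
theorem exists_grpObj_image {H G K : Over (Spec (CommRingCat.of k))} [GrpObj H] [GrpObj G]
    (f : H ⟶ G) [IsMonHom f] [QuasiCompact f.left]
    (i : K ⟶ G) [IsClosedImmersion i.left] (g : H ⟶ K) (hgi : g ≫ i = f)
    [IsSchemeTheoreticallyDominant g.left] :
    ∃ (_ : GrpObj K), IsMonHom i ∧ IsMonHom g ∧ QuasiCompact g.left ∧ Surjective g.left := by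
  haveI : Subsingleton ↥(Spec (CommRingCat.of k)) :=
    inferInstanceAs (Subsingleton (PrimeSpectrum k))
  haveI : Mono i := Over.mono_of_mono_left i
  have hgil : g.left ≫ i.left = f.left := by rw [← Over.comp_left, hgi]
  haveI : QuasiCompact (g.left ≫ i.left) := by rw [hgil]; infer_instance
  haveI : QuasiCompact g.left := QuasiCompact.of_comp g.left i.left
  -- multiplication
  haveI hdom2 : IsSchemeTheoreticallyDominant (g ⊗ₘ g).left := by
    rw [Over.tensorHom_left]
    exact Groth.Agent.Lib.Helper72.SchDominant.dominant_pullback_map g.left g.left _ _ _ _ _ _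
  have hff : f ⊗ₘ f = (g ⊗ₘ g) ≫ (i ⊗ₘ i) := by
    rw [tensorHom_comp_tensorHom, hgi]
  obtain ⟨m₀, hm₀⟩ := Groth.Agent.Lib.Helper72.SchDominant.exists_lift_of_dominant
    (g ⊗ₘ g).left ((i ⊗ₘ i) ≫ μ[G]).left i.left (μ[H] ≫ g).left (by
      rw [← Over.comp_left, ← Over.comp_left, Category.assoc, hgi, IsMonHom.mul_hom, hff,
        Category.assoc])
  let m : K ⊗ K ⟶ K := Over.homMk m₀ (by
    have : K.hom = i.left ≫ G.hom := (Over.w i).symm
    rw [this, ← Category.assoc, hm₀, Over.w])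
  have hm : m ≫ i = (i ⊗ₘ i) ≫ μ[G] := by
    ext
    exact hm₀
  -- inverse
  have hιf : ι[H] ≫ f = f ≫ ι[G] := by
    have h1 : ι[H] ≫ f = ((𝟙 H)⁻¹ : H ⟶ H) ≫ f := by rw [← GrpObj.inv_eq_inv]
    rw [h1, GrpObj.inv_comp, Category.id_comp, Hom.inv_def]
  obtain ⟨v₀, hv₀⟩ := Groth.Agent.Lib.Helper72.SchDominant.exists_lift_of_dominant
    g.left (i ≫ ι[G]).left i.left (ι[H] ≫ g).left (by
      rw [← Over.comp_left, ← Over.comp_left, Category.assoc, hgi, hιf, ← hgi, Category.assoc])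
  let v : K ⟶ K := Over.homMk v₀ (by
    have : K.hom = i.left ≫ G.hom := (Over.w i).symm
    rw [this, ← Category.assoc, hv₀, Over.w]
    exact this)
  have hv : v ≫ i = i ≫ ι[G] := by
    ext
    exact hv₀
  -- unit
  let o : 𝟙_ (Over (Spec (CommRingCat.of k))) ⟶ K := η[H] ≫ g
  have ho : o ≫ i = η[G] := by
    show (η[H] ≫ g) ≫ i = η[G]
    rw [Category.assoc, hgi, IsMonHom.one_hom]
  let inst : GrpObj K := Groth.Agent.Lib.Helper72.grpObjOfMono i m hm o ho v hv
  haveI hi : IsMonHom i := ⟨ho, hm⟩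
  haveI hg : IsMonHom g := by
    refine ⟨rfl, ?_⟩
    rw [← cancel_mono i]
    show (μ[H] ≫ g) ≫ i = ((g ⊗ₘ g) ≫ m) ≫ i
    rw [Category.assoc, hgi, IsMonHom.mul_hom, Category.assoc, hm, hff, Category.assoc]
  refine ⟨inst, hi, hg, inferInstance, ?_⟩
  exact surjective_of_denseRange g g.left.denseRange

end Surj

end Groth.Agent.Lib.Helper78.HomImage
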