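import Mathlib
import Groth.Agent.S2396
import Groth.Agent.Lib.Helper21.IntegralSub

/-!
# Constructibility on a Noetherian scheme from generic behaviour on integral closed subschemes
(helper78; the Noetherian-induction step of EGA IV 9.2.3)
-/

set_option autoImplicit false
open CategoryTheory AlgebraicGeometry CategoryTheory.Limits Topology
universe u

namespace Groth.Agent.Lib.Helper78.ConsNoeth

theorem isConstructible_of_isOpen_noeth {T : Type*} [TopologicalSpace T]
    [TopologicalSpace.NoetherianSpace T] {U : Set T} (hU : IsOpen U) : IsConstructible U :=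
  IsRetrocompact.isConstructible hU
    (fun _ _ _ => TopologicalSpace.NoetherianSpace.isCompact _)

/-- a closed immersion from an integral scheme: opens of the source are traces of opens -/
theorem exists_open_preimage_eq {Z S₀ : Scheme.{u}} (i : Z ⟶ S₀) [IsClosedImmersion i]
    {V : Set Z} (hV : IsOpen V) : ∃ U : Set S₀, IsOpen U ∧ i.base ⁻¹' U = V := by
  obtain ⟨U, hU, rfl⟩ := i.isEmbedding.isInducing.isOpen_iff.mp hV
  exact ⟨U, hU, rfl⟩

theorem isNoetherian_of_isClosedImmersion {Z S₀ : Scheme.{u}} (i : Z ⟶ S₀) [IsClosedImmersion i]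
    [IsNoetherian S₀] : IsNoetherian Z := by
  have h1 : IsLocallyNoetherian Z := LocallyOfFiniteType.isLocallyNoetherian i
  have h2 : CompactSpace Z := QuasiCompact.compactSpace_of_compactSpace i
  exact { }

/-- **Noetherian induction, constructible case.** -/
theorem isConstructible_of_forall_integral {S₀ : Scheme.{u}} [IsNoetherian S₀] (E : Set S₀)
    (H : ∀ (Z : Scheme.{u}) (i : Z ⟶ S₀) [IsClosedImmersion i] [IsIntegral Z] [IsNoetherian Z],
      (interior (i.base ⁻¹' E)).Nonempty ∨ (interior (i.base ⁻¹' E)ᶜ).Nonempty) :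
    IsConstructible E := by
  rw [Groth.Agent.S2396.result]
  intro Y hYc hYi
  obtain ⟨Z, i, hi, hZ, hr⟩ :=
    Groth.Agent.Lib.Helper21.IntegralSub.exists_integral_closedImmersion Y hYc hYi
  have hZN : IsNoetherian Z := isNoetherian_of_isClosedImmersion i
  rcases H Z i with h | h
  · right
    obtain ⟨U, hU, hUV⟩ := exists_open_preimage_eq i (isOpen_interior (s := i.base ⁻¹' E))
    refine ⟨U, hU, ?_, ?_⟩
    · obtain ⟨z, hz⟩ := h
      refine ⟨i.base z, ?_, ?_⟩
      · have : z ∈ i.base ⁻¹' U := hUV ▸ hz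
        exact this
      · rw [← hr]; exact ⟨z, rfl⟩
    · rintro y ⟨hyU, hyY⟩
      rw [← hr] at hyY
      obtain ⟨z, rfl⟩ := hyY
      have : z ∈ interior (i.base ⁻¹' E) := by rw [← hUV]; exact hyU
      exact (interior_subset this : z ∈ i.base ⁻¹' E)
  · left
    obtain ⟨U, hU, hUV⟩ := exists_open_preimage_eq i (isOpen_interior (s := (i.base ⁻¹' E)ᶜ))
    -- `U ∩ Y` is a nonempty open of `Y` missing `E`
    have hne : (U ∩ Y).Nonempty := by
      obtain ⟨z, hz⟩ := h
      refine ⟨i.base z, ?_, ?_⟩
      · have : z ∈ i.base ⁻¹' U := hUV ▸ hz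
        exact this
      · rw [← hr]; exact ⟨z, rfl⟩
    have hdisj : ∀ y ∈ U ∩ Y, y ∉ E := by
      rintro y ⟨hyU, hyY⟩ hyE
      rw [← hr] at hyY
      obtain ⟨z, rfl⟩ := hyY
      have : z ∈ interior (i.base ⁻¹' E)ᶜ := by rw [← hUV]; exact hyU
      exact interior_subset this hyE
    -- nowhere dense in the irreducible `Y`
    have hYirr : IrreducibleSpace Y := Subtype.irreducibleSpace hYi
    show interior (closure (Subtype.val ⁻¹' E : Set Y)) = ∅
    by_contra hcon
    have hne2 : (interior (closure (Subtype.val ⁻¹' E : Set Y))).Nonempty :=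
      Set.nonempty_iff_ne_empty.mpr hcon
    have hUo : IsOpen (Subtype.val ⁻¹' U : Set Y) := hU.preimage continuous_subtype_val
    have hUne : (Subtype.val ⁻¹' U : Set Y).Nonempty := by
      obtain ⟨y, hyU, hyY⟩ := hne
      exact ⟨⟨y, hyY⟩, hyU⟩
    obtain ⟨y, hy1, hy2⟩ := nonempty_preirreducible_inter isOpen_interior hUo hne2 hUne
    -- `y ∈ closure (E ∩ Y)` and `U` is an open nbhd of `y`, so `U` meets `E ∩ Y`
    have hy3 : y ∈ closure (Subtype.val ⁻¹' E : Set Y) := interior_subset hy1
    rw [mem_closure_iff] at hy3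
    obtain ⟨w, hw1, hw2⟩ := hy3 _ hUo hy2
    exact hdisj w.1 ⟨hw1, w.2⟩ hw2

/-- **Noetherian induction, ind-constructible case.** -/
theorem exists_isConstructible_of_forall_integral {S₀ : Scheme.{u}} [IsNoetherian S₀] (E : Set S₀)
    (H : ∀ (Z : Scheme.{u}) (i : Z ⟶ S₀) [IsClosedImmersion i] [IsIntegral Z] [IsNoetherian Z],
      i.base (genericPoint Z) ∈ E → (interior (i.base ⁻¹' E)).Nonempty) (t : S₀) (ht : t ∈ E) :
    ∃ W : Set S₀, IsConstructible W ∧ t ∈ W ∧ W ⊆ E := by
  obtain ⟨Z, i, hi, hZ, hr⟩ :=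
    Groth.Agent.Lib.Helper21.IntegralSub.exists_integral_closedImmersion (closure {t})
      isClosed_closure (isIrreducible_singleton.closure)
  have hZN : IsNoetherian Z := isNoetherian_of_isClosedImmersion i
  have hgen : i.base (genericPoint Z) = t := by
    have h1 := Groth.Agent.Lib.Helper21.IntegralSub.closure_genericPoint_image i
    rw [hr] at h1
    have h2 : Inseparable (i.base (genericPoint Z)) t := by
      rw [inseparable_iff_closure_eq]; exact h1
    exact h2.eq
  have h := H Z i (hgen ▸ ht)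
  obtain ⟨U, hU, hUV⟩ := exists_open_preimage_eq i (isOpen_interior (s := i.base ⁻¹' E))
  refine ⟨U ∩ closure {t}, ?_, ⟨?_, subset_closure rfl⟩, ?_⟩
  · exact (isConstructible_of_isOpen_noeth hU).inter
      (isConstructible_of_isOpen_noeth isClosed_closure.isOpen_compl).of_compl
  · -- the generic point lies in every nonempty open
    have : genericPoint Z ∈ interior (i.base ⁻¹' E) :=
      (genericPoint_spec Z).mem_open_set_iff isOpen_interior |>.mpr (by
        rw [Set.univ_inter]; exact h)
    rw [← hUV] at this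
    rw [← hgen]
    exact this
  · rintro y ⟨hyU, hyY⟩
    rw [← hr] at hyY
    obtain ⟨z, rfl⟩ := hyY
    have : z ∈ interior (i.base ⁻¹' E) := by rw [← hUV]; exact hyU
    exact (interior_subset this : z ∈ i.base ⁻¹' E)

end Groth.Agent.Lib.Helper78.ConsNoeth
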