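import Mathlib
import Groth.Prelude.Def_W4ega4s0809p4Pair
import Groth.Prelude.Def_ProCons
import Groth.Agent.Lib.Helper78.ConsNoeth
import Groth.Agent.Lib.Helper50.FGLimZ
import Groth.Agent.S0591

/-!
# EGA IV 9.2.3 for relations between two algebraic schemes (helper78)
-/

set_option autoImplicit false
set_option linter.style.haveILetI false
open CategoryTheory AlgebraicGeometry CategoryTheory.Limits Topology
universe u

namespace Groth.Agent.Lib.Helper78.ConsPair

open Groth.Agent.Lib.Helper78.ConsNoeth Groth.Agent.Lib.Helper50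

instance fiberToSpec_lft {X S : Scheme.{u}} (u : X ⟶ S) [LocallyOfFiniteType u] (s : S) :
    LocallyOfFiniteType (u.fiberToSpecResidueField s) :=
  inferInstanceAs (LocallyOfFiniteType (pullback.snd _ _))

instance fiberToSpec_qc {X S : Scheme.{u}} (u : X ⟶ S) [QuasiCompact u] (s : S) :
    QuasiCompact (u.fiberToSpecResidueField s) :=
  inferInstanceAs (QuasiCompact (pullback.snd _ _))

variable {P : ∀ ⦃X Y T : Scheme.{u}⦄, (X ⟶ T) → (Y ⟶ T) → Prop}

theorem locusPair_of_isPullback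
    (hP : ConsPropPair.IsFieldStablePair P) {X X' Y Y' S S' : Scheme.{u}}
    {u : X ⟶ S} {v : Y ⟶ S} {u' : X' ⟶ S'} {v' : Y' ⟶ S'} {eX : X' ⟶ X} {eY : Y' ⟶ Y} {h : S' ⟶ S}
    [LocallyOfFiniteType u] [QuasiCompact u] [LocallyOfFiniteType v] [QuasiCompact v]
    (hX : IsPullback eX u' u h) (hY : IsPullback eY v' v h) :
    ConsPropPair.locusPair P u' v' = h.base ⁻¹' ConsPropPair.locusPair P u v := by
  ext s'
  exact (hP (u.fiberToSpecResidueField (h.base s')) (v.fiberToSpecResidueField (h.base s'))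
    (u'.fiberToSpecResidueField s') (v'.fiberToSpecResidueField s') _ _
    (Spec.map (h.residueFieldMap s'))
    (isPullback_fiberToSpecResidueField_of_isPullback hX s')
    (isPullback_fiberToSpecResidueField_of_isPullback hY s')).symm

theorem isConstructible_locusPair_noeth (hP : ConsPropPair.IsConsPair P) {X₀ Y₀ S₀ : Scheme.{u}}
    [IsNoetherian S₀] (u₀ : X₀ ⟶ S₀) (v₀ : Y₀ ⟶ S₀)
    [LocallyOfFiniteType u₀] [QuasiCompact u₀] [LocallyOfFiniteType v₀] [QuasiCompact v₀] :
    IsConstructible (ConsPropPair.locusPair P u₀ v₀) := by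
  apply isConstructible_of_forall_integral
  intro Z i _ _ _
  have e := locusPair_of_isPullback hP.1 (IsPullback.of_hasPullback u₀ i)
    (IsPullback.of_hasPullback v₀ i)
  rw [← e]
  exact hP.2 (pullback.snd u₀ i) (pullback.snd v₀ i)

theorem exists_isConstructible_locusPair_noeth (hP : ConsPropPair.IsIndConsPair P)
    {X₀ Y₀ S₀ : Scheme.{u}}
    [IsNoetherian S₀] (u₀ : X₀ ⟶ S₀) (v₀ : Y₀ ⟶ S₀)
    [LocallyOfFiniteType u₀] [QuasiCompact u₀] [LocallyOfFiniteType v₀] [QuasiCompact v₀]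
    (t : S₀) (ht : t ∈ ConsPropPair.locusPair P u₀ v₀) :
    ∃ W : Set S₀, IsConstructible W ∧ t ∈ W ∧ W ⊆ ConsPropPair.locusPair P u₀ v₀ := by
  apply exists_isConstructible_of_forall_integral _ _ t ht
  intro Z i _ _ _ hgen
  have e := locusPair_of_isPullback hP.1 (IsPullback.of_hasPullback u₀ i)
    (IsPullback.of_hasPullback v₀ i)
  rw [← e]
  apply hP.2 (pullback.snd u₀ i) (pullback.snd v₀ i)
  rw [e]
  exact hgen

/-- changing the stage of a descended morphism -/
theorem isPullback_stage_change {I : Type u} [Category I] (D : I ⥤ Scheme.{u}) (c : Cone D)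
    {i k : I} (φ : k ⟶ i) {X Xi : Scheme.{u}} {u : X ⟶ c.pt} {ui : Xi ⟶ D.obj i} {g : X ⟶ Xi}
    (h : IsPullback g u ui (c.π.app i)) :
    IsPullback (pullback.lift g (u ≫ c.π.app k) (by rw [h.w, Category.assoc, c.w]))
      u (pullback.snd ui (D.map φ)) (c.π.app k) := by
  refine IsPullback.of_right (h₁₂ := pullback.fst ui (D.map φ)) (h₂₂ := D.map φ) (v₁₃ := ui)
    ?_ ?_ (IsPullback.of_hasPullback ui (D.map φ))
  · rw [pullback.lift_fst, c.w]
    exact h
  · rw [pullback.lift_snd]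

/-- a finitely generated `ℤ`-algebra has Noetherian spectrum -/
instance isNoetherian_fgSpecDiagramZ (B : Type u) [CommRing B] (k : (FGSubZ B)ᵒᵖ) :
    IsNoetherian ((fgSpecDiagramZ B).obj k) := by
  have h1 : Algebra.FiniteType ℤ k.unop.1 := (Subalgebra.fg_iff_finiteType _).mp k.unop.2
  have h2 : IsNoetherianRing k.unop.1 := Algebra.FiniteType.isNoetherianRing ℤ _
  exact inferInstanceAs (IsNoetherian (Spec (CommRingCat.of k.unop.1)))

/-- **Noetherian approximation of a pair of families over an affine base.** -/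
theorem exists_noeth_model {X Y S : Scheme.{u}} [IsAffine S] (u : X ⟶ S) (v : Y ⟶ S)
    [LocallyOfFinitePresentation u] [QuasiCompact u] [QuasiSeparated u]
    [LocallyOfFinitePresentation v] [QuasiCompact v] [QuasiSeparated v] :
    ∃ (S₀ X₀ Y₀ : Scheme.{u}) (u₀ : X₀ ⟶ S₀) (v₀ : Y₀ ⟶ S₀) (h : S ⟶ S₀) (eX : X ⟶ X₀)
      (eY : Y ⟶ Y₀), IsNoetherian S₀ ∧ LocallyOfFiniteType u₀ ∧ QuasiCompact u₀ ∧
      LocallyOfFiniteType v₀ ∧ QuasiCompact v₀ ∧ IsPullback eX u u₀ h ∧ IsPullback eY v v₀ h := by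
  let B : Type u := Γ(S, ⊤)
  let D := fgSpecDiagramZ B
  let c := fgSpecConeZ B
  have hc : IsLimit c := isLimitFgSpecConeZ B
  let e : S ≅ c.pt := S.isoSpec
  haveI : ∀ i, CompactSpace (D.obj i) := fun i => inferInstance
  haveI : ∀ i, QuasiSeparatedSpace (D.obj i) := fun i => inferInstance
  obtain ⟨i, Xi, ui, gX, h1, h2, h3, hX⟩ := Groth.Agent.S0591.result D c hc X (u ≫ e.hom)
  obtain ⟨j, Yj, vj, gY, h4, h5, h6, hY⟩ := Groth.Agent.S0591.result D c hc Y (v ≫ e.hom)
  obtain ⟨k, φ, ψ, -⟩ : ∃ (k : _) (φ : k ⟶ i) (ψ : k ⟶ j), True :=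
    ⟨IsCofiltered.min i j, IsCofiltered.minToLeft i j, IsCofiltered.minToRight i j, trivial⟩
  have hX' := isPullback_stage_change D c φ hX
  have hY' := isPullback_stage_change D c ψ hY
  have sqX : IsPullback (𝟙 X) u (u ≫ e.hom) e.hom :=
    IsPullback.of_horiz_isIso ⟨by rw [Category.id_comp]⟩
  have sqY : IsPullback (𝟙 Y) v (v ≫ e.hom) e.hom :=
    IsPullback.of_horiz_isIso ⟨by rw [Category.id_comp]⟩
  refine ⟨D.obj k, _, _, pullback.snd ui (D.map φ), pullback.snd vj (D.map ψ),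
    e.hom ≫ c.π.app k, _, _, inferInstance, inferInstance, inferInstance, inferInstance,
    inferInstance, sqX.paste_horiz hX', sqY.paste_horiz hY'⟩

theorem isConstructible_locusPair_of_isAffine (hP : ConsPropPair.IsConsPair P)
    {X Y S : Scheme.{u}} [IsAffine S] (u : X ⟶ S) (v : Y ⟶ S)
    [LocallyOfFinitePresentation u] [QuasiCompact u] [QuasiSeparated u]
    [LocallyOfFinitePresentation v] [QuasiCompact v] [QuasiSeparated v] :
    IsConstructible (ConsPropPair.locusPair P u v) := by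
  obtain ⟨S₀, X₀, Y₀, u₀, v₀, h, eX, eY, _, _, _, _, _, hX, hY⟩ := exists_noeth_model u v
  rw [locusPair_of_isPullback hP.1 hX hY]
  exact h.isConstructible_preimage (isConstructible_locusPair_noeth hP u₀ v₀)

theorem isLocallyConstructible_locusPair (hP : ConsPropPair.IsConsPair P)
    {X Y S : Scheme.{u}} (u : X ⟶ S) (v : Y ⟶ S)
    [LocallyOfFinitePresentation u] [QuasiCompact u] [QuasiSeparated u]
    [LocallyOfFinitePresentation v] [QuasiCompact v] [QuasiSeparated v] :
    IsLocallyConstructible (ConsPropPair.locusPair P u v) := by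
  intro x
  obtain ⟨_, ⟨U, hU : IsAffineOpen U, rfl⟩, hxU, -⟩ :=
    S.isBasis_affineOpens.exists_subset_of_mem_open (Set.mem_univ x) isOpen_univ
  refine ⟨U, U.2.mem_nhds hxU, U.2, ?_⟩
  haveI : IsAffine (U : Scheme.{u}) := hU
  have e := locusPair_of_isPullback (P := P) hP.1 (isPullback_morphismRestrict u U).flip
    (isPullback_morphismRestrict v U).flip
  have hc := isConstructible_locusPair_of_isAffine hP (u ∣_ U) (v ∣_ U)
  rw [e] at hc
  exact hc

theorem isIndConstructible_locusPair (hP : ConsPropPair.IsIndConsPair P)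
    {X Y S : Scheme.{u}} (u : X ⟶ S) (v : Y ⟶ S)
    [LocallyOfFinitePresentation u] [QuasiCompact u] [QuasiSeparated u]
    [LocallyOfFinitePresentation v] [QuasiCompact v] [QuasiSeparated v] :
    ProCons.IsIndConstructible (ConsPropPair.locusPair P u v) := by
  intro x
  obtain ⟨_, ⟨U, hU : IsAffineOpen U, rfl⟩, hxU, -⟩ :=
    S.isBasis_affineOpens.exists_subset_of_mem_open (Set.mem_univ x) isOpen_univ
  refine ⟨U, U.2, hxU, ?_⟩
  haveI : IsAffine (U : Scheme.{u}) := hU
  have e := locusPair_of_isPullback (P := P) hP.1 (isPullback_morphismRestrict u U).flip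
    (isPullback_morphismRestrict v U).flip
  obtain ⟨S₀, X₀, Y₀, u₀, v₀, h, eX, eY, _, _, _, _, _, hX, hY⟩ :=
    exists_noeth_model (u ∣_ U) (v ∣_ U)
  have e2 := locusPair_of_isPullback (P := P) hP.1 hX hY
  have key : ∃ 𝒮 : Set (Set ↥(U : Scheme.{u})), (∀ T ∈ 𝒮, IsLocallyConstructible T) ∧
      ((Scheme.Opens.ι U).base ⁻¹' ConsPropPair.locusPair P u v) = ⋃₀ 𝒮 := by
    refine ⟨{T | ∃ W : Set S₀, IsConstructible W ∧ W ⊆ ConsPropPair.locusPair P u₀ v₀ ∧
      T = h.base ⁻¹' W}, ?_, ?_⟩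
    · rintro T ⟨W, hW, -, rfl⟩
      exact (h.isConstructible_preimage hW).isLocallyConstructible
    · rw [← e, e2]
      ext s
      constructor
      · intro hs
        obtain ⟨W, hW, hsW, hWE⟩ :=
          exists_isConstructible_locusPair_noeth hP u₀ v₀ (h.base s) hs
        exact ⟨_, ⟨W, hW, hWE, rfl⟩, hsW⟩
      · rintro ⟨T, ⟨W, hW, hWE, rfl⟩, hs⟩
        exact hWE hs
  exact key

end Groth.Agent.Lib.Helper78.ConsPair
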