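import Mathlib
import Groth.Prelude.Def_EGA4Misc
import Groth.Agent.Lib.Helper78.ConsPair
import Groth.Agent.S9218

/-!
# EGA IV 9.2.3 for relations on morphisms of algebraic schemes (helper78)

`locusMor_of_isPullback` (compatibility of the locus with base change), Noetherian induction,
Noetherian approximation of `X ⟶ Y ⟶ S` over an affine base (`exists_noeth_model_mor`, through
S0591 and S9218), and the resulting `isLocallyConstructible_locusMor`, `isIndConstructible_locusMor`.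
-/
set_option autoImplicit false
set_option linter.style.haveILetI false
open CategoryTheory AlgebraicGeometry CategoryTheory.Limits Topology
universe u

namespace Groth.Agent.Lib.Helper78.ConsMor
open Groth.Agent.Lib.Helper78.ConsPair

@[reassoc]
theorem fiberMap_toSpec {X Y S : Scheme.{u}} (f : X ⟶ Y) (g : Y ⟶ S) (s : S) :
    MoreMor.fiberMap f g s ≫ g.fiberToSpecResidueField s = (f ≫ g).fiberToSpecResidueField s :=
  pullback.lift_snd _ _ _

@[reassoc]
theorem fiberMap_fiberι {X Y S : Scheme.{u}} (f : X ⟶ Y) (g : Y ⟶ S) (s : S) :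
    MoreMor.fiberMap f g s ≫ g.fiberι s = (f ≫ g).fiberι s ≫ f :=
  pullback.lift_fst _ _ _

variable {P : ∀ ⦃X Y T : Scheme.{u}⦄, (X ⟶ Y) → (Y ⟶ T) → Prop}

theorem locusMor_of_isPullback (hP : ConsProp.IsFieldStableMor P)
    {X X' Y Y' S S' : Scheme.{u}} {f : X ⟶ Y} {g : Y ⟶ S} {f' : X' ⟶ Y'} {g' : Y' ⟶ S'}
    {eX : X' ⟶ X} {eY : Y' ⟶ Y} {h : S' ⟶ S}
    [LocallyOfFiniteType g] [QuasiCompact g] [LocallyOfFiniteType (f ≫ g)] [QuasiCompact (f ≫ g)]
    (hY : IsPullback eY g' g h) (hX : IsPullback eX f' f eY) :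
    ConsProp.locusMor P f' g' = h.base ⁻¹' ConsProp.locusMor P f g := by
  ext s'
  have hXY : IsPullback eX (f' ≫ g') (f ≫ g) h := hX.paste_vert hY
  have pY := isPullback_fiberToSpecResidueField_of_isPullback hY s'
  have pXY := isPullback_fiberToSpecResidueField_of_isPullback hXY s'
  have : LocallyOfFiniteType (MoreMor.fiberMap f g (h.base s') ≫
      g.fiberToSpecResidueField (h.base s')) := by
    rw [fiberMap_toSpec]; infer_instance
  have : QuasiCompact (MoreMor.fiberMap f g (h.base s') ≫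
      g.fiberToSpecResidueField (h.base s')) := by
    rw [fiberMap_toSpec]; infer_instance
  have w1 : (S'.fromSpecResidueField s') ≫ h =
      Spec.map (h.residueFieldMap s') ≫ S.fromSpecResidueField (h.base s') := by simp
  let EX : (f' ≫ g').fiber s' ⟶ (f ≫ g).fiber (h.base s') :=
    pullback.map (f' ≫ g') (S'.fromSpecResidueField s') (f ≫ g)
      (S.fromSpecResidueField (h.base s')) eX (Spec.map (h.residueFieldMap s')) h hXY.w.symm w1
  let EY : g'.fiber s' ⟶ g.fiber (h.base s') :=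
    pullback.map g' (S'.fromSpecResidueField s') g
      (S.fromSpecResidueField (h.base s')) eY (Spec.map (h.residueFieldMap s')) h hY.w.symm w1
  have a1 : EX ≫ (f ≫ g).fiberι (h.base s') = (f' ≫ g').fiberι s' ≫ eX := pullback.lift_fst _ _ _
  have a2 : EX ≫ (f ≫ g).fiberToSpecResidueField (h.base s') =
      (f' ≫ g').fiberToSpecResidueField s' ≫ Spec.map (h.residueFieldMap s') :=
    pullback.lift_snd _ _ _
  have b1 : EY ≫ g.fiberι (h.base s') = g'.fiberι s' ≫ eY := pullback.lift_fst _ _ _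
  have b2 : EY ≫ g.fiberToSpecResidueField (h.base s') =
      g'.fiberToSpecResidueField s' ≫ Spec.map (h.residueFieldMap s') := pullback.lift_snd _ _ _
  have pY' : IsPullback EY (g'.fiberToSpecResidueField s')
      (g.fiberToSpecResidueField (h.base s')) (Spec.map (h.residueFieldMap s')) := pY
  have pXY' : IsPullback EX ((f' ≫ g').fiberToSpecResidueField s')
      ((f ≫ g).fiberToSpecResidueField (h.base s')) (Spec.map (h.residueFieldMap s')) := pXY
  clear_value EX EY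
  refine (hP (MoreMor.fiberMap f g (h.base s')) (g.fiberToSpecResidueField (h.base s'))
    (MoreMor.fiberMap f' g' s') (g'.fiberToSpecResidueField s') EX EY
    (Spec.map (h.residueFieldMap s')) pY' ?_).symm
  refine IsPullback.of_bot ?_ ?_ pY'
  · rw [fiberMap_toSpec, fiberMap_toSpec]
    exact pXY'
  · have hext : ∀ {W : Scheme.{u}} (a b : W ⟶ g.fiber (h.base s')),
        a ≫ g.fiberι (h.base s') = b ≫ g.fiberι (h.base s') →
        a ≫ g.fiberToSpecResidueField (h.base s') = b ≫ g.fiberToSpecResidueField (h.base s') →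
        a = b := fun a b h1 h2 => pullback.hom_ext h1 h2
    apply hext
    · rw [Category.assoc, Category.assoc, fiberMap_fiberι, reassoc_of% a1, b1,
        fiberMap_fiberι_assoc, hX.w]
    · rw [Category.assoc, Category.assoc, fiberMap_toSpec, a2, b2, fiberMap_toSpec_assoc]


open Groth.Agent.Lib.Helper78.ConsNoeth Groth.Agent.Lib.Helper50

/-- base change of a composite `X ⟶ Y ⟶ S₀` along `i : Z ⟶ S₀` -/
theorem locusMor_baseChange (hP : ConsProp.IsFieldStableMor P) {X₀ Y₀ S₀ Z : Scheme.{u}}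
    (f₀ : X₀ ⟶ Y₀) (g₀ : Y₀ ⟶ S₀) (i : Z ⟶ S₀)
    [LocallyOfFiniteType g₀] [QuasiCompact g₀] [LocallyOfFiniteType (f₀ ≫ g₀)]
    [QuasiCompact (f₀ ≫ g₀)] :
    ConsProp.locusMor P (pullback.snd f₀ (pullback.fst g₀ i)) (pullback.snd g₀ i) =
      i.base ⁻¹' ConsProp.locusMor P f₀ g₀ :=
  locusMor_of_isPullback hP (IsPullback.of_hasPullback g₀ i)
    (IsPullback.of_hasPullback f₀ (pullback.fst g₀ i))

theorem baseChange_comp_lft {X₀ Y₀ S₀ Z : Scheme.{u}}
    (f₀ : X₀ ⟶ Y₀) (g₀ : Y₀ ⟶ S₀) (i : Z ⟶ S₀) [LocallyOfFiniteType (f₀ ≫ g₀)] :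
    LocallyOfFiniteType (pullback.snd f₀ (pullback.fst g₀ i) ≫ pullback.snd g₀ i) :=
  MorphismProperty.of_isPullback (P := @LocallyOfFiniteType)
    ((IsPullback.of_hasPullback f₀ (pullback.fst g₀ i)).paste_vert
      (IsPullback.of_hasPullback g₀ i)) inferInstance

theorem baseChange_comp_qc {X₀ Y₀ S₀ Z : Scheme.{u}}
    (f₀ : X₀ ⟶ Y₀) (g₀ : Y₀ ⟶ S₀) (i : Z ⟶ S₀) [QuasiCompact (f₀ ≫ g₀)] :
    QuasiCompact (pullback.snd f₀ (pullback.fst g₀ i) ≫ pullback.snd g₀ i) :=
  MorphismProperty.of_isPullback (P := @QuasiCompact)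
    ((IsPullback.of_hasPullback f₀ (pullback.fst g₀ i)).paste_vert
      (IsPullback.of_hasPullback g₀ i)) inferInstance

theorem isConstructible_locusMor_noeth (hP : ConsProp.IsConsMor P) {X₀ Y₀ S₀ : Scheme.{u}}
    [IsNoetherian S₀] (f₀ : X₀ ⟶ Y₀) (g₀ : Y₀ ⟶ S₀)
    [LocallyOfFiniteType g₀] [QuasiCompact g₀] [LocallyOfFiniteType (f₀ ≫ g₀)]
    [QuasiCompact (f₀ ≫ g₀)] :
    IsConstructible (ConsProp.locusMor P f₀ g₀) := by
  apply isConstructible_of_forall_integral
  intro Z i _ _ _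
  rw [← locusMor_baseChange hP.1 f₀ g₀ i]
  have := baseChange_comp_lft f₀ g₀ i
  have := baseChange_comp_qc f₀ g₀ i
  exact hP.2 (pullback.snd f₀ (pullback.fst g₀ i)) (pullback.snd g₀ i)

theorem exists_isConstructible_locusMor_noeth (hP : ConsProp.IsIndConsMor P)
    {X₀ Y₀ S₀ : Scheme.{u}}
    [IsNoetherian S₀] (f₀ : X₀ ⟶ Y₀) (g₀ : Y₀ ⟶ S₀)
    [LocallyOfFiniteType g₀] [QuasiCompact g₀] [LocallyOfFiniteType (f₀ ≫ g₀)]
    [QuasiCompact (f₀ ≫ g₀)]
    (t : S₀) (ht : t ∈ ConsProp.locusMor P f₀ g₀) :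
    ∃ W : Set S₀, IsConstructible W ∧ t ∈ W ∧ W ⊆ ConsProp.locusMor P f₀ g₀ := by
  apply exists_isConstructible_of_forall_integral _ _ t ht
  intro Z i _ _ _ hgen
  rw [← locusMor_baseChange hP.1 f₀ g₀ i]
  have := baseChange_comp_lft f₀ g₀ i
  have := baseChange_comp_qc f₀ g₀ i
  apply hP.2 (pullback.snd f₀ (pullback.fst g₀ i)) (pullback.snd g₀ i)
  rw [locusMor_baseChange hP.1 f₀ g₀ i]
  exact hgen


/-- changing the stage of a descended morphism (any comparison map) -/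
theorem isPullback_stage_change' {I : Type u} [Category I] (D : I ⥤ Scheme.{u}) (c : Cone D)
    {i k : I} (φ : k ⟶ i) {X Xi : Scheme.{u}} {u : X ⟶ c.pt} {ui : Xi ⟶ D.obj i} {g : X ⟶ Xi}
    (s : X ⟶ pullback ui (D.map φ)) (h1 : s ≫ pullback.fst ui (D.map φ) = g)
    (h2 : s ≫ pullback.snd ui (D.map φ) = u ≫ c.π.app k)
    (h : IsPullback g u ui (c.π.app i)) :
    IsPullback s u (pullback.snd ui (D.map φ)) (c.π.app k) := by
  refine IsPullback.of_right (h₁₂ := pullback.fst ui (D.map φ)) (h₂₂ := D.map φ) (v₁₃ := ui)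
    ?_ h2 (IsPullback.of_hasPullback ui (D.map φ))
  rw [h1, c.w]
  exact h

/-- **Noetherian approximation of a morphism of families over an affine base.** -/
theorem exists_noeth_model_mor {X Y S : Scheme.{u}} [IsAffine S] (f : X ⟶ Y) (g : Y ⟶ S)
    [LocallyOfFinitePresentation g] [QuasiCompact g] [QuasiSeparated g]
    [LocallyOfFinitePresentation (f ≫ g)] [QuasiCompact (f ≫ g)] [QuasiSeparated (f ≫ g)] :
    ∃ (S₀ X₀ Y₀ : Scheme.{u}) (f₀ : X₀ ⟶ Y₀) (g₀ : Y₀ ⟶ S₀) (h : S ⟶ S₀) (eX : X ⟶ X₀)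
      (eY : Y ⟶ Y₀), IsNoetherian S₀ ∧ LocallyOfFiniteType g₀ ∧ QuasiCompact g₀ ∧
      LocallyOfFiniteType (f₀ ≫ g₀) ∧ QuasiCompact (f₀ ≫ g₀) ∧ IsPullback eY g g₀ h ∧
      IsPullback eX f f₀ eY := by
  let B : Type u := Γ(S, ⊤)
  let D := fgSpecDiagramZ B
  let c := fgSpecConeZ B
  have hc : IsLimit c := isLimitFgSpecConeZ B
  let e : S ≅ c.pt := S.isoSpec
  haveI : ∀ i, CompactSpace (D.obj i) := fun i => inferInstance
  haveI : ∀ i, QuasiSeparatedSpace (D.obj i) := fun i => inferInstance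
  obtain ⟨i, Yi, yi, gY, h1, h2, h3, hY⟩ := Groth.Agent.S0591.result D c hc Y (g ≫ e.hom)
  obtain ⟨j, Xj, xj, gX, h4, h5, h6, hX⟩ := Groth.Agent.S0591.result D c hc X ((f ≫ g) ≫ e.hom)
  obtain ⟨k, φ, ψ, -⟩ : ∃ (k : _) (φ : k ⟶ i) (ψ : k ⟶ j), True :=
    ⟨IsCofiltered.min i j, IsCofiltered.minToLeft i j, IsCofiltered.minToRight i j, trivial⟩
  have hY' := isPullback_stage_change D c φ hY
  have hX' := isPullback_stage_change D c ψ hX
  haveI : CompactSpace ↥(pullback xj (D.map ψ)) :=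
    QuasiCompact.compactSpace_of_compactSpace (pullback.snd xj (D.map ψ))
  haveI : QuasiSeparatedSpace ↥(pullback xj (D.map ψ)) :=
    quasiSeparatedSpace_of_quasiSeparated (pullback.snd xj (D.map ψ))
  haveI : CompactSpace ↥(pullback yi (D.map φ)) :=
    QuasiCompact.compactSpace_of_compactSpace (pullback.snd yi (D.map φ))
  haveI : QuasiSeparatedSpace ↥(pullback yi (D.map φ)) :=
    quasiSeparatedSpace_of_quasiSeparated (pullback.snd yi (D.map φ))
  obtain ⟨l, χ, fl, sX, sY, e1, e2, e3, e4, e5, e6⟩ :=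
    Groth.Agent.S9218.result D c hc k (pullback.snd xj (D.map ψ)) (pullback.snd yi (D.map φ))
      _ _ hX' _ _ hY' f (by rw [Category.assoc])
  have hX'' := isPullback_stage_change' D c χ sX e2 e3 hX'
  have hY'' := isPullback_stage_change' D c χ sY e4 e5 hY'
  have sqY : IsPullback (𝟙 Y) g (g ≫ e.hom) e.hom :=
    IsPullback.of_horiz_isIso ⟨by rw [Category.id_comp]⟩
  have pY := sqY.paste_horiz hY''
  rw [Category.id_comp] at pY
  have pX : IsPullback sX f fl sY := by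
    refine (IsPullback.of_right (h₁₁ := f) (h₁₂ := g ≫ e.hom) (h₂₁ := fl)
      (h₂₂ := pullback.snd (pullback.snd yi (D.map φ)) (D.map χ)) (v₁₁ := sX) (v₁₂ := sY)
      (v₁₃ := c.π.app l) ?_ e6.symm hY''.flip).flip
    rw [e1, ← Category.assoc]
    exact hX''.flip
  have i1 : LocallyOfFiniteType (fl ≫ pullback.snd (pullback.snd yi (D.map φ)) (D.map χ)) := by
    rw [e1]; infer_instance
  have i2 : QuasiCompact (fl ≫ pullback.snd (pullback.snd yi (D.map φ)) (D.map χ)) := by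
    rw [e1]; infer_instance
  exact ⟨D.obj l, _, _, fl, pullback.snd (pullback.snd yi (D.map φ)) (D.map χ),
    e.hom ≫ c.π.app l, sX, sY, inferInstance, inferInstance, inferInstance, i1, i2, pY, pX⟩


theorem isConstructible_locusMor_of_isAffine (hP : ConsProp.IsConsMor P)
    {X Y S : Scheme.{u}} [IsAffine S] (f : X ⟶ Y) (g : Y ⟶ S)
    [LocallyOfFinitePresentation g] [QuasiCompact g] [QuasiSeparated g]
    [LocallyOfFinitePresentation (f ≫ g)] [QuasiCompact (f ≫ g)] [QuasiSeparated (f ≫ g)] :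
    IsConstructible (ConsProp.locusMor P f g) := by
  obtain ⟨S₀, X₀, Y₀, f₀, g₀, h, eX, eY, _, _, _, _, _, hY, hX⟩ := exists_noeth_model_mor f g
  rw [locusMor_of_isPullback hP.1 hY hX]
  exact h.isConstructible_preimage (isConstructible_locusMor_noeth hP f₀ g₀)

/-- restriction of `X ⟶ Y ⟶ S` over an open `U` of `S` -/
theorem exists_restrict {X Y S : Scheme.{u}} (f : X ⟶ Y) (g : Y ⟶ S) (U : S.Opens)
    [LocallyOfFinitePresentation g] [QuasiCompact g] [QuasiSeparated g]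
    [LocallyOfFinitePresentation (f ≫ g)] [QuasiCompact (f ≫ g)] [QuasiSeparated (f ≫ g)] :
    ∃ (X' Y' : Scheme.{u}) (f' : X' ⟶ Y') (g' : Y' ⟶ (U : Scheme.{u})) (eX : X' ⟶ X)
      (eY : Y' ⟶ Y), LocallyOfFinitePresentation g' ∧ QuasiCompact g' ∧ QuasiSeparated g' ∧
      LocallyOfFinitePresentation (f' ≫ g') ∧ QuasiCompact (f' ≫ g') ∧
      QuasiSeparated (f' ≫ g') ∧ IsPullback eY g' g U.ι ∧ IsPullback eX f' f eY := by
  have hY := (isPullback_morphismRestrict g U).flip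
  have hX := (isPullback_morphismRestrict f (g ⁻¹ᵁ U)).flip
  have hXY := hX.paste_vert hY
  refine ⟨_, _, f ∣_ (g ⁻¹ᵁ U), g ∣_ U, _, _, inferInstance, inferInstance, inferInstance,
    ?_, ?_, ?_, hY, hX⟩
  · exact MorphismProperty.of_isPullback (P := @LocallyOfFinitePresentation) hXY inferInstance
  · exact MorphismProperty.of_isPullback (P := @QuasiCompact) hXY inferInstance
  · exact MorphismProperty.of_isPullback (P := @QuasiSeparated) hXY inferInstance

theorem isLocallyConstructible_locusMor (hP : ConsProp.IsConsMor P)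
    {X Y S : Scheme.{u}} (f : X ⟶ Y) (g : Y ⟶ S)
    [LocallyOfFinitePresentation g] [QuasiCompact g] [QuasiSeparated g]
    [LocallyOfFinitePresentation (f ≫ g)] [QuasiCompact (f ≫ g)] [QuasiSeparated (f ≫ g)] :
    IsLocallyConstructible (ConsProp.locusMor P f g) := by
  intro x
  obtain ⟨_, ⟨U, hU : IsAffineOpen U, rfl⟩, hxU, -⟩ :=
    S.isBasis_affineOpens.exists_subset_of_mem_open (Set.mem_univ x) isOpen_univ
  refine ⟨U, U.2.mem_nhds hxU, U.2, ?_⟩
  haveI : IsAffine (U : Scheme.{u}) := hU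
  obtain ⟨X', Y', f', g', eX, eY, _, _, _, _, _, _, hY, hX⟩ := exists_restrict f g U
  have e := locusMor_of_isPullback (P := P) hP.1 hY hX
  have hc := isConstructible_locusMor_of_isAffine hP f' g'
  rw [e] at hc
  exact hc

theorem isIndConstructible_locusMor (hP : ConsProp.IsIndConsMor P)
    {X Y S : Scheme.{u}} (f : X ⟶ Y) (g : Y ⟶ S)
    [LocallyOfFinitePresentation g] [QuasiCompact g] [QuasiSeparated g]
    [LocallyOfFinitePresentation (f ≫ g)] [QuasiCompact (f ≫ g)] [QuasiSeparated (f ≫ g)] :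
    ProCons.IsIndConstructible (ConsProp.locusMor P f g) := by
  intro x
  obtain ⟨_, ⟨U, hU : IsAffineOpen U, rfl⟩, hxU, -⟩ :=
    S.isBasis_affineOpens.exists_subset_of_mem_open (Set.mem_univ x) isOpen_univ
  refine ⟨U, U.2, hxU, ?_⟩
  haveI : IsAffine (U : Scheme.{u}) := hU
  obtain ⟨X', Y', f', g', eX, eY, _, _, _, _, _, _, hY, hX⟩ := exists_restrict f g U
  have e := locusMor_of_isPullback (P := P) hP.1 hY hX
  obtain ⟨S₀, X₀, Y₀, f₀, g₀, h, eX₀, eY₀, _, _, _, _, _, hY₀, hX₀⟩ :=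
    exists_noeth_model_mor f' g'
  have e2 := locusMor_of_isPullback (P := P) hP.1 hY₀ hX₀
  have key : ∃ 𝒮 : Set (Set ↥(U : Scheme.{u})), (∀ T ∈ 𝒮, IsLocallyConstructible T) ∧
      ((Scheme.Opens.ι U).base ⁻¹' ConsProp.locusMor P f g) = ⋃₀ 𝒮 := by
    refine ⟨{T | ∃ W : Set S₀, IsConstructible W ∧ W ⊆ ConsProp.locusMor P f₀ g₀ ∧
      T = h.base ⁻¹' W}, ?_, ?_⟩
    · rintro T ⟨W, hW, -, rfl⟩
      exact (h.isConstructible_preimage hW).isLocallyConstructible
    · rw [← e, e2]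
      ext s
      constructor
      · intro hs
        obtain ⟨W, hW, hsW, hWE⟩ :=
          exists_isConstructible_locusMor_noeth hP f₀ g₀ (h.base s) hs
        exact ⟨_, ⟨W, hW, hWE, rfl⟩, hsW⟩
      · rintro ⟨T, ⟨W, hW, hWE, rfl⟩, hs⟩
        exact hWE hs
  exact key

end Groth.Agent.Lib.Helper78.ConsMor
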