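import Mathlib
import Groth.Prelude.Def_W4ega4s0809p4Pair
import Groth.Agent.Lib.Helper78.ConsMor
import Groth.Agent.Lib.Helper50.FGLim
import Groth.Agent.S9218
import Groth.Agent.S2395

/-!
# "Geometric" relations between two algebraic schemes are ind-constructible (helper78)

For a class `Q` of morphisms stable under base change and descending along cofiltered limits,
the relation `P(X, Y, k)`: "there are an extension `k'` of `k` and a `k'`-morphism
`X_{k'} ⟶ Y_{k'}` with `Q`" is an ind-constructible property of pairs (EGA IV 9.3.?).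
-/

set_option autoImplicit false
set_option linter.style.haveILetI false
open CategoryTheory AlgebraicGeometry CategoryTheory.Limits Topology
universe u

namespace Groth.Agent.Lib.Helper78.GeomPair

open Groth.Agent.Lib.Helper78.ConsMor Groth.Agent.Lib.Helper50

/-- elementary form of stability under base change -/
def BC (Q : MorphismProperty Scheme.{u}) : Prop :=
  ∀ ⦃X Y X' Y' : Scheme.{u}⦄ ⦃f : X ⟶ Y⦄ ⦃f' : X' ⟶ Y'⦄ ⦃a : X' ⟶ X⦄ ⦃b : Y' ⟶ Y⦄,
    IsPullback a f' f b → Q f → Q f'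

theorem BC.of_isStableUnderBaseChange (Q : MorphismProperty Scheme.{u})
    [Q.IsStableUnderBaseChange] : BC Q :=
  fun _ _ _ _ _ _ _ _ sq hf => MorphismProperty.of_isPullback sq hf

/-- `Q` descends to a stage of a cofiltered limit with affine transition maps. -/
def Descends (Q : MorphismProperty Scheme.{u}) : Prop :=
  ∀ {I : Type u} [SmallCategory I] [IsCofiltered I]
    (D : I ⥤ Scheme.{u}) (c : Limits.Cone D) (_ : Limits.IsLimit c)
    [∀ (i j : I) (f : i ⟶ j), IsAffineHom (D.map f)] (i₀ : I) [CompactSpace (D.obj i₀)]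
    [QuasiSeparatedSpace (D.obj i₀)] {X₀ Y₀ : Scheme.{u}} (f₀ : X₀ ⟶ Y₀) (g₀ : Y₀ ⟶ D.obj i₀)
    [LocallyOfFinitePresentation g₀] [QuasiCompact g₀] [QuasiSeparated g₀]
    [LocallyOfFinitePresentation (f₀ ≫ g₀)] [QuasiCompact (f₀ ≫ g₀)] [QuasiSeparated (f₀ ≫ g₀)]
    {X Y : Scheme.{u}} (f : X ⟶ Y) (g : Y ⟶ c.pt) (qY : Y ⟶ Y₀) (qX : X ⟶ X₀)
    (_ : IsPullback qY g g₀ (c.π.app i₀)) (_ : IsPullback qX f f₀ qY), Q f →
    ∃ (i : I) (φ : i ⟶ i₀) (Xi Yi : Scheme.{u}) (fi : Xi ⟶ Yi) (gi : Yi ⟶ D.obj i) (pY : Yi ⟶ Y₀)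
      (pX : Xi ⟶ X₀), IsPullback pY gi g₀ (D.map φ) ∧ IsPullback pX fi f₀ pY ∧ Q fi

/-- the relation "geometrically there is a morphism with `Q`" -/
def PQ (Q : MorphismProperty Scheme.{u}) : ∀ ⦃X Y T : Scheme.{u}⦄, (X ⟶ T) → (Y ⟶ T) → Prop :=
  fun X Y T gX gY => ∃ (T' X' Y' : Scheme.{u}) (h : T' ⟶ T) (gX' : X' ⟶ T') (gY' : Y' ⟶ T')
    (eX : X' ⟶ X) (eY : Y' ⟶ Y), IsIntegral T' ∧ Subsingleton ↥T' ∧
      IsPullback eX gX' gX h ∧ IsPullback eY gY' gY h ∧ ∃ g : X' ⟶ Y', g ≫ gY' = gX' ∧ Q g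

variable {Q : MorphismProperty Scheme.{u}}

/-- base change of a morphism over `T₁` along `a : T₂ ⟶ T₁` -/
theorem exists_baseChange (hbc : BC Q) {T₁ T₂ X₁ Y₁ : Scheme.{u}} (gX₁ : X₁ ⟶ T₁) (gY₁ : Y₁ ⟶ T₁)
    (g : X₁ ⟶ Y₁) (hg : g ≫ gY₁ = gX₁) (hQ : Q g) (a : T₂ ⟶ T₁) :
    ∃ g₂ : pullback gX₁ a ⟶ pullback gY₁ a, g₂ ≫ pullback.snd gY₁ a = pullback.snd gX₁ a ∧
      Q g₂ := by
  subst hg
  refine ⟨pullback.map (g ≫ gY₁) a gY₁ a g (𝟙 _) (𝟙 _) (by simp) (by simp), ?_, ?_⟩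
  · rw [pullback.lift_snd, Category.comp_id]
  · refine hbc (a := pullback.fst (g ≫ gY₁) a) (b := pullback.fst gY₁ a) ?_ hQ
    refine IsPullback.of_bot ?_ ?_ (IsPullback.of_hasPullback gY₁ a)
    · rw [pullback.lift_snd, Category.comp_id]
      exact IsPullback.of_hasPullback (g ≫ gY₁) a
    · rw [pullback.lift_fst]

theorem isFieldStablePair (hbc : BC Q) : ConsPropPair.IsFieldStablePair (PQ Q) := by
  intro X X' Y Y' T T' gX gY gX' gY' eX eY h _ _ _ _ _ _ _ _ hX hY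
  constructor
  · rintro ⟨T₁, X₁, Y₁, h₁, gX₁, gY₁, eX₁, eY₁, _, _, hX₁, hY₁, g, hg, hQ⟩
    obtain ⟨x₁⟩ : Nonempty ↥T₁ := inferInstance
    obtain ⟨x'⟩ : Nonempty ↥T' := inferInstance
    obtain ⟨w, -, -⟩ := Scheme.Pullback.exists_preimage_pullback (f := h₁) (g := h) x₁ x'
      (Subsingleton.elim _ _)
    let W := pullback h₁ h
    let a : Spec (W.residueField w) ⟶ T₁ := W.fromSpecResidueField w ≫ pullback.fst h₁ h
    let h₂ : Spec (W.residueField w) ⟶ T' := W.fromSpecResidueField w ≫ pullback.snd h₁ h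
    have haw : a ≫ h₁ = h₂ ≫ h := by
      simp only [a, h₂, Category.assoc, pullback.condition]
    obtain ⟨g₂, hg₂, hQ₂⟩ := exists_baseChange hbc gX₁ gY₁ g hg hQ a
    have bigX : IsPullback (pullback.fst gX₁ a ≫ eX₁) (pullback.snd gX₁ a) gX (h₂ ≫ h) := by
      rw [← haw]
      exact (IsPullback.of_hasPullback gX₁ a).paste_horiz hX₁
    have bigY : IsPullback (pullback.fst gY₁ a ≫ eY₁) (pullback.snd gY₁ a) gY (h₂ ≫ h) := by
      rw [← haw]
      exact (IsPullback.of_hasPullback gY₁ a).paste_horiz hY₁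
    refine ⟨Spec (W.residueField w), pullback gX₁ a, pullback gY₁ a, h₂, pullback.snd _ _,
      pullback.snd _ _, hX.lift (pullback.fst gX₁ a ≫ eX₁) (pullback.snd gX₁ a ≫ h₂)
        (by rw [Category.assoc]; exact bigX.w),
      hY.lift (pullback.fst gY₁ a ≫ eY₁) (pullback.snd gY₁ a ≫ h₂)
        (by rw [Category.assoc]; exact bigY.w),
      inferInstance, inferInstance, ?_, ?_, g₂, hg₂, hQ₂⟩
    · refine IsPullback.of_right ?_ (hX.lift_snd _ _ _) hX
      rw [hX.lift_fst]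
      exact bigX
    · refine IsPullback.of_right ?_ (hY.lift_snd _ _ _) hY
      rw [hY.lift_fst]
      exact bigY
  · rintro ⟨T₂, X₂, Y₂, h₂, gX₂, gY₂, eX₂, eY₂, i1, i2, hX₂, hY₂, g, hg, hQ⟩
    exact ⟨T₂, X₂, Y₂, h₂ ≫ h, gX₂, gY₂, eX₂ ≫ eX, eY₂ ≫ eY, i1, i2, hX₂.paste_horiz hX,
      hY₂.paste_horiz hY, g, hg, hQ⟩

/-- the fibre map is a base change -/
theorem isPullback_fiberMap {X Y S : Scheme.{u}} (f : X ⟶ Y) (g : Y ⟶ S) (s : S) :
    IsPullback ((f ≫ g).fiberι s) (MoreMor.fiberMap f g s) f (g.fiberι s) := by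
  refine IsPullback.of_bot (h₃₁ := S.fromSpecResidueField s)
    (v₂₁ := g.fiberToSpecResidueField s) (v₂₂ := g) ?_ (fiberMap_fiberι f g s).symm
    (IsPullback.of_hasPullback g (S.fromSpecResidueField s))
  rw [fiberMap_toSpec]
  exact IsPullback.of_hasPullback (f ≫ g) (S.fromSpecResidueField s)

theorem mem_locusPair_of_spread (hbc : BC Q) {S X Y Z XZ YZ : Scheme.{u}} (u : X ⟶ S) (v : Y ⟶ S)
    (ζ : Z ⟶ S) (uZ : XZ ⟶ Z) (vZ : YZ ⟶ Z) (aX : XZ ⟶ X) (aY : YZ ⟶ Y) (gZ : XZ ⟶ YZ)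
    (hXZ : IsPullback aX uZ u ζ) (hYZ : IsPullback aY vZ v ζ) (hg : gZ ≫ vZ = uZ) (hQ : Q gZ)
    (z : Z) : ζ.base z ∈ ConsPropPair.locusPair (PQ Q) u v := by
  subst hg
  have pX := isPullback_fiberToSpecResidueField_of_isPullback hXZ z
  have pY := isPullback_fiberToSpecResidueField_of_isPullback hYZ z
  exact ⟨Spec (Z.residueField z), (gZ ≫ vZ).fiber z, vZ.fiber z, Spec.map (ζ.residueFieldMap z),
    (gZ ≫ vZ).fiberToSpecResidueField z, vZ.fiberToSpecResidueField z, _, _, inferInstance,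
    inferInstance, pX, pY, MoreMor.fiberMap gZ vZ z, fiberMap_toSpec gZ vZ z,
    hbc (isPullback_fiberMap gZ vZ z) hQ⟩

theorem exists_open_subset_range {S Z : Scheme.{u}} [IsIntegral S] [IsNoetherian S] (ζ : Z ⟶ S)
    [LocallyOfFiniteType ζ] [QuasiCompact ζ] (hη : genericPoint S ∈ Set.range ζ.base) :
    ∃ V : Set S, IsOpen V ∧ V.Nonempty ∧ V ⊆ Set.range ζ.base := by
  have hc : IsConstructible (Set.range ζ.base) := by
    rw [← Set.image_univ]
    exact ζ.isConstructible_image IsConstructible.univ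
  refine (Groth.Agent.S2395.result hc).1 ?_
  have h1 : closure ({genericPoint S} : Set S) = Set.univ := (genericPoint_spec S).def
  have h2 : closure ({genericPoint S} : Set S) ⊆ closure (Set.range ζ.base) :=
    closure_mono (Set.singleton_subset_iff.2 hη)
  rw [dense_iff_closure_eq]
  exact Set.eq_univ_of_univ_subset (h1 ▸ h2)

/-- lifting a pullback square through an intermediate base -/
theorem isPullback_lift_of_comp {X' T X S Z : Scheme.{u}} {eX : X' ⟶ X} {p : X' ⟶ T} {u : X ⟶ S}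
    {b : T ⟶ S} (h : IsPullback eX p u b) (π : T ⟶ Z) (β : Z ⟶ S) (hb : π ≫ β = b) :
    IsPullback (pullback.lift eX (p ≫ π) (by rw [h.w, Category.assoc, hb])) p
      (pullback.snd u β) π := by
  refine IsPullback.of_right (h₁₂ := pullback.fst u β) (h₂₂ := β) (v₁₃ := u) ?_
    (pullback.lift_snd _ _ _) (IsPullback.of_hasPullback u β)
  rw [pullback.lift_fst, hb]
  exact h

/-- a finitely generated algebra over a Noetherian ring has Noetherian spectrum -/
instance isNoetherian_fgSpecDiagram (R B : Type u) [CommRing R] [CommRing B] [Algebra R B]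
    [IsNoetherianRing R] (k : (FGSub R B)ᵒᵖ) : IsNoetherian ((fgSpecDiagram R B).obj k) := by
  have h1 : Algebra.FiniteType R k.unop.1 := (Subalgebra.fg_iff_finiteType _).mp k.unop.2
  have h2 : IsNoetherianRing k.unop.1 := Algebra.FiniteType.isNoetherianRing R _
  exact inferInstanceAs (IsNoetherian (Spec (CommRingCat.of k.unop.1)))

/-- **Spreading out** a morphism with `Q` between the base changes of two families to an affine
scheme `T'` (mapping into an affine open of the Noetherian base) to a scheme of finite type over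
the base. -/
theorem exists_spread (hQ : Descends Q) {S X Y : Scheme.{u}} [IsNoetherian S]
    (u : X ⟶ S) (v : Y ⟶ S) [LocallyOfFiniteType u] [QuasiCompact u] [LocallyOfFiniteType v]
    [QuasiCompact v] {T' X' Y' : Scheme.{u}} [IsAffine T'] (b : T' ⟶ S) (U : S.Opens)
    (hU : IsAffineOpen U) (e : ⊤ ≤ b ⁻¹ᵁ U)
    (gX' : X' ⟶ T') (gY' : Y' ⟶ T') (eX : X' ⟶ X) (eY : Y' ⟶ Y)
    (hX : IsPullback eX gX' u b) (hY : IsPullback eY gY' v b) (g : X' ⟶ Y')
    (hg : g ≫ gY' = gX') (hQg : Q g) :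
    ∃ (Z XZ YZ : Scheme.{u}) (ζ : Z ⟶ S) (t : T' ⟶ Z) (uZ : XZ ⟶ Z) (vZ : YZ ⟶ Z) (aX : XZ ⟶ X)
      (aY : YZ ⟶ Y) (gZ : XZ ⟶ YZ), LocallyOfFiniteType ζ ∧ QuasiCompact ζ ∧ t ≫ ζ = b ∧
      IsPullback aX uZ u ζ ∧ IsPullback aY vZ v ζ ∧ gZ ≫ vZ = uZ ∧ Q gZ := by
  have hU' := isAffineOpen_top T'
  letI : Algebra Γ(S, U) Γ(T', ⊤) := (b.appLE U ⊤ e).hom.toAlgebra
  haveI : IsNoetherianRing Γ(S, U) := IsLocallyNoetherian.component_noetherian ⟨U, hU⟩
  let D := fgSpecDiagram Γ(S, U) Γ(T', ⊤)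
  let c := fgSpecCone Γ(S, U) Γ(T', ⊤)
  have hc : IsLimit c := isLimitFgSpecCone Γ(S, U) Γ(T', ⊤)
  let β : ∀ j, D.obj j ⟶ S := fun j =>
    Spec.map (CommRingCat.ofHom (algebraMap Γ(S, U) j.unop.1)) ≫ hU.fromSpec
  have hβ : ∀ {j k : (FGSub Γ(S, U) Γ(T', ⊤))ᵒᵖ} (φ : j ⟶ k), D.map φ ≫ β k = β j := by
    intro j k φ
    have h1 : Spec.map (CommRingCat.ofHom
        (Subalgebra.inclusion (leOfHom φ.unop)).toRingHom) ≫
        Spec.map (CommRingCat.ofHom (algebraMap Γ(S, U) k.unop.1)) =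
        Spec.map (CommRingCat.ofHom (algebraMap Γ(S, U) j.unop.1)) := by
      rw [← Spec.map_comp]
      rfl
    exact (Category.assoc _ _ _).symm.trans (congrArg (· ≫ hU.fromSpec) h1)
  let θ : Spec Γ(T', ⊤) ⟶ T' := hU'.fromSpec
  haveI : IsIso θ := by
    rw [show θ = T'.isoSpec.inv from IsAffineOpen.fromSpec_top]
    infer_instance
  let b' : Spec Γ(T', ⊤) ⟶ S := θ ≫ b
  have hb : ∀ j, c.π.app j ≫ β j = b' := by
    intro j
    have h1 : Spec.map (CommRingCat.ofHom j.unop.1.val.toRingHom) ≫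
        Spec.map (CommRingCat.ofHom (algebraMap Γ(S, U) j.unop.1)) =
        Spec.map (b.appLE U ⊤ e) := by
      rw [← Spec.map_comp]
      rfl
    refine (Category.assoc _ _ _).symm.trans ((congrArg (· ≫ hU.fromSpec) h1).trans ?_)
    exact hU.SpecMap_appLE_fromSpec b hU' e
  haveI hft : ∀ j, LocallyOfFiniteType (β j) := by
    intro j
    haveI : LocallyOfFiniteType (Spec.map (CommRingCat.ofHom (algebraMap Γ(S, U) j.unop.1))) := by
      rw [HasRingHomProperty.Spec_iff (P := @LocallyOfFiniteType)]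
      exact RingHom.finiteType_algebraMap.mpr ((Subalgebra.fg_iff_finiteType _).mp j.unop.2)
    exact inferInstanceAs (LocallyOfFiniteType
      (Spec.map (CommRingCat.ofHom (algebraMap Γ(S, U) j.unop.1)) ≫ hU.fromSpec))
  haveI : ∀ j, IsNoetherian (D.obj j) := fun j => isNoetherian_fgSpecDiagram _ _ j
  let i₀ : (FGSub Γ(S, U) Γ(T', ⊤))ᵒᵖ := Opposite.op ⟨⊥, Subalgebra.fg_bot⟩
  -- pullback squares over `Spec B`
  have hX1 : IsPullback eX (gX' ≫ inv θ) u b' := by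
    have sq : IsPullback (𝟙 X') (gX' ≫ inv θ) gX' θ := IsPullback.of_horiz_isIso ⟨by simp⟩
    have := sq.paste_horiz hX
    rwa [Category.id_comp] at this
  have hY1 : IsPullback eY (gY' ≫ inv θ) v b' := by
    have sq : IsPullback (𝟙 Y') (gY' ≫ inv θ) gY' θ := IsPullback.of_horiz_isIso ⟨by simp⟩
    have := sq.paste_horiz hY
    rwa [Category.id_comp] at this
  let x₀ := pullback.snd u (β i₀)
  let y₀ := pullback.snd v (β i₀)
  have hX₀ := isPullback_lift_of_comp hX1 (c.π.app i₀) (β i₀) (hb i₀)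
  have hY₀ := isPullback_lift_of_comp hY1 (c.π.app i₀) (β i₀) (hb i₀)
  haveI : CompactSpace ↥(pullback u (β i₀)) := QuasiCompact.compactSpace_of_compactSpace x₀
  haveI : CompactSpace ↥(pullback v (β i₀)) := QuasiCompact.compactSpace_of_compactSpace y₀
  obtain ⟨j, φ, fj, sX, sY, e1, e2, e3, e4, e5, e6⟩ :=
    Groth.Agent.S9218.result D c hc i₀ x₀ y₀ _ _ hX₀ _ _ hY₀ g
      ((Category.assoc g gY' (inv θ)).symm.trans (congrArg (· ≫ inv θ) hg))
  have hX' := isPullback_stage_change' D c φ sX e2 e3 hX₀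
  have hY' := isPullback_stage_change' D c φ sY e4 e5 hY₀
  have pX : IsPullback sX g fj sY := by
    refine (IsPullback.of_right (h₁₁ := g) (h₁₂ := gY' ≫ inv θ) (h₂₁ := fj)
      (h₂₂ := pullback.snd y₀ (D.map φ)) (v₁₁ := sX) (v₁₂ := sY)
      (v₁₃ := c.π.app j) ?_ e6.symm hY'.flip).flip
    rw [e1, ← Category.assoc, hg]
    exact hX'.flip
  have i1 : LocallyOfFinitePresentation (fj ≫ pullback.snd y₀ (D.map φ)) := by
    rw [e1]; infer_instance
  have i2 : QuasiCompact (fj ≫ pullback.snd y₀ (D.map φ)) := by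
    rw [e1]; infer_instance
  have i3 : QuasiSeparated (fj ≫ pullback.snd y₀ (D.map φ)) := by
    rw [e1]; infer_instance
  obtain ⟨k, ψ, Xk, Yk, fk, gk, pYk, pXk, hYk, hXk, hQk⟩ :=
    hQ D c hc j fj (pullback.snd y₀ (D.map φ)) g _ sY sX hY' pX hQg
  have hβ2 : (D.map ψ ≫ D.map φ) ≫ β i₀ = β k := by rw [Category.assoc, hβ φ, hβ ψ]
  refine ⟨D.obj k, Xk, Yk, β k, inv θ ≫ c.π.app k, fk ≫ gk, gk,
    (pXk ≫ pullback.fst x₀ (D.map φ)) ≫ pullback.fst u (β i₀),
    (pYk ≫ pullback.fst y₀ (D.map φ)) ≫ pullback.fst v (β i₀), fk, hft k, inferInstance,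
    ?_, ?_, ?_, rfl, hQk⟩
  · exact (Category.assoc _ _ _).trans ((congrArg (inv θ ≫ ·) (hb k)).trans
      (IsIso.inv_hom_id_assoc θ b))
  · have h1 := hXk.paste_vert hYk
    rw [e1] at h1
    have h2 := h1.paste_horiz (IsPullback.of_hasPullback x₀ (D.map φ))
    have h3 := h2.paste_horiz (IsPullback.of_hasPullback u (β i₀))
    rw [hβ2] at h3
    exact h3
  · have h2 := hYk.paste_horiz (IsPullback.of_hasPullback y₀ (D.map φ))
    have h3 := h2.paste_horiz (IsPullback.of_hasPullback v (β i₀))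
    rw [hβ2] at h3
    exact h3

/-- **Main theorem**: for `Q` stable under base change and descending along cofiltered limits,
"geometrically there is a morphism with `Q`" is an ind-constructible property of pairs. -/
theorem isIndConsPair (hbc : BC Q) (hQ : Descends Q) : ConsPropPair.IsIndConsPair (PQ Q) := by
  refine ⟨isFieldStablePair hbc, ?_⟩
  intro X Y S u v _ _ _ _ _ _ hgen
  obtain ⟨T', X', Y', h, gX', gY', eX, eY, _, _, hX, hY, g, hg, hQg⟩ := hgen
  let b : T' ⟶ S := h ≫ S.fromSpecResidueField (genericPoint S)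
  have hX1 : IsPullback (eX ≫ u.fiberι (genericPoint S)) gX' u b :=
    hX.paste_horiz (IsPullback.of_hasPullback u (S.fromSpecResidueField (genericPoint S)))
  have hY1 : IsPullback (eY ≫ v.fiberι (genericPoint S)) gY' v b :=
    hY.paste_horiz (IsPullback.of_hasPullback v (S.fromSpecResidueField (genericPoint S)))
  obtain ⟨U, hU, hηU⟩ : ∃ U : S.Opens, IsAffineOpen U ∧ genericPoint S ∈ U := by
    obtain ⟨_, ⟨U, hU, rfl⟩, hxU, -⟩ := S.isBasis_affineOpens.exists_subset_of_mem_open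
      (Set.mem_univ (genericPoint S)) isOpen_univ
    exact ⟨U, hU, hxU⟩
  have hbη : ∀ t : T', b.base t = genericPoint S := by
    intro t
    have h1 : (S.fromSpecResidueField (genericPoint S)).base (h.base t) ∈
        Set.range (S.fromSpecResidueField (genericPoint S)).base := ⟨_, rfl⟩
    rw [Scheme.range_fromSpecResidueField] at h1
    exact h1
  have e : ⊤ ≤ b ⁻¹ᵁ U := by
    intro t _
    change b.base t ∈ U
    rw [hbη t]
    exact hηU
  obtain ⟨Z, XZ, YZ, ζ, t, uZ, vZ, aX, aY, gZ, _, _, htζ, hXZ, hYZ, hgZ, hQZ⟩ :=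
    exists_spread hQ u v b U hU e gX' gY' _ _ hX1 hY1 g hg hQg
  obtain ⟨t₀⟩ : Nonempty ↥T' := inferInstance
  have hη : genericPoint S ∈ Set.range ζ.base := by
    refine ⟨t.base t₀, ?_⟩
    rw [← hbη t₀, ← htζ]
    rfl
  obtain ⟨V, hVo, hVne, hVsub⟩ := exists_open_subset_range ζ hη
  obtain ⟨s, hs⟩ := hVne
  refine ⟨s, mem_interior.2 ⟨V, ?_, hVo, hs⟩⟩
  intro s' hs'
  obtain ⟨z, rfl⟩ := hVsub hs'
  exact mem_locusPair_of_spread hbc u v ζ uZ vZ aX aY gZ hXZ hYZ hgZ hQZ z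

end Groth.Agent.Lib.Helper78.GeomPair
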