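import Mathlib
import Groth.Prelude.Def_EGA4Misc
import Groth.Prelude.Def_ProCons
import Groth.Agent.Lib.Helper78.ConsNoeth
import Groth.Agent.Lib.Helper78.ConsPair
import Groth.Agent.Lib.Helper78.GeomPair
import Groth.Agent.Lib.Helper36.ProCons2
import Groth.Agent.S3398
import Groth.Agent.S3399
import Groth.Agent.S3403

/-!
# Constructible properties of one algebraic scheme; properties of all fibres of a morphism
(helper78; EGA IV 9.2.3 for `P(X, k)` and EGA IV 9.2.6-type statements)
-/

set_option autoImplicit false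
set_option linter.style.haveILetI false
open CategoryTheory AlgebraicGeometry CategoryTheory.Limits Topology
universe u

namespace Groth.Agent.Lib.Helper78.ConsOne

open Groth.Agent.Lib.Helper78.ConsNoeth Groth.Agent.Lib.Helper78.ConsPair
  Groth.Agent.Lib.Helper78.ConsMor Groth.Agent.Lib.Helper78.GeomPair

variable {P : ∀ ⦃Y T : Scheme.{u}⦄, (Y ⟶ T) → Prop}

theorem locus_of_isPullback (hP : ConsProp.IsFieldStable P) {X X' S S' : Scheme.{u}}
    {u : X ⟶ S} {u' : X' ⟶ S'} {eX : X' ⟶ X} {h : S' ⟶ S}
    [LocallyOfFiniteType u] [QuasiCompact u] (hX : IsPullback eX u' u h) :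
    ConsProp.locus P u' = h.base ⁻¹' ConsProp.locus P u := by
  ext s'
  exact (hP (u.fiberToSpecResidueField (h.base s')) (u'.fiberToSpecResidueField s') _
    (Spec.map (h.residueFieldMap s'))
    (isPullback_fiberToSpecResidueField_of_isPullback hX s')).symm

theorem isConstructible_locus_noeth (hP : ConsProp.IsCons P) {X₀ S₀ : Scheme.{u}}
    [IsNoetherian S₀] (u₀ : X₀ ⟶ S₀) [LocallyOfFiniteType u₀] [QuasiCompact u₀] :
    IsConstructible (ConsProp.locus P u₀) := by
  apply isConstructible_of_forall_integral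
  intro Z i _ _ _
  have e := locus_of_isPullback hP.1 (IsPullback.of_hasPullback u₀ i)
  rw [← e]
  exact hP.2 (pullback.snd u₀ i)

theorem exists_isConstructible_locus_noeth (hP : ConsProp.IsIndCons P) {X₀ S₀ : Scheme.{u}}
    [IsNoetherian S₀] (u₀ : X₀ ⟶ S₀) [LocallyOfFiniteType u₀] [QuasiCompact u₀]
    (t : S₀) (ht : t ∈ ConsProp.locus P u₀) :
    ∃ W : Set S₀, IsConstructible W ∧ t ∈ W ∧ W ⊆ ConsProp.locus P u₀ := by
  apply exists_isConstructible_of_forall_integral _ _ t ht
  intro Z i _ _ _ hgen
  have e := locus_of_isPullback hP.1 (IsPullback.of_hasPullback u₀ i)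
  rw [← e]
  apply hP.2 (pullback.snd u₀ i)
  rw [e]
  exact hgen

theorem isIndConstructible_of_forall_exists {T : Type*} [TopologicalSpace T] {E : Set T}
    (H : ∀ t ∈ E, ∃ W : Set T, IsConstructible W ∧ t ∈ W ∧ W ⊆ E) :
    ProCons.IsIndConstructible E := by
  intro x
  refine ⟨Set.univ, isOpen_univ, Set.mem_univ x,
    {T' | ∃ W : Set T, IsConstructible W ∧ W ⊆ E ∧ T' = Subtype.val ⁻¹' W}, ?_, ?_⟩
  · rintro _ ⟨W, hW, -, rfl⟩
    exact (hW.isLocallyConstructible).preimage_of_isOpenEmbedding
      isOpen_univ.isOpenEmbedding_subtypeVal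
  · ext ⟨y, hy⟩
    constructor
    · intro hyE
      obtain ⟨W, hW, hyW, hWE⟩ := H y hyE
      exact ⟨_, ⟨W, hW, hWE, rfl⟩, hyW⟩
    · rintro ⟨_, ⟨W, hW, hWE, rfl⟩, hyW⟩
      exact hWE hyW

theorem isIndConstructible_locus_noeth (hP : ConsProp.IsIndCons P) {X₀ S₀ : Scheme.{u}}
    [IsNoetherian S₀] (u₀ : X₀ ⟶ S₀) [LocallyOfFiniteType u₀] [QuasiCompact u₀] :
    ProCons.IsIndConstructible (ConsProp.locus P u₀) :=
  isIndConstructible_of_forall_exists (exists_isConstructible_locus_noeth hP u₀)

/-- a one-point integral scheme is Noetherian -/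
theorem isNoetherian_of_subsingleton (T : Scheme.{u}) [IsIntegral T] [Subsingleton T] :
    IsNoetherian T := by
  have hF := isField_of_isIntegral_of_subsingleton T
  haveI : IsPrincipalIdealRing Γ(T, ⊤) := hF.isPrincipalIdealRing
  haveI : IsNoetherianRing Γ(T, ⊤) := inferInstance
  haveI : IsLocallyNoetherian T := isLocallyNoetherian_of_isOpenImmersion T.isoSpec.hom
  exact { }

theorem isNoetherian_of_finiteType {Y T : Scheme.{u}} [IsNoetherian T] (g : Y ⟶ T)
    [LocallyOfFiniteType g] [QuasiCompact g] : IsNoetherian Y := by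
  have h1 : IsLocallyNoetherian Y := LocallyOfFiniteType.isLocallyNoetherian g
  have h2 : CompactSpace Y := QuasiCompact.compactSpace_of_compactSpace g
  exact { }

/-- in an integral scheme, an ind-constructible set containing the generic point has nonempty
interior -/
theorem interior_nonempty_of_genericPoint_mem {S : Scheme.{u}} [IsIntegral S] {E : Set S}
    (hE : ProCons.IsIndConstructible E) (h : genericPoint S ∈ E) : (interior E).Nonempty := by
  refine ⟨genericPoint S, (Groth.Agent.S3403.result S E hE (genericPoint S)).2 ?_⟩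
  intro x' hx'
  have h1 : genericPoint S ⤳ x' := genericPoint_specializes x'
  have h2 : x' = genericPoint S := (hx'.antisymm h1).eq
  rw [h2]
  exact h

/-- the relation "`P` holds for all fibres of `f`" -/
def PAll (P : ∀ ⦃Y T : Scheme.{u}⦄, (Y ⟶ T) → Prop) :
    ∀ ⦃X Y T : Scheme.{u}⦄, (X ⟶ Y) → (Y ⟶ T) → Prop :=
  fun _ Y _ f _ => ∀ y : ↥Y, P (f.fiberToSpecResidueField y)

theorem isFieldStableMor_PAll (hP : ConsProp.IsFieldStable P) :
    ConsProp.IsFieldStableMor (PAll P) := by
  intro X X' Y Y' T T' f g f' g' eX eY h _ _ _ _ _ _ _ _ hY hX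
  haveI : IsNoetherian T := isNoetherian_of_subsingleton T
  haveI : IsNoetherian X := isNoetherian_of_finiteType (f ≫ g)
  haveI : LocallyOfFiniteType f := locallyOfFiniteType_of_comp f g
  constructor
  · intro H y'
    exact (hP (f.fiberToSpecResidueField (eY.base y')) (f'.fiberToSpecResidueField y') _ _
      (isPullback_fiberToSpecResidueField_of_isPullback hX y')).1 (H _)
  · intro H y
    obtain ⟨t'⟩ : Nonempty ↥T' := inferInstance
    obtain ⟨y', hy', -⟩ := Scheme.exists_preimage_of_isPullback hY y t' (Subsingleton.elim _ _)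
    have := (hP (f.fiberToSpecResidueField (eY.base y')) (f'.fiberToSpecResidueField y') _ _
      (isPullback_fiberToSpecResidueField_of_isPullback hX y')).2 (H y')
    rw [hy'] at this
    exact this

/-- the locus of `PAll P` in terms of the locus of `P` for `f` over `Y` -/
theorem locusMor_PAll (hP : ConsProp.IsFieldStable P) {X Y S : Scheme.{u}} (f : X ⟶ Y)
    (g : Y ⟶ S) [LocallyOfFiniteType f] [QuasiCompact f] :
    ConsProp.locusMor (PAll P) f g = (g.base '' (ConsProp.locus P f)ᶜ)ᶜ := by
  ext s
  have key : ∀ y : ↥(g.fiber s), P ((MoreMor.fiberMap f g s).fiberToSpecResidueField y) ↔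
      P (f.fiberToSpecResidueField ((g.fiberι s).base y)) := fun y =>
    (hP (f.fiberToSpecResidueField ((g.fiberι s).base y))
      ((MoreMor.fiberMap f g s).fiberToSpecResidueField y) _ _
      (isPullback_fiberToSpecResidueField_of_isPullback (isPullback_fiberMap f g s) y)).symm
  constructor
  · rintro hs ⟨y, hyF, hys⟩
    have hy : y ∈ Set.range (g.fiberι s).base := by
      rw [Scheme.Hom.range_fiberι]
      exact hys
    obtain ⟨y₀, rfl⟩ := hy
    exact hyF ((key y₀).1 (hs y₀))
  · intro hs y
    rw [key]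
    by_contra hcon
    refine hs ⟨(g.fiberι s).base y, hcon, ?_⟩
    have : (g.fiberι s).base y ∈ Set.range (g.fiberι s).base := ⟨y, rfl⟩
    rw [Scheme.Hom.range_fiberι] at this
    exact this

theorem isConsMor_PAll (hP : ConsProp.IsCons P) : ConsProp.IsConsMor (PAll P) := by
  refine ⟨isFieldStableMor_PAll hP.1, ?_⟩
  intro X Y S f g _ _ _ _ _ _
  haveI : IsNoetherian Y := isNoetherian_of_finiteType g
  haveI : IsNoetherian X := isNoetherian_of_finiteType (f ≫ g)
  haveI : LocallyOfFiniteType f := locallyOfFiniteType_of_comp f g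
  have hF : IsConstructible (ConsProp.locus P f) := isConstructible_locus_noeth hP f
  have hE : IsConstructible (g.base '' (ConsProp.locus P f)ᶜ) :=
    g.isConstructible_image hF.compl
  rw [locusMor_PAll hP.1 f g]
  by_cases hη : genericPoint S ∈ (g.base '' (ConsProp.locus P f)ᶜ)
  · right
    rw [compl_compl]
    exact interior_nonempty_of_genericPoint_mem
      (Groth.Agent.Lib.Helper36.isIndConstructible_of_isLocallyConstructible
        hE.isLocallyConstructible) hη
  · left
    exact interior_nonempty_of_genericPoint_mem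
      (Groth.Agent.Lib.Helper36.isIndConstructible_of_isLocallyConstructible
        hE.compl.isLocallyConstructible) hη

theorem isIndConsMor_PAll (hP : ConsProp.IsIndCons P) : ConsProp.IsIndConsMor (PAll P) := by
  refine ⟨isFieldStableMor_PAll hP.1, ?_⟩
  intro X Y S f g _ _ _ _ _ _ hη
  haveI : IsNoetherian Y := isNoetherian_of_finiteType g
  haveI : IsNoetherian X := isNoetherian_of_finiteType (f ≫ g)
  haveI : LocallyOfFiniteType f := locallyOfFiniteType_of_comp f g
  have hF : ProCons.IsIndConstructible (ConsProp.locus P f) := isIndConstructible_locus_noeth hP f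
  have hE : ProCons.IsProConstructible (g.base '' (ConsProp.locus P f)ᶜ) :=
    Groth.Agent.S3398.result g _ (Groth.Agent.Lib.Helper36.isProConstructible_compl hF)
  rw [locusMor_PAll hP.1 f g] at hη ⊢
  exact interior_nonempty_of_genericPoint_mem
    (Groth.Agent.Lib.Helper36.isIndConstructible_compl hE) hη

end Groth.Agent.Lib.Helper78.ConsOne
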