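import Mathlib
import Groth.Agent.S1298
import Groth.Agent.S4759
import Groth.Agent.Lib.Helper78.ConsNoeth
import Groth.Agent.Lib.Helper78.ConsOne
import Groth.Agent.Lib.Helper78.ConsPair
import Groth.Agent.Lib.Helper73.LimConstructible
import Groth.Agent.Lib.Helper21.IntegralSub
import Groth.Agent.Lib.Helper36.ProCons2
import Groth.Agent.Lib.Helper50.LimStage

/-!
# EGA IV 9.5: closure in the fibres and constructibility (helper78)

* `exists_open_fibre_closure_irreducible`, `closureGood_of_isConstructible` (EGA IV 9.5.1/9.5.2):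
  for a constructible `Z` in `X` of finite type over an irreducible base (with `X` Noetherian),
  over a nonempty open of the base `closure Z ∩ X_s = closure (Z ∩ X_s) ∩ X_s` (through S1298).
* `FibPred`, `IsFibInvariant`, `fibLocus`, `fibLocus_of_isPullback`: predicates on traces of
  two subsets on the (topological) fibres, invariant under continuous open surjections, and
  compatibility of their loci with base change.
* `HasDichotomy`, `isLocallyConstructible_fibLocus` (EGA IV 9.5.3/9.5.4, general form):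
  Noetherian induction + Noetherian approximation (S0591, S4759).
* `ΦDense`, `ΦClosed`, `ΦOpen`, `ΦLC` with their invariance and generic behaviour.
-/

set_option autoImplicit false
set_option linter.style.haveILetI false
open CategoryTheory AlgebraicGeometry CategoryTheory.Limits Topology
universe u

namespace Groth.Agent.Lib.Helper78.FibClosure

section Top

variable {F X : Type*} [TopologicalSpace F] [TopologicalSpace X]

theorem dense_preimage_iff {e : F → X} (he : IsInducing e) (A : Set X) :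
    Dense (e ⁻¹' A) ↔ Set.range e ⊆ closure (A ∩ Set.range e) := by
  rw [Dense]
  simp_rw [he.closure_eq_preimage_closure_image, Set.image_preimage_eq_inter_range]
  constructor
  · rintro h _ ⟨x, rfl⟩
    exact h x
  · intro h x
    exact h ⟨x, rfl⟩

theorem isNowhereDense_preimage_iff {e : F → X} (he : IsInducing e) (hc : Continuous e)
    {Z : Set X} (hZ : IsClosed Z) :
    IsNowhereDense (e ⁻¹' Z) ↔ Set.range e ⊆ closure (Zᶜ ∩ Set.range e) := by
  rw [(hZ.preimage hc).isNowhereDense_iff, interior_eq_empty_iff_dense_compl, ← Set.preimage_compl,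
    dense_preimage_iff he]

end Top

/-- **EGA IV 9.5.2, irreducible case.** -/
theorem exists_open_fibre_closure_irreducible {X S : Scheme.{u}} (f : X ⟶ S) [IrreducibleSpace S]
    [LocallyOfFiniteType f] [QuasiCompact f] {K U : Set X} (hKc : IsClosed K)
    (hKi : IsIrreducible K) (hU : IsOpen U) (hne : (U ∩ K).Nonempty) :
    ∃ V : Set S, IsOpen V ∧ V.Nonempty ∧ ∀ s ∈ V,
      K ∩ f.base ⁻¹' {s} ⊆ closure (U ∩ K ∩ f.base ⁻¹' {s}) := by
  obtain ⟨T, ι, hι, hT, hr⟩ :=
    Groth.Agent.Lib.Helper21.IntegralSub.exists_integral_closedImmersion K hKc hKi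
  -- the generic point of `T` lies in `U`
  have hξ : ι.base (genericPoint T) ∈ U := by
    obtain ⟨x, hxU, hxK⟩ := hne
    rw [← hr] at hxK
    obtain ⟨t, rfl⟩ := hxK
    have hopen : IsOpen (ι.base ⁻¹' U) := hU.preimage ι.continuous
    exact ((genericPoint_spec T).mem_open_set_iff hopen).mpr ⟨t, Set.mem_univ _, hxU⟩
  have hW : IsClosed (ι.base ⁻¹' Uᶜ) := hU.isClosed_compl.preimage ι.continuous
  have hgen : IsNowhereDense (((ι ≫ f).fiberι (genericPoint S)).base ⁻¹' (ι.base ⁻¹' Uᶜ)) := by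
    rw [(hW.preimage ((ι ≫ f).fiberι (genericPoint S)).continuous).isNowhereDense_iff]
    by_contra hcon
    obtain ⟨p, hp⟩ := Set.nonempty_iff_ne_empty.mpr hcon
    obtain ⟨O, hO, hOeq⟩ := ((ι ≫ f).fiberι (genericPoint S)).isEmbedding.isInducing.isOpen_iff.mp
      (isOpen_interior (s := ((ι ≫ f).fiberι (genericPoint S)).base ⁻¹' (ι.base ⁻¹' Uᶜ)))
    have hpO : ((ι ≫ f).fiberι (genericPoint S)).base p ∈ O := by
      have : p ∈ ((ι ≫ f).fiberι (genericPoint S)).base ⁻¹' O := by rw [hOeq]; exact hp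
      exact this
    have hξO : genericPoint T ∈ O :=
      ((genericPoint_spec T).mem_open_set_iff hO).mpr ⟨_, Set.mem_univ _, hpO⟩
    -- `ι ≫ f` maps the generic point to the generic point
    have hfp : (ι ≫ f).base (((ι ≫ f).fiberι (genericPoint S)).base p) = genericPoint S := by
      have := (ι ≫ f).range_fiberι (genericPoint S)
      have h2 : ((ι ≫ f).fiberι (genericPoint S)).base p ∈
          Set.range ((ι ≫ f).fiberι (genericPoint S)).base := ⟨p, rfl⟩
      rw [this] at h2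
      exact h2
    have h1 : (ι ≫ f).base (genericPoint T) ⤳ genericPoint S := by
      rw [← hfp]
      exact (genericPoint_specializes _).map (ι ≫ f).continuous
    have h2 : genericPoint S ⤳ (ι ≫ f).base (genericPoint T) := genericPoint_specializes _
    have h3 : (ι ≫ f).base (genericPoint T) = genericPoint S := (h1.antisymm h2).eq
    have h4 : genericPoint T ∈ Set.range ((ι ≫ f).fiberι (genericPoint S)).base := by
      rw [(ι ≫ f).range_fiberι (genericPoint S)]
      exact h3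
    obtain ⟨q, hq⟩ := h4
    have hq2 : q ∈ ((ι ≫ f).fiberι (genericPoint S)).base ⁻¹' O := by
      show ((ι ≫ f).fiberι (genericPoint S)).base q ∈ O
      rw [hq]; exact hξO
    rw [hOeq] at hq2
    have hq3' : q ∈ ((ι ≫ f).fiberι (genericPoint S)).base ⁻¹' (ι.base ⁻¹' Uᶜ) :=
      interior_subset hq2
    have hq3 : ((ι ≫ f).fiberι (genericPoint S)).base q ∈ ι.base ⁻¹' Uᶜ := hq3'
    rw [hq] at hq3
    exact hq3 hξ
  obtain ⟨V, hVne, hV⟩ := Groth.Agent.S1298.result (ι ≫ f) (ι.base ⁻¹' Uᶜ) hW hgen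
  refine ⟨V, V.2, hVne, ?_⟩
  intro s hs x hx
  obtain ⟨hxK, hxs⟩ := hx
  have hnd := hV s hs
  rw [isNowhereDense_preimage_iff ((ι ≫ f).fiberι s).isEmbedding.isInducing
    ((ι ≫ f).fiberι s).continuous hW, (ι ≫ f).range_fiberι s] at hnd
  rw [← hr] at hxK
  obtain ⟨t, rfl⟩ := hxK
  have ht : t ∈ (ι ≫ f).base ⁻¹' {s} := hxs
  have ht2 := hnd ht
  have ht3 : ι.base t ∈ ι.base '' closure ((ι.base ⁻¹' Uᶜ)ᶜ ∩ (ι ≫ f).base ⁻¹' {s}) :=
    ⟨t, ht2, rfl⟩
  refine closure_mono ?_ (image_closure_subset_closure_image ι.continuous ht3)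
  rintro _ ⟨t', ⟨ht'U, ht's⟩, rfl⟩
  refine ⟨⟨?_, ?_⟩, ht's⟩
  · by_contra hcon
    exact ht'U hcon
  · rw [← hr]; exact ⟨t', rfl⟩

/-- over a nonempty open of the base, closure commutes with passing to the fibres -/
def ClosureGood {X S : Scheme.{u}} (f : X ⟶ S) (Z : Set X) : Prop :=
  ∃ V : Set S, IsOpen V ∧ V.Nonempty ∧ ∀ s ∈ V,
    closure Z ∩ f.base ⁻¹' {s} ⊆ closure (Z ∩ f.base ⁻¹' {s})

variable {X S : Scheme.{u}} (f : X ⟶ S)

theorem closureGood_empty [Nonempty S] : ClosureGood f ∅ :=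
  ⟨Set.univ, isOpen_univ, Set.univ_nonempty, fun s _ => by simp⟩

theorem closureGood_union [IrreducibleSpace S] {A B : Set X} (hA : ClosureGood f A)
    (hB : ClosureGood f B) : ClosureGood f (A ∪ B) := by
  obtain ⟨V, hV, hVne, h1⟩ := hA
  obtain ⟨W, hW, hWne, h2⟩ := hB
  refine ⟨V ∩ W, hV.inter hW, nonempty_preirreducible_inter hV hW hVne hWne, ?_⟩
  rintro s ⟨hsV, hsW⟩ x ⟨hx, hxs⟩
  rw [closure_union] at hx
  rcases hx with hx | hx
  · exact closure_mono (Set.inter_subset_inter_left _ Set.subset_union_left) (h1 s hsV ⟨hx, hxs⟩)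
  · exact closure_mono (Set.inter_subset_inter_left _ Set.subset_union_right) (h2 s hsW ⟨hx, hxs⟩)

theorem closureGood_sUnion [IrreducibleSpace S] {𝒮 : Set (Set X)} (hfin : 𝒮.Finite)
    (h : ∀ A ∈ 𝒮, ClosureGood f A) : ClosureGood f (⋃₀ 𝒮) := by
  induction 𝒮, hfin using Set.Finite.induction_on with
  | empty => rw [Set.sUnion_empty]; exact closureGood_empty f
  | @insert A 𝒮 _ _ ih =>
    rw [Set.sUnion_insert]
    exact closureGood_union f (h A (Set.mem_insert _ _))
      (ih fun B hB => h B (Set.mem_insert_of_mem _ hB))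

theorem closureGood_open_inter_irreducible [IrreducibleSpace S] [LocallyOfFiniteType f]
    [QuasiCompact f] {K U : Set X} (hKc : IsClosed K) (hKi : IsIrreducible K) (hU : IsOpen U) :
    ClosureGood f (U ∩ K) := by
  by_cases hne : (U ∩ K).Nonempty
  · obtain ⟨V, hV, hVne, h⟩ := exists_open_fibre_closure_irreducible f hKc hKi hU hne
    refine ⟨V, hV, hVne, fun s hs x hx => h s hs ⟨?_, hx.2⟩⟩
    exact closure_minimal Set.inter_subset_right hKc hx.1
  · rw [Set.not_nonempty_iff_eq_empty.mp hne]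
    exact closureGood_empty f

theorem closureGood_of_isConstructible [IrreducibleSpace S] [LocallyOfFiniteType f]
    [QuasiCompact f] [TopologicalSpace.NoetherianSpace X] {Z : Set X} (hZ : IsConstructible Z) :
    ClosureGood f Z := by
  refine Groth.Agent.Lib.Helper73.isConstructible_sdiff_union_induction
    (P := fun Z => ClosureGood f Z) ?_ (fun s t hs ht => closureGood_union f hs ht) hZ
  intro U V hU _ hV _
  obtain ⟨𝒮, hfin, hc, hi, hU'⟩ :=
    TopologicalSpace.NoetherianSpace.exists_finite_set_isClosed_irreducible hV.isClosed_compl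
  have : U \ V = ⋃₀ ((fun K => U ∩ K) '' 𝒮) := by
    rw [Set.sdiff_eq, hU']
    ext x
    simp only [Set.mem_inter_iff, Set.mem_sUnion, Set.mem_image, exists_exists_and_eq_and]
    constructor
    · rintro ⟨hxU, K, hK, hxK⟩
      exact ⟨K, hK, hxU, hxK⟩
    · rintro ⟨K, hK, hxU, hxK⟩
      exact ⟨hxU, K, hK, hxK⟩
  rw [this]
  refine closureGood_sUnion f (hfin.image _) ?_
  rintro _ ⟨K, hK, rfl⟩
  exact closureGood_open_inter_irreducible f (hc K hK) (hi K hK) hU

/-- a predicate on pairs of subsets of a topological space -/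
abbrev FibPred := ∀ (F : Type u) [TopologicalSpace F], Set F → Set F → Prop

/-- invariance under continuous open surjections -/
def IsFibInvariant (Φ : FibPred.{u}) : Prop :=
  ∀ {F' F : Type u} [TopologicalSpace F'] [TopologicalSpace F] (π : F' → F), Continuous π →
    IsOpenMap π → Function.Surjective π → ∀ A B : Set F, Φ F' (π ⁻¹' A) (π ⁻¹' B) ↔ Φ F A B

/-- the set of points of the base over which the traces of `Z`, `Z'` on the fibre satisfy `Φ` -/
def fibLocus (Φ : FibPred.{u}) {X S : Scheme.{u}} (f : X ⟶ S) (Z Z' : Set X) : Set S :=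
  {s | Φ ↥(f.base ⁻¹' {s}) (Subtype.val ⁻¹' Z) (Subtype.val ⁻¹' Z')}

/-- the map between topological fibres induced by a commutative square -/
def fibreMap {X' X S' S : Scheme.{u}} {eX : X' ⟶ X} {f' : X' ⟶ S'} {f : X ⟶ S} {h : S' ⟶ S}
    (w : eX ≫ f = f' ≫ h) (s' : S') : ↥(f'.base ⁻¹' {s'}) → ↥(f.base ⁻¹' {h.base s'}) :=
  fun x => ⟨eX.base x.1, by
    have h1 : f.base (eX.base x.1) = h.base (f'.base x.1) := by
      rw [← Scheme.Hom.comp_apply, ← Scheme.Hom.comp_apply, w]
    have h2 : f'.base x.1 = s' := x.2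
    show f.base (eX.base x.1) = h.base s'
    rw [h1, h2]⟩

theorem continuous_fibreMap {X' X S' S : Scheme.{u}} {eX : X' ⟶ X} {f' : X' ⟶ S'} {f : X ⟶ S}
    {h : S' ⟶ S} (w : eX ≫ f = f' ≫ h) (s' : S') : Continuous (fibreMap w s') :=
  Continuous.subtype_mk (eX.continuous.comp continuous_subtype_val) _

theorem surjective_fibreMap {X' X S' S : Scheme.{u}} {eX : X' ⟶ X} {f' : X' ⟶ S'} {f : X ⟶ S}
    {h : S' ⟶ S} (hp : IsPullback eX f' f h) (s' : S') :
    Function.Surjective (fibreMap hp.w s') := by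
  rintro ⟨x, hx⟩
  obtain ⟨p, hp1, hp2⟩ := Scheme.exists_preimage_of_isPullback hp x s' hx
  exact ⟨⟨p, hp2⟩, Subtype.ext hp1⟩

theorem isOpenMap_fibreMap {X' X S' S : Scheme.{u}} {eX : X' ⟶ X} {f' : X' ⟶ S'} {f : X ⟶ S}
    {h : S' ⟶ S} (hp : IsPullback eX f' f h) (s' : S') :
    IsOpenMap (fibreMap hp.w s') := by
  have pXY := isPullback_fiberToSpecResidueField_of_isPullback hp s'
  have w1 : (S'.fromSpecResidueField s') ≫ h =
      Spec.map (h.residueFieldMap s') ≫ S.fromSpecResidueField (h.base s') := by simp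
  let EX : f'.fiber s' ⟶ f.fiber (h.base s') :=
    pullback.map f' (S'.fromSpecResidueField s') f
      (S.fromSpecResidueField (h.base s')) eX (Spec.map (h.residueFieldMap s')) h hp.w.symm w1
  have a1 : EX ≫ f.fiberι (h.base s') = f'.fiberι s' ≫ eX := pullback.lift_fst _ _ _
  have pXY' : IsPullback EX (f'.fiberToSpecResidueField s')
      (f.fiberToSpecResidueField (h.base s')) (Spec.map (h.residueFieldMap s')) := pXY
  clear_value EX
  have hopen : UniversallyOpen EX :=
    MorphismProperty.of_isPullback (P := @UniversallyOpen) pXY'.flip inferInstance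
  have hEX : IsOpenMap EX.base := EX.isOpenMap
  have key : fibreMap hp.w s' =
      (f.fiberHomeo (h.base s')) ∘ EX.base ∘ (f'.fiberHomeo s').symm := by
    funext x
    apply Subtype.ext
    show eX.base x.1 = (f.fiberι (h.base s')).base (EX.base ((f'.fiberHomeo s').symm x))
    rw [← Scheme.Hom.comp_apply, a1, Scheme.Hom.comp_apply]
    congr 1
    exact (f'.fiberι_fiberHomeo_symm s' x).symm
  rw [key]
  exact (f.fiberHomeo (h.base s')).isOpenMap.comp (hEX.comp (f'.fiberHomeo s').symm.isOpenMap)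

theorem fibLocus_of_isPullback {Φ : FibPred.{u}} (hΦ : IsFibInvariant Φ)
    {X' X S' S : Scheme.{u}} {eX : X' ⟶ X} {f' : X' ⟶ S'} {f : X ⟶ S}
    {h : S' ⟶ S} (hp : IsPullback eX f' f h) (Z Z' : Set X) :
    fibLocus Φ f' (eX.base ⁻¹' Z) (eX.base ⁻¹' Z') = h.base ⁻¹' fibLocus Φ f Z Z' := by
  ext s'
  exact hΦ (fibreMap hp.w s') (continuous_fibreMap hp.w s') (isOpenMap_fibreMap hp s')
    (surjective_fibreMap hp s') (Subtype.val ⁻¹' Z) (Subtype.val ⁻¹' Z')

open Groth.Agent.Lib.Helper78.ConsNoeth Groth.Agent.Lib.Helper78.ConsPair Groth.Agent.Lib.Helper50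

/-- generic behaviour over integral Noetherian bases -/
def HasDichotomy (Φ : FibPred.{u}) : Prop :=
  ∀ {X S : Scheme.{u}} (f : X ⟶ S) [IsIntegral S] [IsNoetherian S] [LocallyOfFiniteType f]
    [QuasiCompact f] (Z Z' : Set X), IsConstructible Z → IsConstructible Z' →
    (interior (fibLocus Φ f Z Z')).Nonempty ∨ (interior (fibLocus Φ f Z Z')ᶜ).Nonempty

variable {Φ : FibPred.{u}}

theorem isConstructible_fibLocus_noeth (hΦ : IsFibInvariant Φ) (hd : HasDichotomy Φ)
    {X S : Scheme.{u}} [IsNoetherian S] (f : X ⟶ S) [LocallyOfFiniteType f] [QuasiCompact f]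
    {Z Z' : Set X} (hZ : IsConstructible Z) (hZ' : IsConstructible Z') :
    IsConstructible (fibLocus Φ f Z Z') := by
  apply isConstructible_of_forall_integral
  intro T i _ _ _
  rw [← fibLocus_of_isPullback hΦ (IsPullback.of_hasPullback f i) Z Z']
  exact hd (pullback.snd f i) _ _ ((pullback.fst f i).isConstructible_preimage hZ)
    ((pullback.fst f i).isConstructible_preimage hZ')

/-- **Noetherian approximation of a family together with two constructible subsets.** -/
theorem exists_noeth_model_sets {X S : Scheme.{u}} [IsAffine S] (f : X ⟶ S)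
    [LocallyOfFinitePresentation f] [QuasiCompact f] [QuasiSeparated f] {Z Z' : Set X}
    (hZ : IsConstructible Z) (hZ' : IsConstructible Z') :
    ∃ (S₀ X₀ : Scheme.{u}) (f₀ : X₀ ⟶ S₀) (h : S ⟶ S₀) (eX : X ⟶ X₀) (Z₀ Z₀' : Set X₀),
      IsNoetherian S₀ ∧ LocallyOfFiniteType f₀ ∧ QuasiCompact f₀ ∧ IsPullback eX f f₀ h ∧
      IsConstructible Z₀ ∧ IsConstructible Z₀' ∧ eX.base ⁻¹' Z₀ = Z ∧ eX.base ⁻¹' Z₀' = Z' := by
  let B : Type u := Γ(S, ⊤)
  let D := fgSpecDiagramZ B
  let c := fgSpecConeZ B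
  have hc : IsLimit c := isLimitFgSpecConeZ B
  let e : S ≅ c.pt := S.isoSpec
  haveI : ∀ i, CompactSpace (D.obj i) := fun i => inferInstance
  haveI : ∀ i, QuasiSeparatedSpace (D.obj i) := fun i => inferInstance
  obtain ⟨i₀, X₀, u₀, gX, h1, h2, h3, hX⟩ := Groth.Agent.S0591.result D c hc X (f ≫ e.hom)
  haveI : CompactSpace X₀ := QuasiCompact.compactSpace_of_compactSpace u₀
  haveI : QuasiSeparatedSpace X₀ := quasiSeparatedSpace_of_quasiSeparated u₀
  let j₀ : Over i₀ := Over.mk (𝟙 i₀)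
  haveI : CompactSpace ((StageSetup.E D i₀ u₀).obj j₀) := StageSetup.compactSpace_E D i₀ u₀ j₀
  haveI : QuasiSeparatedSpace ((StageSetup.E D i₀ u₀).obj j₀) :=
    StageSetup.quasiSeparatedSpace_E D i₀ u₀ j₀
  let cE := StageSetup.cE D c i₀ u₀ (f ≫ e.hom) gX hX
  have hcE : IsLimit cE := StageSetup.hcE D c hc i₀ u₀ (f ≫ e.hom) gX hX
  obtain ⟨j, -, Zj, hZj, hZjeq⟩ := Groth.Agent.S4759.result (StageSetup.E D i₀ u₀) cE hcE j₀ Z hZ
  obtain ⟨j', -, Zj', hZj', hZjeq'⟩ :=
    Groth.Agent.S4759.result (StageSetup.E D i₀ u₀) cE hcE j₀ Z' hZ'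
  obtain ⟨k, a, a', -⟩ : ∃ (k : Over i₀) (a : k ⟶ j) (a' : k ⟶ j'), True :=
    ⟨IsCofiltered.min j j', IsCofiltered.minToLeft j j', IsCofiltered.minToRight j j', trivial⟩
  have sqX : IsPullback (𝟙 X) f (f ≫ e.hom) e.hom :=
    IsPullback.of_horiz_isIso ⟨by rw [Category.id_comp]⟩
  obtain ⟨πk, hπk⟩ : ∃ πk : X ⟶ (StageSetup.E D i₀ u₀).obj k, πk = cE.π.app k := ⟨_, rfl⟩
  obtain ⟨πj, hπj⟩ : ∃ πj : X ⟶ (StageSetup.E D i₀ u₀).obj j, πj = cE.π.app j := ⟨_, rfl⟩
  obtain ⟨πj', hπj'⟩ : ∃ πj' : X ⟶ (StageSetup.E D i₀ u₀).obj j', πj' = cE.π.app j' := ⟨_, rfl⟩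
  have hwj : πk ≫ (StageSetup.E D i₀ u₀).map a = πj := by
    rw [hπk, hπj]; exact cE.w a
  have hwj' : πk ≫ (StageSetup.E D i₀ u₀).map a' = πj' := by
    rw [hπk, hπj']; exact cE.w a'
  have hk : IsPullback πk (f ≫ e.hom) (pullback.snd u₀ (StageSetup.β D i₀ k))
      ((StageSetup.c₀ D c i₀).π.app k) := by
    rw [hπk]
    exact isPullback_bcConeπ (StageSetup.D₀ D i₀) (StageSetup.β D i₀) u₀ (StageSetup.c₀ D c i₀)
      (c.π.app i₀) (StageSetup.hb D c i₀) gX (f ≫ e.hom) hX k
  have hN : IsNoetherian ((StageSetup.D₀ D i₀).obj k) :=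
    inferInstanceAs (IsNoetherian (D.obj k.left))
  have hZjeq2 : πj.base ⁻¹' Zj = Z := by rw [hπj]; exact hZjeq
  have hlft : LocallyOfFiniteType (pullback.snd u₀ (StageSetup.β D i₀ k)) :=
    MorphismProperty.of_isPullback (P := @LocallyOfFiniteType)
      (IsPullback.of_hasPullback u₀ (StageSetup.β D i₀ k)) inferInstance
  have hqc : QuasiCompact (pullback.snd u₀ (StageSetup.β D i₀ k)) :=
    MorphismProperty.of_isPullback (P := @QuasiCompact)
      (IsPullback.of_hasPullback u₀ (StageSetup.β D i₀ k)) inferInstance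
  have hZjeq2' : πj'.base ⁻¹' Zj' = Z' := by rw [hπj']; exact hZjeq'
  refine ⟨(StageSetup.D₀ D i₀).obj k, (StageSetup.E D i₀ u₀).obj k,
    pullback.snd u₀ (StageSetup.β D i₀ k), e.hom ≫ (StageSetup.c₀ D c i₀).π.app k,
    𝟙 X ≫ πk, ((StageSetup.E D i₀ u₀).map a).base ⁻¹' Zj,
    ((StageSetup.E D i₀ u₀).map a').base ⁻¹' Zj', hN, hlft, hqc,
    sqX.paste_horiz hk, ((StageSetup.E D i₀ u₀).map a).isConstructible_preimage hZj,
    ((StageSetup.E D i₀ u₀).map a').isConstructible_preimage hZj', ?_, ?_⟩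
  · rw [Category.id_comp, ← hZjeq2, ← hwj]; rfl
  · rw [Category.id_comp, ← hZjeq2', ← hwj']; rfl

theorem isConstructible_fibLocus_of_isAffine (hΦ : IsFibInvariant Φ) (hd : HasDichotomy Φ)
    {X S : Scheme.{u}} [IsAffine S] (f : X ⟶ S)
    [LocallyOfFinitePresentation f] [QuasiCompact f] [QuasiSeparated f] {Z Z' : Set X}
    (hZ : IsConstructible Z) (hZ' : IsConstructible Z') :
    IsConstructible (fibLocus Φ f Z Z') := by
  obtain ⟨S₀, X₀, f₀, h, eX, Z₀, Z₀', _, _, _, hp, hZ₀, hZ₀', rfl, rfl⟩ :=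
    exists_noeth_model_sets f hZ hZ'
  rw [fibLocus_of_isPullback hΦ hp]
  exact h.isConstructible_preimage (isConstructible_fibLocus_noeth hΦ hd f₀ hZ₀ hZ₀')

/-- **EGA IV 9.5.4, general form.** -/
theorem isLocallyConstructible_fibLocus (hΦ : IsFibInvariant Φ) (hd : HasDichotomy Φ)
    {X S : Scheme.{u}} (f : X ⟶ S)
    [LocallyOfFinitePresentation f] [QuasiCompact f] [QuasiSeparated f] {Z Z' : Set X}
    (hZ : IsLocallyConstructible Z) (hZ' : IsLocallyConstructible Z') :
    IsLocallyConstructible (fibLocus Φ f Z Z') := by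
  intro x
  obtain ⟨_, ⟨U, hU : IsAffineOpen U, rfl⟩, hxU, -⟩ :=
    S.isBasis_affineOpens.exists_subset_of_mem_open (Set.mem_univ x) isOpen_univ
  refine ⟨U, U.2.mem_nhds hxU, U.2, ?_⟩
  haveI : IsAffine (U : Scheme.{u}) := hU
  have e := fibLocus_of_isPullback hΦ (isPullback_morphismRestrict f U).flip Z Z'
  haveI : CompactSpace ↥(f ⁻¹ᵁ U : Scheme.{u}) :=
    QuasiCompact.compactSpace_of_compactSpace (f ∣_ U)
  haveI : QuasiSeparatedSpace ↥(f ⁻¹ᵁ U : Scheme.{u}) :=
    quasiSeparatedSpace_of_quasiSeparated (f ∣_ U)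
  have hc := isConstructible_fibLocus_of_isAffine hΦ hd (f ∣_ U)
    (Z := (f ⁻¹ᵁ U).ι.base ⁻¹' Z) (Z' := (f ⁻¹ᵁ U).ι.base ⁻¹' Z')
    (hZ.preimage_of_isOpenEmbedding (f ⁻¹ᵁ U).ι.isOpenEmbedding).isConstructible
    (hZ'.preimage_of_isOpenEmbedding (f ⁻¹ᵁ U).ι.isOpenEmbedding).isConstructible
  rw [e] at hc
  exact hc

/-! ### the four fibre predicates -/

def ΦDense : FibPred.{u} := fun _ _ A B => B ⊆ closure A
def ΦClosed : FibPred.{u} := fun _ _ A _ => IsClosed A
def ΦOpen : FibPred.{u} := fun _ _ A _ => IsOpen A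
def ΦLC : FibPred.{u} := fun _ _ A _ => IsLocallyClosed A

theorem isFibInvariant_dense : IsFibInvariant ΦDense.{u} := by
  intro F' F _ _ π hc ho hs A B
  show π ⁻¹' B ⊆ closure (π ⁻¹' A) ↔ B ⊆ closure A
  rw [← ho.preimage_closure_eq_closure_preimage hc, hs.preimage_subset_preimage_iff]

theorem isFibInvariant_closed : IsFibInvariant ΦClosed.{u} := by
  intro F' F _ _ π hc ho hs A B
  exact (ho.isQuotientMap hc hs).isClosed_preimage

theorem isFibInvariant_open : IsFibInvariant ΦOpen.{u} := by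
  intro F' F _ _ π hc ho hs A B
  exact (ho.isQuotientMap hc hs).isOpen_preimage

theorem isFibInvariant_lc : IsFibInvariant ΦLC.{u} := by
  intro F' F _ _ π hc ho hs A B
  show IsLocallyClosed (π ⁻¹' A) ↔ IsLocallyClosed A
  rw [isLocallyClosed_iff_isOpen_coborder, isLocallyClosed_iff_isOpen_coborder,
    coborder_preimage ho hc]
  exact (ho.isQuotientMap hc hs).isOpen_preimage

section Top

variable {X : Type*} [TopologicalSpace X]

theorem subtype_subset_closure_iff (R A B : Set X) :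
    (Subtype.val ⁻¹' B : Set ↥R) ⊆ closure (Subtype.val ⁻¹' A) ↔ B ∩ R ⊆ closure (A ∩ R) := by
  rw [IsInducing.subtypeVal.closure_eq_preimage_closure_image, Subtype.image_preimage_coe,
    Set.inter_comm R A]
  constructor
  · rintro h x ⟨hxB, hxR⟩
    exact h (a := ⟨x, hxR⟩) hxB
  · rintro h ⟨x, hxR⟩ hxB
    exact h ⟨hxB, hxR⟩

theorem subtype_isClosed_iff (R A : Set X) :
    IsClosed (Subtype.val ⁻¹' A : Set ↥R) ↔ closure (A ∩ R) ∩ R ⊆ A := by
  rw [isClosed_preimage_val, Set.inter_comm R A, Set.inter_comm R]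

end Top

theorem mem_fibLocus_dense {X S : Scheme.{u}} (f : X ⟶ S) (Z Z' : Set X) (s : S) :
    s ∈ fibLocus ΦDense f Z Z' ↔ Z' ∩ f.base ⁻¹' {s} ⊆ closure (Z ∩ f.base ⁻¹' {s}) :=
  subtype_subset_closure_iff _ _ _

theorem mem_fibLocus_closed {X S : Scheme.{u}} (f : X ⟶ S) (Z Z' : Set X) (s : S) :
    s ∈ fibLocus ΦClosed f Z Z' ↔ closure (Z ∩ f.base ⁻¹' {s}) ∩ f.base ⁻¹' {s} ⊆ Z :=
  subtype_isClosed_iff _ _

theorem fibLocus_open_eq {X S : Scheme.{u}} (f : X ⟶ S) (Z Z' : Set X) :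
    fibLocus ΦOpen f Z Z' = fibLocus ΦClosed f Zᶜ Z' := by
  ext s
  show IsOpen (Subtype.val ⁻¹' Z : Set ↥(f.base ⁻¹' {s})) ↔
    IsClosed (Subtype.val ⁻¹' Zᶜ : Set ↥(f.base ⁻¹' {s}))
  rw [Set.preimage_compl, isClosed_compl_iff]

/-! ### generic behaviour -/

/-- a set which over a nonempty open coincides with the complement of a constructible set -/
theorem dichotomy_of_eq_compl {S : Scheme.{u}} [IsIntegral S] {E V C : Set S}
    (hV : IsOpen V) (hVne : V.Nonempty) (hC : IsConstructible C)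
    (h : ∀ s ∈ V, s ∈ E ↔ s ∉ C) :
    (interior E).Nonempty ∨ (interior Eᶜ).Nonempty := by
  by_cases hη : genericPoint S ∈ C
  · right
    have h1 : (interior C).Nonempty :=
      Groth.Agent.Lib.Helper78.ConsOne.interior_nonempty_of_genericPoint_mem
        (Groth.Agent.Lib.Helper36.isIndConstructible_of_isLocallyConstructible
          hC.isLocallyConstructible) hη
    obtain ⟨s, hs1, hs2⟩ := nonempty_preirreducible_inter isOpen_interior hV h1 hVne
    refine ⟨s, (interior_maximal ?_ (isOpen_interior.inter hV)) ⟨hs1, hs2⟩⟩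
    rintro t ⟨ht1, ht2⟩ htE
    exact ((h t ht2).mp htE) (interior_subset ht1)
  · left
    have h1 : (interior Cᶜ).Nonempty :=
      Groth.Agent.Lib.Helper78.ConsOne.interior_nonempty_of_genericPoint_mem
        (Groth.Agent.Lib.Helper36.isIndConstructible_of_isLocallyConstructible
          hC.compl.isLocallyConstructible) hη
    obtain ⟨s, hs1, hs2⟩ := nonempty_preirreducible_inter isOpen_interior hV h1 hVne
    refine ⟨s, (interior_maximal ?_ (isOpen_interior.inter hV)) ⟨hs1, hs2⟩⟩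
    rintro t ⟨ht1, ht2⟩
    exact (h t ht2).mpr (interior_subset ht1)

theorem noetherianSpace_of_finiteType {X S : Scheme.{u}} (f : X ⟶ S) [IsNoetherian S]
    [LocallyOfFiniteType f] [QuasiCompact f] : IsNoetherian X := by
  have h1 : IsLocallyNoetherian X := LocallyOfFiniteType.isLocallyNoetherian f
  have h2 : CompactSpace X := QuasiCompact.compactSpace_of_compactSpace f
  exact { }

theorem hasDichotomy_dense : HasDichotomy ΦDense.{u} := by
  intro X S f _ _ _ _ Z Z' hZ hZ'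
  haveI : IsNoetherian X := noetherianSpace_of_finiteType f
  obtain ⟨V, hV, hVne, hVg⟩ := closureGood_of_isConstructible f hZ
  have hcl : IsConstructible (closure Z) :=
    (ConsNoeth.isConstructible_of_isOpen_noeth isClosed_closure.isOpen_compl).of_compl
  refine dichotomy_of_eq_compl hV hVne (f.isConstructible_image (hZ'.sdiff hcl)) ?_
  intro s hs
  rw [mem_fibLocus_dense]
  constructor
  · rintro h ⟨x, ⟨hxZ', hxcl⟩, rfl⟩
    exact hxcl (closure_mono Set.inter_subset_left (h ⟨hxZ', rfl⟩))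
  · rintro h x ⟨hxZ', hxs⟩
    refine hVg s hs ⟨?_, hxs⟩
    by_contra hcon
    exact h ⟨x, ⟨hxZ', hcon⟩, hxs⟩

theorem hasDichotomy_closed : HasDichotomy ΦClosed.{u} := by
  intro X S f _ _ _ _ Z Z' hZ hZ'
  haveI : IsNoetherian X := noetherianSpace_of_finiteType f
  obtain ⟨V, hV, hVne, hVg⟩ := closureGood_of_isConstructible f hZ
  have hcl : IsConstructible (closure Z) :=
    (ConsNoeth.isConstructible_of_isOpen_noeth isClosed_closure.isOpen_compl).of_compl
  refine dichotomy_of_eq_compl hV hVne (f.isConstructible_image (hcl.sdiff hZ)) ?_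
  intro s hs
  rw [mem_fibLocus_closed]
  constructor
  · rintro h ⟨x, ⟨hxcl, hxZ⟩, rfl⟩
    exact hxZ (h ⟨hVg _ hs ⟨hxcl, rfl⟩, rfl⟩)
  · rintro h x ⟨hxcl, hxs⟩
    by_contra hcon
    exact h ⟨x, ⟨closure_mono Set.inter_subset_left hxcl, hcon⟩, hxs⟩

theorem hasDichotomy_open : HasDichotomy ΦOpen.{u} := by
  intro X S f _ _ _ _ Z Z' hZ hZ'
  rw [fibLocus_open_eq]
  exact hasDichotomy_closed f Zᶜ Z' hZ.compl hZ'

theorem dichotomy_congr {S : Type*} [TopologicalSpace S] [IrreducibleSpace S] {E E' V : Set S}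
    (hV : IsOpen V) (hVne : V.Nonempty) (h : ∀ s ∈ V, s ∈ E ↔ s ∈ E')
    (hd : (interior E').Nonempty ∨ (interior E'ᶜ).Nonempty) :
    (interior E).Nonempty ∨ (interior Eᶜ).Nonempty := by
  rcases hd with hd | hd
  · left
    obtain ⟨s, hs1, hs2⟩ := nonempty_preirreducible_inter isOpen_interior hV hd hVne
    refine ⟨s, (interior_maximal ?_ (isOpen_interior.inter hV)) ⟨hs1, hs2⟩⟩
    rintro t ⟨ht1, ht2⟩
    exact (h t ht2).mpr (interior_subset ht1)
  · right
    obtain ⟨s, hs1, hs2⟩ := nonempty_preirreducible_inter isOpen_interior hV hd hVne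
    refine ⟨s, (interior_maximal ?_ (isOpen_interior.inter hV)) ⟨hs1, hs2⟩⟩
    rintro t ⟨ht1, ht2⟩ htE
    exact (interior_subset ht1 : t ∈ E'ᶜ) ((h t ht2).mp htE)

theorem isLocallyClosed_iff_isClosed_closure_diff {X : Type*} [TopologicalSpace X] (A : Set X) :
    IsLocallyClosed A ↔ IsClosed (closure A \ A) := by
  rw [isLocallyClosed_iff_isOpen_coborder, coborder, isOpen_compl_iff]

theorem hasDichotomy_lc : HasDichotomy ΦLC.{u} := by
  intro X S f _ _ _ _ Z Z' hZ hZ'
  haveI : IsNoetherian X := noetherianSpace_of_finiteType f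
  obtain ⟨V, hV, hVne, hVg⟩ := closureGood_of_isConstructible f hZ
  have hcl : IsConstructible (closure Z) :=
    (ConsNoeth.isConstructible_of_isOpen_noeth isClosed_closure.isOpen_compl).of_compl
  refine dichotomy_congr (E' := fibLocus ΦClosed f (closure Z \ Z) Z') hV hVne ?_
    (hasDichotomy_closed f _ Z' (hcl.sdiff hZ) hZ')
  intro s hs
  show IsLocallyClosed (Subtype.val ⁻¹' Z : Set ↥(f.base ⁻¹' {s})) ↔
    IsClosed (Subtype.val ⁻¹' (closure Z \ Z) : Set ↥(f.base ⁻¹' {s}))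
  rw [isLocallyClosed_iff_isClosed_closure_diff]
  have : closure (Subtype.val ⁻¹' Z : Set ↥(f.base ⁻¹' {s})) \ (Subtype.val ⁻¹' Z) =
      Subtype.val ⁻¹' (closure Z \ Z) := by
    rw [IsInducing.subtypeVal.closure_eq_preimage_closure_image, Subtype.image_preimage_coe,
      ← Set.preimage_sdiff]
    ext ⟨x, hx⟩
    simp only [Set.mem_preimage, Set.mem_sdiff]
    constructor
    · rintro ⟨h1, h2⟩
      exact ⟨closure_mono Set.inter_subset_right h1, h2⟩
    · rintro ⟨h1, h2⟩
      refine ⟨?_, h2⟩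
      rw [Set.inter_comm]
      exact hVg s hs ⟨h1, hx⟩
  rw [this]

end Groth.Agent.Lib.Helper78.FibClosure
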