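import Mathlib
import Groth.Agent.Lib.Helper79.LfpOfComp

/-!
# Constructibility of fibrewise properties of morphisms (EGA IV 9.6.1), via Chevalley (helper78)

For `f : X ⟶ Y`, `g : Y ⟶ S` and `φ : T ⟶ S`:
* `bcMap f g φ` is the induced map `X ×_S T ⟶ Y ×_S T`, the base change of `f` (`isPullback_bcMap`);
* `surjective_bcMap_iff`: it is surjective iff `g⁻¹(φ(T)) ⊆ f(X)`;
* `universallyInjective_bcMap_iff`: it is radicial iff the points of `X ×_Y X` over `φ(T)` lie on
  the diagonal;
* `isLocallyConstructible_setOf_fibre_subset_range` (Chevalley): for `X`, `Y` of finite presentation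
  over `S` the set of `s` with `g⁻¹(s) ⊆ f(X)` is locally constructible.
-/

set_option autoImplicit false
open CategoryTheory AlgebraicGeometry CategoryTheory.Limits
universe u

namespace Groth.Agent.Lib.Helper78.FibreCons

/-- the base change of `f : X ⟶ Y` (over `S`) along `φ : T ⟶ S` -/
noncomputable abbrev bcMap {X Y S T : Scheme.{u}} (f : X ⟶ Y) (g : Y ⟶ S) (φ : T ⟶ S) :
    pullback (f ≫ g) φ ⟶ pullback g φ :=
  pullback.lift (pullback.fst (f ≫ g) φ ≫ f) (pullback.snd (f ≫ g) φ)
    ((Category.assoc _ _ _).trans pullback.condition)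

theorem isPullback_bcMap {X Y S T : Scheme.{u}} (f : X ⟶ Y) (g : Y ⟶ S) (φ : T ⟶ S) :
    IsPullback (pullback.fst (f ≫ g) φ) (bcMap f g φ) f (pullback.fst g φ) := by
  refine (IsPullback.of_right (h₁₁ := bcMap f g φ) (h₁₂ := pullback.snd g φ)
    (h₂₁ := f) (h₂₂ := g) (v₁₁ := pullback.fst (f ≫ g) φ) (v₁₂ := pullback.fst g φ)
    (v₁₃ := φ) ?_ ?_ (IsPullback.of_hasPullback g φ).flip).flip
  · have : bcMap f g φ ≫ pullback.snd g φ = pullback.snd (f ≫ g) φ := pullback.lift_snd _ _ _
    rw [this]
    exact (IsPullback.of_hasPullback (f ≫ g) φ).flip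
  · exact pullback.lift_fst _ _ _

/-- a point of `Y ×_S T` lies over `φ(T)` -/
theorem fst_mem_range {Y S T : Scheme.{u}} (g : Y ⟶ S) (φ : T ⟶ S) (y' : ↥(pullback g φ)) :
    g.base ((pullback.fst g φ).base y') ∈ Set.range φ.base := by
  have : (pullback.fst g φ).base y' ∈ g.base ⁻¹' Set.range φ.base := by
    rw [← Scheme.Pullback.range_fst]; exact ⟨y', rfl⟩
  exact this

theorem exists_point_over {Y S T : Scheme.{u}} (g : Y ⟶ S) (φ : T ⟶ S) (y : Y)
    (hy : g.base y ∈ Set.range φ.base) :
    ∃ y' : ↥(pullback g φ), (pullback.fst g φ).base y' = y := by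
  have : y ∈ Set.range (pullback.fst g φ).base := by
    rw [Scheme.Pullback.range_fst]
    exact hy
  exact this

theorem surjective_bcMap_iff {X Y S T : Scheme.{u}} (f : X ⟶ Y) (g : Y ⟶ S) (φ : T ⟶ S) :
    Function.Surjective (bcMap f g φ).base ↔
      ∀ y : Y, g.base y ∈ Set.range φ.base → y ∈ Set.range f.base := by
  have hP := isPullback_bcMap f g φ
  constructor
  · intro h y hy
    obtain ⟨y', rfl⟩ := exists_point_over g φ y hy
    obtain ⟨x', rfl⟩ := h y'
    refine ⟨(pullback.fst (f ≫ g) φ).base x', ?_⟩
    rw [← Scheme.Hom.comp_apply, hP.w, Scheme.Hom.comp_apply]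
  · intro h y'
    obtain ⟨x, hx⟩ := h _ (fst_mem_range g φ y')
    obtain ⟨p, -, hp⟩ := Scheme.exists_preimage_of_isPullback hP x y' hx
    exact ⟨p, hp⟩

theorem isLocallyConstructible_compl {T : Type*} [TopologicalSpace T] {s : Set T}
    (hs : Topology.IsLocallyConstructible s) : Topology.IsLocallyConstructible sᶜ := by
  intro x
  obtain ⟨U, hxU, hU, hsU⟩ := hs x
  exact ⟨U, hxU, hU, by simpa using hsU.compl⟩

/-- **Chevalley**: for `X`, `Y` of finite presentation over `S`, the set of points `s` of `S` with
`g⁻¹(s) ⊆ f(X)` is locally constructible. -/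
theorem isLocallyConstructible_setOf_fibre_subset_range {X Y S : Scheme.{u}} (f : X ⟶ Y) (g : Y ⟶ S)
    [LocallyOfFinitePresentation g] [QuasiCompact g] [QuasiSeparated g]
    [LocallyOfFinitePresentation (f ≫ g)] [QuasiCompact (f ≫ g)] :
    Topology.IsLocallyConstructible {s : S | ∀ y : Y, g.base y = s → y ∈ Set.range f.base} := by
  have : QuasiCompact f := QuasiCompact.of_comp f g
  have : LocallyOfFinitePresentation f :=
    Groth.Agent.Lib.Helper79.lfp_of_comp (f := f) (g := g) inferInstance inferInstance
  have h1 : Topology.IsLocallyConstructible (Set.range f.base) := by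
    rw [← Set.image_univ]
    exact f.isLocallyConstructible_image Topology.IsLocallyConstructible.univ
  have h2 := g.isLocallyConstructible_image (isLocallyConstructible_compl h1)
  convert isLocallyConstructible_compl h2 using 1
  ext s
  simp only [Set.mem_ofPred_eq, Set.mem_compl_iff, Set.mem_image, not_exists, not_and]
  constructor
  · intro h y hy hys
    exact hy (h y hys)
  · intro h y hys
    by_contra hy
    exact h y hy hys

/-- the diagonal of a base change is the base change of the diagonal -/
theorem isPullback_diagonal {X' Y' X Y : Scheme.{u}} {q : X' ⟶ X} {f' : X' ⟶ Y'} {f : X ⟶ Y}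
    {p : Y' ⟶ Y} (hP : IsPullback q f' f p) :
    IsPullback q (pullback.diagonal f') (pullback.diagonal f)
      (pullback.map f' f' f f q q p hP.w.symm hP.w.symm) := by
  refine ⟨⟨?_⟩, ⟨PullbackCone.IsLimit.mk _ (fun c => c.snd ≫ pullback.fst f' f') ?_ ?_ ?_⟩⟩
  · apply pullback.hom_ext
    · rw [Category.assoc, Category.assoc, pullback.diagonal_fst, pullback.lift_fst,
        pullback.diagonal_fst_assoc, Category.comp_id]
    · rw [Category.assoc, Category.assoc, pullback.diagonal_snd, pullback.lift_snd,
        pullback.diagonal_snd_assoc, Category.comp_id]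
  · intro c
    have h1 := c.condition =≫ pullback.fst f f
    rw [Category.assoc, Category.assoc, pullback.diagonal_fst, pullback.lift_fst,
      Category.comp_id] at h1
    rw [Category.assoc]
    exact h1.symm
  · intro c
    have h1 := c.condition =≫ pullback.fst f f
    have h2 := c.condition =≫ pullback.snd f f
    rw [Category.assoc, Category.assoc, pullback.diagonal_fst, pullback.lift_fst,
      Category.comp_id] at h1
    rw [Category.assoc, Category.assoc, pullback.diagonal_snd, pullback.lift_snd,
      Category.comp_id] at h2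
    have h3 : c.snd ≫ pullback.fst f' f' = c.snd ≫ pullback.snd f' f' := by
      apply hP.hom_ext
      · rw [Category.assoc, Category.assoc, ← h1, ← h2]
      · rw [Category.assoc, Category.assoc, pullback.condition]
    apply pullback.hom_ext
    · rw [Category.assoc, Category.assoc, pullback.diagonal_fst, Category.comp_id]
    · rw [Category.assoc, Category.assoc, pullback.diagonal_snd, Category.comp_id, h3]
  · intro c l h1 h2
    have := h2 =≫ pullback.fst f' f'
    rw [Category.assoc, pullback.diagonal_fst, Category.comp_id] at this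
    exact this

theorem universallyInjective_bcMap_iff {X Y S T : Scheme.{u}} (f : X ⟶ Y) (g : Y ⟶ S)
    (φ : T ⟶ S) :
    UniversallyInjective (bcMap f g φ) ↔
      ∀ w : ↥(pullback f f), (pullback.fst f f ≫ f ≫ g).base w ∈ Set.range φ.base →
        w ∈ Set.range (pullback.diagonal f).base := by
  have hP := isPullback_bcMap f g φ
  have hD := isPullback_diagonal hP
  rw [UniversallyInjective.iff_diagonal]
  constructor
  · intro ⟨hs⟩ w hw
    -- a point of `W ×_S T` over `w`
    obtain ⟨w', rfl⟩ := exists_point_over (pullback.fst f f ≫ f ≫ g) φ w hw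
    have c1 : (pullback.fst (pullback.fst f f ≫ f ≫ g) φ ≫ pullback.fst f f) ≫ f ≫ g =
        pullback.snd (pullback.fst f f ≫ f ≫ g) φ ≫ φ := by
      rw [Category.assoc]; exact pullback.condition
    have c2 : (pullback.fst (pullback.fst f f ≫ f ≫ g) φ ≫ pullback.snd f f) ≫ f ≫ g =
        pullback.snd (pullback.fst f f ≫ f ≫ g) φ ≫ φ := by
      rw [Category.assoc, ← pullback.condition_assoc]; exact pullback.condition
    have c3 : pullback.lift (pullback.fst (pullback.fst f f ≫ f ≫ g) φ ≫ pullback.fst f f)
          (pullback.snd (pullback.fst f f ≫ f ≫ g) φ) c1 ≫ bcMap f g φ =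
        pullback.lift (pullback.fst (pullback.fst f f ≫ f ≫ g) φ ≫ pullback.snd f f)
          (pullback.snd (pullback.fst f f ≫ f ≫ g) φ) c2 ≫ bcMap f g φ := by
      apply pullback.hom_ext
      · rw [Category.assoc, Category.assoc, pullback.lift_fst, pullback.lift_fst_assoc,
          pullback.lift_fst_assoc, Category.assoc, Category.assoc, pullback.condition]
      · rw [Category.assoc, Category.assoc, pullback.lift_snd, pullback.lift_snd,
          pullback.lift_snd]
    have hn : pullback.lift _ _ c3 ≫ pullback.map (bcMap f g φ) (bcMap f g φ) f f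
        (pullback.fst (f ≫ g) φ) (pullback.fst (f ≫ g) φ) (pullback.fst g φ)
        hP.w.symm hP.w.symm = pullback.fst (pullback.fst f f ≫ f ≫ g) φ := by
      apply pullback.hom_ext
      · rw [Category.assoc, pullback.lift_fst, pullback.lift_fst_assoc, pullback.lift_fst]
      · rw [Category.assoc, pullback.lift_snd, pullback.lift_snd_assoc, pullback.lift_fst]
    obtain ⟨x', hx'⟩ := hs ((pullback.lift _ _ c3).base w')
    refine ⟨(pullback.fst (f ≫ g) φ).base x', ?_⟩
    rw [← Scheme.Hom.comp_apply, hD.w, Scheme.Hom.comp_apply]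
    erw [hx']
    rw [← Scheme.Hom.comp_apply, hn]
  · intro hw
    refine ⟨fun z => ?_⟩
    have h1 : (pullback.fst f f ≫ f ≫ g).base ((pullback.map (bcMap f g φ) (bcMap f g φ) f f
        (pullback.fst (f ≫ g) φ) (pullback.fst (f ≫ g) φ) (pullback.fst g φ)
        hP.w.symm hP.w.symm).base z) ∈ Set.range φ.base := by
      have e : pullback.map (bcMap f g φ) (bcMap f g φ) f f
          (pullback.fst (f ≫ g) φ) (pullback.fst (f ≫ g) φ) (pullback.fst g φ)
          hP.w.symm hP.w.symm ≫ pullback.fst f f ≫ f ≫ g =
          pullback.fst (bcMap f g φ) (bcMap f g φ) ≫ pullback.fst (f ≫ g) φ ≫ f ≫ g := by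
        rw [pullback.lift_fst_assoc, Category.assoc]
      rw [← Scheme.Hom.comp_apply, e, Scheme.Hom.comp_apply]
      exact fst_mem_range (f ≫ g) φ _
    obtain ⟨x, hx⟩ := hw _ h1
    obtain ⟨p, -, hp⟩ := Scheme.exists_preimage_of_isPullback hD x z hx
    exact ⟨p, hp⟩

theorem isLocallyConstructible_setOf_fibre_subset_range_diagonal {X Y S : Scheme.{u}}
    (f : X ⟶ Y) (g : Y ⟶ S)
    [LocallyOfFinitePresentation g] [QuasiCompact g] [QuasiSeparated g]
    [LocallyOfFinitePresentation (f ≫ g)] [QuasiCompact (f ≫ g)] [QuasiSeparated (f ≫ g)] :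
    Topology.IsLocallyConstructible {s : S | ∀ w : ↥(pullback f f),
      (pullback.fst f f ≫ f ≫ g).base w = s → w ∈ Set.range (pullback.diagonal f).base} := by
  have : QuasiCompact f := QuasiCompact.of_comp f g
  have : QuasiSeparated f := QuasiSeparated.of_comp f g
  have : LocallyOfFinitePresentation f :=
    Groth.Agent.Lib.Helper79.lfp_of_comp (f := f) (g := g) inferInstance inferInstance
  have e : pullback.diagonal f ≫ pullback.fst f f ≫ f ≫ g = f ≫ g := by
    rw [pullback.diagonal_fst_assoc]
  have : LocallyOfFinitePresentation (pullback.diagonal f ≫ pullback.fst f f ≫ f ≫ g) := by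
    rw [e]; infer_instance
  have : QuasiCompact (pullback.diagonal f ≫ pullback.fst f f ≫ f ≫ g) := by
    rw [e]; infer_instance
  exact isLocallyConstructible_setOf_fibre_subset_range (pullback.diagonal f)
    (pullback.fst f f ≫ f ≫ g)

end Groth.Agent.Lib.Helper78.FibreCons
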