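import Mathlib
import Groth.Agent.Lib.Helper78.FibClosure
import Groth.Agent.Lib.Helper78.GeomPair
import Groth.Agent.Lib.Helper78.FibreCons
import Groth.Agent.Lib.Helper54.CPFScheme

/-!
# EGA IV 9.6.1 (i), (ii): separated / dominant fibre maps (helper78)

For `X ⟶ Y ⟶ S` of finite presentation over `S`, the loci where the map of fibres `X_s ⟶ Y_s` is
dominant, resp. separated, are locally constructible, deduced from `FibClosure` applied to the
range of `f` in `Y`, resp. the range of the diagonal in `X ×_Y X`.
-/

set_option autoImplicit false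
set_option linter.style.haveILetI false
open CategoryTheory AlgebraicGeometry CategoryTheory.Limits Topology
universe u

namespace Groth.Agent.Lib.Helper78.FibClosureMor

open Groth.Agent.Lib.Helper78.FibClosure Groth.Agent.Lib.Helper78.GeomPair
  Groth.Agent.Lib.Helper78.FibreCons

/-- the range of the map on fibres is the trace of the range -/
theorem range_fiberMap {X Y S : Scheme.{u}} (f : X ⟶ Y) (g : Y ⟶ S) (s : S) :
    Set.range (MoreMor.fiberMap f g s).base = (g.fiberι s).base ⁻¹' Set.range f.base := by
  have hp := isPullback_fiberMap f g s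
  ext y
  constructor
  · rintro ⟨p, rfl⟩
    refine ⟨((f ≫ g).fiberι s).base p, ?_⟩
    rw [← Scheme.Hom.comp_apply, ← Scheme.Hom.comp_apply, hp.w]
  · rintro ⟨x, hx⟩
    obtain ⟨p, -, hp2⟩ := Scheme.exists_preimage_of_isPullback hp x y hx
    exact ⟨p, hp2⟩

theorem isDominant_fiberMap_iff {X Y S : Scheme.{u}} (f : X ⟶ Y) (g : Y ⟶ S) (s : S) :
    IsDominant (MoreMor.fiberMap f g s) ↔
      Set.univ ∩ g.base ⁻¹' {s} ⊆ closure (Set.range f.base ∩ g.base ⁻¹' {s}) := by
  rw [isDominant_iff, DenseRange, range_fiberMap,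
    dense_preimage_iff (g.fiberι s).isEmbedding.isInducing, g.range_fiberι s, Set.univ_inter]

theorem setOf_isDominant_fiberMap {X Y S : Scheme.{u}} (f : X ⟶ Y) (g : Y ⟶ S) :
    {s : S | IsDominant (MoreMor.fiberMap f g s)} =
      fibLocus ΦDense g (Set.range f.base) Set.univ := by
  ext s
  rw [mem_fibLocus_dense]
  exact isDominant_fiberMap_iff f g s

theorem isLocallyConstructible_range {X Y S : Scheme.{u}} (f : X ⟶ Y) (g : Y ⟶ S)
    [LocallyOfFiniteType g] [QuasiSeparated g]
    [LocallyOfFinitePresentation (f ≫ g)] [QuasiCompact (f ≫ g)] :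
    IsLocallyConstructible (Set.range f.base) := by
  haveI : LocallyOfFinitePresentation f := Groth.Agent.Lib.Helper54.CPF.lfp_of_comp f g
  haveI : QuasiCompact f := QuasiCompact.of_comp f g
  rw [← Set.image_univ]
  exact f.isLocallyConstructible_image IsConstructible.univ.isLocallyConstructible

/-- **EGA IV 9.6.1 (ii), dominant fibre maps.** -/
theorem isLocallyConstructible_setOf_isDominant {X Y S : Scheme.{u}} (f : X ⟶ Y) (g : Y ⟶ S)
    [LocallyOfFinitePresentation g] [QuasiCompact g] [QuasiSeparated g]
    [LocallyOfFinitePresentation (f ≫ g)] [QuasiCompact (f ≫ g)] [QuasiSeparated (f ≫ g)] :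
    IsLocallyConstructible {s : S | IsDominant (MoreMor.fiberMap f g s)} := by
  rw [setOf_isDominant_fiberMap]
  exact isLocallyConstructible_fibLocus isFibInvariant_dense hasDichotomy_dense g
    (isLocallyConstructible_range f g) IsConstructible.univ.isLocallyConstructible

/-- `X' ×_{Y'} X' ⟶ X ×_Y X` is a base change of `Y' ⟶ Y` -/
theorem isPullback_map_of_isPullback {X' Y' X Y : Scheme.{u}} {q : X' ⟶ X} {f' : X' ⟶ Y'}
    {f : X ⟶ Y} {p : Y' ⟶ Y} (hP : IsPullback q f' f p) :
    IsPullback (pullback.map f' f' f f q q p hP.w.symm hP.w.symm) (pullback.snd f' f' ≫ f')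
      (pullback.snd f f ≫ f) p := by
  have A : IsPullback (pullback.map f' f' f f q q p hP.w.symm hP.w.symm) (pullback.snd f' f')
      (pullback.snd f f) q := by
    refine IsPullback.of_right (h₁₂ := pullback.fst f f) (h₂₂ := f) (v₁₃ := f) ?_ ?_
      (IsPullback.of_hasPullback f f)
    · have e1 : pullback.map f' f' f f q q p hP.w.symm hP.w.symm ≫ pullback.fst f f =
          pullback.fst f' f' ≫ q := pullback.lift_fst _ _ _
      rw [e1, hP.w]
      exact (IsPullback.of_hasPullback f' f').paste_horiz hP
    · exact pullback.lift_snd _ _ _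
  exact A.paste_vert hP

theorem isClosed_preimage_iff_subtype {F W : Type*} [TopologicalSpace F] [TopologicalSpace W]
    {m : F → W} (hm : IsEmbedding m) {R : Set W} (hR : Set.range m = R) (A : Set W) :
    IsClosed (m ⁻¹' A) ↔ IsClosed (Subtype.val ⁻¹' A : Set ↥R) := by
  subst hR
  have e : m ⁻¹' A = hm.toHomeomorph ⁻¹' (Subtype.val ⁻¹' A : Set ↥(Set.range m)) := rfl
  rw [e, Homeomorph.isClosed_preimage]

theorem isSeparated_iff_isClosed_range_diagonal {X Y : Scheme.{u}} (φ : X ⟶ Y) :
    IsSeparated φ ↔ IsClosed (Set.range (pullback.diagonal φ).base) := by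
  constructor
  · intro h
    exact (pullback.diagonal φ).isClosedEmbedding.isClosed_range
  · intro h
    exact ⟨IsClosedImmersion.of_isPreimmersion _ h⟩

theorem isSeparated_fiberMap_iff {X Y S : Scheme.{u}} (f : X ⟶ Y) (g : Y ⟶ S) (s : S) :
    IsSeparated (MoreMor.fiberMap f g s) ↔
      IsClosed (Subtype.val ⁻¹' (Set.range (pullback.diagonal f).base) :
        Set ↥((pullback.snd f f ≫ f ≫ g).base ⁻¹' {s})) := by
  have hP := isPullback_fiberMap f g s
  have hD := isPullback_diagonal hP
  have hM := isPullback_map_of_isPullback hP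
  rw [isSeparated_iff_isClosed_range_diagonal]
  -- the range of the diagonal of the fibre map
  have hr : Set.range (pullback.diagonal (MoreMor.fiberMap f g s)).base =
      (pullback.map _ _ f f _ _ _ hP.w.symm hP.w.symm).base ⁻¹'
        Set.range (pullback.diagonal f).base := by
    ext z
    constructor
    · rintro ⟨x, rfl⟩
      refine ⟨((f ≫ g).fiberι s).base x, ?_⟩
      rw [← Scheme.Hom.comp_apply, ← Scheme.Hom.comp_apply, hD.w]
    · rintro ⟨x, hx⟩
      obtain ⟨p', -, hp⟩ := Scheme.exists_preimage_of_isPullback hD x z hx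
      exact ⟨p', hp⟩
  rw [hr]
  haveI : IsPreimmersion (pullback.map _ _ f f _ _ _ hP.w.symm hP.w.symm) :=
    MorphismProperty.of_isPullback (P := @IsPreimmersion) hM.flip inferInstance
  refine isClosed_preimage_iff_subtype
    (pullback.map _ _ f f _ _ _ hP.w.symm hP.w.symm).isEmbedding ?_ _
  ext w
  constructor
  · rintro ⟨z, rfl⟩
    show (pullback.snd f f ≫ f ≫ g).base _ = s
    have e : pullback.map _ _ f f _ _ _ hP.w.symm hP.w.symm ≫ pullback.snd f f ≫ f ≫ g =
        (pullback.snd _ _ ≫ MoreMor.fiberMap f g s) ≫ g.fiberι s ≫ g := by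
      have := congrArg (· ≫ g) hM.w
      simpa only [Category.assoc] using this
    rw [← Scheme.Hom.comp_apply, e, Scheme.Hom.comp_apply]
    have := g.range_fiberι s
    have h2 : (g.fiberι s).base ((pullback.snd _ _ ≫ MoreMor.fiberMap f g s).base z) ∈
        Set.range (g.fiberι s).base := ⟨_, rfl⟩
    rw [this] at h2
    rw [Scheme.Hom.comp_apply]
    exact h2
  · intro hw
    have hw' : (pullback.snd f f ≫ f ≫ g).base w = s := hw
    have h3 : (pullback.snd f f ≫ f).base w ∈ Set.range (g.fiberι s).base := by
      rw [g.range_fiberι s]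
      show g.base ((pullback.snd f f ≫ f).base w) = s
      rw [← Scheme.Hom.comp_apply, Category.assoc]
      exact hw'
    obtain ⟨y, hy⟩ := h3
    obtain ⟨z, hz, -⟩ := Scheme.exists_preimage_of_isPullback hM w y hy.symm
    exact ⟨z, hz⟩

/-- **EGA IV 9.6.1 (i), separated fibre maps.** -/
theorem isLocallyConstructible_setOf_isSeparated {X Y S : Scheme.{u}} (f : X ⟶ Y) (g : Y ⟶ S)
    [LocallyOfFinitePresentation g] [QuasiCompact g] [QuasiSeparated g]
    [LocallyOfFinitePresentation (f ≫ g)] [QuasiCompact (f ≫ g)] [QuasiSeparated (f ≫ g)] :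
    IsLocallyConstructible {s : S | IsSeparated (MoreMor.fiberMap f g s)} := by
  haveI : LocallyOfFinitePresentation f := Groth.Agent.Lib.Helper54.CPF.lfp_of_comp f g
  haveI : QuasiCompact f := QuasiCompact.of_comp f g
  haveI : QuasiSeparated f := QuasiSeparated.of_comp f g
  have hr : IsLocallyConstructible (Set.range (pullback.diagonal f).base) := by
    have e : pullback.diagonal f ≫ pullback.snd f f = 𝟙 X := pullback.diagonal_snd f
    haveI : LocallyOfFinitePresentation (pullback.diagonal f ≫ pullback.snd f f) := by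
      rw [e]; infer_instance
    haveI : QuasiCompact (pullback.diagonal f ≫ pullback.snd f f) := by
      rw [e]; infer_instance
    exact isLocallyConstructible_range (pullback.diagonal f) (pullback.snd f f)
  have h := isLocallyConstructible_fibLocus isFibInvariant_closed hasDichotomy_closed
    (pullback.snd f f ≫ f ≫ g) hr hr
  have e : {s : S | IsSeparated (MoreMor.fiberMap f g s)} =
      fibLocus ΦClosed (pullback.snd f f ≫ f ≫ g) (Set.range (pullback.diagonal f).base)
        (Set.range (pullback.diagonal f).base) := by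
    ext s
    exact isSeparated_fiberMap_iff f g s
  rw [e]
  exact h

end Groth.Agent.Lib.Helper78.FibClosureMor
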