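import Mathlib
import Groth.Agent.Lib.Helper78.GeomPair
import Groth.Agent.Lib.Helper78.ConsOne

/-!
# Properties of morphisms that descend along limits are ind-constructible (helper78)

For a class `Q` of morphisms stable under base change, descending along faithfully flat
quasi-compact base change and descending to a stage of a cofiltered limit, the relation
`P(f, X, Y, k) := Q f` is an ind-constructible property of morphisms of algebraic schemes.
-/

set_option autoImplicit false
set_option linter.style.haveILetI false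
open CategoryTheory AlgebraicGeometry CategoryTheory.Limits Topology
universe u

namespace Groth.Agent.Lib.Helper78.GeomMor

open Groth.Agent.Lib.Helper78.ConsMor Groth.Agent.Lib.Helper50 Groth.Agent.Lib.Helper78.GeomPair
  Groth.Agent.Lib.Helper78.ConsOne Groth.Agent.Lib.Helper78.ConsPair

/-- descent along surjective flat quasi-compact base change, elementary form -/
def FpqcDescends (Q : MorphismProperty Scheme.{u}) : Prop :=
  ∀ ⦃X Y X' Y' : Scheme.{u}⦄ ⦃f : X ⟶ Y⦄ ⦃f' : X' ⟶ Y'⦄ ⦃a : X' ⟶ X⦄ ⦃b : Y' ⟶ Y⦄,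
    IsPullback a f' f b → Surjective b → Flat b → QuasiCompact b → Q f' → Q f

theorem FpqcDescends.of_descendsAlong (Q : MorphismProperty Scheme.{u})
    [Q.DescendsAlong (@Surjective ⊓ @Flat ⊓ @QuasiCompact)] : FpqcDescends Q :=
  fun _ _ _ _ _ _ _ _ sq h1 h2 h3 hf' =>
    MorphismProperty.DescendsAlong.of_isPullback (Q := @Surjective ⊓ @Flat ⊓ @QuasiCompact)
      sq.flip ⟨⟨h1, h2⟩, h3⟩ hf'

variable {Q : MorphismProperty Scheme.{u}}

/-- the relation `P(f, X, Y, k) := Q f` -/
def PM (Q : MorphismProperty Scheme.{u}) :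
    ∀ ⦃X Y T : Scheme.{u}⦄, (X ⟶ Y) → (Y ⟶ T) → Prop :=
  fun _ _ _ f _ => Q f

theorem isFieldStableMor_PM (hbc : BC Q) (hd : FpqcDescends Q) :
    ConsProp.IsFieldStableMor (PM Q) := by
  intro X X' Y Y' T T' f g f' g' eX eY h _ _ _ _ _ _ _ _ hY hX
  constructor
  · intro hf
    exact hbc hX hf
  · intro hf'
    have s1 : Surjective h := ⟨fun t => by
      obtain ⟨t'⟩ : Nonempty ↥T' := inferInstance
      exact ⟨t', Subsingleton.elim _ _⟩⟩
    have s2 : Flat h := inferInstance
    have s3 : QuasiCompact h := inferInstance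
    exact hd hX (MorphismProperty.of_isPullback (P := @Surjective) hY.flip s1)
      (MorphismProperty.of_isPullback (P := @Flat) hY.flip s2)
      (MorphismProperty.of_isPullback (P := @QuasiCompact) hY.flip s3) hf'

/-- **Main theorem**: `Q` is an ind-constructible property of morphisms. -/
theorem isIndConsMor_PM (hbc : BC Q) (hd : FpqcDescends Q) (hQ : Descends Q) :
    ConsProp.IsIndConsMor (PM Q) := by
  have hfs := isFieldStableMor_PM hbc hd
  refine ⟨hfs, ?_⟩
  intro X Y S f g _ _ _ _ _ _ hgen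
  haveI : IsNoetherian Y := isNoetherian_of_finiteType g
  haveI : IsNoetherian X := isNoetherian_of_finiteType (f ≫ g)
  let η := genericPoint S
  let T' : Scheme.{u} := Spec (S.residueField η)
  let b : T' ⟶ S := S.fromSpecResidueField η
  obtain ⟨U, hU, hηU⟩ : ∃ U : S.Opens, IsAffineOpen U ∧ η ∈ U := by
    obtain ⟨_, ⟨U, hU, rfl⟩, hxU, -⟩ := S.isBasis_affineOpens.exists_subset_of_mem_open
      (Set.mem_univ η) isOpen_univ
    exact ⟨U, hU, hxU⟩
  have hbη : ∀ t : T', b.base t = η := by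
    intro t
    have h1 : b.base t ∈ Set.range b.base := ⟨_, rfl⟩
    rw [Scheme.range_fromSpecResidueField] at h1
    exact h1
  have e : ⊤ ≤ b ⁻¹ᵁ U := by
    intro t _
    change b.base t ∈ U
    rw [hbη t]
    exact hηU
  have hU' := isAffineOpen_top T'
  letI : Algebra Γ(S, U) Γ(T', ⊤) := (b.appLE U ⊤ e).hom.toAlgebra
  haveI : IsNoetherianRing Γ(S, U) := IsLocallyNoetherian.component_noetherian ⟨U, hU⟩
  let D := fgSpecDiagram Γ(S, U) Γ(T', ⊤)
  let c := fgSpecCone Γ(S, U) Γ(T', ⊤)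
  have hc : IsLimit c := isLimitFgSpecCone Γ(S, U) Γ(T', ⊤)
  let β : ∀ j, D.obj j ⟶ S := fun j =>
    Spec.map (CommRingCat.ofHom (algebraMap Γ(S, U) j.unop.1)) ≫ hU.fromSpec
  have hβ : ∀ {j k : (FGSub Γ(S, U) Γ(T', ⊤))ᵒᵖ} (φ : j ⟶ k), D.map φ ≫ β k = β j := by
    intro j k φ
    have h1 : Spec.map (CommRingCat.ofHom
        (Subalgebra.inclusion (leOfHom φ.unop)).toRingHom) ≫
        Spec.map (CommRingCat.ofHom (algebraMap Γ(S, U) k.unop.1)) =
        Spec.map (CommRingCat.ofHom (algebraMap Γ(S, U) j.unop.1)) := by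
      rw [← Spec.map_comp]
      rfl
    exact (Category.assoc _ _ _).symm.trans (congrArg (· ≫ hU.fromSpec) h1)
  let θ : Spec Γ(T', ⊤) ⟶ T' := hU'.fromSpec
  haveI : IsIso θ := by
    rw [show θ = T'.isoSpec.inv from IsAffineOpen.fromSpec_top]
    infer_instance
  let b' : Spec Γ(T', ⊤) ⟶ S := θ ≫ b
  have hb : ∀ j, c.π.app j ≫ β j = b' := by
    intro j
    have h1 : Spec.map (CommRingCat.ofHom j.unop.1.val.toRingHom) ≫
        Spec.map (CommRingCat.ofHom (algebraMap Γ(S, U) j.unop.1)) =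
        Spec.map (b.appLE U ⊤ e) := by
      rw [← Spec.map_comp]
      rfl
    refine (Category.assoc _ _ _).symm.trans ((congrArg (· ≫ hU.fromSpec) h1).trans ?_)
    exact hU.SpecMap_appLE_fromSpec b hU' e
  haveI hft : ∀ j, LocallyOfFiniteType (β j) := by
    intro j
    haveI : LocallyOfFiniteType (Spec.map (CommRingCat.ofHom (algebraMap Γ(S, U) j.unop.1))) := by
      rw [HasRingHomProperty.Spec_iff (P := @LocallyOfFiniteType)]
      exact RingHom.finiteType_algebraMap.mpr ((Subalgebra.fg_iff_finiteType _).mp j.unop.2)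
    exact inferInstanceAs (LocallyOfFiniteType
      (Spec.map (CommRingCat.ofHom (algebraMap Γ(S, U) j.unop.1)) ≫ hU.fromSpec))
  haveI : ∀ j, IsNoetherian (D.obj j) := fun j => isNoetherian_fgSpecDiagram _ _ j
  let i₀ : (FGSub Γ(S, U) Γ(T', ⊤))ᵒᵖ := Opposite.op ⟨⊥, Subalgebra.fg_bot⟩
  -- the squares over the limit
  have hY1 : IsPullback (g.fiberι η) (g.fiberToSpecResidueField η ≫ inv θ) g b' := by
    have sq : IsPullback (𝟙 (pullback g b)) (pullback.snd g b ≫ inv θ)
        (pullback.snd g b) θ := IsPullback.of_horiz_isIso ⟨by simp⟩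
    have := sq.paste_horiz (IsPullback.of_hasPullback g b)
    rw [Category.id_comp] at this
    exact this
  let g₀ := pullback.snd g (β i₀)
  let f₀ := pullback.snd f (pullback.fst g (β i₀))
  obtain ⟨qY, hqY, hY₀⟩ : ∃ qY : g.fiber η ⟶ pullback g (β i₀),
      qY ≫ pullback.fst g (β i₀) = g.fiberι η ∧
      IsPullback qY (g.fiberToSpecResidueField η ≫ inv θ) g₀ (c.π.app i₀) :=
    ⟨_, pullback.lift_fst _ _ _, isPullback_lift_of_comp hY1 (c.π.app i₀) (β i₀) (hb i₀)⟩
  let qX : (f ≫ g).fiber η ⟶ pullback f (pullback.fst g (β i₀)) :=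
    pullback.lift ((f ≫ g).fiberι η) (MoreMor.fiberMap f g η ≫ qY)
      (by rw [Category.assoc, hqY, fiberMap_fiberι])
  have hX₀ : IsPullback qX (MoreMor.fiberMap f g η) f₀ qY := by
    refine IsPullback.of_right (h₁₂ := pullback.fst f (pullback.fst g (β i₀)))
      (h₂₂ := pullback.fst g (β i₀)) (v₁₃ := f) ?_ (pullback.lift_snd _ _ _)
      (IsPullback.of_hasPullback f (pullback.fst g (β i₀)))
    rw [pullback.lift_fst, hqY]
    exact isPullback_fiberMap f g η
  haveI i1 : LocallyOfFinitePresentation (f₀ ≫ g₀) :=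
    haveI := baseChange_comp_lft f g (β i₀)
    inferInstance
  haveI i2 : QuasiCompact (f₀ ≫ g₀) := baseChange_comp_qc f g (β i₀)
  obtain ⟨k, φ, Xk, Yk, fk, gk, pYk, pXk, hYk, hXk, hQk⟩ :=
    hQ D c hc i₀ f₀ g₀ (MoreMor.fiberMap f g η) _ qY qX hY₀ hX₀ hgen
  -- the family over `Z = D.obj k`
  have hYZ : IsPullback (pYk ≫ pullback.fst g (β i₀)) gk g (β k) := by
    have h2 := hYk.paste_horiz (IsPullback.of_hasPullback g (β i₀))
    rw [hβ φ] at h2
    exact h2
  have hXZ : IsPullback (pXk ≫ pullback.fst f (pullback.fst g (β i₀))) fk f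
      (pYk ≫ pullback.fst g (β i₀)) :=
    hXk.paste_horiz (IsPullback.of_hasPullback f (pullback.fst g (β i₀)))
  have eL := locusMor_of_isPullback (P := PM Q) hfs hYZ hXZ
  have hall : ∀ z : ↥(D.obj k), (β k).base z ∈ ConsProp.locusMor (PM Q) f g := by
    intro z
    have hz : z ∈ ConsProp.locusMor (PM Q) fk gk := hbc (isPullback_fiberMap fk gk z) hQk
    rw [eL] at hz
    exact hz
  -- the image of `Z` contains the generic point
  have htζ : (inv θ ≫ c.π.app k) ≫ β k = b :=
    (Category.assoc _ _ _).trans ((congrArg (inv θ ≫ ·) (hb k)).trans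
      (IsIso.inv_hom_id_assoc θ b))
  obtain ⟨t₀⟩ : Nonempty ↥T' := inferInstance
  have hη : genericPoint S ∈ Set.range (β k).base := by
    refine ⟨(inv θ ≫ c.π.app k).base t₀, ?_⟩
    have := hbη t₀
    rw [← htζ] at this
    exact this
  obtain ⟨V, hVo, hVne, hVsub⟩ := exists_open_subset_range (β k) hη
  obtain ⟨s, hs⟩ := hVne
  refine ⟨s, mem_interior.2 ⟨V, ?_, hVo, hs⟩⟩
  intro s' hs'
  obtain ⟨z, rfl⟩ := hVsub hs'
  exact hall z

end Groth.Agent.Lib.Helper78.GeomMor
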