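import Mathlib
import Groth.Agent.Lib.Helper81.LocalIsoInj

/-!
# Zariski's main theorem, finite-type form over an affine base (helper78)

From Mathlib's `Scheme.Hom.toNormalization` (open immersion into the relative normalization for
separated quasi-finite morphisms of finite type) we deduce: over an affine base such a morphism
factors as an open immersion followed by a *finite* morphism
(`exists_isOpenImmersion_isFinite_of_isAffine`).  The algebraic core
(`exists_fg_isOpenImmersion`): a quasi-compact open subscheme of `Spec B`, of finite type over `R`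
(`B` any `R`-algebra), is an open subscheme of `Spec B₀` for a finitely generated subalgebra `B₀`.
-/

set_option autoImplicit false
set_option linter.style.haveILetI false
universe u
open CategoryTheory AlgebraicGeometry CategoryTheory.Limits

namespace Groth.Agent.Lib.Helper78.ZMTFin

section Ring

variable {R B : Type u} [CommRing R] [CommRing B] [Algebra R B]

/-- elements of `B` that become, after multiplication by a power of `b`, elements of `B₀` -/
theorem exists_pow_mul_mem_of_adjoin (B₀ : Subalgebra R B) (b : B) (hb : b ∈ B₀)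
    (G : Set (Localization.Away b))
    (hG : ∀ g ∈ G, ∃ (n : ℕ) (a : B), a ∈ B₀ ∧
      g * algebraMap B (Localization.Away b) b ^ n = algebraMap B (Localization.Away b) a)
    (y : Localization.Away b) (hy : y ∈ Algebra.adjoin R G) :
    ∃ (n : ℕ) (a : B), a ∈ B₀ ∧
      y * algebraMap B (Localization.Away b) b ^ n = algebraMap B (Localization.Away b) a := by
  induction hy using Algebra.adjoin_induction with
  | mem g hg => exact hG g hg
  | algebraMap r =>
    refine ⟨0, algebraMap R B r, B₀.algebraMap_mem r, ?_⟩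
    rw [pow_zero, mul_one, ← IsScalarTower.algebraMap_apply]
  | add y y' _ _ h h' =>
    obtain ⟨n, a, ha, e⟩ := h
    obtain ⟨n', a', ha', e'⟩ := h'
    refine ⟨n + n', a * b ^ n' + a' * b ^ n,
      B₀.add_mem (B₀.mul_mem ha (B₀.pow_mem hb _)) (B₀.mul_mem ha' (B₀.pow_mem hb _)), ?_⟩
    rw [map_add, map_mul, map_mul, map_pow, map_pow, ← e, ← e']
    ring
  | mul y y' _ _ h h' =>
    obtain ⟨n, a, ha, e⟩ := h
    obtain ⟨n', a', ha', e'⟩ := h'
    refine ⟨n + n', a * a', B₀.mul_mem ha ha', ?_⟩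
    rw [map_mul, ← e, ← e']
    ring

/-- **Key algebraic step of the finite-type form of Zariski's main theorem.** -/
theorem exists_fg_subalgebra (s : Finset B)
    (hs : ∀ b ∈ s, Algebra.FiniteType R (Localization.Away b)) :
    ∃ B₀ : Subalgebra R B, B₀.FG ∧ ∀ b ∈ s, b ∈ B₀ ∧ ∀ x : B, ∃ n : ℕ, b ^ n * x ∈ B₀ := by
  classical
  -- generators of the localizations, with numerators
  have h1 : ∀ b ∈ s, ∃ t : Finset B, ∀ B₀ : Subalgebra R B, b ∈ B₀ → (↑t : Set B) ⊆ B₀ →
      ∀ x : B, ∃ n : ℕ, b ^ n * x ∈ B₀ := by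
    intro b hb
    obtain ⟨G, hG⟩ := (hs b hb).out
    choose n a hna using fun g : Localization.Away b => IsLocalization.Away.surj b g
    refine ⟨G.image a, ?_⟩
    intro B₀ hbB₀ ht x
    have hx : algebraMap B (Localization.Away b) x ∈ Algebra.adjoin R (↑G : Set _) := by
      rw [hG]; trivial
    obtain ⟨m, c, hc, e⟩ := exists_pow_mul_mem_of_adjoin B₀ b hbB₀ (↑G) (fun g hg =>
      ⟨n g, a g, ht (Finset.mem_coe.mpr (Finset.mem_image_of_mem a hg)), hna g⟩) _ hx
    rw [← map_pow, ← map_mul, IsLocalization.eq_iff_exists (Submonoid.powers b)] at e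
    obtain ⟨⟨_, k, rfl⟩, hk⟩ := e
    refine ⟨k + m, ?_⟩
    have : b ^ (k + m) * x = b ^ k * c := by
      rw [pow_add, mul_assoc, mul_comm (b ^ m) x]
      exact hk
    rw [this]
    exact B₀.mul_mem (B₀.pow_mem hbB₀ _) hc
  choose! t ht using h1
  refine ⟨Algebra.adjoin R (↑(s ∪ s.biUnion t) : Set B), ⟨_, rfl⟩, ?_⟩
  intro b hb
  have hbmem : b ∈ Algebra.adjoin R (↑(s ∪ s.biUnion t) : Set B) :=
    Algebra.subset_adjoin (Finset.mem_coe.mpr (Finset.mem_union_left _ hb))
  refine ⟨hbmem, ht b hb _ hbmem ?_⟩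
  intro x hx
  exact Algebra.subset_adjoin (Finset.mem_coe.mpr (Finset.mem_union_right _
    (Finset.mem_biUnion.mpr ⟨b, hb, hx⟩)))

end Ring

section Ring

variable {R B : Type u} [CommRing R] [CommRing B] [Algebra R B]

/-- the localization of `B` away from `b` is also the localization of `B₀` away from `b` -/
theorem isLocalization_away_of_forall (B₀ : Subalgebra R B) (b : B) (hb : b ∈ B₀)
    (h : ∀ x : B, ∃ n : ℕ, b ^ n * x ∈ B₀) :
    letI : Algebra B₀ (Localization.Away b) :=
      ((algebraMap B (Localization.Away b)).comp B₀.val.toRingHom).toAlgebra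
    IsLocalization.Away (⟨b, hb⟩ : B₀) (Localization.Away b) := by
  letI : Algebra B₀ (Localization.Away b) :=
    ((algebraMap B (Localization.Away b)).comp B₀.val.toRingHom).toAlgebra
  have hmap : ∀ c : B₀, algebraMap B₀ (Localization.Away b) c =
      algebraMap B (Localization.Away b) c.1 := fun c => rfl
  rw [IsLocalization.Away, isLocalization_iff]
  refine ⟨?_, ?_, ?_⟩
  · rintro ⟨_, k, rfl⟩
    rw [hmap]
    exact IsLocalization.map_units (Localization.Away b) (⟨b ^ k, k, rfl⟩ : Submonoid.powers b)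
  · intro z
    obtain ⟨n, a, e⟩ := IsLocalization.Away.surj b z
    obtain ⟨m, hm⟩ := h a
    refine ⟨(⟨b ^ m * a, hm⟩, ⟨(⟨b, hb⟩ : B₀) ^ (n + m), n + m, rfl⟩), ?_⟩
    rw [hmap, hmap]
    show z * algebraMap B (Localization.Away b) (((⟨b, hb⟩ : B₀) ^ (n + m) : B₀) : B) =
      algebraMap B (Localization.Away b) (b ^ m * a)
    rw [SubmonoidClass.coe_pow]
    show z * algebraMap B (Localization.Away b) (b ^ (n + m)) = _
    rw [map_mul, ← e, map_pow, map_pow, pow_add]
    ring
  · intro c c' e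
    rw [hmap, hmap, IsLocalization.eq_iff_exists (Submonoid.powers b)] at e
    obtain ⟨⟨_, k, rfl⟩, hk⟩ := e
    refine ⟨⟨(⟨b, hb⟩ : B₀) ^ k, k, rfl⟩, Subtype.ext ?_⟩
    show (((⟨b, hb⟩ : B₀) ^ k * c : B₀) : B) = (((⟨b, hb⟩ : B₀) ^ k * c' : B₀) : B)
    rw [MulMemClass.coe_mul, MulMemClass.coe_mul, SubmonoidClass.coe_pow]
    exact hk

/-- primes of `B` in `D(b)` are determined by their trace on `B₀` -/
theorem prime_eq_of_comap_eq (B₀ : Subalgebra R B) (b : B) (hb : b ∈ B₀)
    (h : ∀ x : B, ∃ n : ℕ, b ^ n * x ∈ B₀) (p p' : Ideal B) [p.IsPrime] [p'.IsPrime]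
    (hbp : b ∉ p) (e : p.comap B₀.val.toRingHom = p'.comap B₀.val.toRingHom) : p = p' := by
  have hbp' : b ∉ p' := by
    intro hb'
    have : (⟨b, hb⟩ : B₀) ∈ p'.comap B₀.val.toRingHom := hb'
    rw [← e] at this
    exact hbp this
  have key : ∀ (q q' : Ideal B) [q.IsPrime] [q'.IsPrime], b ∉ q' →
      q.comap B₀.val.toRingHom = q'.comap B₀.val.toRingHom → q ≤ q' := by
    intro q q' _ _ hbq' e x hx
    obtain ⟨n, hn⟩ := h x
    have h1 : (⟨b ^ n * x, hn⟩ : B₀) ∈ q.comap B₀.val.toRingHom := q.mul_mem_left _ hx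
    rw [e] at h1
    have h2 : b ^ n * x ∈ q' := h1
    rcases Ideal.IsPrime.mem_or_mem inferInstance h2 with h3 | h3
    · exact absurd (Ideal.IsPrime.mem_of_pow_mem inferInstance n h3) hbq'
    · exact h3
  exact le_antisymm (key p p' hbp' e) (key p' p hbp e.symm)

end Ring

variable {R B : Type u} [CommRing R] [CommRing B] [Algebra R B]

/-- the localizations covering a quasi-compact open of finite type are of finite type -/
theorem finiteType_away_of_subset_range {X : Scheme.{u}} (j : X ⟶ Spec (.of B))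
    [IsOpenImmersion j]
    [LocallyOfFiniteType (j ≫ Spec.map (CommRingCat.ofHom (algebraMap R B)))] (b : B)
    (hb : (PrimeSpectrum.basicOpen b : Set (PrimeSpectrum B)) ⊆ Set.range j.base) :
    Algebra.FiniteType R (Localization.Away b) := by
  let i_b : Spec (.of (Localization.Away b)) ⟶ Spec (.of B) :=
    Spec.map (CommRingCat.ofHom (algebraMap B (Localization.Away b)))
  have hr : Set.range i_b.base ⊆ Set.range j.base := by
    have : Set.range i_b.base = (PrimeSpectrum.basicOpen b : Set (PrimeSpectrum B)) :=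
      PrimeSpectrum.localization_away_comap_range (Localization.Away b) b
    rw [this]
    exact hb
  let l : Spec (.of (Localization.Away b)) ⟶ X := IsOpenImmersion.lift j i_b hr
  have hl : l ≫ j = i_b := IsOpenImmersion.lift_fac _ _ _
  haveI : IsOpenImmersion (l ≫ j) := by rw [hl]; infer_instance
  haveI : IsOpenImmersion l := IsOpenImmersion.of_comp l j
  have h1 : LocallyOfFiniteType (l ≫ j ≫ Spec.map (CommRingCat.ofHom (algebraMap R B))) :=
    inferInstance
  have e : l ≫ j ≫ Spec.map (CommRingCat.ofHom (algebraMap R B)) =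
      Spec.map (CommRingCat.ofHom (algebraMap R (Localization.Away b))) := by
    rw [← Category.assoc, hl, ← Spec.map_comp, ← CommRingCat.ofHom_comp,
      ← IsScalarTower.algebraMap_eq]
  rw [e, HasRingHomProperty.Spec_iff (P := @LocallyOfFiniteType)] at h1
  exact RingHom.finiteType_algebraMap.mp h1

variable {R B : Type u} [CommRing R] [CommRing B] [Algebra R B]

/-- **Finite-type form of Zariski's main theorem, algebraic core**: a quasi-compact open
subscheme of `Spec B`, of finite type over `R`, is already an open subscheme of `Spec B₀` for a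
finitely generated `R`-subalgebra `B₀` of `B`. -/
theorem exists_fg_isOpenImmersion {X : Scheme.{u}} (j : X ⟶ Spec (.of B))
    [IsOpenImmersion j] [CompactSpace X]
    [LocallyOfFiniteType (j ≫ Spec.map (CommRingCat.ofHom (algebraMap R B)))] :
    ∃ B₀ : Subalgebra R B, B₀.FG ∧
      IsOpenImmersion (j ≫ Spec.map (CommRingCat.ofHom B₀.val.toRingHom)) := by
  classical
  have hU : IsCompact (Set.range j.base) ∧ IsOpen (Set.range j.base) :=
    ⟨isCompact_range j.continuous, j.isOpenEmbedding.isOpen_range⟩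
  obtain ⟨s, hsfin, hs⟩ := (isCompact_open_iff_eq_finite_iUnion_of_isTopologicalBasis
    (fun r : B => (PrimeSpectrum.basicOpen r : Set (PrimeSpectrum B)))
    PrimeSpectrum.isTopologicalBasis_basic_opens PrimeSpectrum.isCompact_basicOpen
    (Set.range j.base)).mp hU
  have hsub : ∀ b ∈ s, (PrimeSpectrum.basicOpen b : Set (PrimeSpectrum B)) ⊆ Set.range j.base := by
    intro b hb
    rw [hs]
    exact Set.subset_biUnion_of_mem (u := fun r : B =>
      (PrimeSpectrum.basicOpen r : Set (PrimeSpectrum B))) hb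
  obtain ⟨B₀, hfg, hB₀⟩ := exists_fg_subalgebra (R := R) hsfin.toFinset (fun b hb =>
    finiteType_away_of_subset_range j b (hsub b (hsfin.mem_toFinset.mp hb)))
  refine ⟨B₀, hfg, ?_⟩
  have hB₀' : ∀ b ∈ s, b ∈ B₀ ∧ ∀ x : B, ∃ n : ℕ, b ^ n * x ∈ B₀ :=
    fun b hb => hB₀ b (hsfin.mem_toFinset.mpr hb)
  -- the cover of `X`
  let U : s → X.Opens := fun b => j ⁻¹ᵁ (PrimeSpectrum.basicOpen (b : B))
  have hcov : ∀ x : X, ∃ b : s, x ∈ U b := by
    intro x
    have hx := hs.subset (Set.mem_range_self x)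
    obtain ⟨b, hb, hxb⟩ := Set.mem_iUnion₂.mp hx
    exact ⟨⟨b, hb⟩, hxb⟩
  have hUtop : ⨆ b, U b = ⊤ := by
    rw [eq_top_iff]
    intro x _
    obtain ⟨b, hb⟩ := hcov x
    exact TopologicalSpace.Opens.mem_iSup.mpr ⟨b, hb⟩
  refine Groth.Agent.Lib.Helper81.LocalIsoInj.isOpenImmersion_of_injective _ U hUtop ?_ ?_
  · rintro ⟨b, hb⟩
    obtain ⟨hbB₀, hx⟩ := hB₀' b hb
    let i_b : Spec (.of (Localization.Away b)) ⟶ Spec (.of B) :=
      Spec.map (CommRingCat.ofHom (algebraMap B (Localization.Away b)))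
    have hrange : Set.range ((U ⟨b, hb⟩).ι ≫ j).base = Set.range i_b.base := by
      have h1 : Set.range i_b.base = (PrimeSpectrum.basicOpen b : Set (PrimeSpectrum B)) :=
        PrimeSpectrum.localization_away_comap_range (Localization.Away b) b
      rw [h1, Scheme.Hom.comp_base, TopCat.coe_comp, Set.range_comp, Scheme.Opens.range_ι]
      exact Set.image_preimage_eq_of_subset (hsub b hb)
    let e := IsOpenImmersion.isoOfRangeEq ((U ⟨b, hb⟩).ι ≫ j) i_b hrange
    have he : e.hom ≫ i_b = (U ⟨b, hb⟩).ι ≫ j := IsOpenImmersion.isoOfRangeEq_hom_fac _ _ _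
    letI : Algebra B₀ (Localization.Away b) :=
      ((algebraMap B (Localization.Away b)).comp B₀.val.toRingHom).toAlgebra
    haveI : IsLocalization.Away (⟨b, hbB₀⟩ : B₀) (Localization.Away b) :=
      isLocalization_away_of_forall B₀ b hbB₀ hx
    have hopen : IsOpenImmersion (Spec.map (CommRingCat.ofHom
        (algebraMap B₀ (Localization.Away b)))) :=
      IsOpenImmersion.of_isLocalization (⟨b, hbB₀⟩ : B₀)
    have e2 : (U ⟨b, hb⟩).ι ≫ j ≫ Spec.map (CommRingCat.ofHom B₀.val.toRingHom) =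
        e.hom ≫ Spec.map (CommRingCat.ofHom (algebraMap B₀ (Localization.Away b))) := by
      rw [← Category.assoc, ← he, Category.assoc, ← Spec.map_comp, ← CommRingCat.ofHom_comp]
    rw [e2]
    infer_instance
  · intro x x' hxx'
    obtain ⟨⟨b, hb⟩, hxb⟩ := hcov x
    obtain ⟨hbB₀, hx⟩ := hB₀' b hb
    apply j.isOpenEmbedding.injective
    have h1 : (Spec.map (CommRingCat.ofHom B₀.val.toRingHom)).base (j.base x) =
        (Spec.map (CommRingCat.ofHom B₀.val.toRingHom)).base (j.base x') := by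
      rw [← Scheme.Hom.comp_apply, ← Scheme.Hom.comp_apply]
      exact hxx'
    obtain ⟨p, hp⟩ : ∃ p : PrimeSpectrum B, p = j.base x := ⟨_, rfl⟩
    obtain ⟨p', hp'⟩ : ∃ p' : PrimeSpectrum B, p' = j.base x' := ⟨_, rfl⟩
    rw [← hp, ← hp'] at h1 ⊢
    have hxb' : b ∉ p.asIdeal := by rw [hp]; exact hxb
    haveI := p.isPrime
    haveI := p'.isPrime
    have h2 : p.asIdeal.comap B₀.val.toRingHom = p'.asIdeal.comap B₀.val.toRingHom :=
      congrArg PrimeSpectrum.asIdeal h1
    have h3 := prime_eq_of_comap_eq B₀ b hbB₀ hx p.asIdeal p'.asIdeal hxb' h2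
    exact PrimeSpectrum.ext h3

/-- **Zariski's main theorem, finite-type form over an affine base**: a separated quasi-finite
morphism of finite type to an affine scheme factors as an open immersion followed by a finite
morphism. -/
theorem exists_isOpenImmersion_isFinite_of_isAffine {X Y : Scheme.{u}} (f : X ⟶ Y) [IsAffine Y]
    [IsSeparated f] [LocallyQuasiFinite f] [LocallyOfFiniteType f] [QuasiCompact f] :
    ∃ (T : Scheme.{u}) (j : X ⟶ T) (π : T ⟶ Y), IsOpenImmersion j ∧ IsFinite π ∧ j ≫ π = f := by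
  haveI : IsAffine f.normalization := isAffine_of_isAffineHom f.fromNormalization
  haveI : CompactSpace X := QuasiCompact.compactSpace_of_compactSpace f
  let φ : Γ(Y, ⊤) ⟶ Γ(f.normalization, ⊤) := f.fromNormalization.appTop
  letI : Algebra Γ(Y, ⊤) Γ(f.normalization, ⊤) := φ.hom.toAlgebra
  have hint : Algebra.IsIntegral Γ(Y, ⊤) Γ(f.normalization, ⊤) := by
    have := f.fromNormalization.isIntegral_app ⊤ (isAffineOpen_top Y)
    exact ⟨this⟩
  let j : X ⟶ Spec (.of Γ(f.normalization, ⊤)) := f.toNormalization ≫ f.normalization.isoSpec.hom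
  have hj : j ≫ Spec.map (CommRingCat.ofHom (algebraMap Γ(Y, ⊤) Γ(f.normalization, ⊤))) =
      f ≫ Y.isoSpec.hom := by
    have h1 : CommRingCat.ofHom (algebraMap Γ(Y, ⊤) Γ(f.normalization, ⊤)) = φ := rfl
    rw [h1]
    show (f.toNormalization ≫ f.normalization.isoSpec.hom) ≫ Spec.map f.fromNormalization.appTop = _
    rw [Category.assoc, Scheme.isoSpec_hom_naturality, ← Category.assoc,
      Scheme.Hom.toNormalization_fromNormalization]
  haveI : LocallyOfFiniteType
      (j ≫ Spec.map (CommRingCat.ofHom (algebraMap Γ(Y, ⊤) Γ(f.normalization, ⊤)))) := by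
    rw [hj]; infer_instance
  obtain ⟨B₀, hfg, hopen⟩ := exists_fg_isOpenImmersion (R := Γ(Y, ⊤)) j
  haveI : Algebra.FiniteType Γ(Y, ⊤) B₀ := (Subalgebra.fg_iff_finiteType B₀).mp hfg
  haveI : Algebra.IsIntegral Γ(Y, ⊤) B₀ :=
    Algebra.IsIntegral.of_injective B₀.val Subtype.val_injective
  haveI : Module.Finite Γ(Y, ⊤) B₀ := Algebra.IsIntegral.finite
  refine ⟨Spec (.of B₀), j ≫ Spec.map (CommRingCat.ofHom B₀.val.toRingHom),
    Spec.map (CommRingCat.ofHom (algebraMap Γ(Y, ⊤) B₀)) ≫ Y.isoSpec.inv, hopen, ?_, ?_⟩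
  · haveI : IsFinite (Spec.map (CommRingCat.ofHom (algebraMap Γ(Y, ⊤) B₀))) := by
      rw [IsFinite.SpecMap_iff]
      exact RingHom.finite_algebraMap.mpr inferInstance
    infer_instance
  · have h2 : Spec.map (CommRingCat.ofHom B₀.val.toRingHom) ≫
        Spec.map (CommRingCat.ofHom (algebraMap Γ(Y, ⊤) B₀)) =
        Spec.map (CommRingCat.ofHom (algebraMap Γ(Y, ⊤) Γ(f.normalization, ⊤))) := by
      rw [← Spec.map_comp, ← CommRingCat.ofHom_comp]
      rfl
    rw [Category.assoc, ← Category.assoc (Spec.map _), h2, ← Category.assoc, hj, Category.assoc,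
      Iso.hom_inv_id, Category.comp_id]

end Groth.Agent.Lib.Helper78.ZMTFin
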