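import Mathlib
import Groth.Agent.Lib.Helper78.FibClosureMor
import Groth.Agent.Lib.Helper78.GeomMor
import Groth.Agent.Lib.Helper78.ZMTFin
import Groth.Agent.S0084
import Groth.Agent.S3445
import Groth.Agent.S9187

/-!
# The locus of finite fibre maps (EGA IV 9.6.1 (vi)) — helper78

For `X ⟶ Y ⟶ S` of finite presentation, the set of `s ∈ S` over which the fibre map
`X_s ⟶ Y_s` is finite is locally constructible.  The engine is the constructible-property
framework of `ConsMor`, the quasi-finite and separated loci, and Zariski's main theorem in the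
finite type case over an affine base (`ZMTFin`).
-/

set_option autoImplicit false
set_option linter.style.haveILetI false
open CategoryTheory AlgebraicGeometry CategoryTheory.Limits Topology
universe u

namespace Groth.Agent.Lib.Helper78.FinLocus

open Groth.Agent.Lib.Helper78.FibClosure Groth.Agent.Lib.Helper78.FibClosureMor
  Groth.Agent.Lib.Helper78.GeomPair Groth.Agent.Lib.Helper78.FibreCons
  Groth.Agent.Lib.Helper78.ConsMor Groth.Agent.Lib.Helper78.GeomMor
  Groth.Agent.Lib.Helper78.ConsOne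

/-! ### part 1 -/

/-- the range of a base change -/
theorem range_of_isPullback {X' Y' X Y : Scheme.{u}} {q : X' ⟶ X} {f' : X' ⟶ Y'} {f : X ⟶ Y}
    {p : Y' ⟶ Y} (hP : IsPullback q f' f p) :
    Set.range f'.base = p.base ⁻¹' Set.range f.base := by
  ext y
  constructor
  · rintro ⟨x, rfl⟩
    refine ⟨q.base x, ?_⟩
    rw [← Scheme.Hom.comp_apply, ← Scheme.Hom.comp_apply, hP.w]
  · rintro ⟨x, hx⟩
    obtain ⟨z, -, hz⟩ := Scheme.exists_preimage_of_isPullback hP x y hx
    exact ⟨z, hz⟩

theorem range_fst_of_isPullback {X' Y' X Y : Scheme.{u}} {q : X' ⟶ X} {f' : X' ⟶ Y'} {f : X ⟶ Y}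
    {p : Y' ⟶ Y} (hP : IsPullback q f' f p) :
    Set.range q.base = f.base ⁻¹' Set.range p.base :=
  range_of_isPullback hP.flip

/-- separatedness of a base change along a preimmersion, in terms of the diagonal of `f` -/
theorem isSeparated_iff_of_isPullback {X' Y' X Y : Scheme.{u}} {q : X' ⟶ X} {f' : X' ⟶ Y'}
    {f : X ⟶ Y} {p : Y' ⟶ Y} (hP : IsPullback q f' f p) [IsPreimmersion p] :
    IsSeparated f' ↔
      IsClosed (Subtype.val ⁻¹' (Set.range (pullback.diagonal f).base) :
        Set ↥((pullback.snd f f ≫ f).base ⁻¹' Set.range p.base)) := by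
  have hD := isPullback_diagonal hP
  have hM := isPullback_map_of_isPullback hP
  rw [isSeparated_iff_isClosed_range_diagonal, range_of_isPullback hD]
  haveI : IsPreimmersion (pullback.map f' f' f f q q p hP.w.symm hP.w.symm) :=
    MorphismProperty.of_isPullback (P := @IsPreimmersion) hM.flip inferInstance
  exact isClosed_preimage_iff_subtype
    (pullback.map f' f' f f q q p hP.w.symm hP.w.symm).isEmbedding (range_fst_of_isPullback hM) _

/-- an open immersion is finite iff its range is closed -/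
theorem isFinite_iff_isClosed_range {X T : Scheme.{u}} (j : X ⟶ T) [IsOpenImmersion j] :
    IsFinite j ↔ IsClosed (Set.range j.base) := by
  constructor
  · intro h
    exact j.isClosedMap.isClosed_range
  · intro h
    haveI : IsClosedImmersion j := IsClosedImmersion.of_isPreimmersion j h
    infer_instance

/-- **finiteness of a base change of `j ≫ π`** (`j` an open immersion, `π` finite) along a
preimmersion `p`, in terms of the range of `j`. -/
theorem isFinite_iff_of_isPullback {X' Y' X T Y : Scheme.{u}} (j : X ⟶ T) (π : T ⟶ Y)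
    [IsOpenImmersion j] [IsFinite π] {q : X' ⟶ X} {f' : X' ⟶ Y'} {p : Y' ⟶ Y}
    (hP : IsPullback q f' (j ≫ π) p) [IsPreimmersion p] :
    IsFinite f' ↔
      IsClosed (Subtype.val ⁻¹' (Set.range j.base) : Set ↥(π.base ⁻¹' Set.range p.base)) := by
  -- the base change of `π`
  let T' := pullback π p
  let π' : T' ⟶ Y' := pullback.snd π p
  let ιT : T' ⟶ T := pullback.fst π p
  have hT : IsPullback ιT π' π p := IsPullback.of_hasPullback π p
  let j' : X' ⟶ T' := pullback.lift (q ≫ j) f' (by rw [Category.assoc]; exact hP.w)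
  have hj'1 : j' ≫ ιT = q ≫ j := pullback.lift_fst _ _ _
  have hj'2 : j' ≫ π' = f' := pullback.lift_snd _ _ _
  have hJ : IsPullback q j' j ιT := by
    refine IsPullback.of_bot ?_ hj'1.symm hT
    rw [hj'2]
    exact hP
  haveI : IsOpenImmersion j' := MorphismProperty.of_isPullback (P := @IsOpenImmersion) hJ inferInstance
  haveI : IsFinite π' := MorphismProperty.of_isPullback (P := @IsFinite) hT inferInstance
  haveI : IsPreimmersion ιT :=
    MorphismProperty.of_isPullback (P := @IsPreimmersion) hT.flip inferInstance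
  have h1 : IsFinite f' ↔ IsFinite j' := by
    constructor
    · intro h
      haveI : IsFinite (j' ≫ π') := by rw [hj'2]; exact h
      exact IsFinite.of_comp j' π'
    · intro h
      rw [← hj'2]
      infer_instance
  rw [h1, isFinite_iff_isClosed_range, range_of_isPullback hJ]
  exact isClosed_preimage_iff_subtype ιT.isEmbedding (range_fst_of_isPullback hT) _

/-! ### part 2 -/

theorem isClosed_subtype_congr {W : Type*} [TopologicalSpace W] {A A' : Set W} (h : A = A')
    (Z : Set W) :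
    IsClosed (Subtype.val ⁻¹' Z : Set ↥A) ↔ IsClosed (Subtype.val ⁻¹' Z : Set ↥A') := by
  subst h; rfl

/-- the locus of finite fibre maps for `j ≫ π` (`j` an open immersion, `π` finite) -/
theorem setOf_isFinite_fiberMap_eq {X T Y S : Scheme.{u}} (j : X ⟶ T) (π : T ⟶ Y) (g : Y ⟶ S)
    [IsOpenImmersion j] [IsFinite π] :
    {s : S | IsFinite (MoreMor.fiberMap (j ≫ π) g s)} =
      fibLocus ΦClosed (π ≫ g) (Set.range j.base) (Set.range j.base) := by
  ext s
  have h := isFinite_iff_of_isPullback j π (isPullback_fiberMap (j ≫ π) g s)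
  have e : π.base ⁻¹' Set.range (g.fiberι s).base = (π ≫ g).base ⁻¹' {s} := by
    rw [g.range_fiberι s]
    rfl
  exact h.trans (isClosed_subtype_congr e _)

/-- **the finite locus, case of a separated quasi-finite morphism to an affine scheme** -/
theorem dichotomy_isFinite_of_isAffine {X Y S : Scheme.{u}} (f : X ⟶ Y) (g : Y ⟶ S)
    [IsIntegral S] [IsNoetherian S] [IsAffine Y] [LocallyOfFiniteType g] [QuasiCompact g]
    [LocallyOfFiniteType f] [QuasiCompact f] [IsSeparated f] [LocallyQuasiFinite f] :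
    (interior {s : S | IsFinite (MoreMor.fiberMap f g s)}).Nonempty ∨
      (interior {s : S | IsFinite (MoreMor.fiberMap f g s)}ᶜ).Nonempty := by
  obtain ⟨T, j, π, hj, hπ, rfl⟩ :=
    Groth.Agent.Lib.Helper78.ZMTFin.exists_isOpenImmersion_isFinite_of_isAffine f
  rw [setOf_isFinite_fiberMap_eq]
  haveI : IsNoetherian T := noetherianSpace_of_finiteType (π ≫ g)
  have hc : IsConstructible (Set.range j.base) :=
    ConsNoeth.isConstructible_of_isOpen_noeth j.isOpenEmbedding.isOpen_range
  exact hasDichotomy_closed (π ≫ g) _ _ hc hc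

/-! ### part 3 -/

/-- fibres of a base change along a preimmersion -/
theorem isDiscrete_preimage_singleton_iff_of_isPullback {X' Y' X Y : Scheme.{u}} {q : X' ⟶ X}
    {f' : X' ⟶ Y'} {f : X ⟶ Y} {p : Y' ⟶ Y} (hP : IsPullback q f' f p) [IsPreimmersion p]
    (y' : Y') :
    _root_.IsDiscrete (f'.base ⁻¹' {y'}) ↔ _root_.IsDiscrete (f.base ⁻¹' {p.base y'}) := by
  haveI : IsPreimmersion q :=
    MorphismProperty.of_isPullback (P := @IsPreimmersion) hP.flip inferInstance
  have e1 : f'.base ⁻¹' {y'} = q.base ⁻¹' (f.base ⁻¹' {p.base y'}) := by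
    ext x'
    simp only [Set.mem_preimage, Set.mem_singleton_iff]
    have hw : f.base (q.base x') = p.base (f'.base x') := by
      rw [← Scheme.Hom.comp_apply, ← Scheme.Hom.comp_apply, hP.w]
    rw [hw]
    exact ⟨fun h => by rw [h], fun h => p.isEmbedding.injective h⟩
  have e2 : f.base ⁻¹' {p.base y'} = q.base '' (f'.base ⁻¹' {y'}) := by
    ext x
    constructor
    · intro hx
      obtain ⟨z, hz1, hz2⟩ := Scheme.exists_preimage_of_isPullback hP x y' hx
      exact ⟨z, hz2, hz1⟩
    · rintro ⟨z, hz, rfl⟩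
      rw [e1] at hz
      exact hz
  constructor
  · intro h
    rw [e2]
    exact h.image q.isEmbedding.isInducing
  · intro h
    rw [e1]
    exact h.preimage q.continuous.continuousOn q.isEmbedding.injective

/-- fibrewise quasi-finite over an open of the base implies quasi-finite over that open -/
theorem locallyQuasiFinite_restrict_of_forall {X Y S : Scheme.{u}} (f : X ⟶ Y) (g : Y ⟶ S)
    [LocallyOfFiniteType f] (V' : S.Opens)
    (h : ∀ s ∈ V', LocallyQuasiFinite (MoreMor.fiberMap f g s)) :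
    LocallyQuasiFinite (f ∣_ (g ⁻¹ᵁ V')) := by
  rw [locallyQuasiFinite_iff_isDiscrete_preimage_singleton]
  intro y'
  have hs : g.base ((g ⁻¹ᵁ V').ι.base y') ∈ V' := y'.2
  rw [isDiscrete_preimage_singleton_iff_of_isPullback
    (isPullback_morphismRestrict f (g ⁻¹ᵁ V')).flip y']
  set y := (g ⁻¹ᵁ V').ι.base y' with hy
  have hq := h _ hs
  haveI : LocallyOfFiniteType (MoreMor.fiberMap f g (g.base y)) :=
    MorphismProperty.of_isPullback (P := @LocallyOfFiniteType)
      (isPullback_fiberMap f g (g.base y)) inferInstance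
  have hy2 : y ∈ Set.range (g.fiberι (g.base y)).base := by
    rw [g.range_fiberι]; rfl
  obtain ⟨ys, hys⟩ := hy2
  have h3 := (locallyQuasiFinite_iff_isDiscrete_preimage_singleton.mp hq) ys
  rw [isDiscrete_preimage_singleton_iff_of_isPullback (isPullback_fiberMap f g (g.base y)) ys,
    hys] at h3
  exact h3

/-! ### part 4 -/

/-- fibrewise separated over a nonempty open of an integral Noetherian base implies separated
over a smaller nonempty open -/
theorem exists_open_isSeparated_restrict {X Y S : Scheme.{u}} (f : X ⟶ Y) (g : Y ⟶ S)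
    [IsIntegral S] [IsNoetherian S] [LocallyOfFiniteType g] [QuasiCompact g]
    [LocallyOfFiniteType (f ≫ g)] [QuasiCompact (f ≫ g)] (V₁ : Set S) (hV₁ : IsOpen V₁)
    (hne : V₁.Nonempty) (h : ∀ s ∈ V₁, IsSeparated (MoreMor.fiberMap f g s)) :
    ∃ V'' : Set S, IsOpen V'' ∧ V''.Nonempty ∧ V'' ⊆ V₁ ∧
      ∀ V' : S.Opens, (V' : Set S) ⊆ V'' → IsSeparated (f ∣_ (g ⁻¹ᵁ V')) := by
  haveI : IsNoetherian Y := noetherianSpace_of_finiteType g
  haveI : IsNoetherian X := noetherianSpace_of_finiteType (f ≫ g)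
  haveI : LocallyOfFiniteType f := locallyOfFiniteType_of_comp f g
  haveI : IsNoetherian (pullback f f) := noetherianSpace_of_finiteType (pullback.snd f f)
  have hZ : IsConstructible (Set.range (pullback.diagonal f).base) := by
    have hlc : IsLocallyClosed (Set.range (pullback.diagonal f).base) :=
      (pullback.diagonal f).isLocallyClosed_range
    obtain ⟨U, C, hU, hC, e⟩ := hlc
    rw [e]
    exact (ConsNoeth.isConstructible_of_isOpen_noeth hU).inter
      (ConsNoeth.isConstructible_of_isOpen_noeth hC.isOpen_compl).of_compl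
  obtain ⟨V, hV, hVne, hVg⟩ := closureGood_of_isConstructible (pullback.snd f f ≫ f ≫ g) hZ
  refine ⟨V₁ ∩ V, hV₁.inter hV, nonempty_preirreducible_inter hV₁ hV hne hVne,
    Set.inter_subset_left, ?_⟩
  intro V' hV'
  rw [isSeparated_iff_of_isPullback (isPullback_morphismRestrict f (g ⁻¹ᵁ V')).flip,
    subtype_isClosed_iff]
  rintro x ⟨hx1, hx2⟩
  have hx3 : (pullback.snd f f ≫ f ≫ g).base x ∈ V' := by
    rw [Scheme.Opens.range_ι] at hx2
    exact hx2
  obtain ⟨hs1, hs2⟩ := hV' hx3
  have hsep := h _ hs1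
  rw [isSeparated_fiberMap_iff, subtype_isClosed_iff] at hsep
  refine hsep ⟨hVg _ hs2 ⟨closure_mono Set.inter_subset_left hx1, rfl⟩, rfl⟩

/-! ### part 5 -/

theorem interior_compl_nonempty_of_restrict {S : Scheme.{u}} (V : S.Opens) (E : Set S)
    (h : (interior (V.ι.base ⁻¹' E)ᶜ).Nonempty) : (interior Eᶜ).Nonempty := by
  obtain ⟨x, hx⟩ := h
  refine ⟨V.ι.base x, interior_maximal ?_
    (V.ι.isOpenEmbedding.isOpenMap _ isOpen_interior) ⟨x, hx, rfl⟩⟩
  rintro _ ⟨z, hz, rfl⟩ hE
  exact (interior_subset hz : z ∈ (V.ι.base ⁻¹' E)ᶜ) hE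

variable {P : MorphismProperty Scheme.{u}}

/-- the fibre map of the restriction over an open of `Y` is a base change of the fibre map -/
theorem exists_isPullback_fiberMap_restrict {X Y S : Scheme.{u}} (f : X ⟶ Y) (g : Y ⟶ S)
    (U : Y.Opens) (s : S) :
    ∃ (n : ((f ∣_ U) ≫ U.ι ≫ g).fiber s ⟶ (f ≫ g).fiber s),
      IsPullback n (MoreMor.fiberMap (f ∣_ U) (U.ι ≫ g) s) (MoreMor.fiberMap f g s)
        (MoreMor.fiberMap U.ι g s) := by
  have A := isPullback_fiberMap f g s
  have B := isPullback_fiberMap (f ∣_ U) (U.ι ≫ g) s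
  have C := (isPullback_morphismRestrict f U).flip
  have BC := B.paste_horiz C
  have hm : MoreMor.fiberMap U.ι g s ≫ g.fiberι s = (U.ι ≫ g).fiberι s ≫ U.ι :=
    fiberMap_fiberι U.ι g s
  have w : ((((f ∣_ U) ≫ U.ι ≫ g).fiberι s) ≫ (f ⁻¹ᵁ U).ι) ≫ f =
      (MoreMor.fiberMap (f ∣_ U) (U.ι ≫ g) s ≫ MoreMor.fiberMap U.ι g s) ≫ g.fiberι s := by
    rw [Category.assoc _ _ (g.fiberι s), hm]
    exact BC.w
  refine ⟨A.lift _ _ w, IsPullback.of_right ?_ (A.lift_snd _ _ w) A⟩
  rw [A.lift_fst, hm]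
  exact BC

theorem locusMor_subset_restrict (hbc : BC P) {X Y S : Scheme.{u}} (f : X ⟶ Y) (g : Y ⟶ S)
    (U : Y.Opens) :
    ConsProp.locusMor (PM P) f g ⊆ ConsProp.locusMor (PM P) (f ∣_ U) (U.ι ≫ g) := by
  intro s hs
  obtain ⟨n, hn⟩ := exists_isPullback_fiberMap_restrict f g U s
  exact hbc hn hs

/-! ### part 6 -/

variable {P : MorphismProperty Scheme.{u}}

/-- the restriction of the fibre map over the trace of an open `U` of `Y` is a base change of the
fibre map of the restriction of `f` over `U` -/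
theorem exists_isPullback_restrict_fiberMap {X Y S : Scheme.{u}} (f : X ⟶ Y) (g : Y ⟶ S)
    (U : Y.Opens) (s : S) :
    ∃ (r : ((g.fiberι s) ⁻¹ᵁ U : Scheme.{u}) ⟶ (U.ι ≫ g).fiber s)
      (n : ((MoreMor.fiberMap f g s) ⁻¹ᵁ ((g.fiberι s) ⁻¹ᵁ U) : Scheme.{u}) ⟶
        ((f ∣_ U) ≫ U.ι ≫ g).fiber s),
      IsPullback n (MoreMor.fiberMap f g s ∣_ ((g.fiberι s) ⁻¹ᵁ U))
        (MoreMor.fiberMap (f ∣_ U) (U.ι ≫ g) s) r := by
  set W := (g.fiberι s) ⁻¹ᵁ U with hW
  have A := isPullback_fiberMap f g s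
  have B := isPullback_fiberMap (f ∣_ U) (U.ι ≫ g) s
  have C := (isPullback_morphismRestrict f U).flip
  have BC := B.paste_horiz C
  have D := (isPullback_morphismRestrict (MoreMor.fiberMap f g s) W).flip
  have DA := D.paste_horiz A
  -- the map `W ⟶ U`
  have hr : Set.range (W.ι ≫ g.fiberι s).base ⊆ Set.range U.ι.base := by
    rintro _ ⟨z, rfl⟩
    rw [Scheme.Opens.range_ι]
    exact z.2
  let a : (W : Scheme.{u}) ⟶ U := IsOpenImmersion.lift U.ι (W.ι ≫ g.fiberι s) hr
  have ha : a ≫ U.ι = W.ι ≫ g.fiberι s := IsOpenImmersion.lift_fac _ _ _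
  have hcond : a ≫ (U.ι ≫ g) = (W.ι ≫ g.fiberToSpecResidueField s) ≫
      S.fromSpecResidueField s := by
    rw [← Category.assoc, ha, Category.assoc, Category.assoc]
    congr 1
    exact pullback.condition
  let r : (W : Scheme.{u}) ⟶ (U.ι ≫ g).fiber s :=
    pullback.lift a (W.ι ≫ g.fiberToSpecResidueField s) hcond
  have hr1 : r ≫ (U.ι ≫ g).fiberι s = a := pullback.lift_fst _ _ _
  have hr2 : r ≫ ((U.ι ≫ g).fiberι s ≫ U.ι) = W.ι ≫ g.fiberι s := by
    rw [← Category.assoc, hr1, ha]
  have w : (((MoreMor.fiberMap f g s) ⁻¹ᵁ W).ι ≫ (f ≫ g).fiberι s) ≫ f =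
      ((MoreMor.fiberMap f g s ∣_ W) ≫ r) ≫ ((U.ι ≫ g).fiberι s ≫ U.ι) := by
    rw [Category.assoc _ r, hr2]
    exact DA.w
  refine ⟨r, BC.lift _ _ w, IsPullback.of_right ?_ (BC.lift_snd _ _ w) BC⟩
  rw [BC.lift_fst, hr2]
  exact DA

theorem mem_locusMor_of_forall_restrict (hbc : BC P) [IsZariskiLocalAtTarget P]
    {X Y S : Scheme.{u}} (f : X ⟶ Y) (g : Y ⟶ S) {ι : Type*} (U : ι → Y.Opens)
    (hU : ⨆ i, U i = ⊤) (s : S)
    (h : ∀ i, s ∈ ConsProp.locusMor (PM P) (f ∣_ U i) ((U i).ι ≫ g)) :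
    s ∈ ConsProp.locusMor (PM P) f g := by
  show P (MoreMor.fiberMap f g s)
  have hW : ⨆ i, (g.fiberι s) ⁻¹ᵁ (U i) = ⊤ := by
    rw [eq_top_iff]
    intro y _
    have hy : (g.fiberι s).base y ∈ (⨆ i, U i : Y.Opens) := by rw [hU]; trivial
    obtain ⟨i, hi⟩ := TopologicalSpace.Opens.mem_iSup.mp hy
    exact TopologicalSpace.Opens.mem_iSup.mpr ⟨i, hi⟩
  refine IsZariskiLocalAtTarget.of_iSup_eq_top (P := P) _ hW ?_
  intro i
  obtain ⟨r, n, hn⟩ := exists_isPullback_restrict_fiberMap f g (U i) s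
  exact hbc hn (h i)

/-! ### part 7 -/

theorem bc_isFinite : BC (@IsFinite : MorphismProperty Scheme.{u}) :=
  BC.of_isStableUnderBaseChange _

theorem fpqcDescends_isFinite : FpqcDescends (@IsFinite : MorphismProperty Scheme.{u}) :=
  haveI := Groth.Agent.S0084.result.{u}
  FpqcDescends.of_descendsAlong _

theorem descends_isFinite : Descends (@IsFinite : MorphismProperty Scheme.{u}) := by
  intro I _ _ D c hc _ i₀ _ _ X₀ Y₀ f₀ g₀ _ _ _ _ _ _ X Y f g qY qX hY hX hf
  have : IsFinite f := hf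
  have : CompactSpace ↥Y₀ := QuasiCompact.compactSpace_of_compactSpace g₀
  have : QuasiSeparatedSpace ↥Y₀ := quasiSeparatedSpace_of_quasiSeparated g₀
  have : CompactSpace ↥X₀ := QuasiCompact.compactSpace_of_compactSpace (f₀ ≫ g₀)
  have : QuasiSeparatedSpace ↥X₀ := quasiSeparatedSpace_of_quasiSeparated (f₀ ≫ g₀)
  have : LocallyOfFiniteType f₀ := locallyOfFiniteType_of_comp f₀ g₀
  exact Groth.Agent.S9187.result D c hc i₀ f₀ g₀ f g qY qX hY hX

theorem isFieldStableMor_isFinite : ConsProp.IsFieldStableMor (PM (@IsFinite.{u})) :=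
  isFieldStableMor_PM bc_isFinite fpqcDescends_isFinite

/-- constructibility of the quasi-finite and separated loci over a Noetherian base -/
theorem isConstructible_qf_sep {X Y S : Scheme.{u}} (f : X ⟶ Y) (g : Y ⟶ S) [IsNoetherian S]
    [LocallyOfFiniteType g] [QuasiCompact g] [LocallyOfFiniteType (f ≫ g)]
    [QuasiCompact (f ≫ g)] :
    IsConstructible ({s : S | LocallyQuasiFinite (MoreMor.fiberMap f g s)} ∩
      {s : S | IsSeparated (MoreMor.fiberMap f g s)}) := by
  haveI : IsNoetherian Y := noetherianSpace_of_finiteType g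
  haveI : IsNoetherian X := noetherianSpace_of_finiteType (f ≫ g)
  haveI : QuasiSeparated g := QuasiSeparated.of_quasiSeparatedSpace g
  haveI : QuasiSeparated (f ≫ g) := QuasiSeparated.of_quasiSeparatedSpace (f ≫ g)
  have h1 : IsLocallyConstructible {s : S | LocallyQuasiFinite (MoreMor.fiberMap f g s)} :=
    Groth.Agent.S3445.result f g
  have h2 := isLocallyConstructible_setOf_isSeparated f g
  exact (h1.inter h2).isConstructible

/-! ### part 8 -/

/-- restriction of the family over an open of the base -/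
theorem locusMor_restrict {P : ∀ ⦃X Y T : Scheme.{u}⦄, (X ⟶ Y) → (Y ⟶ T) → Prop}
    (hP : ConsProp.IsFieldStableMor P) {X Y S : Scheme.{u}} (f : X ⟶ Y) (g : Y ⟶ S)
    [LocallyOfFiniteType g] [QuasiCompact g] [LocallyOfFiniteType (f ≫ g)]
    [QuasiCompact (f ≫ g)] (V : S.Opens) :
    ConsProp.locusMor P (f ∣_ (g ⁻¹ᵁ V)) (g ∣_ V) = V.ι.base ⁻¹' ConsProp.locusMor P f g :=
  locusMor_of_isPullback hP (isPullback_morphismRestrict g V).flip
    (isPullback_morphismRestrict f (g ⁻¹ᵁ V)).flip

theorem restrict_comp_lft {X Y S : Scheme.{u}} (f : X ⟶ Y) (g : Y ⟶ S)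
    [LocallyOfFiniteType (f ≫ g)] (V : S.Opens) :
    LocallyOfFiniteType ((f ∣_ (g ⁻¹ᵁ V)) ≫ (g ∣_ V)) :=
  MorphismProperty.of_isPullback (P := @LocallyOfFiniteType)
    ((isPullback_morphismRestrict f (g ⁻¹ᵁ V)).flip.paste_vert
      (isPullback_morphismRestrict g V).flip) inferInstance

theorem restrict_comp_qc {X Y S : Scheme.{u}} (f : X ⟶ Y) (g : Y ⟶ S)
    [QuasiCompact (f ≫ g)] (V : S.Opens) :
    QuasiCompact ((f ∣_ (g ⁻¹ᵁ V)) ≫ (g ∣_ V)) :=
  MorphismProperty.of_isPullback (P := @QuasiCompact)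
    ((isPullback_morphismRestrict f (g ⁻¹ᵁ V)).flip.paste_vert
      (isPullback_morphismRestrict g V).flip) inferInstance

/-- the second half of the dichotomy, affine case -/
theorem interior_compl_isFinite_of_isAffine {X Y S : Scheme.{u}} (f : X ⟶ Y) (g : Y ⟶ S)
    [IsIntegral S] [IsNoetherian S] [IsAffine S] [IsAffine Y]
    [LocallyOfFiniteType g] [QuasiCompact g] [LocallyOfFiniteType (f ≫ g)]
    [QuasiCompact (f ≫ g)]
    (hη : genericPoint S ∉ ConsProp.locusMor (PM @IsFinite) f g) :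
    (interior (ConsProp.locusMor (PM @IsFinite) f g)ᶜ).Nonempty := by
  have hcons := isConstructible_qf_sep f g
  by_cases h : genericPoint S ∈ {s : S | LocallyQuasiFinite (MoreMor.fiberMap f g s)} ∩
      {s : S | IsSeparated (MoreMor.fiberMap f g s)}
  · -- quasi-finite and separated near the generic point
    have h1 : (interior ({s : S | LocallyQuasiFinite (MoreMor.fiberMap f g s)} ∩
        {s : S | IsSeparated (MoreMor.fiberMap f g s)})).Nonempty :=
      interior_nonempty_of_genericPoint_mem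
        (Groth.Agent.Lib.Helper36.isIndConstructible_of_isLocallyConstructible
          hcons.isLocallyConstructible) h
    obtain ⟨V'', hV''o, hV''ne, hV''sub, hsep⟩ := exists_open_isSeparated_restrict f g _
      isOpen_interior h1 (fun s hs => (interior_subset hs).2)
    obtain ⟨x, hx⟩ := hV''ne
    obtain ⟨V', hV', hxV', hV'sub⟩ : ∃ V' : S.Opens, IsAffineOpen V' ∧ x ∈ V' ∧
        (V' : Set S) ⊆ V'' := by
      obtain ⟨_, ⟨V', hV' : IsAffineOpen V', rfl⟩, hxV', hV'sub⟩ :=
        S.isBasis_affineOpens.exists_subset_of_mem_open hx hV''o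
      exact ⟨V', hV', hxV', hV'sub⟩
    haveI : Nonempty ↥(V' : Scheme.{u}) := ⟨⟨x, hxV'⟩⟩
    haveI : IsAffine (V' : Scheme.{u}) := hV'
    haveI : IsAffine ((g ⁻¹ᵁ V' : Y.Opens) : Scheme.{u}) := hV'.preimage g
    haveI : IsNoetherian (V' : Scheme.{u}) := { }
    haveI := restrict_comp_lft f g V'
    haveI := restrict_comp_qc f g V'
    haveI : LocallyOfFiniteType f := locallyOfFiniteType_of_comp f g
    haveI : IsNoetherian ((g ⁻¹ᵁ V' : Y.Opens) : Scheme.{u}) :=
      noetherianSpace_of_finiteType (g ∣_ V')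
    haveI : IsNoetherian ((f ⁻¹ᵁ (g ⁻¹ᵁ V') : X.Opens) : Scheme.{u}) :=
      noetherianSpace_of_finiteType ((f ∣_ (g ⁻¹ᵁ V')) ≫ (g ∣_ V'))
    haveI : IsSeparated (f ∣_ (g ⁻¹ᵁ V')) := hsep V' hV'sub
    haveI : LocallyQuasiFinite (f ∣_ (g ⁻¹ᵁ V')) :=
      locallyQuasiFinite_restrict_of_forall f g V'
        (fun s hs => (interior_subset (hV''sub (hV'sub hs))).1)
    have hd := dichotomy_isFinite_of_isAffine (f ∣_ (g ⁻¹ᵁ V')) (g ∣_ V')
    have e := locusMor_restrict isFieldStableMor_isFinite f g V'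
    have e' : {s : ↥(V' : Scheme.{u}) | IsFinite (MoreMor.fiberMap (f ∣_ (g ⁻¹ᵁ V')) (g ∣_ V') s)} =
        V'.ι.base ⁻¹' ConsProp.locusMor (PM @IsFinite) f g := e
    rw [e'] at hd
    rcases hd with hd | hd
    · exfalso
      have h2 : genericPoint ↥(V' : Scheme.{u}) ∈
          interior (V'.ι.base ⁻¹' ConsProp.locusMor (PM @IsFinite) f g) :=
        ((genericPoint_spec _).mem_open_set_iff isOpen_interior).mpr (by
          rw [Set.univ_inter]; exact hd)
      have h3 := interior_subset h2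
      have h4 : V'.ι.base (genericPoint ↥(V' : Scheme.{u})) = genericPoint S :=
        genericPoint_eq_of_isOpenImmersion V'.ι
      exact hη (h4 ▸ h3)
    · exact interior_compl_nonempty_of_restrict V' _ hd
  · have h1 : (interior ({s : S | LocallyQuasiFinite (MoreMor.fiberMap f g s)} ∩
        {s : S | IsSeparated (MoreMor.fiberMap f g s)})ᶜ).Nonempty :=
      interior_nonempty_of_genericPoint_mem
        (Groth.Agent.Lib.Helper36.isIndConstructible_of_isLocallyConstructible
          hcons.compl.isLocallyConstructible) h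
    refine h1.mono (interior_mono ?_)
    intro s hs hfin
    have hfin' : IsFinite (MoreMor.fiberMap f g s) := hfin
    have h2 : LocallyQuasiFinite (MoreMor.fiberMap f g s) := inferInstance
    have h3 : IsSeparated (MoreMor.fiberMap f g s) := inferInstance
    exact hs ⟨h2, h3⟩

/-! ### part 9 -/

set_option backward.isDefEq.respectTransparency.types false in
theorem isZariskiLocalAtTarget_isFinite : IsZariskiLocalAtTarget @IsFinite.{u} := by
  infer_instance

/-- the second half of the dichotomy, affine base -/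
theorem interior_compl_isFinite_of_isAffine_base {X Y S : Scheme.{u}} (f : X ⟶ Y) (g : Y ⟶ S)
    [IsIntegral S] [IsNoetherian S] [IsAffine S]
    [LocallyOfFiniteType g] [QuasiCompact g] [LocallyOfFiniteType (f ≫ g)]
    [QuasiCompact (f ≫ g)]
    (hη : genericPoint S ∉ ConsProp.locusMor (PM @IsFinite) f g) :
    (interior (ConsProp.locusMor (PM @IsFinite) f g)ᶜ).Nonempty := by
  haveI : IsNoetherian Y := noetherianSpace_of_finiteType g
  haveI : IsNoetherian X := noetherianSpace_of_finiteType (f ≫ g)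
  -- an affine open of `Y` over which the generic fibre map is not finite
  obtain ⟨U, hU⟩ : ∃ U : Y.affineOpens,
      genericPoint S ∉ ConsProp.locusMor (PM @IsFinite) (f ∣_ U.1) (U.1.ι ≫ g) := by
    by_contra hcon
    push Not at hcon
    haveI := isZariskiLocalAtTarget_isFinite.{u}
    exact hη (mem_locusMor_of_forall_restrict bc_isFinite f g (fun U : Y.affineOpens => U.1)
      (iSup_affineOpens_eq_top Y) _ hcon)
  haveI : IsAffine (U.1 : Scheme.{u}) := U.2
  haveI : QuasiCompact (U.1.ι ≫ g) := inferInstance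
  have e : (f ∣_ U.1) ≫ U.1.ι ≫ g = (f ⁻¹ᵁ U.1).ι ≫ f ≫ g := by
    rw [← Category.assoc, morphismRestrict_ι, Category.assoc]
  haveI : LocallyOfFiniteType ((f ∣_ U.1) ≫ U.1.ι ≫ g) := by rw [e]; infer_instance
  haveI : QuasiCompact ((f ∣_ U.1) ≫ U.1.ι ≫ g) := by rw [e]; infer_instance
  refine (interior_compl_isFinite_of_isAffine (f ∣_ U.1) (U.1.ι ≫ g) hU).mono
    (interior_mono ?_)
  exact Set.compl_subset_compl.mpr (locusMor_subset_restrict bc_isFinite f g U.1)

/-- the second half of the dichotomy -/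
theorem interior_compl_isFinite {X Y S : Scheme.{u}} (f : X ⟶ Y) (g : Y ⟶ S)
    [IsIntegral S] [IsNoetherian S]
    [LocallyOfFiniteType g] [QuasiCompact g] [LocallyOfFiniteType (f ≫ g)]
    [QuasiCompact (f ≫ g)]
    (hη : genericPoint S ∉ ConsProp.locusMor (PM @IsFinite) f g) :
    (interior (ConsProp.locusMor (PM @IsFinite) f g)ᶜ).Nonempty := by
  obtain ⟨V, hV, hxV⟩ : ∃ V : S.Opens, IsAffineOpen V ∧ genericPoint S ∈ V := by
    obtain ⟨_, ⟨V, hV : IsAffineOpen V, rfl⟩, hxV, -⟩ :=
      S.isBasis_affineOpens.exists_subset_of_mem_open (Set.mem_univ (genericPoint S)) isOpen_univ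
    exact ⟨V, hV, hxV⟩
  haveI : Nonempty ↥(V : Scheme.{u}) := ⟨⟨_, hxV⟩⟩
  haveI : IsAffine (V : Scheme.{u}) := hV
  haveI : IsNoetherian (V : Scheme.{u}) := { }
  haveI := restrict_comp_lft f g V
  haveI := restrict_comp_qc f g V
  have e := locusMor_restrict isFieldStableMor_isFinite f g V
  have h4 : V.ι.base (genericPoint ↥(V : Scheme.{u})) = genericPoint S :=
    genericPoint_eq_of_isOpenImmersion V.ι
  have hη' : genericPoint ↥(V : Scheme.{u}) ∉
      ConsProp.locusMor (PM @IsFinite) (f ∣_ (g ⁻¹ᵁ V)) (g ∣_ V) := by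
    rw [e]
    intro h
    exact hη (h4 ▸ h)
  have h5 := interior_compl_isFinite_of_isAffine_base (f ∣_ (g ⁻¹ᵁ V)) (g ∣_ V) hη'
  rw [e] at h5
  exact interior_compl_nonempty_of_restrict V _ h5

/-- **EGA IV 9.6.1 (vi): being finite is a constructible property of morphisms.** -/
theorem isConsMor_isFinite : ConsProp.IsConsMor (PM (@IsFinite.{u})) := by
  refine ⟨isFieldStableMor_isFinite, ?_⟩
  intro X Y S f g _ _ _ _ _ _
  by_cases hη : genericPoint S ∈ ConsProp.locusMor (PM @IsFinite) f g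
  · left
    exact (isIndConsMor_PM bc_isFinite fpqcDescends_isFinite descends_isFinite).2 f g hη
  · right
    exact interior_compl_isFinite f g hη

end Groth.Agent.Lib.Helper78.FinLocus
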