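import Mathlib
import Groth.Agent.Lib.Helper18.GenericFP
import Groth.Agent.Lib.Helper78.FinLocus
import Groth.Agent.S4801

/-!
# Spreading out non-reducedness from the generic fibre (helper78)

* `exists_forall_not_isReduced_fiber`: for a finite type algebra `B` over a ring `A` with a prime
  `p₀` contained in all primes, if `κ(p₀) ⊗ B` is not reduced then `κ(q) ⊗ B` is not reduced for all
  `q` in a basic open neighbourhood of `p₀` (generic freeness).
* `exists_isPullback_fiber_affine`: the fibre of `Spec Γ(X, W) ⟶ Spec Γ(Y, V)` is the open piece of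
  the fibre of `f` over `W`.
* `exists_open_forall_not_isReduced_fiber`: Stacks 0575 for reducedness.
-/

set_option autoImplicit false
set_option linter.style.haveILetI false
open CategoryTheory AlgebraicGeometry CategoryTheory.Limits TensorProduct
universe u

namespace Groth.Agent.Lib.Helper78.GenFibre

open Groth.Agent.Lib.Helper78.FinLocus

/-! ### part 1 -/

/-- extracting a nilpotent, non-torsion element from a non-reduced generic fibre -/
theorem exists_nilpotent_of_not_isReduced {A B K : Type u} [CommRing A] [IsDomain A] [CommRing B]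
    [Algebra A B] [Field K] [Algebra A K] [IsFractionRing A K]
    (h : ¬ IsReduced (K ⊗[A] B)) :
    ∃ b : B, IsNilpotent b ∧ ∀ a : A, a ≠ 0 → a • b ≠ 0 := by
  haveI : IsLocalizedModule (nonZeroDivisors A) (TensorProduct.mk A K B 1) :=
    (isLocalizedModule_iff_isBaseChange (nonZeroDivisors A) K _).2
      (TensorProduct.isBaseChange A B K)
  have hinj : Function.Injective (algebraMap A K) := IsFractionRing.injective A K
  rw [isReduced_iff] at h
  push Not at h
  obtain ⟨x, hxn, hx0⟩ := h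
  obtain ⟨n, hn⟩ := hxn
  obtain ⟨⟨b, s⟩, hbs⟩ := IsLocalizedModule.surj (nonZeroDivisors A) (TensorProduct.mk A K B 1) x
  have hbs' : (s : A) • x = (1 : K) ⊗ₜ[A] b := hbs
  have hs0 : (s : A) ≠ 0 := nonZeroDivisors.ne_zero s.2
  -- `1 ⊗ b ^ n = 0`
  have h1 : (1 : K) ⊗ₜ[A] (b ^ n) = 0 := by
    have : ((1 : K) ⊗ₜ[A] b) ^ n = (1 : K) ⊗ₜ[A] (b ^ n) := by
      rw [Algebra.TensorProduct.tmul_pow, one_pow]
    rw [← this, ← hbs', smul_pow, hn, smul_zero]
  obtain ⟨t, ht⟩ := (IsLocalizedModule.eq_zero_iff (nonZeroDivisors A)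
    (TensorProduct.mk A K B 1)).1 h1
  have ht0 : (t : A) ≠ 0 := nonZeroDivisors.ne_zero t.2
  have ht' : (t : A) • b ^ n = 0 := ht
  refine ⟨(t : A) • b, ⟨n + 1, ?_⟩, ?_⟩
  · rw [smul_pow, pow_succ b, pow_succ (t : A), mul_smul, ← smul_mul_assoc, ht', zero_mul, smul_zero]
  · intro a ha hab
    apply hx0
    have h2 : (1 : K) ⊗ₜ[A] (a • (t : A) • b) = 0 := by rw [hab, tmul_zero]
    have h3 : (a * (t : A) * (s : A)) • x = 0 := by
      rw [mul_smul, hbs', mul_smul, ← tmul_smul, ← tmul_smul]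
      exact h2
    have h4 : algebraMap A K (a * (t : A) * (s : A)) ≠ 0 := by
      rw [Ne, map_eq_zero_iff _ hinj]
      exact mul_ne_zero (mul_ne_zero ha ht0) hs0
    have h5 : (algebraMap A K (a * (t : A) * (s : A))) • x = 0 := by
      rw [algebraMap_smul]
      exact h3
    exact (smul_eq_zero.1 h5).resolve_left h4

/-! ### part 2 -/

/-- a free nontrivial localization stays nontrivial after base change to a field -/
theorem nontrivial_tensor_of_free_away {A C : Type u} [CommRing A] [AddCommGroup C] [Module A C]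
    (f : A) (κ : Type u) [Field κ] [Algebra A κ] (hf : IsUnit (algebraMap A κ f))
    [Module.Free (Localization.Away f) (Localization.Away f ⊗[A] C)]
    [Nontrivial (Localization.Away f ⊗[A] C)] : Nontrivial (κ ⊗[A] C) := by
  letI : Algebra (Localization.Away f) κ := (IsLocalization.Away.lift f hf).toAlgebra
  haveI : IsScalarTower A (Localization.Away f) κ :=
    IsScalarTower.of_algebraMap_eq (fun r => (IsLocalization.Away.lift_eq f hf r).symm)
  haveI : Nontrivial (κ ⊗[Localization.Away f] (Localization.Away f ⊗[A] C)) :=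
    (Module.FaithfullyFlat.nontrivial_tensorProduct_iff_left (Localization.Away f)
      (M := κ) (N := Localization.Away f ⊗[A] C)).2 inferInstance
  exact (TensorProduct.AlgebraTensorModule.cancelBaseChange A (Localization.Away f) κ κ
    C).symm.toEquiv.nontrivial

/-- abstract core -/
theorem not_isReduced_tensor_of_exact {A B C Q : Type u} [CommRing A]
    [CommRing B] [Algebra A B] [AddCommGroup C] [Module A C] [Module B C] [IsScalarTower A B C]
    [AddCommGroup Q] [Module A Q]
    (j : C →ₗ[A] B) (hj : Function.Injective j) (p : B →ₗ[A] Q) (hp : Function.Surjective p)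
    (hex : Function.Exact j p) (c₀ : C) (hgen : ∀ c : C, ∃ r : B, c = r • c₀)
    (hnil : IsNilpotent (j c₀)) (f : A)
    [Module.Free (Localization.Away f) (Localization.Away f ⊗[A] C)]
    [Module.Free (Localization.Away f) (Localization.Away f ⊗[A] Q)]
    (hk : ∀ k : ℕ, (f ^ k) • c₀ ≠ 0)
    (κ : Type u) [Field κ] [Algebra A κ] (hu : IsUnit (algebraMap A κ f)) :
    ¬ IsReduced (κ ⊗[A] B) := by
  intro hred
  have hinj : Function.Injective (j.baseChange κ) :=
    Groth.Agent.S4801.baseChange_injective_of_flat_localized f κ hu j hj p hp hex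
  haveI : Nontrivial (Localization.Away f ⊗[A] C) := by
    haveI : IsLocalizedModule (Submonoid.powers f) (TensorProduct.mk A (Localization.Away f) C 1) :=
      (isLocalizedModule_iff_isBaseChange (Submonoid.powers f) (Localization.Away f) _).2
        (TensorProduct.isBaseChange A C (Localization.Away f))
    refine ⟨⟨(1 : Localization.Away f) ⊗ₜ[A] c₀, 0, fun h0 => ?_⟩⟩
    obtain ⟨⟨_, k, rfl⟩, hk0⟩ := (IsLocalizedModule.eq_zero_iff (Submonoid.powers f)
      (TensorProduct.mk A (Localization.Away f) C 1)).1 h0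
    exact hk k hk0
  haveI : Nontrivial (κ ⊗[A] C) := nontrivial_tensor_of_free_away f κ hu
  have h0 : (1 : κ) ⊗ₜ[A] c₀ ≠ 0 := by
    intro h
    have hall : ∀ z : κ ⊗[A] C, z = 0 := by
      intro z
      induction z using TensorProduct.induction_on with
      | zero => rfl
      | tmul x c =>
        obtain ⟨r, rfl⟩ := hgen c
        have e1 : x ⊗ₜ[A] (r • c₀) =
            (((LinearMap.lsmul B C r).restrictScalars A).baseChange κ) (x ⊗ₜ[A] c₀) := by
          rw [LinearMap.baseChange_tmul]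
          rfl
        have e2 : x ⊗ₜ[A] c₀ = x • ((1 : κ) ⊗ₜ[A] c₀) := by
          rw [TensorProduct.smul_tmul', smul_eq_mul, mul_one]
        rw [e1, e2, h, smul_zero, map_zero]
      | add a b ha hb => rw [ha, hb, add_zero]
    obtain ⟨a, b, hab⟩ := exists_pair_ne (κ ⊗[A] C)
    exact hab ((hall a).trans (hall b).symm)
  have h1 : (1 : κ) ⊗ₜ[A] (j c₀) ≠ 0 := by
    have h3 : (j.baseChange κ) ((1 : κ) ⊗ₜ[A] c₀) = (1 : κ) ⊗ₜ[A] (j c₀) := by
      rw [LinearMap.baseChange_tmul]
    rw [← h3]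
    intro h4
    exact h0 (hinj (by rw [h4, map_zero]))
  have h2 : IsNilpotent ((1 : κ) ⊗ₜ[A] (j c₀)) := by
    obtain ⟨n, hn⟩ := hnil
    refine ⟨n, ?_⟩
    rw [Algebra.TensorProduct.tmul_pow, hn, tmul_zero]
  exact h1 (hred.eq_zero _ h2)

/-! ### part 3 -/

section
variable {A B : Type u} [CommRing A] [CommRing B] [Algebra A B] (b : B)

/-- the annihilator of `b`, as the kernel of multiplication by `b` -/
abbrev annK : Ideal B := LinearMap.ker (LinearMap.mulLeft B b)

/-- `B ⧸ Ann b ⟶ B`, multiplication by `b` -/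
noncomputable def mulQ : (B ⧸ annK b) →ₗ[B] B :=
  Submodule.liftQ (annK b) (LinearMap.mulLeft B b) le_rfl

theorem mulQ_mk (c : B) : mulQ b (Ideal.Quotient.mk (annK b) c) = b * c := rfl

theorem mulQ_injective : Function.Injective (mulQ b) := by
  rw [← LinearMap.ker_eq_bot]
  exact Submodule.ker_liftQ_eq_bot _ _ _ le_rfl

theorem mulQ_exact : Function.Exact ((mulQ b).restrictScalars A)
    ((Submodule.mkQ (Ideal.span {b})).restrictScalars A) := by
  intro y
  constructor
  · intro hy
    have hy' : y ∈ Ideal.span {b} := (Submodule.Quotient.mk_eq_zero (Ideal.span {b})).1 hy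
    obtain ⟨c, rfl⟩ := Ideal.mem_span_singleton'.1 hy'
    refine ⟨Ideal.Quotient.mk (annK b) c, ?_⟩
    show mulQ b (Ideal.Quotient.mk (annK b) c) = c * b
    rw [mulQ_mk, mul_comm]
  · rintro ⟨c, rfl⟩
    obtain ⟨c, rfl⟩ := Ideal.Quotient.mk_surjective c
    show Submodule.Quotient.mk (mulQ b (Ideal.Quotient.mk (annK b) c)) = 0
    rw [mulQ_mk, Submodule.Quotient.mk_eq_zero]
    exact Ideal.mul_mem_right _ _ (Ideal.subset_span rfl)

end

/-- **Key algebraic lemma**: a nilpotent non-torsion element of a finite type algebra over a domain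
survives in the fibres over a nonempty basic open. -/
theorem exists_forall_not_isReduced_of_nilpotent {A B : Type u} [CommRing A] [IsDomain A]
    [CommRing B] [Algebra A B] [Algebra.FiniteType A B] (b : B) (hnil : IsNilpotent b)
    (hb : ∀ a : A, a ≠ 0 → a • b ≠ 0) :
    ∃ f : A, f ≠ 0 ∧ ∀ (κ : Type u) [Field κ] [Algebra A κ], IsUnit (algebraMap A κ f) →
      ¬ IsReduced (κ ⊗[A] B) := by
  obtain ⟨f₁, hf₁, H₁⟩ := Groth.Agent.Lib.Helper18.exists_free_tensor_dvd (R := A)
    (B ⧸ annK b) (B ⧸ annK b)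
  obtain ⟨f₂, hf₂, H₂⟩ := Groth.Agent.Lib.Helper18.exists_free_tensor_dvd (R := A) B
    (B ⧸ Ideal.span {b})
  have hf : f₁ * f₂ ≠ 0 := mul_ne_zero hf₁ hf₂
  refine ⟨f₁ * f₂, hf, ?_⟩
  intro κ _ _ hu
  haveI : Module.Free (Localization.Away (f₁ * f₂))
      (Localization.Away (f₁ * f₂) ⊗[A] (B ⧸ annK b)) :=
    H₁ _ (dvd_mul_right _ _) hf (Localization.Away (f₁ * f₂))
  haveI : Module.Free (Localization.Away (f₁ * f₂))
      (Localization.Away (f₁ * f₂) ⊗[A] (B ⧸ Ideal.span {b})) :=
    H₂ _ (dvd_mul_left _ _) hf (Localization.Away (f₁ * f₂))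
  have hj1 : ((mulQ b).restrictScalars A) (1 : B ⧸ annK b) = b := by
    show mulQ b (Ideal.Quotient.mk (annK b) 1) = b
    rw [mulQ_mk, mul_one]
  have hgen : ∀ c : B ⧸ annK b, ∃ r : B, c = r • (1 : B ⧸ annK b) := by
    intro c
    obtain ⟨r, rfl⟩ := Ideal.Quotient.mk_surjective c
    refine ⟨r, ?_⟩
    show (Submodule.Quotient.mk r : B ⧸ annK b) = r • Submodule.Quotient.mk (1 : B)
    rw [← Submodule.Quotient.mk_smul, smul_eq_mul, mul_one]
  have hinj : Function.Injective ((mulQ b).restrictScalars A) := mulQ_injective b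
  have hsurj : Function.Surjective ((Submodule.mkQ (Ideal.span {b})).restrictScalars A) :=
    Submodule.mkQ_surjective (Ideal.span {b})
  have hnil' : IsNilpotent (((mulQ b).restrictScalars A) (1 : B ⧸ annK b)) := by
    rw [hj1]; exact hnil
  refine not_isReduced_tensor_of_exact ((mulQ b).restrictScalars A) hinj
    ((Submodule.mkQ (Ideal.span {b})).restrictScalars A) hsurj
    (mulQ_exact b) (1 : B ⧸ annK b) hgen hnil' (f₁ * f₂) ?_ κ hu
  intro k hk
  have h2 : ((mulQ b).restrictScalars A) (((f₁ * f₂) ^ k) • (1 : B ⧸ annK b)) = 0 := by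
    rw [hk, map_zero]
  rw [map_smul, hj1] at h2
  exact hb _ (pow_ne_zero k hf) h2

/-- **Non-reducedness of the generic fibre spreads out**, over a domain. -/
theorem exists_forall_not_isReduced_of_domain {A B K : Type u} [CommRing A] [IsDomain A]
    [CommRing B] [Algebra A B] [Algebra.FiniteType A B] [Field K] [Algebra A K]
    [IsFractionRing A K] (h : ¬ IsReduced (K ⊗[A] B)) :
    ∃ f : A, f ≠ 0 ∧ ∀ (κ : Type u) [Field κ] [Algebra A κ], IsUnit (algebraMap A κ f) →
      ¬ IsReduced (κ ⊗[A] B) := by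
  obtain ⟨b, hnil, hb⟩ := exists_nilpotent_of_not_isReduced h
  exact exists_forall_not_isReduced_of_nilpotent b hnil hb

/-! ### part 4 -/

/-- **Non-reducedness of the generic fibre spreads out**: `p₀` is a prime contained in all primes
(the generic point of an irreducible spectrum). -/
theorem exists_forall_not_isReduced_fiber {A B : Type u} [CommRing A] [CommRing B] [Algebra A B]
    [Algebra.FiniteType A B] (p₀ : Ideal A) [p₀.IsPrime]
    (hmin : ∀ q : Ideal A, q.IsPrime → p₀ ≤ q)
    (h : ¬ IsReduced (p₀.ResidueField ⊗[A] B)) :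
    ∃ f : A, f ∉ p₀ ∧ ∀ (q : Ideal A) [q.IsPrime], f ∉ q →
      ¬ IsReduced (q.ResidueField ⊗[A] B) := by
  have h' : ¬ IsReduced (p₀.ResidueField ⊗[A ⧸ p₀] ((A ⧸ p₀) ⊗[A] B)) := by
    intro hred
    apply h
    exact isReduced_of_injective
      (Algebra.TensorProduct.cancelBaseChange A (A ⧸ p₀) p₀.ResidueField p₀.ResidueField B).symm
      (AlgEquiv.injective _)
  obtain ⟨f', hf', H⟩ := exists_forall_not_isReduced_of_domain (A := A ⧸ p₀)
    (B := (A ⧸ p₀) ⊗[A] B) (K := p₀.ResidueField) h'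
  obtain ⟨f, rfl⟩ := Ideal.Quotient.mk_surjective f'
  refine ⟨f, fun hf => hf' (Ideal.Quotient.eq_zero_iff_mem.2 hf), ?_⟩
  intro q _ hfq hred
  have hker : ∀ a ∈ p₀, algebraMap A q.ResidueField a = 0 := fun a ha =>
    (Ideal.algebraMap_residueField_eq_zero).2 (hmin q inferInstance ha)
  letI : Algebra (A ⧸ p₀) q.ResidueField :=
    (Ideal.Quotient.lift p₀ (algebraMap A q.ResidueField) hker).toAlgebra
  haveI : IsScalarTower A (A ⧸ p₀) q.ResidueField :=
    IsScalarTower.of_algebraMap_eq (fun a => rfl)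
  have hu : IsUnit (algebraMap (A ⧸ p₀) q.ResidueField (Ideal.Quotient.mk p₀ f)) := by
    rw [isUnit_iff_ne_zero]
    show algebraMap A q.ResidueField f ≠ 0
    rw [Ne, Ideal.algebraMap_residueField_eq_zero]
    exact hfq
  apply H q.ResidueField hu
  exact isReduced_of_injective
    (Algebra.TensorProduct.cancelBaseChange A (A ⧸ p₀) q.ResidueField q.ResidueField B)
    (AlgEquiv.injective _)

/-! ### part 5 -/

theorem isPullback_comp_mono {C : Type*} [Category C] {P X Y Z W : C} {fst : P ⟶ X} {snd : P ⟶ Y}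
    {a : X ⟶ Z} {b : Y ⟶ Z} (h : IsPullback fst snd a b) (g : Z ⟶ W) [Mono g] :
    IsPullback fst snd (a ≫ g) (b ≫ g) := by
  refine ⟨⟨by rw [← Category.assoc, h.w, Category.assoc]⟩, ⟨PullbackCone.IsLimit.mk _
    (fun s => h.lift s.fst s.snd (by
      rw [← cancel_mono g, Category.assoc, Category.assoc]
      exact s.condition)) (fun s => h.lift_fst _ _ _) (fun s => h.lift_snd _ _ _)
    (fun s m h1 h2 => h.hom_ext (by rw [h.lift_fst]; exact h1) (by rw [h.lift_snd]; exact h2))⟩⟩

/-- **The fibre over an affine piece**: for affine opens `W ⊆ f⁻¹ V`, the fibre of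
`Spec Γ(X, W) ⟶ Spec Γ(Y, V)` at `p` is the open subscheme of the fibre of `f` lying over `W`. -/
theorem exists_isPullback_fiber_affine {X Y : Scheme.{u}} (f : X ⟶ Y) {V : Y.Opens} {W : X.Opens}
    (hV : IsAffineOpen V) (hW : IsAffineOpen W) (e : W ≤ f ⁻¹ᵁ V) (p : Spec Γ(Y, V)) :
    ∃ j : (Spec.map (f.appLE V W e)).fiber p ⟶ f.fiber (hV.fromSpec p),
      IsPullback j ((Spec.map (f.appLE V W e)).fiberι p) (f.fiberι (hV.fromSpec p))
        hW.fromSpec := by
  set φ := f.appLE V W e with hφ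
  have hT : IsPullback ((Spec.map φ).fiberι p) ((Spec.map φ).fiberToSpecResidueField p)
      (Spec.map φ) ((Spec Γ(Y, V)).fromSpecResidueField p) := IsPullback.of_hasPullback _ _
  have hT' := isPullback_comp_mono hT hV.fromSpec
  have e1 : Spec.map φ ≫ hV.fromSpec = hW.fromSpec ≫ f :=
    IsAffineOpen.SpecMap_appLE_fromSpec f hV hW e
  have e2 : (Spec Γ(Y, V)).fromSpecResidueField p ≫ hV.fromSpec =
      Spec.map (hV.fromSpec.residueFieldMap p) ≫ Y.fromSpecResidueField (hV.fromSpec p) :=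
    (Scheme.Hom.SpecMap_residueFieldMap_fromSpecResidueField hV.fromSpec p).symm
  rw [e1, e2] at hT'
  have hQ : IsPullback ((Spec.map φ).fiberι p)
      ((Spec.map φ).fiberToSpecResidueField p ≫ Spec.map (hV.fromSpec.residueFieldMap p))
      (hW.fromSpec ≫ f) (Y.fromSpecResidueField (hV.fromSpec p)) := by
    refine IsPullback.of_iso hT' (Iso.refl _) (Iso.refl _)
      (asIso (Spec.map (hV.fromSpec.residueFieldMap p))) (Iso.refl _) ?_ ?_ ?_ ?_
    · simp
    · simp
    · simp
    · simp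
  have hF : IsPullback (f.fiberι (hV.fromSpec p)) (f.fiberToSpecResidueField (hV.fromSpec p)) f
      (Y.fromSpecResidueField (hV.fromSpec p)) := IsPullback.of_hasPullback _ _
  have w : ((Spec.map φ).fiberι p ≫ hW.fromSpec) ≫ f =
      ((Spec.map φ).fiberToSpecResidueField p ≫ Spec.map (hV.fromSpec.residueFieldMap p)) ≫
        Y.fromSpecResidueField (hV.fromSpec p) := by
    rw [Category.assoc]
    exact hQ.w
  refine ⟨hF.lift _ _ w, IsPullback.of_right ?_ (hF.lift_fst _ _ w) hF.flip |>.flip |>.flip⟩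
  rw [hF.lift_snd]
  exact hQ.flip

/-! ### part 6 -/

/-- reducedness of the fibre of `Spec S ⟶ Spec R` over `p` -/
theorem isReduced_fiber_SpecMap_iff {R S : Type u} [CommRing R] [CommRing S] [Algebra R S]
    (p : PrimeSpectrum R) :
    IsReduced ((Spec.map (CommRingCat.ofHom (algebraMap R S))).fiber p) ↔
      _root_.IsReduced (p.asIdeal.ResidueField ⊗[R] S) := by
  have e : (Spec.map (CommRingCat.ofHom (algebraMap R S))).fiber p ≅
      Spec (CommRingCat.of (p.asIdeal.Fiber S)) :=
    Arrow.leftFunc.mapIso (Spec.fiberToSpecResidueFieldIso R S p)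
  refine Iff.trans ?_ (affine_isReduced_iff (CommRingCat.of (p.asIdeal.Fiber S)))
  constructor
  · intro h
    exact isReduced_of_isOpenImmersion e.inv
  · intro h
    exact isReduced_of_isOpenImmersion e.hom

/-- reducedness of the affine piece of a fibre, in terms of the tensor product -/
theorem isReduced_fiber_affine_iff {X Y : Scheme.{u}} (f : X ⟶ Y) {V : Y.Opens} {W : X.Opens}
    (e : W ≤ f ⁻¹ᵁ V) (p : Spec Γ(Y, V)) :
    letI : Algebra Γ(Y, V) Γ(X, W) := (f.appLE V W e).hom.toAlgebra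
    IsReduced ((Spec.map (f.appLE V W e)).fiber p) ↔
      _root_.IsReduced ((show PrimeSpectrum Γ(Y, V) from p).asIdeal.ResidueField ⊗[Γ(Y, V)]
        Γ(X, W)) := by
  letI : Algebra Γ(Y, V) Γ(X, W) := (f.appLE V W e).hom.toAlgebra
  exact isReduced_fiber_SpecMap_iff (R := Γ(Y, V)) (S := Γ(X, W)) p

/-! ### part 7 -/

/-- a fibre is reduced as soon as all its affine pieces are -/
theorem isReduced_fiber_of_forall_affine {X Y : Scheme.{u}} (f : X ⟶ Y) {V : Y.Opens}
    (hV : IsAffineOpen V) (p : Spec Γ(Y, V))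
    (H : ∀ (W : X.Opens) (_ : IsAffineOpen W) (e : W ≤ f ⁻¹ᵁ V),
      IsReduced ((Spec.map (f.appLE V W e)).fiber p)) :
    IsReduced (f.fiber (hV.fromSpec p)) := by
  haveI : ∀ x : f.fiber (hV.fromSpec p),
      _root_.IsReduced ((f.fiber (hV.fromSpec p)).presheaf.stalk x) := by
    intro x
    -- an affine open around the image of `x`
    have hx : f.fiberι (hV.fromSpec p) x ∈ f ⁻¹ᵁ V := by
      have h1 : f.fiberι (hV.fromSpec p) x ∈ Set.range (f.fiberι (hV.fromSpec p)) := ⟨x, rfl⟩
      rw [f.range_fiberι] at h1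
      show f (f.fiberι (hV.fromSpec p) x) ∈ V
      rw [h1]
      have h2 : hV.fromSpec p ∈ Set.range hV.fromSpec := ⟨p, rfl⟩
      rw [hV.range_fromSpec] at h2
      exact h2
    obtain ⟨_, ⟨W, hW : IsAffineOpen W, rfl⟩, hxW, hWV⟩ :=
      X.isBasis_affineOpens.exists_subset_of_mem_open hx (f ⁻¹ᵁ V).isOpen
    obtain ⟨j, hj⟩ := exists_isPullback_fiber_affine f hV hW hWV p
    haveI : IsOpenImmersion j :=
      MorphismProperty.of_isPullback (P := @IsOpenImmersion) hj.flip inferInstance
    have hr : x ∈ Set.range j := by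
      rw [show Set.range j = Set.range j.base from rfl, range_fst_of_isPullback hj]
      show f.fiberι (hV.fromSpec p) x ∈ Set.range hW.fromSpec
      rw [hW.range_fromSpec]
      exact hxW
    obtain ⟨t, rfl⟩ := hr
    haveI := H W hW hWV
    exact isReduced_of_injective (j.stalkMap t).hom
      ((ConcreteCategory.bijective_of_isIso (j.stalkMap t)).1)
  exact isReduced_of_isReduced_stalk _

/-! ### part 8 -/

/-- the generic point of an irreducible scheme, in an affine open chart -/
theorem exists_generic_prime {Y : Scheme.{u}} [IrreducibleSpace Y] {V : Y.Opens}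
    (hV : IsAffineOpen V) (hη : genericPoint Y ∈ V) :
    ∃ p₀ : Spec Γ(Y, V), hV.fromSpec p₀ = genericPoint Y ∧
      ∀ q : Ideal Γ(Y, V), q.IsPrime → (show PrimeSpectrum Γ(Y, V) from p₀).asIdeal ≤ q := by
  refine ⟨hV.primeIdealOf ⟨genericPoint Y, hη⟩, hV.fromSpec_primeIdealOf ⟨genericPoint Y, hη⟩, ?_⟩
  intro q hq
  let q' : PrimeSpectrum Γ(Y, V) := ⟨q, hq⟩
  have h1 : hV.fromSpec (hV.primeIdealOf ⟨genericPoint Y, hη⟩) ⤳ hV.fromSpec q' := by
    rw [hV.fromSpec_primeIdealOf ⟨genericPoint Y, hη⟩]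
    exact genericPoint_specializes _
  have h2 : (hV.primeIdealOf ⟨genericPoint Y, hη⟩) ⤳ q' :=
    (hV.fromSpec.isOpenEmbedding.isInducing.specializes_iff).1 h1
  exact (PrimeSpectrum.le_iff_specializes _ _).2 h2

/-- **Stacks 0575 (reduced case)**: if the generic fibre is not reduced, no fibre over some nonempty
open is reduced. -/
theorem exists_open_forall_not_isReduced_fiber {X Y : Scheme.{u}} (f : X ⟶ Y)
    [IrreducibleSpace Y] [LocallyOfFiniteType f]
    (h : ¬ IsReduced (f.fiber (genericPoint Y))) :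
    ∃ V : Y.Opens, (V : Set Y).Nonempty ∧ ∀ y ∈ V, ¬ IsReduced (f.fiber y) := by
  obtain ⟨_, ⟨V, hV : IsAffineOpen V, rfl⟩, hηV, -⟩ :=
    Y.isBasis_affineOpens.exists_subset_of_mem_open (Set.mem_univ (genericPoint Y)) isOpen_univ
  obtain ⟨p₀, hp₀, hmin⟩ := exists_generic_prime hV hηV
  rw [← hp₀] at h
  -- a non-reduced affine piece
  obtain ⟨W, hW, e, hWred⟩ : ∃ (W : X.Opens) (_ : IsAffineOpen W) (e : W ≤ f ⁻¹ᵁ V),
      ¬ IsReduced ((Spec.map (f.appLE V W e)).fiber p₀) := by
    by_contra hcon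
    push Not at hcon
    exact h (isReduced_fiber_of_forall_affine f hV p₀ hcon)
  letI : Algebra Γ(Y, V) Γ(X, W) := (f.appLE V W e).hom.toAlgebra
  haveI : Algebra.FiniteType Γ(Y, V) Γ(X, W) :=
    f.finiteType_appLE hV hW e
  rw [isReduced_fiber_affine_iff] at hWred
  obtain ⟨f₀, hf₀, H⟩ := exists_forall_not_isReduced_fiber
    (show PrimeSpectrum Γ(Y, V) from p₀).asIdeal hmin hWred
  refine ⟨hV.fromSpec ''ᵁ (PrimeSpectrum.basicOpen f₀), ⟨hV.fromSpec p₀, p₀, hf₀, rfl⟩, ?_⟩
  rintro _ ⟨q, hq, rfl⟩ hred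
  obtain ⟨j, hj⟩ := exists_isPullback_fiber_affine f hV hW e q
  haveI : IsOpenImmersion j :=
    MorphismProperty.of_isPullback (P := @IsOpenImmersion) hj.flip inferInstance
  haveI : IsReduced (f.fiber (hV.fromSpec q)) := hred
  have h3 : IsReduced ((Spec.map (f.appLE V W e)).fiber q) := isReduced_of_isOpenImmersion j
  rw [isReduced_fiber_affine_iff] at h3
  exact H (show PrimeSpectrum Γ(Y, V) from q).asIdeal hq h3

end Groth.Agent.Lib.Helper78.GenFibre
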