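import Mathlib
import Groth.Agent.Lib.Helper78.GenFibre

/-!
# Geometric non-reducedness of the generic fibre spreads out (Stacks 0575, geometric case)

Helper library of helper78 for S1331.
-/

set_option autoImplicit false
set_option linter.style.haveILetI false
open TensorProduct AlgebraicGeometry CategoryTheory Limits
universe u

namespace Groth.Agent.Lib.Helper78.GenFibreGeom

open Groth.Agent.Lib.Helper78.GenFibre Groth.Agent.Lib.Helper78.FinLocus

/-! ### part NG1 -/
/-- abstract core, without nilpotency -/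
theorem tmul_ne_zero_of_exact {A B C Q : Type u} [CommRing A]
    [CommRing B] [Algebra A B] [AddCommGroup C] [Module A C] [Module B C] [IsScalarTower A B C]
    [AddCommGroup Q] [Module A Q]
    (j : C →ₗ[A] B) (hj : Function.Injective j) (p : B →ₗ[A] Q) (hp : Function.Surjective p)
    (hex : Function.Exact j p) (c₀ : C) (hgen : ∀ c : C, ∃ r : B, c = r • c₀) (f : A)
    [Module.Free (Localization.Away f) (Localization.Away f ⊗[A] C)]
    [Module.Free (Localization.Away f) (Localization.Away f ⊗[A] Q)]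
    (hk : ∀ k : ℕ, (f ^ k) • c₀ ≠ 0)
    (κ : Type u) [Field κ] [Algebra A κ] (hu : IsUnit (algebraMap A κ f)) :
    (1 : κ) ⊗ₜ[A] (j c₀) ≠ 0 := by
  have hinj : Function.Injective (j.baseChange κ) :=
    Groth.Agent.S4801.baseChange_injective_of_flat_localized f κ hu j hj p hp hex
  haveI : Nontrivial (Localization.Away f ⊗[A] C) := by
    haveI : IsLocalizedModule (Submonoid.powers f) (TensorProduct.mk A (Localization.Away f) C 1) :=
      (isLocalizedModule_iff_isBaseChange (Submonoid.powers f) (Localization.Away f) _).2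
        (TensorProduct.isBaseChange A C (Localization.Away f))
    refine ⟨⟨(1 : Localization.Away f) ⊗ₜ[A] c₀, 0, fun h0 => ?_⟩⟩
    obtain ⟨⟨_, k, rfl⟩, hk0⟩ := (IsLocalizedModule.eq_zero_iff (Submonoid.powers f)
      (TensorProduct.mk A (Localization.Away f) C 1)).1 h0
    exact hk k hk0
  haveI : Nontrivial (κ ⊗[A] C) := nontrivial_tensor_of_free_away f κ hu
  have h0 : (1 : κ) ⊗ₜ[A] c₀ ≠ 0 := by
    intro h
    have hall : ∀ z : κ ⊗[A] C, z = 0 := by
      intro z
      induction z using TensorProduct.induction_on with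
      | zero => rfl
      | tmul x c =>
        obtain ⟨r, rfl⟩ := hgen c
        have e1 : x ⊗ₜ[A] (r • c₀) =
            (((LinearMap.lsmul B C r).restrictScalars A).baseChange κ) (x ⊗ₜ[A] c₀) := by
          rw [LinearMap.baseChange_tmul]
          rfl
        have e2 : x ⊗ₜ[A] c₀ = x • ((1 : κ) ⊗ₜ[A] c₀) := by
          rw [TensorProduct.smul_tmul', smul_eq_mul, mul_one]
        rw [e1, e2, h, smul_zero, map_zero]
      | add a b ha hb => rw [ha, hb, add_zero]
    obtain ⟨a, b, hab⟩ := exists_pair_ne (κ ⊗[A] C)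
    exact hab ((hall a).trans (hall b).symm)
  have h3 : (j.baseChange κ) ((1 : κ) ⊗ₜ[A] c₀) = (1 : κ) ⊗ₜ[A] (j c₀) := by
    rw [LinearMap.baseChange_tmul]
  rw [← h3]
  intro h4
  exact h0 (hinj (by rw [h4, map_zero]))

/-- a non-torsion element of a finite type algebra over a domain survives in the fibres over a
nonempty basic open -/
theorem exists_forall_tmul_ne_zero {A B : Type u} [CommRing A] [IsDomain A]
    [CommRing B] [Algebra A B] [Algebra.FiniteType A B] (b : B)
    (hb : ∀ a : A, a ≠ 0 → a • b ≠ 0) :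
    ∃ f : A, f ≠ 0 ∧ ∀ (κ : Type u) [Field κ] [Algebra A κ], IsUnit (algebraMap A κ f) →
      (1 : κ) ⊗ₜ[A] b ≠ 0 := by
  obtain ⟨f₁, hf₁, H₁⟩ := Groth.Agent.Lib.Helper18.exists_free_tensor_dvd (R := A)
    (B ⧸ annK b) (B ⧸ annK b)
  obtain ⟨f₂, hf₂, H₂⟩ := Groth.Agent.Lib.Helper18.exists_free_tensor_dvd (R := A) B
    (B ⧸ Ideal.span {b})
  have hf : f₁ * f₂ ≠ 0 := mul_ne_zero hf₁ hf₂
  refine ⟨f₁ * f₂, hf, ?_⟩
  intro κ _ _ hu
  haveI : Module.Free (Localization.Away (f₁ * f₂))
      (Localization.Away (f₁ * f₂) ⊗[A] (B ⧸ annK b)) :=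
    H₁ _ (dvd_mul_right _ _) hf (Localization.Away (f₁ * f₂))
  haveI : Module.Free (Localization.Away (f₁ * f₂))
      (Localization.Away (f₁ * f₂) ⊗[A] (B ⧸ Ideal.span {b})) :=
    H₂ _ (dvd_mul_left _ _) hf (Localization.Away (f₁ * f₂))
  have hj1 : ((mulQ b).restrictScalars A) (1 : B ⧸ annK b) = b := by
    show mulQ b (Ideal.Quotient.mk (annK b) 1) = b
    rw [mulQ_mk, mul_one]
  have hgen : ∀ c : B ⧸ annK b, ∃ r : B, c = r • (1 : B ⧸ annK b) := by
    intro c
    obtain ⟨r, rfl⟩ := Ideal.Quotient.mk_surjective c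
    refine ⟨r, ?_⟩
    show (Submodule.Quotient.mk r : B ⧸ annK b) = r • Submodule.Quotient.mk (1 : B)
    rw [← Submodule.Quotient.mk_smul, smul_eq_mul, mul_one]
  have hinj : Function.Injective ((mulQ b).restrictScalars A) := mulQ_injective b
  have hsurj : Function.Surjective ((Submodule.mkQ (Ideal.span {b})).restrictScalars A) :=
    Submodule.mkQ_surjective (Ideal.span {b})
  have key := tmul_ne_zero_of_exact ((mulQ b).restrictScalars A) hinj
    ((Submodule.mkQ (Ideal.span {b})).restrictScalars A) hsurj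
    (mulQ_exact b) (1 : B ⧸ annK b) hgen (f₁ * f₂) ?_ κ hu
  · rwa [hj1] at key
  intro k hk
  have h2 : ((mulQ b).restrictScalars A) (((f₁ * f₂) ^ k) • (1 : B ⧸ annK b)) = 0 := by
    rw [hk, map_zero]
  rw [map_smul, hj1] at h2
  exact hb _ (pow_ne_zero k hf) h2

/-! ### part NG2 -/
/-- from a nilpotent nonzero `1 ⊗ b` in `K ⊗ B`, `K` any field containing the domain `A`, a
nilpotent non-torsion element of `B` -/
theorem exists_nilpotent_of_tmul {A B K : Type u} [CommRing A] [IsDomain A] [CommRing B]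
    [Algebra A B] [Field K] [Algebra A K] (hinj : Function.Injective (algebraMap A K)) (b : B)
    (hnil : IsNilpotent ((1 : K) ⊗ₜ[A] b)) (hne : (1 : K) ⊗ₜ[A] b ≠ 0) :
    ∃ b' : B, IsNilpotent b' ∧ ∀ a : A, a ≠ 0 → a • b' ≠ 0 := by
  haveI : FaithfulSMul A K := (faithfulSMul_iff_algebraMap_injective A K).2 hinj
  letI : Algebra (FractionRing A) K := FractionRing.liftAlgebra A K
  haveI : IsScalarTower A (FractionRing A) K := FractionRing.isScalarTower_liftAlgebra A K
  obtain ⟨n, hn⟩ := hnil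
  -- `1 ⊗ b ^ n = 0` over the fraction field
  have h1 : (1 : FractionRing A) ⊗ₜ[A] (b ^ n) = 0 := by
    rw [← Module.FaithfullyFlat.one_tmul_eq_zero_iff (FractionRing A)
      (FractionRing A ⊗[A] B) (A := K)]
    apply (Algebra.TensorProduct.cancelBaseChange A (FractionRing A) K K B).injective
    rw [Algebra.TensorProduct.cancelBaseChange_tmul, map_zero, one_smul]
    rw [← hn, Algebra.TensorProduct.tmul_pow, one_pow]
  obtain ⟨t, ht0, ht⟩ := Groth.Agent.S4801.exists_smul_eq_zero_of_tmul_eq_zero (b ^ n) h1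
  refine ⟨t • b, ⟨n + 1, ?_⟩, ?_⟩
  · rw [smul_pow, pow_succ b, pow_succ t, mul_smul, ← smul_mul_assoc, ht, zero_mul, smul_zero]
  · intro a ha hab
    apply hne
    have h2 : (1 : K) ⊗ₜ[A] (a • t • b) = 0 := by rw [hab, tmul_zero]
    have h3 : (a * t) • ((1 : K) ⊗ₜ[A] b) = 0 := by
      rw [mul_smul, ← tmul_smul, ← tmul_smul]
      exact h2
    have h4 : algebraMap A K (a * t) ≠ 0 := by
      rw [Ne, map_eq_zero_iff _ hinj]
      exact mul_ne_zero ha ht0
    have h5 : (algebraMap A K (a * t)) • ((1 : K) ⊗ₜ[A] b) = 0 := by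
      rw [algebraMap_smul]
      exact h3
    exact (smul_eq_zero.1 h5).resolve_left h4

/-! ### part NG3 -/
/-- core: a nilpotent of `K ⊗ B` defined over a finite type domain `A₁ ⊆ K` over `A` spreads out to
non-reducedness of suitable extensions of the residue fields over a nonempty basic open -/
theorem core3 {A A₁ B K : Type u} [CommRing A] [IsDomain A] [CommRing A₁] [IsDomain A₁]
    [Algebra A A₁] [Algebra.FiniteType A A₁] [CommRing B] [Algebra A B] [Algebra.FiniteType A B]
    [Field K] [Algebra A₁ K]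
    (hinj₁ : Function.Injective (algebraMap A A₁)) (hinj₂ : Function.Injective (algebraMap A₁ K))
    (x₁ : A₁ ⊗[A] B) (hnil : IsNilpotent ((1 : K) ⊗ₜ[A₁] x₁)) (hne : (1 : K) ⊗ₜ[A₁] x₁ ≠ 0) :
    ∃ f : A, f ≠ 0 ∧ ∀ (κ : Type u) [Field κ] [Algebra A κ], IsUnit (algebraMap A κ f) →
      ∃ (K' : Type u) (_ : Field K') (_ : Algebra A K') (_ : Algebra κ K'),
        IsScalarTower A κ K' ∧ ¬ IsReduced (K' ⊗[A] B) := by
  obtain ⟨b', hb'nil, hb'⟩ := exists_nilpotent_of_tmul (A := A₁) (B := A₁ ⊗[A] B) (K := K)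
    hinj₂ x₁ hnil hne
  obtain ⟨f₁, hf₁, H₁⟩ := exists_forall_not_isReduced_of_nilpotent (A := A₁) (B := A₁ ⊗[A] B)
    b' hb'nil hb'
  have hle : Submonoid.powers f₁ ≤ nonZeroDivisors A₁ :=
    powers_le_nonZeroDivisors_of_noZeroDivisors hf₁
  haveI : IsDomain (Localization.Away f₁) := IsLocalization.isDomain_localization hle
  have hinjC : Function.Injective (algebraMap A (Localization.Away f₁)) := by
    rw [IsScalarTower.algebraMap_eq A A₁ (Localization.Away f₁)]
    exact (IsLocalization.injective (Localization.Away f₁) hle).comp hinj₁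
  obtain ⟨f, hf, H⟩ := exists_forall_tmul_ne_zero (A := A) (B := Localization.Away f₁)
    (1 : Localization.Away f₁) (by
      intro a ha h
      rw [Algebra.smul_def, mul_one] at h
      exact ha ((map_eq_zero_iff _ hinjC).1 h))
  refine ⟨f, hf, ?_⟩
  intro κ _ _ hu
  have h1 := H κ hu
  haveI : Nontrivial (κ ⊗[A] Localization.Away f₁) :=
    ⟨⟨_, _, h1⟩⟩
  obtain ⟨m, hm⟩ := Ideal.exists_maximal (κ ⊗[A] Localization.Away f₁)
  letI : Field ((κ ⊗[A] Localization.Away f₁) ⧸ m) := Ideal.Quotient.field m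
  refine ⟨(κ ⊗[A] Localization.Away f₁) ⧸ m, inferInstance, inferInstance, inferInstance,
    inferInstance, ?_⟩
  -- the `A₁`-algebra structure
  let ρ : A₁ →+* (κ ⊗[A] Localization.Away f₁) ⧸ m :=
    (Ideal.Quotient.mk m).comp
      ((Algebra.TensorProduct.includeRight : Localization.Away f₁ →ₐ[A] κ ⊗[A] Localization.Away f₁).toRingHom.comp
        (algebraMap A₁ (Localization.Away f₁)))
  letI : Algebra A₁ ((κ ⊗[A] Localization.Away f₁) ⧸ m) := ρ.toAlgebra
  haveI : IsScalarTower A A₁ ((κ ⊗[A] Localization.Away f₁) ⧸ m) := by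
    refine IsScalarTower.of_algebraMap_eq (fun a => ?_)
    show _ = ρ (algebraMap A A₁ a)
    simp only [ρ, RingHom.comp_apply]
    rw [← IsScalarTower.algebraMap_apply A A₁ (Localization.Away f₁)]
    rw [AlgHom.toRingHom_eq_coe, RingHom.coe_coe, AlgHom.commutes]
    rfl
  have hu₁ : IsUnit (algebraMap A₁ ((κ ⊗[A] Localization.Away f₁) ⧸ m) f₁) := by
    show IsUnit (ρ f₁)
    simp only [ρ, RingHom.comp_apply]
    exact ((IsLocalization.Away.algebraMap_isUnit (S := Localization.Away f₁) f₁).map _).map _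
  have h2 := H₁ ((κ ⊗[A] Localization.Away f₁) ⧸ m) hu₁
  intro hred
  apply h2
  exact isReduced_of_injective
    (Algebra.TensorProduct.cancelBaseChange A A₁ ((κ ⊗[A] Localization.Away f₁) ⧸ m)
      ((κ ⊗[A] Localization.Away f₁) ⧸ m) B)
    (AlgEquiv.injective _)

/-! ### part NG4 -/
/-- domain version -/
theorem exists_forall_not_isReduced_ext_of_domain {A B K : Type u} [CommRing A] [IsDomain A]
    [CommRing B] [Algebra A B] [Algebra.FiniteType A B] [Field K] [Algebra A K]
    (hinj : Function.Injective (algebraMap A K)) (h : ¬ IsReduced (K ⊗[A] B)) :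
    ∃ f : A, f ≠ 0 ∧ ∀ (κ : Type u) [Field κ] [Algebra A κ], IsUnit (algebraMap A κ f) →
      ∃ (K' : Type u) (_ : Field K') (_ : Algebra A K') (_ : Algebra κ K'),
        IsScalarTower A κ K' ∧ ¬ IsReduced (K' ⊗[A] B) := by
  classical
  obtain ⟨x, hxnil, hx0⟩ : ∃ x : K ⊗[A] B, IsNilpotent x ∧ x ≠ 0 := by
    by_contra hcon
    push Not at hcon
    exact h ⟨fun x hx => hcon x hx⟩
  obtain ⟨S, hS⟩ := TensorProduct.exists_finset x
  let A₁ : Subalgebra A K := Algebra.adjoin A ((S.image Prod.fst : Finset K) : Set K)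
  haveI : Algebra.FiniteType A A₁ :=
    (Subalgebra.fg_iff_finiteType A₁).1 (Subalgebra.fg_adjoin_finset _)
  have hinj₁ : Function.Injective (algebraMap A A₁) := by
    intro a b hab
    apply hinj
    have := congrArg (Subtype.val) hab
    exact this
  have hinj₂ : Function.Injective (algebraMap A₁ K) := Subtype.val_injective
  have hmem : ∀ i ∈ S, i.1 ∈ A₁ := fun i hi =>
    Algebra.subset_adjoin (Finset.mem_coe.2 (Finset.mem_image_of_mem Prod.fst hi))
  let x₁ : A₁ ⊗[A] B := ∑ i ∈ S.attach, (⟨i.1.1, hmem i.1 i.2⟩ : A₁) ⊗ₜ[A] i.1.2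
  have hx₁ : Algebra.TensorProduct.cancelBaseChange A A₁ K K B ((1 : K) ⊗ₜ[A₁] x₁) = x := by
    rw [hS]
    simp only [x₁, TensorProduct.tmul_sum, map_sum, Algebra.TensorProduct.cancelBaseChange_tmul]
    rw [← Finset.sum_attach S (fun i => i.1 ⊗ₜ[A] i.2)]
    refine Finset.sum_congr rfl (fun i _ => ?_)
    congr 1
    rw [Algebra.smul_def, mul_one]
    rfl
  have hnil : IsNilpotent ((1 : K) ⊗ₜ[A₁] x₁) := by
    have := hxnil.map (Algebra.TensorProduct.cancelBaseChange A A₁ K K B).symm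
    rwa [← hx₁, AlgEquiv.symm_apply_apply] at this
  have hne : (1 : K) ⊗ₜ[A₁] x₁ ≠ 0 := by
    intro h0
    apply hx0
    rw [← hx₁, h0, map_zero]
  exact core3 hinj₁ hinj₂ x₁ hnil hne

/-! ### part NG5 -/
/-- **Geometric non-reducedness of the generic fibre spreads out** (algebra): `p₀` is a prime
contained in all primes, `K` a field over `A` with kernel `p₀`. -/
theorem exists_forall_not_isReduced_ext {A B K : Type u} [CommRing A] [CommRing B] [Algebra A B]
    [Algebra.FiniteType A B] (p₀ : Ideal A) [p₀.IsPrime]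
    (hmin : ∀ q : Ideal A, q.IsPrime → p₀ ≤ q) [Field K] [Algebra A K]
    (hker : ∀ a : A, algebraMap A K a = 0 ↔ a ∈ p₀)
    (h : ¬ IsReduced (K ⊗[A] B)) :
    ∃ f : A, f ∉ p₀ ∧ ∀ (q : Ideal A) [q.IsPrime], f ∉ q →
      ∃ (K' : Type u) (_ : Field K') (_ : Algebra A K'),
        (∀ a : A, algebraMap A K' a = 0 ↔ a ∈ q) ∧ ¬ IsReduced (K' ⊗[A] B) := by
  letI : Algebra (A ⧸ p₀) K :=
    (Ideal.Quotient.lift p₀ (algebraMap A K) (fun a ha => (hker a).2 ha)).toAlgebra
  haveI : IsScalarTower A (A ⧸ p₀) K := IsScalarTower.of_algebraMap_eq (fun a => rfl)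
  have hinj : Function.Injective (algebraMap (A ⧸ p₀) K) := by
    rw [injective_iff_map_eq_zero]
    intro a ha
    obtain ⟨a, rfl⟩ := Ideal.Quotient.mk_surjective a
    exact Ideal.Quotient.eq_zero_iff_mem.2 ((hker a).1 ha)
  have h' : ¬ IsReduced (K ⊗[A ⧸ p₀] ((A ⧸ p₀) ⊗[A] B)) := by
    intro hred
    apply h
    exact isReduced_of_injective
      (Algebra.TensorProduct.cancelBaseChange A (A ⧸ p₀) K K B).symm
      (AlgEquiv.injective _)
  obtain ⟨f', hf', H⟩ := exists_forall_not_isReduced_ext_of_domain (A := A ⧸ p₀)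
    (B := (A ⧸ p₀) ⊗[A] B) (K := K) hinj h'
  obtain ⟨f, rfl⟩ := Ideal.Quotient.mk_surjective f'
  refine ⟨f, fun hf => hf' (Ideal.Quotient.eq_zero_iff_mem.2 hf), ?_⟩
  intro q _ hfq
  have hker' : ∀ a ∈ p₀, algebraMap A q.ResidueField a = 0 := fun a ha =>
    (Ideal.algebraMap_residueField_eq_zero).2 (hmin q inferInstance ha)
  letI : Algebra (A ⧸ p₀) q.ResidueField :=
    (Ideal.Quotient.lift p₀ (algebraMap A q.ResidueField) hker').toAlgebra
  haveI : IsScalarTower A (A ⧸ p₀) q.ResidueField :=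
    IsScalarTower.of_algebraMap_eq (fun a => rfl)
  have hu : IsUnit (algebraMap (A ⧸ p₀) q.ResidueField (Ideal.Quotient.mk p₀ f)) := by
    rw [isUnit_iff_ne_zero]
    show algebraMap A q.ResidueField f ≠ 0
    rw [Ne, Ideal.algebraMap_residueField_eq_zero]
    exact hfq
  obtain ⟨K', hK', hAK', hκK', htower, hnr⟩ := H q.ResidueField hu
  letI : Algebra A K' := ((algebraMap (A ⧸ p₀) K').comp (Ideal.Quotient.mk p₀)).toAlgebra
  haveI : IsScalarTower A (A ⧸ p₀) K' := IsScalarTower.of_algebraMap_eq (fun a => rfl)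
  refine ⟨K', hK', inferInstance, ?_, ?_⟩
  · intro a
    have e1 : algebraMap A K' a =
        algebraMap q.ResidueField K' (algebraMap A q.ResidueField a) := by
      show algebraMap (A ⧸ p₀) K' (Ideal.Quotient.mk p₀ a) = _
      rw [IsScalarTower.algebraMap_apply (A ⧸ p₀) q.ResidueField K']
      rfl
    rw [e1, map_eq_zero, Ideal.algebraMap_residueField_eq_zero]
  · intro hred
    apply hnr
    exact isReduced_of_injective
      (Algebra.TensorProduct.cancelBaseChange A (A ⧸ p₀) K' K' B)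
      (AlgEquiv.injective _)

/-! ### part NG6 -/
/-- **The pullback over an affine piece**: for affine opens `W ⊆ f⁻¹ V` and `z' : T ⟶ Spec Γ(Y, V)`,
the pullback of `Spec Γ(X, W) ⟶ Spec Γ(Y, V)` along `z'` is the open subscheme of the pullback of `f`
lying over `W`. -/
theorem exists_isPullback_pullback_affine {X Y T : Scheme.{u}} (f : X ⟶ Y) {V : Y.Opens}
    {W : X.Opens} (hV : IsAffineOpen V) (hW : IsAffineOpen W) (e : W ≤ f ⁻¹ᵁ V)
    (z' : T ⟶ Spec Γ(Y, V)) :
    ∃ j : pullback (Spec.map (f.appLE V W e)) z' ⟶ pullback f (z' ≫ hV.fromSpec),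
      IsPullback j (pullback.fst (Spec.map (f.appLE V W e)) z')
        (pullback.fst f (z' ≫ hV.fromSpec)) hW.fromSpec := by
  set φ := f.appLE V W e with hφ
  have hT : IsPullback (pullback.fst (Spec.map φ) z') (pullback.snd (Spec.map φ) z')
      (Spec.map φ) z' := IsPullback.of_hasPullback _ _
  have hT' := isPullback_comp_mono hT hV.fromSpec
  have e1 : Spec.map φ ≫ hV.fromSpec = hW.fromSpec ≫ f :=
    IsAffineOpen.SpecMap_appLE_fromSpec f hV hW e
  rw [e1] at hT'
  have hF : IsPullback (pullback.fst f (z' ≫ hV.fromSpec)) (pullback.snd f (z' ≫ hV.fromSpec)) f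
      (z' ≫ hV.fromSpec) := IsPullback.of_hasPullback _ _
  have w : (pullback.fst (Spec.map φ) z' ≫ hW.fromSpec) ≫ f =
      pullback.snd (Spec.map φ) z' ≫ (z' ≫ hV.fromSpec) := by
    rw [Category.assoc]
    exact hT'.w
  refine ⟨hF.lift _ _ w, IsPullback.of_right ?_ (hF.lift_fst _ _ w) hF.flip⟩
  rw [hF.lift_snd]
  exact hT'.flip

/-- a pullback is reduced as soon as all its affine pieces are -/
theorem isReduced_pullback_of_forall_affine {X Y T : Scheme.{u}} (f : X ⟶ Y) {V : Y.Opens}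
    (hV : IsAffineOpen V) (z' : T ⟶ Spec Γ(Y, V))
    (H : ∀ (W : X.Opens) (_ : IsAffineOpen W) (e : W ≤ f ⁻¹ᵁ V),
      IsReduced (pullback (Spec.map (f.appLE V W e)) z')) :
    IsReduced (pullback f (z' ≫ hV.fromSpec)) := by
  haveI : ∀ x : ↑(pullback f (z' ≫ hV.fromSpec)),
      _root_.IsReduced ((pullback f (z' ≫ hV.fromSpec)).presheaf.stalk x) := by
    intro x
    have hx : pullback.fst f (z' ≫ hV.fromSpec) x ∈ f ⁻¹ᵁ V := by
      show f (pullback.fst f (z' ≫ hV.fromSpec) x) ∈ V
      rw [← Scheme.Hom.comp_apply, pullback.condition, Scheme.Hom.comp_apply,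
        Scheme.Hom.comp_apply]
      have h2 : hV.fromSpec (z' (pullback.snd f (z' ≫ hV.fromSpec) x)) ∈ Set.range hV.fromSpec :=
        ⟨_, rfl⟩
      rw [hV.range_fromSpec] at h2
      exact h2
    obtain ⟨_, ⟨W, hW : IsAffineOpen W, rfl⟩, hxW, hWV⟩ :=
      X.isBasis_affineOpens.exists_subset_of_mem_open hx (f ⁻¹ᵁ V).isOpen
    obtain ⟨j, hj⟩ := exists_isPullback_pullback_affine f hV hW hWV z'
    haveI : IsOpenImmersion j :=
      MorphismProperty.of_isPullback (P := @IsOpenImmersion) hj.flip inferInstance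
    have hr : x ∈ Set.range j := by
      rw [show Set.range j = Set.range j.base from rfl, range_fst_of_isPullback hj]
      show pullback.fst f (z' ≫ hV.fromSpec) x ∈ Set.range hW.fromSpec
      rw [hW.range_fromSpec]
      exact hxW
    obtain ⟨t, rfl⟩ := hr
    haveI := H W hW hWV
    exact isReduced_of_injective (j.stalkMap t).hom
      ((ConcreteCategory.bijective_of_isIso (j.stalkMap t)).1)
  exact isReduced_of_isReduced_stalk _

/-- reducedness of a fibre product of affine schemes -/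
theorem isReduced_pullback_SpecMap_iff {R S T : Type u} [CommRing R] [CommRing S] [CommRing T]
    [Algebra R S] [Algebra R T] :
    IsReduced (pullback (Spec.map (CommRingCat.ofHom (algebraMap R S)))
      (Spec.map (CommRingCat.ofHom (algebraMap R T)))) ↔ _root_.IsReduced (T ⊗[R] S) := by
  have e := pullbackSpecIso R S T
  have h1 : _root_.IsReduced (S ⊗[R] T) ↔ _root_.IsReduced (T ⊗[R] S) :=
    ⟨fun _ => isReduced_of_injective (Algebra.TensorProduct.comm R T S) (AlgEquiv.injective _),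
     fun _ => isReduced_of_injective (Algebra.TensorProduct.comm R S T) (AlgEquiv.injective _)⟩
  refine Iff.trans ?_ ((affine_isReduced_iff (CommRingCat.of (S ⊗[R] T))).trans h1)
  constructor
  · intro h
    exact isReduced_of_isOpenImmersion e.inv
  · intro h
    exact isReduced_of_isOpenImmersion e.hom

/-- the affine piece of a pullback to a field, in terms of the tensor product -/
theorem isReduced_pullback_affine_iff {X Y : Scheme.{u}} (f : X ⟶ Y) {V : Y.Opens} {W : X.Opens}
    (e : W ≤ f ⁻¹ᵁ V) {K : Type u} [Field K] [Algebra Γ(Y, V) K] :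
    letI : Algebra Γ(Y, V) Γ(X, W) := (f.appLE V W e).hom.toAlgebra
    IsReduced (pullback (Spec.map (f.appLE V W e))
      (Spec.map (CommRingCat.ofHom (algebraMap Γ(Y, V) K)))) ↔
      _root_.IsReduced (K ⊗[Γ(Y, V)] Γ(X, W)) := by
  letI : Algebra Γ(Y, V) Γ(X, W) := (f.appLE V W e).hom.toAlgebra
  exact isReduced_pullback_SpecMap_iff (R := Γ(Y, V)) (S := Γ(X, W)) (T := K)

/-- the image of the point of the spectrum of a field -/
theorem SpecMap_apply_eq_iff {R : CommRingCat.{u}} {K : Type u} [Field K]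
    (ψ : R ⟶ CommRingCat.of K) (x : Spec (CommRingCat.of K)) (q : Spec R) :
    Spec.map ψ x = q ↔ ∀ a : R, ψ.hom a = 0 ↔ a ∈ (show PrimeSpectrum R from q).asIdeal := by
  have hx : (show PrimeSpectrum K from x).asIdeal = ⊥ :=
    Ideal.eq_bot_of_prime _
  rw [Spec.map_apply]
  constructor
  · rintro rfl a
    show _ ↔ a ∈ Ideal.comap ψ.hom (show PrimeSpectrum K from x).asIdeal
    rw [hx, Ideal.mem_comap, Ideal.mem_bot]
  · intro h
    apply PrimeSpectrum.ext
    ext a
    show a ∈ Ideal.comap ψ.hom (show PrimeSpectrum K from x).asIdeal ↔ _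
    rw [hx, Ideal.mem_comap, Ideal.mem_bot]
    exact h a

/-! ### part NG7 -/
/-- `y` carries a geometric point over which the pullback of `f` is non-reduced -/
def NGR {X Y : Scheme.{u}} (f : X ⟶ Y) (y : Y) : Prop :=
  ∃ (K : Type u) (_ : Field K) (z : Spec (CommRingCat.of K) ⟶ Y),
    (∀ x : Spec (CommRingCat.of K), z x = y) ∧ ¬ IsReduced (pullback f z)

theorem not_geometricallyReduced_fiber_iff {X Y : Scheme.{u}} (f : X ⟶ Y) (y : Y) :
    ¬ GeometricallyReduced (f.fiberToSpecResidueField y) ↔ NGR f y := by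
  constructor
  · intro h
    by_contra hcon
    apply h
    refine ⟨?_⟩
    intro K _ z₀ Z fst snd hpb
    have e1 : Z ≅ pullback (f.fiberToSpecResidueField y) z₀ := hpb.isoPullback
    have e2 : pullback (f.fiberToSpecResidueField y) z₀ ≅
        pullback f (z₀ ≫ Y.fromSpecResidueField y) :=
      pullbackLeftPullbackSndIso f (Y.fromSpecResidueField y) z₀
    have hred : IsReduced (pullback f (z₀ ≫ Y.fromSpecResidueField y)) := by
      by_contra hnr
      exact hcon ⟨K, inferInstance, z₀ ≫ Y.fromSpecResidueField y,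
        fun x => by rw [Scheme.Hom.comp_apply, Scheme.fromSpecResidueField_apply], hnr⟩
    exact isReduced_of_isOpenImmersion (e1 ≪≫ e2).hom
  · rintro ⟨K, _, z, hz, hnr⟩ hGR
    obtain ⟨⟨y', φ⟩, rfl⟩ := (Scheme.SpecToEquivOfField K Y).symm.surjective z
    have hy : y' = y := by
      obtain ⟨x⟩ : Nonempty (Spec (CommRingCat.of K)) := inferInstance
      rw [← hz x]
      show y' = (Spec.map φ ≫ Y.fromSpecResidueField y') x
      rw [Scheme.Hom.comp_apply, Scheme.fromSpecResidueField_apply]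
    subst hy
    have hred : IsReduced (pullback (f.fiberToSpecResidueField y') (Spec.map φ)) :=
      hGR.geometrically_isReduced _ _ _ (IsPullback.of_hasPullback _ _)
    have e2 : pullback (f.fiberToSpecResidueField y') (Spec.map φ) ≅
        pullback f (Spec.map φ ≫ Y.fromSpecResidueField y') :=
      pullbackLeftPullbackSndIso f (Y.fromSpecResidueField y') (Spec.map φ)
    apply hnr
    have h3 : IsReduced (pullback f (Spec.map φ ≫ Y.fromSpecResidueField y')) :=
      isReduced_of_isOpenImmersion e2.inv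
    exact h3

/-! ### part NG8 -/
theorem exists_open_forall_NGR {X Y : Scheme.{u}} (f : X ⟶ Y)
    [IrreducibleSpace Y] [LocallyOfFiniteType f] (h : NGR f (genericPoint Y)) :
    ∃ V : Y.Opens, (V : Set Y).Nonempty ∧ ∀ y ∈ V, NGR f y := by
  obtain ⟨_, ⟨V, hV : IsAffineOpen V, rfl⟩, hηV, -⟩ :=
    Y.isBasis_affineOpens.exists_subset_of_mem_open (Set.mem_univ (genericPoint Y)) isOpen_univ
  obtain ⟨p₀, hp₀, hmin⟩ := exists_generic_prime hV hηV
  obtain ⟨K, _, z, hz, hnr⟩ := h
  -- `z` factors through the chart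
  have hrange : Set.range z ⊆ Set.range hV.fromSpec := by
    rintro _ ⟨x, rfl⟩
    rw [hz x, hV.range_fromSpec]
    exact hηV
  have hz' : IsOpenImmersion.lift hV.fromSpec z hrange ≫ hV.fromSpec = z :=
    IsOpenImmersion.lift_fac _ _ _
  obtain ⟨ψ, hψ⟩ := Spec.map_surjective (IsOpenImmersion.lift hV.fromSpec z hrange)
  rw [← hψ] at hz'
  have hpt : ∀ x : Spec (CommRingCat.of K), Spec.map ψ x = p₀ := by
    intro x
    apply hV.fromSpec.isOpenEmbedding.injective
    rw [← Scheme.Hom.comp_apply, hz', hz x, hp₀]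
  obtain ⟨x₀⟩ : Nonempty (Spec (CommRingCat.of K)) := inferInstance
  have hker := (SpecMap_apply_eq_iff ψ x₀ p₀).1 (hpt x₀)
  rw [← hz'] at hnr
  -- a non-reduced affine piece
  obtain ⟨W, hW, e, hWnr⟩ : ∃ (W : X.Opens) (_ : IsAffineOpen W) (e : W ≤ f ⁻¹ᵁ V),
      ¬ IsReduced (pullback (Spec.map (f.appLE V W e)) (Spec.map ψ)) := by
    by_contra hcon
    push Not at hcon
    exact hnr (isReduced_pullback_of_forall_affine f hV (Spec.map ψ) hcon)
  letI : Algebra Γ(Y, V) K := ψ.hom.toAlgebra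
  letI : Algebra Γ(Y, V) Γ(X, W) := (f.appLE V W e).hom.toAlgebra
  haveI : Algebra.FiniteType Γ(Y, V) Γ(X, W) := f.finiteType_appLE hV hW e
  have hWnr' : ¬ _root_.IsReduced (K ⊗[Γ(Y, V)] Γ(X, W)) :=
    fun hred => hWnr ((isReduced_pullback_affine_iff f e (K := K)).2 hred)
  obtain ⟨f₀, hf₀, H⟩ := exists_forall_not_isReduced_ext
    (show PrimeSpectrum Γ(Y, V) from p₀).asIdeal hmin hker hWnr'
  refine ⟨hV.fromSpec ''ᵁ (PrimeSpectrum.basicOpen f₀), ⟨hV.fromSpec p₀, p₀, hf₀, rfl⟩, ?_⟩
  rintro _ ⟨q, hq, rfl⟩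
  obtain ⟨K', hK', hAK', hker', hnr'⟩ := H (show PrimeSpectrum Γ(Y, V) from q).asIdeal hq
  refine ⟨K', hK', Spec.map (CommRingCat.ofHom (algebraMap Γ(Y, V) K')) ≫ hV.fromSpec, ?_, ?_⟩
  · intro x
    rw [Scheme.Hom.comp_apply]
    congr 1
    exact (SpecMap_apply_eq_iff (CommRingCat.ofHom (algebraMap Γ(Y, V) K')) x q).2 hker'
  · intro hred
    obtain ⟨j, hj⟩ := exists_isPullback_pullback_affine f hV hW e
      (Spec.map (CommRingCat.ofHom (algebraMap Γ(Y, V) K')))
    haveI : IsOpenImmersion j :=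
      MorphismProperty.of_isPullback (P := @IsOpenImmersion) hj.flip inferInstance
    haveI := hred
    have h3 : IsReduced (pullback (Spec.map (f.appLE V W e))
        (Spec.map (CommRingCat.ofHom (algebraMap Γ(Y, V) K')))) := isReduced_of_isOpenImmersion j
    exact hnr' ((isReduced_pullback_affine_iff f e (K := K')).1 h3)

/-- **Stacks 0575 (geometrically reduced case)**: if the generic fibre is not geometrically reduced,
no fibre over some nonempty open is geometrically reduced. -/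
theorem exists_open_forall_not_geometricallyReduced_fiber {X Y : Scheme.{u}} (f : X ⟶ Y)
    [IrreducibleSpace Y] [LocallyOfFiniteType f]
    (h : ¬ GeometricallyReduced (f.fiberToSpecResidueField (genericPoint Y))) :
    ∃ V : Y.Opens, (V : Set Y).Nonempty ∧
      ∀ y ∈ V, ¬ GeometricallyReduced (f.fiberToSpecResidueField y) := by
  obtain ⟨V, hV, H⟩ := exists_open_forall_NGR f ((not_geometricallyReduced_fiber_iff f _).1 h)
  exact ⟨V, hV, fun y hy => (not_geometricallyReduced_fiber_iff f y).2 (H y hy)⟩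

end Groth.Agent.Lib.Helper78.GenFibreGeom
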