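import Mathlib
import Groth.Agent.Lib.Helper78.GenFibreGeom

/-!
# Scheme theoretic density of the trace of an open on the generic fibre spreads out

Helper library of helper78 for S1300 (EGA IV 9.5.3-type statement).
-/

set_option autoImplicit false
set_option linter.style.haveILetI false
open TensorProduct AlgebraicGeometry CategoryTheory Limits
universe u

namespace Groth.Agent.Lib.Helper78.SchDense

open Groth.Agent.Lib.Helper78.GenFibre Groth.Agent.Lib.Helper78.GenFibreGeom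
  Groth.Agent.Lib.Helper78.FinLocus

/-! ### part SD1 -/
/-- if no nonzero element is killed by all `c ∈ s`, no nonzero element is killed by powers of
all the `c ∈ s` -/
theorem eq_zero_of_forall_pow_mul_eq_zero {R : Type u} [CommRing R] (s : Finset R)
    (H : ∀ r : R, (∀ c ∈ s, c * r = 0) → r = 0) (r₀ : R)
    (h : ∀ c ∈ s, ∃ n : ℕ, c ^ n * r₀ = 0) : r₀ = 0 := by
  let I₀ : Ideal R := LinearMap.ker (LinearMap.toSpanSingleton R R r₀)
  have hI₀ : ∀ a : R, a ∈ I₀ ↔ a * r₀ = 0 := fun a => by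
    simp [I₀, LinearMap.mem_ker, LinearMap.toSpanSingleton_apply]
  have hJ : Ideal.span (s : Set R) ≤ I₀.radical := by
    rw [Ideal.span_le]
    intro c hc
    obtain ⟨n, hn⟩ := h c hc
    exact ⟨n, (hI₀ _).2 hn⟩
  obtain ⟨k, hk⟩ := Ideal.exists_pow_le_of_le_radical_of_fg hJ ⟨s, rfl⟩
  have key : ∀ k : ℕ, Ideal.span (s : Set R) ^ k ≤ I₀ → r₀ = 0 := by
    intro k
    induction k with
    | zero =>
      intro h0
      have : (1 : R) ∈ I₀ := h0 (by simp)
      simpa using (hI₀ 1).1 this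
    | succ k ih =>
      intro hk1
      apply ih
      intro m hm
      rw [hI₀]
      apply H
      intro c hc
      rw [← mul_assoc, ← hI₀]
      apply hk1
      rw [pow_succ']
      exact Ideal.mul_mem_mul (Ideal.subset_span hc) hm
  exact key k hk

/-- injectivity of a base change through a factorization -/
theorem baseChange_injective_of_factor {A : Type u} [CommRing A] {B' M C Q : Type u}
    [AddCommGroup B'] [Module A B'] [AddCommGroup M] [Module A M] [AddCommGroup C] [Module A C]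
    [AddCommGroup Q] [Module A Q]
    (f : A) (κ : Type u) [CommRing κ] [Algebra A κ] (hu : IsUnit (algebraMap A κ f))
    (π : B' →ₗ[A] C) (hπ : Function.Surjective π) (hker : ∀ z, π z = 0 → ∃ k : ℕ, f ^ k • z = 0)
    (j : C →ₗ[A] M) (hj : Function.Injective j) (p : M →ₗ[A] Q) (hp : Function.Surjective p)
    (hex : Function.Exact j p)
    [Module.Flat (Localization.Away f) (Localization.Away f ⊗[A] Q)] :
    Function.Injective ((j ∘ₗ π).baseChange κ) := by
  rw [LinearMap.baseChange_comp]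
  exact (Groth.Agent.S4801.baseChange_injective_of_flat_localized f κ hu j hj p hp hex).comp
    (Groth.Agent.S4801.baseChange_injective_of_pow_torsion_ker f κ hu π hπ hker)

/-- torsion elements die in a free localization -/
theorem exists_pow_smul_eq_zero_of_torsion {A B : Type u} [CommRing A] [IsDomain A]
    [AddCommGroup B] [Module A B] (f : A) (hf : f ≠ 0)
    [Module.Free (Localization.Away f) (Localization.Away f ⊗[A] B)]
    (x : B) (a : A) (ha : a ≠ 0) (hax : a • x = 0) : ∃ k : ℕ, f ^ k • x = 0 := by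
  have hle : Submonoid.powers f ≤ nonZeroDivisors A :=
    powers_le_nonZeroDivisors_of_noZeroDivisors hf
  haveI : IsDomain (Localization.Away f) := IsLocalization.isDomain_localization hle
  haveI : IsLocalizedModule (Submonoid.powers f) (TensorProduct.mk A (Localization.Away f) B 1) :=
    (isLocalizedModule_iff_isBaseChange (Submonoid.powers f) (Localization.Away f) _).2
      (TensorProduct.isBaseChange A B (Localization.Away f))
  have h1 : (algebraMap A (Localization.Away f) a) • ((1 : Localization.Away f) ⊗ₜ[A] x) = 0 := by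
    rw [algebraMap_smul, ← TensorProduct.tmul_smul, hax, TensorProduct.tmul_zero]
  have h2 : algebraMap A (Localization.Away f) a ≠ 0 := by
    rw [Ne, map_eq_zero_iff _ (IsLocalization.injective (Localization.Away f) hle)]
    exact ha
  have h3 : (1 : Localization.Away f) ⊗ₜ[A] x = 0 := (smul_eq_zero.1 h1).resolve_left h2
  obtain ⟨⟨_, k, rfl⟩, hk0⟩ := (IsLocalizedModule.eq_zero_iff (Submonoid.powers f)
    (TensorProduct.mk A (Localization.Away f) B 1)).1 h3
  exact ⟨k, hk0⟩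

/-! ### part SD2 -/
/-- generic injectivity: a `B`-linear map from `B` to a finite `B`-module whose kernel is
`A`-torsion stays injective on the fibres over a nonempty basic open of `Spec A` -/
theorem exists_forall_baseChange_injective {A B M : Type u} [CommRing A] [IsDomain A]
    [CommRing B] [Algebra A B] [Algebra.FiniteType A B]
    [AddCommGroup M] [Module A M] [Module B M] [IsScalarTower A B M] [Module.Finite B M]
    (ψ : B →ₗ[B] M)
    (htors : ∀ x : B, ψ x = 0 → ∃ a : A, a ≠ 0 ∧ a • x = 0) :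
    ∃ f : A, f ≠ 0 ∧ ∀ (κ : Type u) [CommRing κ] [Algebra A κ], IsUnit (algebraMap A κ f) →
      Function.Injective ((ψ.restrictScalars A).baseChange κ) := by
  obtain ⟨f₁, hf₁, H₁⟩ := Groth.Agent.Lib.Helper18.exists_free_tensor_dvd (R := A) B B
  obtain ⟨f₂, hf₂, H₂⟩ := Groth.Agent.Lib.Helper18.exists_free_tensor_dvd (R := A) B
    (M ⧸ LinearMap.range ψ)
  have hf : f₁ * f₂ ≠ 0 := mul_ne_zero hf₁ hf₂
  refine ⟨f₁ * f₂, hf, ?_⟩
  intro κ _ _ hu
  haveI : Module.Free (Localization.Away (f₁ * f₂)) (Localization.Away (f₁ * f₂) ⊗[A] B) :=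
    H₁ _ (dvd_mul_right _ _) hf (Localization.Away (f₁ * f₂))
  haveI : Module.Free (Localization.Away (f₁ * f₂))
      (Localization.Away (f₁ * f₂) ⊗[A] (M ⧸ LinearMap.range ψ)) :=
    H₂ _ (dvd_mul_left _ _) hf (Localization.Away (f₁ * f₂))
  have hπ : Function.Surjective ((ψ.rangeRestrict).restrictScalars A) :=
    LinearMap.surjective_rangeRestrict ψ
  have hker : ∀ z : B, ((ψ.rangeRestrict).restrictScalars A) z = 0 →
      ∃ k : ℕ, (f₁ * f₂) ^ k • z = 0 := by
    intro z hz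
    have hz' : ψ z = 0 := congrArg Subtype.val hz
    obtain ⟨a, ha, haz⟩ := htors z hz'
    exact exists_pow_smul_eq_zero_of_torsion (f₁ * f₂) hf z a ha haz
  have hj : Function.Injective (((LinearMap.range ψ).subtype).restrictScalars A) :=
    Subtype.val_injective
  have hp : Function.Surjective (((LinearMap.range ψ).mkQ).restrictScalars A) :=
    Submodule.mkQ_surjective (LinearMap.range ψ)
  have hex : Function.Exact (((LinearMap.range ψ).subtype).restrictScalars A)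
      (((LinearMap.range ψ).mkQ).restrictScalars A) :=
    LinearMap.exact_subtype_mkQ (LinearMap.range ψ)
  have key := baseChange_injective_of_factor (f₁ * f₂) κ hu
    ((ψ.rangeRestrict).restrictScalars A) hπ hker
    (((LinearMap.range ψ).subtype).restrictScalars A) hj
    (((LinearMap.range ψ).mkQ).restrictScalars A) hp hex
  have e : (((LinearMap.range ψ).subtype).restrictScalars A) ∘ₗ
      ((ψ.rangeRestrict).restrictScalars A) = ψ.restrictScalars A := by
    ext x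
    rfl
  rwa [e] at key

/-! ### part SD3 -/
/-- `1 ⊗ x = 0` over a field containing the domain `A` forces `x` to be torsion -/
theorem exists_smul_eq_zero_of_tmul_eq_zero_field {A B K : Type u} [CommRing A] [IsDomain A]
    [AddCommGroup B] [Module A B] [Field K] [Algebra A K]
    (hinj : Function.Injective (algebraMap A K)) (x : B) (h : (1 : K) ⊗ₜ[A] x = 0) :
    ∃ t : A, t ≠ 0 ∧ t • x = 0 := by
  haveI : FaithfulSMul A K := (faithfulSMul_iff_algebraMap_injective A K).2 hinj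
  letI : Algebra (FractionRing A) K := FractionRing.liftAlgebra A K
  haveI : IsScalarTower A (FractionRing A) K := FractionRing.isScalarTower_liftAlgebra A K
  have h1 : (1 : FractionRing A) ⊗ₜ[A] x = 0 := by
    rw [← Module.FaithfullyFlat.one_tmul_eq_zero_iff (FractionRing A)
      (FractionRing A ⊗[A] B) (A := K)]
    apply (TensorProduct.AlgebraTensorModule.cancelBaseChange A (FractionRing A) K K B).injective
    rw [TensorProduct.AlgebraTensorModule.cancelBaseChange_tmul, map_zero, one_smul]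
    exact h
  exact Groth.Agent.S4801.exists_smul_eq_zero_of_tmul_eq_zero x h1

/-- the multiplication map `x ↦ (b j * x)_j` -/
noncomputable def mulPi {B : Type u} [CommRing B] {ι : Type u} (b : ι → B) : B →ₗ[B] (ι → B) :=
  LinearMap.pi (fun j => LinearMap.mulLeft B (b j))

theorem mulPi_apply {B : Type u} [CommRing B] {ι : Type u} (b : ι → B) (x : B) (j : ι) :
    mulPi b x j = b j * x := rfl

theorem piRightHom_baseChange_mulPi {A B κ : Type u} [CommRing A] [CommRing B] [Algebra A B]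
    [CommRing κ] [Algebra A κ] {ι : Type u} (b : ι → B) (r : κ ⊗[A] B) (j : ι) :
    TensorProduct.piRightHom A κ κ (fun _ : ι => B)
      ((((mulPi b).restrictScalars A).baseChange κ) r) j = ((1 : κ) ⊗ₜ[A] b j) * r := by
  induction r using TensorProduct.induction_on with
  | zero => simp
  | tmul x y =>
    rw [LinearMap.baseChange_tmul, TensorProduct.piRightHom_tmul,
      Algebra.TensorProduct.tmul_mul_tmul, one_mul]
    rfl
  | add x y hx hy =>
    rw [map_add, map_add, Pi.add_apply, hx, hy, mul_add]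

/-! ### part SD4 -/
theorem eq_zero_of_baseChange_mulPi_injective {A B κ : Type u} [CommRing A] [CommRing B]
    [Algebra A B] [CommRing κ] [Algebra A κ] {ι : Type u} [Fintype ι] [DecidableEq ι] (b : ι → B)
    (hinj : Function.Injective (((mulPi b).restrictScalars A).baseChange κ))
    (r : κ ⊗[A] B) (hr : ∀ j, ((1 : κ) ⊗ₜ[A] b j) * r = 0) : r = 0 := by
  apply hinj
  rw [map_zero]
  apply (TensorProduct.piRight A κ κ (fun _ : ι => B)).injective
  rw [map_zero, TensorProduct.piRight_apply]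
  funext j
  rw [piRightHom_baseChange_mulPi, hr j]
  rfl

/-- domain version -/
theorem exists_forall_ann_of_domain {A B K : Type u} [CommRing A] [IsDomain A] [CommRing B]
    [Algebra A B] [Algebra.FiniteType A B] [Field K] [Algebra A K]
    (hinj : Function.Injective (algebraMap A K))
    {ι : Type u} [Fintype ι] [DecidableEq ι] (b : ι → B)
    (h : ∀ r : K ⊗[A] B, (∀ j, ((1 : K) ⊗ₜ[A] b j) * r = 0) → r = 0) :
    ∃ f : A, f ≠ 0 ∧ ∀ (κ : Type u) [Field κ] [Algebra A κ], IsUnit (algebraMap A κ f) →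
      ∀ r : κ ⊗[A] B, (∀ j, ((1 : κ) ⊗ₜ[A] b j) * r = 0) → r = 0 := by
  have htors : ∀ x : B, mulPi b x = 0 → ∃ a : A, a ≠ 0 ∧ a • x = 0 := by
    intro x hx
    apply exists_smul_eq_zero_of_tmul_eq_zero_field hinj
    apply h
    intro j
    rw [Algebra.TensorProduct.tmul_mul_tmul, one_mul]
    have : b j * x = 0 := congrFun hx j
    rw [this, TensorProduct.tmul_zero]
  obtain ⟨f, hf, H⟩ := exists_forall_baseChange_injective (A := A) (mulPi b) htors
  refine ⟨f, hf, ?_⟩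
  intro κ _ _ hu r hr
  exact eq_zero_of_baseChange_mulPi_injective b (H κ hu) r hr

/-! ### part SD5 -/
/-- finite selection over a field: the fibre ring is Noetherian -/
theorem exists_finset_forall_ann {A B K : Type u} [CommRing A] [CommRing B] [Algebra A B]
    [Algebra.FiniteType A B] [Field K] [Algebra A K] (𝒮 : Set B)
    (h : ∀ r : K ⊗[A] B, (∀ b ∈ 𝒮, ((1 : K) ⊗ₜ[A] b) * r = 0) → r = 0) :
    ∃ s : Finset B, (s : Set B) ⊆ 𝒮 ∧
      ∀ r : K ⊗[A] B, (∀ b ∈ s, ((1 : K) ⊗ₜ[A] b) * r = 0) → r = 0 := by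
  classical
  haveI : IsNoetherianRing (K ⊗[A] B) := Algebra.FiniteType.isNoetherianRing K (K ⊗[A] B)
  have hfg : (Ideal.span ((fun b : B => (1 : K) ⊗ₜ[A] b) '' 𝒮)).FG :=
    IsNoetherian.noetherian _
  obtain ⟨t, ht, hspan⟩ := (Submodule.fg_span_iff_fg_span_finset_subset _).1 hfg
  obtain ⟨s, hs, hst⟩ := Finset.subset_set_image_iff.1 ht
  refine ⟨s, hs, ?_⟩
  intro r hr
  apply h
  intro b hb
  have hmem : (1 : K) ⊗ₜ[A] b ∈ Ideal.span ((fun b : B => (1 : K) ⊗ₜ[A] b) '' 𝒮) :=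
    Ideal.subset_span ⟨b, hb, rfl⟩
  have hle : Ideal.span ((fun b : B => (1 : K) ⊗ₜ[A] b) '' 𝒮) ≤
      LinearMap.ker (LinearMap.toSpanSingleton (K ⊗[A] B) (K ⊗[A] B) r) := by
    change Submodule.span _ _ ≤ _
    rw [hspan, Submodule.span_le]
    intro c hc
    rw [← hst] at hc
    obtain ⟨b', hb', rfl⟩ := Finset.mem_image.1 (Finset.mem_coe.1 hc)
    simpa [LinearMap.mem_ker, LinearMap.toSpanSingleton_apply] using hr b' hb'
  simpa [LinearMap.mem_ker, LinearMap.toSpanSingleton_apply] using hle hmem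

/-! ### part SD6 -/
/-- **Scheme theoretic density of the generic fibre spreads out** (algebra): `p₀` is a prime
contained in all primes, `K` a field over `A` with kernel `p₀`. -/
theorem exists_forall_ann {A B K : Type u} [CommRing A] [CommRing B] [Algebra A B]
    [Algebra.FiniteType A B] (p₀ : Ideal A) [p₀.IsPrime]
    (hmin : ∀ q : Ideal A, q.IsPrime → p₀ ≤ q) [Field K] [Algebra A K]
    (hker : ∀ a : A, algebraMap A K a = 0 ↔ a ∈ p₀) (𝒮 : Set B)
    (h : ∀ r : K ⊗[A] B, (∀ b ∈ 𝒮, ((1 : K) ⊗ₜ[A] b) * r = 0) → r = 0) :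
    ∃ s : Finset B, (s : Set B) ⊆ 𝒮 ∧ ∃ f : A, f ∉ p₀ ∧
      ∀ (K' : Type u) [Field K'] [Algebra A K'], algebraMap A K' f ≠ 0 →
        ∀ r : K' ⊗[A] B, (∀ b ∈ s, ((1 : K') ⊗ₜ[A] b) * r = 0) → r = 0 := by
  classical
  obtain ⟨s, hs, hfin⟩ := exists_finset_forall_ann 𝒮 h
  refine ⟨s, hs, ?_⟩
  letI : Algebra (A ⧸ p₀) K :=
    (Ideal.Quotient.lift p₀ (algebraMap A K) (fun a ha => (hker a).2 ha)).toAlgebra
  haveI : IsScalarTower A (A ⧸ p₀) K := IsScalarTower.of_algebraMap_eq (fun a => rfl)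
  have hinj : Function.Injective (algebraMap (A ⧸ p₀) K) := by
    rw [injective_iff_map_eq_zero]
    intro a ha
    obtain ⟨a, rfl⟩ := Ideal.Quotient.mk_surjective a
    exact Ideal.Quotient.eq_zero_iff_mem.2 ((hker a).1 ha)
  have h' : ∀ r : K ⊗[A ⧸ p₀] ((A ⧸ p₀) ⊗[A] B),
      (∀ j : s, ((1 : K) ⊗ₜ[A ⧸ p₀] ((1 : A ⧸ p₀) ⊗ₜ[A] j.1)) * r = 0) → r = 0 := by
    intro r hr
    apply (Algebra.TensorProduct.cancelBaseChange A (A ⧸ p₀) K K B).injective
    rw [map_zero]
    apply hfin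
    intro b hb
    have := congrArg (Algebra.TensorProduct.cancelBaseChange A (A ⧸ p₀) K K B) (hr ⟨b, hb⟩)
    rw [map_mul, map_zero, Algebra.TensorProduct.cancelBaseChange_tmul, one_smul] at this
    exact this
  obtain ⟨f', hf', H⟩ := exists_forall_ann_of_domain (A := A ⧸ p₀)
    (B := (A ⧸ p₀) ⊗[A] B) (K := K) hinj (fun j : s => (1 : A ⧸ p₀) ⊗ₜ[A] j.1) h'
  obtain ⟨f, rfl⟩ := Ideal.Quotient.mk_surjective f'
  refine ⟨f, fun hf => hf' (Ideal.Quotient.eq_zero_iff_mem.2 hf), ?_⟩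
  intro K' _ _ hfK' r hr
  have hker' : ∀ a ∈ p₀, algebraMap A K' a = 0 := by
    intro a ha
    have hprime : (RingHom.ker (algebraMap A K')).IsPrime := RingHom.ker_isPrime _
    exact hmin _ hprime ha
  letI : Algebra (A ⧸ p₀) K' :=
    (Ideal.Quotient.lift p₀ (algebraMap A K') hker').toAlgebra
  haveI : IsScalarTower A (A ⧸ p₀) K' := IsScalarTower.of_algebraMap_eq (fun a => rfl)
  have hu : IsUnit (algebraMap (A ⧸ p₀) K' (Ideal.Quotient.mk p₀ f)) := by
    rw [isUnit_iff_ne_zero]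
    exact hfK'
  have h0 := H K' hu ((Algebra.TensorProduct.cancelBaseChange A (A ⧸ p₀) K' K' B).symm r) (by
    intro j
    apply (Algebra.TensorProduct.cancelBaseChange A (A ⧸ p₀) K' K' B).injective
    rw [map_mul, map_zero, AlgEquiv.apply_symm_apply,
      Algebra.TensorProduct.cancelBaseChange_tmul, one_smul]
    exact hr j.1 j.2)
  have := congrArg (Algebra.TensorProduct.cancelBaseChange A (A ⧸ p₀) K' K' B) h0
  rwa [AlgEquiv.apply_symm_apply, map_zero] at this

/-! ### part SD7 -/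
/-- `t * s = 0` implies `s` vanishes on `D(t)` -/
theorem res_basicOpen_eq_zero_of_mul_eq_zero {X : Scheme.{u}} {U : X.Opens} (t s : Γ(X, U))
    (h : t * s = 0) {V : X.Opens} (hV : V ≤ X.basicOpen t) :
    X.presheaf.map (homOfLE (hV.trans (X.basicOpen_le t))).op s = 0 := by
  have hu : IsUnit (X.presheaf.map (homOfLE (X.basicOpen_le t)).op t) :=
    X.toRingedSpace.isUnit_res_basicOpen t
  have h1 := congrArg (X.presheaf.map (homOfLE (X.basicOpen_le t)).op) h
  rw [map_mul, map_zero] at h1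
  have h2 : X.presheaf.map (homOfLE (X.basicOpen_le t)).op s = 0 := (hu.mul_right_eq_zero).1 h1
  have h3 : X.presheaf.map (homOfLE (hV.trans (X.basicOpen_le t))).op =
      X.presheaf.map (homOfLE (X.basicOpen_le t)).op ≫ X.presheaf.map (homOfLE hV).op := by
    rw [← Functor.map_comp]
    rfl
  rw [h3, CommRingCat.comp_apply, h2, map_zero]

/-- injectivity of the restriction to a scheme theoretically dense open of an affine scheme -/
theorem appTop_injective_of_isSchemeTheoreticallyDominant {Z : Scheme.{u}} [IsAffine Z]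
    (O : Z.Opens) [IsSchemeTheoreticallyDominant O.ι] :
    Function.Injective (O.ι.appTop).hom := by
  have h1 : O.ι.ker = ⊥ := IsSchemeTheoreticallyDominant.ker_eq_bot O.ι
  rw [Scheme.ker_of_isAffine, ← Scheme.IdealSheafData.equivOfIsAffine_symm_apply] at h1
  have h2 : RingHom.ker (O.ι.appTop).hom = ⊥ := by
    have h3 := congrArg (Scheme.IdealSheafData.equivOfIsAffine (X := Z)) h1
    rw [OrderRingIso.apply_symm_apply, map_bot] at h3
    exact h3
  exact (RingHom.injective_iff_ker_eq_bot _).2 h2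

/-- converse -/
theorem isSchemeTheoreticallyDominant_of_appTop_injective {Z : Scheme.{u}} [IsAffine Z]
    (O : Z.Opens) (h : Function.Injective (O.ι.appTop).hom) :
    IsSchemeTheoreticallyDominant O.ι := by
  refine ⟨?_⟩
  rw [Scheme.ker_of_isAffine, (RingHom.injective_iff_ker_eq_bot _).1 h,
    ← Scheme.IdealSheafData.equivOfIsAffine_symm_apply, map_bot]

/-! ### part SD8 -/
/-- on an affine scheme with a scheme theoretically dense open `O` covered by basic opens `D(c)`,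
`c ∈ 𝒮`: a function killed by all `c ∈ 𝒮` vanishes -/
theorem eq_zero_of_forall_mul_eq_zero {Z : Scheme.{u}} [IsAffine Z] (O : Z.Opens)
    [IsSchemeTheoreticallyDominant O.ι] (𝒮 : Set Γ(Z, ⊤))
    (hcov : ∀ x ∈ O, ∃ c ∈ 𝒮, x ∈ Z.basicOpen c) (r : Γ(Z, ⊤)) (hr : ∀ c ∈ 𝒮, c * r = 0) :
    r = 0 := by
  apply appTop_injective_of_isSchemeTheoreticallyDominant O
  rw [map_zero]
  show Z.presheaf.map (homOfLE (x := O.ι ''ᵁ ⊤) le_top).op r = 0
  apply Z.IsSheaf.section_ext
  intro x hx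
  have hxO : x ∈ O := by
    rw [← O.ι_image_top]
    exact hx
  obtain ⟨c, hc, hxc⟩ := hcov x hxO
  refine ⟨Z.basicOpen c ⊓ (O.ι ''ᵁ ⊤), inf_le_right, ⟨hxc, hx⟩, ?_⟩
  rw [map_zero, ← CommRingCat.comp_apply, ← Functor.map_comp]
  exact res_basicOpen_eq_zero_of_mul_eq_zero c r (hr c hc) inf_le_left

/-- converse: finitely many basic opens inside `O` with trivial common annihilator force `O` to be
scheme theoretically dense -/
theorem isSchemeTheoreticallyDominant_of_forall_mul {Z : Scheme.{u}} [IsAffine Z] (O : Z.Opens)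
    (s : Finset Γ(Z, ⊤)) (hs : ∀ c ∈ s, Z.basicOpen c ≤ O)
    (H : ∀ r : Γ(Z, ⊤), (∀ c ∈ s, c * r = 0) → r = 0) :
    IsSchemeTheoreticallyDominant O.ι := by
  apply isSchemeTheoreticallyDominant_of_appTop_injective
  rw [injective_iff_map_eq_zero]
  intro r hr
  replace hr : Z.presheaf.map (homOfLE (x := O.ι ''ᵁ ⊤) le_top).op r = 0 := hr
  apply eq_zero_of_forall_pow_mul_eq_zero s H r
  intro c hc
  have hcO : Z.basicOpen c ≤ O.ι ''ᵁ ⊤ := by
    rw [O.ι_image_top]
    exact hs c hc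
  apply exists_pow_mul_eq_zero_of_res_basicOpen_eq_zero_of_isCompact Z (U := ⊤)
    (by simpa using isCompact_univ) r c
  show Z.presheaf.map (homOfLE (Z.basicOpen_le c)).op r = 0
  have h3 : Z.presheaf.map (homOfLE (Z.basicOpen_le c)).op =
      Z.presheaf.map (homOfLE (x := O.ι ''ᵁ ⊤) le_top).op ≫ Z.presheaf.map (homOfLE hcO).op := by
    rw [← Functor.map_comp]
    rfl
  rw [h3, CommRingCat.comp_apply, hr, map_zero]

/-! ### part SD9 -/
theorem mem_basicOpen_ΓSpecIso_inv {R : Type u} [CommRing R] (c : R)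
    (x : Spec (CommRingCat.of R)) :
    x ∈ (Spec (CommRingCat.of R)).basicOpen ((Scheme.ΓSpecIso (CommRingCat.of R)).inv c) ↔
      c ∉ (show PrimeSpectrum R from x).asIdeal := by
  rw [basicOpen_eq_of_affine]
  rfl

/-- `Spec R` version -/
theorem Spec_eq_zero_of_forall_mul_eq_zero {R : Type u} [CommRing R]
    (O : (Spec (CommRingCat.of R)).Opens)
    [IsSchemeTheoreticallyDominant O.ι] (𝒮 : Set R)
    (hcov : ∀ x ∈ O, ∃ c ∈ 𝒮, c ∉ (show PrimeSpectrum R from x).asIdeal) (r : R)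
    (hr : ∀ c ∈ 𝒮, c * r = 0) : r = 0 := by
  have h0 := eq_zero_of_forall_mul_eq_zero O
    ((fun c => (Scheme.ΓSpecIso (CommRingCat.of R)).inv c) '' 𝒮) (by
      intro x hx
      obtain ⟨c, hc, hxc⟩ := hcov x hx
      exact ⟨_, ⟨c, hc, rfl⟩, (mem_basicOpen_ΓSpecIso_inv c x).2 hxc⟩)
    ((Scheme.ΓSpecIso (CommRingCat.of R)).inv r) (by
      rintro _ ⟨c, hc, rfl⟩
      rw [← map_mul, hr c hc, map_zero])
  have h1 := congrArg (Scheme.ΓSpecIso (CommRingCat.of R)).hom h0
  rwa [map_zero, Iso.inv_hom_id_apply] at h1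

theorem Spec_isSchemeTheoreticallyDominant_of_forall_mul {R : Type u} [CommRing R]
    (O : (Spec (CommRingCat.of R)).Opens) (s : Finset R)
    (hs : ∀ c ∈ s, ∀ x : Spec (CommRingCat.of R),
      c ∉ (show PrimeSpectrum R from x).asIdeal → x ∈ O)
    (H : ∀ r : R, (∀ c ∈ s, c * r = 0) → r = 0) :
    IsSchemeTheoreticallyDominant O.ι := by
  classical
  apply isSchemeTheoreticallyDominant_of_forall_mul O
    (s.image (fun c => (Scheme.ΓSpecIso (CommRingCat.of R)).inv c))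
  · intro c' hc' x hx
    obtain ⟨c, hc, rfl⟩ := Finset.mem_image.1 hc'
    exact hs c hc x ((mem_basicOpen_ΓSpecIso_inv c x).1 hx)
  · intro r' hr'
    have h0 := H ((Scheme.ΓSpecIso (CommRingCat.of R)).hom r') (by
      intro c hc
      have h1 := hr' _ (Finset.mem_image_of_mem _ hc)
      have h2 := congrArg (Scheme.ΓSpecIso (CommRingCat.of R)).hom h1
      rwa [map_mul, map_zero, Iso.inv_hom_id_apply] at h2)
    have h1 := congrArg (Scheme.ΓSpecIso (CommRingCat.of R)).inv h0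
    rwa [map_zero, Iso.hom_inv_id_apply] at h1

/-! ### part SD10 -/
/-- scheme theoretic density of a quasi-compact open can be checked on affine charts -/
theorem isSchemeTheoreticallyDominant_of_affine_charts {Z : Scheme.{u}} (O : Z.Opens)
    [QuasiCompact O.ι] {ι : Type*} (C : ι → Scheme.{u}) [∀ i, IsAffine (C i)]
    (j : ∀ i, C i ⟶ Z) [∀ i, IsOpenImmersion (j i)]
    (hcov : ∀ z : Z, ∃ i, z ∈ Set.range (j i))
    (H : ∀ i, IsSchemeTheoreticallyDominant ((j i) ⁻¹ᵁ O).ι) :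
    IsSchemeTheoreticallyDominant O.ι := by
  refine ⟨?_⟩
  apply Scheme.IdealSheafData.ext_of_iSup_eq_top
    (U := fun i => ⟨(j i) ''ᵁ ⊤, (isAffineOpen_top (C i)).image_of_isOpenImmersion (j i)⟩)
  · rw [eq_top_iff]
    intro z _
    obtain ⟨i, x, rfl⟩ := hcov z
    exact TopologicalSpace.Opens.mem_iSup.2 ⟨i, x, trivial, rfl⟩
  · intro i
    have hpb : IsPullback ((j i) ⁻¹ᵁ O).ι ((j i) ∣_ O) (j i) O.ι :=
      (isPullback_morphismRestrict (j i) O).flip
    have key := Scheme.ker_ideal_of_isPullback_of_isOpenImmersion O.ι ((j i) ⁻¹ᵁ O).ι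
      ((j i) ∣_ O) (j i) hpb ⟨⊤, isAffineOpen_top _⟩
    rw [(H i).ker_eq_bot] at key
    simp only [Scheme.IdealSheafData.ideal_bot, Pi.bot_apply] at key ⊢
    rw [eq_bot_iff]
    intro x hx
    have h1 : ((j i).appIso ⊤).hom x ∈ Ideal.comap ((j i).appIso ⊤).inv.hom
        ((Scheme.Hom.ker O.ι).ideal
          ⟨(j i) ''ᵁ ⊤, (isAffineOpen_top (C i)).image_of_isOpenImmersion (j i)⟩) := by
      rw [Ideal.mem_comap, Iso.hom_inv_id_apply]
      exact hx
    rw [← key] at h1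
    have h2 : ((j i).appIso ⊤).hom x = 0 := h1
    have h3 := congrArg ((j i).appIso ⊤).inv h2
    rwa [Iso.hom_inv_id_apply, map_zero] at h3

/-! ### part SD11 -/
/-- general affine chart of a pullback -/
theorem exists_isPullback_chart {X Y T P C : Scheme.{u}} (f : X ⟶ Y) {V : Y.Opens} {W : X.Opens}
    (hV : IsAffineOpen V) (hW : IsAffineOpen W) (e : W ≤ f ⁻¹ᵁ V)
    {fst : P ⟶ X} {snd : P ⟶ T} {z : T ⟶ Y} (hP : IsPullback fst snd f z)
    (z' : T ⟶ Spec Γ(Y, V)) (hz : z' ≫ hV.fromSpec = z)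
    {c₁ : C ⟶ Spec Γ(X, W)} {c₂ : C ⟶ T}
    (hC : IsPullback c₁ c₂ (Spec.map (f.appLE V W e)) z') :
    ∃ j : C ⟶ P, IsPullback j c₁ fst hW.fromSpec := by
  have hT' := isPullback_comp_mono hC hV.fromSpec
  have e1 : Spec.map (f.appLE V W e) ≫ hV.fromSpec = hW.fromSpec ≫ f :=
    IsAffineOpen.SpecMap_appLE_fromSpec f hV hW e
  rw [e1, hz] at hT'
  have w : (c₁ ≫ hW.fromSpec) ≫ f = c₂ ≫ z := by
    rw [Category.assoc]
    exact hT'.w
  refine ⟨hP.lift _ _ w, IsPullback.of_right ?_ (hP.lift_fst _ _ w) hP.flip⟩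
  rw [hP.lift_snd]
  exact hT'.flip

/-- the functions on an affine open `W` whose non-vanishing locus lies in `U` -/
def goodSet {X : Scheme.{u}} {W : X.Opens} (hW : IsAffineOpen W) (U : X.Opens) : Set Γ(X, W) :=
  {b | ∀ x : Spec Γ(X, W), b ∉ (show PrimeSpectrum Γ(X, W) from x).asIdeal → hW.fromSpec x ∈ U}

/-- the tensor product chart -/
theorem exists_isPullback_tensor_chart {X Y P : Scheme.{u}} (f : X ⟶ Y) {V : Y.Opens}
    {W : X.Opens} (hV : IsAffineOpen V) (hW : IsAffineOpen W) (e : W ≤ f ⁻¹ᵁ V)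
    {K : Type u} [Field K] [Algebra Γ(Y, V) K]
    {fst : P ⟶ X} {snd : P ⟶ Spec (CommRingCat.of K)} {z : Spec (CommRingCat.of K) ⟶ Y}
    (hP : IsPullback fst snd f z)
    (hz : Spec.map (CommRingCat.ofHom (algebraMap Γ(Y, V) K)) ≫ hV.fromSpec = z) :
    letI : Algebra Γ(Y, V) Γ(X, W) := (f.appLE V W e).hom.toAlgebra
    ∃ j : Spec (CommRingCat.of (K ⊗[Γ(Y, V)] Γ(X, W))) ⟶ P,
      IsPullback j (Spec.map (CommRingCat.ofHom
        (Algebra.TensorProduct.includeRight : Γ(X, W) →ₐ[Γ(Y, V)] K ⊗[Γ(Y, V)] Γ(X, W)).toRingHom))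
        fst hW.fromSpec := by
  letI : Algebra Γ(Y, V) Γ(X, W) := (f.appLE V W e).hom.toAlgebra
  have hC := (isPullback_SpecMap_of_isPushout _ _ _ _
    (CommRingCat.isPushout_tensorProduct Γ(Y, V) K Γ(X, W))).flip
  exact exists_isPullback_chart f hV hW e hP _ hz hC

/-! ### part SD12 -/
theorem includeRight_notMem_iff {A B K : Type u} [CommRing A] [CommRing B] [Algebra A B]
    [CommRing K] [Algebra A K] (b : B) (x : Spec (CommRingCat.of (K ⊗[A] B))) :
    (1 : K) ⊗ₜ[A] b ∉ (show PrimeSpectrum (K ⊗[A] B) from x).asIdeal ↔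
      b ∉ (show PrimeSpectrum B from
        (Spec.map (CommRingCat.ofHom
          (Algebra.TensorProduct.includeRight : B →ₐ[A] K ⊗[A] B).toRingHom)) x).asIdeal :=
  Iff.rfl

/-- **forward**: scheme theoretic density of the trace of `U` on a pullback to a field gives the
triviality of the common annihilator -/
theorem forall_ann_of_dense {X Y P : Scheme.{u}} (f : X ⟶ Y) {V : Y.Opens}
    {W : X.Opens} (hV : IsAffineOpen V) (hW : IsAffineOpen W) (e : W ≤ f ⁻¹ᵁ V)
    {K : Type u} [Field K] [Algebra Γ(Y, V) K]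
    {fst : P ⟶ X} {snd : P ⟶ Spec (CommRingCat.of K)} {z : Spec (CommRingCat.of K) ⟶ Y}
    (hP : IsPullback fst snd f z)
    (hz : Spec.map (CommRingCat.ofHom (algebraMap Γ(Y, V) K)) ≫ hV.fromSpec = z)
    (U : X.Opens) [IsSchemeTheoreticallyDominant (fst ⁻¹ᵁ U).ι] [QuasiCompact (fst ⁻¹ᵁ U).ι] :
    letI : Algebra Γ(Y, V) Γ(X, W) := (f.appLE V W e).hom.toAlgebra
    ∀ r : K ⊗[Γ(Y, V)] Γ(X, W),
      (∀ b ∈ goodSet hW U, ((1 : K) ⊗ₜ[Γ(Y, V)] b) * r = 0) → r = 0 := by
  letI : Algebra Γ(Y, V) Γ(X, W) := (f.appLE V W e).hom.toAlgebra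
  intro r hr
  obtain ⟨j, hj⟩ := exists_isPullback_tensor_chart f hV hW e hP hz
  haveI : IsOpenImmersion j :=
    MorphismProperty.of_isPullback (P := @IsOpenImmersion) hj.flip inferInstance
  haveI : IsSchemeTheoreticallyDominant (j ⁻¹ᵁ (fst ⁻¹ᵁ U)).ι :=
    IsSchemeTheoreticallyDominant.of_isPullback (isPullback_morphismRestrict j (fst ⁻¹ᵁ U))
  apply Spec_eq_zero_of_forall_mul_eq_zero (j ⁻¹ᵁ (fst ⁻¹ᵁ U))
    ((fun b => (1 : K) ⊗ₜ[Γ(Y, V)] b) '' goodSet hW U) ?_ r ?_
  · intro x hx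
    have hx1 : fst (j x) ∈ U := hx
    have hw : fst (j x) = hW.fromSpec ((Spec.map (CommRingCat.ofHom
        (Algebra.TensorProduct.includeRight :
          Γ(X, W) →ₐ[Γ(Y, V)] K ⊗[Γ(Y, V)] Γ(X, W)).toRingHom)) x) := by
      rw [← Scheme.Hom.comp_apply, ← Scheme.Hom.comp_apply, hj.w]
    rw [hw] at hx1
    have hopen : IsOpen {x : PrimeSpectrum Γ(X, W) | hW.fromSpec x ∈ U} :=
      (hW.fromSpec ⁻¹ᵁ U).isOpen
    obtain ⟨_, ⟨b, rfl⟩, hxb, hbU⟩ :=
      (PrimeSpectrum.isTopologicalBasis_basic_opens (R := Γ(X, W))).exists_subset_of_mem_open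
        (u := {x : PrimeSpectrum Γ(X, W) | hW.fromSpec x ∈ U}) hx1 hopen
    refine ⟨_, ⟨b, ?_, rfl⟩, (includeRight_notMem_iff b x).2 hxb⟩
    intro x' hx'
    exact hbU hx'
  · rintro _ ⟨b, hb, rfl⟩
    exact hr b hb

/-- **backward** -/
theorem exists_chart_dense {X Y P : Scheme.{u}} (f : X ⟶ Y) {V : Y.Opens}
    {W : X.Opens} (hV : IsAffineOpen V) (hW : IsAffineOpen W) (e : W ≤ f ⁻¹ᵁ V)
    {K : Type u} [Field K] [Algebra Γ(Y, V) K]
    {fst : P ⟶ X} {snd : P ⟶ Spec (CommRingCat.of K)} {z : Spec (CommRingCat.of K) ⟶ Y}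
    (hP : IsPullback fst snd f z)
    (hz : Spec.map (CommRingCat.ofHom (algebraMap Γ(Y, V) K)) ≫ hV.fromSpec = z)
    (U : X.Opens) (s : Finset Γ(X, W)) (hs : (s : Set Γ(X, W)) ⊆ goodSet hW U)
    (H : letI : Algebra Γ(Y, V) Γ(X, W) := (f.appLE V W e).hom.toAlgebra
      ∀ r : K ⊗[Γ(Y, V)] Γ(X, W), (∀ b ∈ s, ((1 : K) ⊗ₜ[Γ(Y, V)] b) * r = 0) → r = 0) :
    ∃ (C : Scheme.{u}) (_ : IsAffine C) (j : C ⟶ P) (_ : IsOpenImmersion j),
      Set.range j = fst ⁻¹' W ∧ IsSchemeTheoreticallyDominant (j ⁻¹ᵁ (fst ⁻¹ᵁ U)).ι := by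
  classical
  letI : Algebra Γ(Y, V) Γ(X, W) := (f.appLE V W e).hom.toAlgebra
  obtain ⟨j, hj⟩ := exists_isPullback_tensor_chart f hV hW e hP hz
  haveI : IsOpenImmersion j :=
    MorphismProperty.of_isPullback (P := @IsOpenImmersion) hj.flip inferInstance
  refine ⟨_, inferInstance, j, inferInstance, ?_, ?_⟩
  · rw [show Set.range j = Set.range j.base from rfl, range_fst_of_isPullback hj]
    show fst ⁻¹' Set.range hW.fromSpec = _
    rw [hW.range_fromSpec]
  · apply Spec_isSchemeTheoreticallyDominant_of_forall_mul (j ⁻¹ᵁ (fst ⁻¹ᵁ U))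
      (s.image (fun b => (1 : K) ⊗ₜ[Γ(Y, V)] b))
    · intro c hc x hx
      obtain ⟨b, hb, rfl⟩ := Finset.mem_image.1 hc
      have hw : fst (j x) = hW.fromSpec ((Spec.map (CommRingCat.ofHom
          (Algebra.TensorProduct.includeRight :
            Γ(X, W) →ₐ[Γ(Y, V)] K ⊗[Γ(Y, V)] Γ(X, W)).toRingHom)) x) := by
        rw [← Scheme.Hom.comp_apply, ← Scheme.Hom.comp_apply, hj.w]
      show fst (j x) ∈ U
      rw [hw]
      exact hs (Finset.mem_coe.2 hb) _ ((includeRight_notMem_iff b x).1 hx)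
    · intro r hr
      apply H r
      intro b hb
      exact hr _ (Finset.mem_image_of_mem _ hb)

/-! ### part SD13 -/
theorem isSchemeTheoreticallyDominant_of_forall_exists_chart {Z : Scheme.{u}} (O : Z.Opens)
    [QuasiCompact O.ι]
    (H : ∀ z : Z, ∃ (C : Scheme.{u}) (_ : IsAffine C) (j : C ⟶ Z) (_ : IsOpenImmersion j),
      z ∈ Set.range j ∧ IsSchemeTheoreticallyDominant (j ⁻¹ᵁ O).ι) :
    IsSchemeTheoreticallyDominant O.ι := by
  choose C hC j hj hz hd using H
  exact isSchemeTheoreticallyDominant_of_affine_charts O C j (fun z => ⟨z, hz z⟩) hd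

/-- the residue field of a point of an affine open, as an algebra over the coordinate ring -/
theorem exists_residueField_hom {Y : Scheme.{u}} {V : Y.Opens} (hV : IsAffineOpen V)
    (q : Spec Γ(Y, V)) :
    ∃ ψ : Γ(Y, V) ⟶ Y.residueField (hV.fromSpec q),
      Spec.map ψ ≫ hV.fromSpec = Y.fromSpecResidueField (hV.fromSpec q) ∧
      ∀ a : Γ(Y, V), ψ.hom a = 0 ↔ a ∈ (show PrimeSpectrum Γ(Y, V) from q).asIdeal := by
  have hrange : Set.range (Y.fromSpecResidueField (hV.fromSpec q)) ⊆ Set.range hV.fromSpec := by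
    rw [Scheme.range_fromSpecResidueField]
    rintro _ rfl
    exact ⟨q, rfl⟩
  have hz' : IsOpenImmersion.lift hV.fromSpec (Y.fromSpecResidueField (hV.fromSpec q)) hrange ≫
      hV.fromSpec = Y.fromSpecResidueField (hV.fromSpec q) := IsOpenImmersion.lift_fac _ _ _
  obtain ⟨ψ, hψ⟩ := Spec.map_surjective
    (IsOpenImmersion.lift hV.fromSpec (Y.fromSpecResidueField (hV.fromSpec q)) hrange)
  rw [← hψ] at hz'
  refine ⟨ψ, hz', ?_⟩
  obtain ⟨x₀⟩ : Nonempty (Spec (Y.residueField (hV.fromSpec q))) := inferInstance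
  have hpt : Spec.map ψ x₀ = q := by
    apply hV.fromSpec.isOpenEmbedding.injective
    rw [← Scheme.Hom.comp_apply, hz', Scheme.fromSpecResidueField_apply]
  exact (SpecMap_apply_eq_iff (K := Y.residueField (hV.fromSpec q)) ψ x₀ q).1 hpt

/-! ### part SD14 -/
instance isLocallyNoetherian_fiber {X Y : Scheme.{u}} (f : X ⟶ Y) [LocallyOfFiniteType f] (y : Y) :
    IsLocallyNoetherian (f.fiber y) := by
  delta Scheme.Hom.fiber
  infer_instance

/-- the local claim on one affine piece -/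
theorem exists_forall_chart_dense {X Y : Scheme.{u}} (f : X ⟶ Y) [LocallyOfFiniteType f]
    {V : Y.Opens} {W : X.Opens} (hV : IsAffineOpen V) (hW : IsAffineOpen W) (e : W ≤ f ⁻¹ᵁ V)
    (p₀ : Spec Γ(Y, V))
    (hmin : ∀ q : Ideal Γ(Y, V), q.IsPrime → (show PrimeSpectrum Γ(Y, V) from p₀).asIdeal ≤ q)
    (U : X.Opens)
    (h : IsSchemeTheoreticallyDominant (f.fiberι (hV.fromSpec p₀) ⁻¹ᵁ U).ι) :
    ∃ f₀ : Γ(Y, V), f₀ ∉ (show PrimeSpectrum Γ(Y, V) from p₀).asIdeal ∧
      ∀ q : Spec Γ(Y, V), f₀ ∉ (show PrimeSpectrum Γ(Y, V) from q).asIdeal →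
        ∃ (C : Scheme.{u}) (_ : IsAffine C) (j : C ⟶ f.fiber (hV.fromSpec q))
          (_ : IsOpenImmersion j),
          Set.range j = f.fiberι (hV.fromSpec q) ⁻¹' W ∧
            IsSchemeTheoreticallyDominant (j ⁻¹ᵁ (f.fiberι (hV.fromSpec q) ⁻¹ᵁ U)).ι := by
  letI : Algebra Γ(Y, V) Γ(X, W) := (f.appLE V W e).hom.toAlgebra
  haveI : Algebra.FiniteType Γ(Y, V) Γ(X, W) := f.finiteType_appLE hV hW e
  obtain ⟨ψ, hψ, hkerψ⟩ := exists_residueField_hom hV p₀
  letI : Algebra Γ(Y, V) (Y.residueField (hV.fromSpec p₀)) := ψ.hom.toAlgebra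
  have hP : IsPullback (f.fiberι (hV.fromSpec p₀)) (f.fiberToSpecResidueField (hV.fromSpec p₀)) f
      (Y.fromSpecResidueField (hV.fromSpec p₀)) := IsPullback.of_hasPullback _ _
  have hall := forall_ann_of_dense f hV hW e (K := Y.residueField (hV.fromSpec p₀)) hP hψ U
  obtain ⟨s, hs, f₀, hf₀, Hcore⟩ := exists_forall_ann
    (show PrimeSpectrum Γ(Y, V) from p₀).asIdeal hmin
    (K := Y.residueField (hV.fromSpec p₀)) hkerψ (goodSet hW U) hall
  refine ⟨f₀, hf₀, ?_⟩
  intro q hq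
  obtain ⟨ψ', hψ', hkerψ'⟩ := exists_residueField_hom hV q
  letI : Algebra Γ(Y, V) (Y.residueField (hV.fromSpec q)) := ψ'.hom.toAlgebra
  have hne : algebraMap Γ(Y, V) (Y.residueField (hV.fromSpec q)) f₀ ≠ 0 := by
    intro h0
    exact hq ((hkerψ' f₀).1 h0)
  have hP' : IsPullback (f.fiberι (hV.fromSpec q)) (f.fiberToSpecResidueField (hV.fromSpec q)) f
      (Y.fromSpecResidueField (hV.fromSpec q)) := IsPullback.of_hasPullback _ _
  exact exists_chart_dense f hV hW e (K := Y.residueField (hV.fromSpec q)) hP' hψ' U s hs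
    (Hcore (Y.residueField (hV.fromSpec q)) hne)

/-! ### part SD15 -/
/-- **Scheme theoretic density of the trace of an open on the generic fibre spreads out**
(EGA IV 9.5.3 / Stacks 0578-type). -/
theorem exists_open_forall_dense {X Y : Scheme.{u}} (f : X ⟶ Y) [IrreducibleSpace Y]
    [LocallyOfFiniteType f] [QuasiCompact f] (U : X.Opens)
    (h : IsSchemeTheoreticallyDominant (f.fiberι (genericPoint Y) ⁻¹ᵁ U).ι) :
    ∃ V : Y.Opens, (V : Set Y).Nonempty ∧
      ∀ y ∈ V, IsSchemeTheoreticallyDominant (f.fiberι y ⁻¹ᵁ U).ι := by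
  classical
  obtain ⟨_, ⟨V, hV : IsAffineOpen V, rfl⟩, hηV, -⟩ :=
    Y.isBasis_affineOpens.exists_subset_of_mem_open (Set.mem_univ (genericPoint Y)) isOpen_univ
  obtain ⟨p₀, hp₀, hmin⟩ := exists_generic_prime hV hηV
  rw [← hp₀] at h
  -- a finite affine cover of `f⁻¹ V`
  have hcompact : IsCompact ((f ⁻¹ᵁ V : X.Opens) : Set X) := f.isCompact_preimage hV.isCompact
  obtain ⟨𝒲, h𝒲fin, h𝒲⟩ := isCompact_and_isOpen_iff_finite_and_eq_biUnion_affineOpens.1
    ⟨hcompact, (f ⁻¹ᵁ V).isOpen⟩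
  have hle : ∀ W ∈ 𝒲, (W : X.Opens) ≤ f ⁻¹ᵁ V := by
    intro W hW x hx
    have : x ∈ ⋃ i ∈ 𝒲, ((i : X.Opens) : Set X) := Set.mem_biUnion hW hx
    rw [← h𝒲] at this
    exact this
  -- the local claims
  have hloc : ∀ W : X.affineOpens, ∀ hW : W ∈ 𝒲, ∃ f₀ : Γ(Y, V),
      f₀ ∉ (show PrimeSpectrum Γ(Y, V) from p₀).asIdeal ∧
      ∀ q : Spec Γ(Y, V), f₀ ∉ (show PrimeSpectrum Γ(Y, V) from q).asIdeal →
        ∃ (C : Scheme.{u}) (_ : IsAffine C) (j : C ⟶ f.fiber (hV.fromSpec q))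
          (_ : IsOpenImmersion j),
          Set.range j = f.fiberι (hV.fromSpec q) ⁻¹' (W : X.Opens) ∧
            IsSchemeTheoreticallyDominant (j ⁻¹ᵁ (f.fiberι (hV.fromSpec q) ⁻¹ᵁ U)).ι :=
    fun W hW => exists_forall_chart_dense f hV W.2 (hle W hW) p₀ hmin U h
  choose F hF₀ hF using hloc
  refine ⟨hV.fromSpec ''ᵁ (PrimeSpectrum.basicOpen
    (∏ W ∈ h𝒲fin.toFinset.attach, F W.1 (h𝒲fin.mem_toFinset.1 W.2))), ⟨hV.fromSpec p₀, p₀, ?_, rfl⟩, ?_⟩
  · show _ ∉ (show PrimeSpectrum Γ(Y, V) from p₀).asIdeal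
    rw [Ideal.IsPrime.prod_mem_iff]
    rintro ⟨W, -, hW⟩
    exact hF₀ W.1 _ hW
  rintro _ ⟨q, hq, rfl⟩
  replace hq : (∏ W ∈ h𝒲fin.toFinset.attach, F W.1 (h𝒲fin.mem_toFinset.1 W.2)) ∉
      (show PrimeSpectrum Γ(Y, V) from q).asIdeal := hq
  rw [Ideal.IsPrime.prod_mem_iff] at hq
  push Not at hq
  show IsSchemeTheoreticallyDominant (f.fiberι (hV.fromSpec q) ⁻¹ᵁ U).ι
  apply isSchemeTheoreticallyDominant_of_forall_exists_chart
  intro z
  -- the affine piece containing the image of `z`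
  have hx : f.fiberι (hV.fromSpec q) z ∈ ((f ⁻¹ᵁ V : X.Opens) : Set X) := by
    have h1 : f.fiberι (hV.fromSpec q) z ∈ Set.range (f.fiberι (hV.fromSpec q)) := ⟨z, rfl⟩
    rw [f.range_fiberι] at h1
    show f (f.fiberι (hV.fromSpec q) z) ∈ V
    rw [h1]
    have h2 : hV.fromSpec q ∈ Set.range hV.fromSpec := ⟨q, rfl⟩
    rw [hV.range_fromSpec] at h2
    exact h2
  rw [h𝒲] at hx
  obtain ⟨W, hW, hxW⟩ := Set.mem_iUnion₂.1 hx
  obtain ⟨C, hC, j, hj, hrange, hd⟩ := hF W hW q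
    (hq ⟨W, h𝒲fin.mem_toFinset.2 hW⟩ (Finset.mem_attach _ _))
  refine ⟨C, hC, j, hj, ?_, hd⟩
  rw [hrange]
  exact hxW

end Groth.Agent.Lib.Helper78.SchDense
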