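import Mathlib
import Groth.Agent.Lib.Helper78.SchDense
import Groth.Agent.Lib.Helper78.GenFibreGeom
import Groth.Agent.Lib.Helper18.GenericFP

/-!
# Geometric reducedness of the generic fibre spreads out (EGA IV 9.7.7 / Stacks 0578)

helper78.  Field lemma (geometrically reduced f.g. field extension is formally smooth), smooth
algebras over fields are reduced, the smooth locus of a geometrically reduced generic fibre is scheme
theoretically dense, and the spreading out statement.
-/

set_option autoImplicit false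
set_option linter.style.haveILetI false
universe u

namespace Groth.Agent.Lib.Helper78.GeomRed

open TensorProduct
open AlgebraicGeometry CategoryTheory Limits
open Groth.Agent.Lib.Helper78.SchDense
open Groth.Agent.Lib.Helper78.GenFibre Groth.Agent.Lib.Helper78.GenFibreGeom
open Groth.Agent.Lib.Helper78.FinLocus

/-! ### part G1 -/
/-- if `Ω ⊗ L` is reduced for an algebraically closed `Ω`, then `p`-th powers of linearly independent
elements are linearly independent -/
theorem linearIndepOn_pow_of_isReduced {k L Ω : Type u} [Field k] [Field L] [Algebra k L]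
    [Field Ω] [Algebra k Ω] [IsAlgClosed Ω] (p : ℕ) (hp : p.Prime) [ExpChar k p]
    (h : IsReduced (Ω ⊗[k] L)) (s : Finset L) (hs : LinearIndepOn k _root_.id (s : Set L)) :
    LinearIndepOn k (· ^ p) (s : Set L) := by
  classical
  haveI : Fact p.Prime := ⟨hp⟩
  haveI : CharP k p := by
    rcases ‹ExpChar k p› with _ | ⟨hp'⟩
    · exact absurd hp Nat.not_prime_one
    · assumption
  have hinj : Function.Injective (algebraMap k (Ω ⊗[k] L)) := by
    have h1 : Function.Injective (Algebra.TensorProduct.includeLeft : Ω →ₐ[k] Ω ⊗[k] L) :=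
      Algebra.TensorProduct.includeLeft_injective (RingHom.injective _)
    have : (algebraMap k (Ω ⊗[k] L)) =
        (Algebra.TensorProduct.includeLeft : Ω →ₐ[k] Ω ⊗[k] L).toRingHom.comp (algebraMap k Ω) := by
      ext a
      simp
    rw [this]
    exact h1.comp (RingHom.injective _)
  haveI : CharP (Ω ⊗[k] L) p := charP_of_injective_algebraMap hinj p
  rw [LinearIndepOn, Fintype.linearIndependent_iff]
  intro g hg
  have hd : ∀ i : ((s : Set L) : Type u), ∃ d : Ω, d ^ p = algebraMap k Ω (g i) := fun i =>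
    IsAlgClosed.exists_pow_nat_eq _ hp.pos
  choose d hd using hd
  let z : Ω ⊗[k] L := ∑ i, d i ⊗ₜ[k] (i : L)
  have hz : z ^ p = 0 := by
    rw [sum_pow_char]
    have : ∀ i : ((s : Set L) : Type u), (d i ⊗ₜ[k] (i : L)) ^ p = (1 : Ω) ⊗ₜ[k] (g i • (i : L) ^ p) := by
      intro i
      rw [Algebra.TensorProduct.tmul_pow, hd, Algebra.algebraMap_eq_smul_one, TensorProduct.smul_tmul]
    simp_rw [this]
    rw [← TensorProduct.tmul_sum, hg, TensorProduct.tmul_zero]
  have hz0 : z = 0 := IsReduced.eq_zero _ ⟨p, hz⟩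
  have hli : LinearIndependent Ω (fun i : ((s : Set L) : Type u) => (1 : Ω) ⊗ₜ[k] (i : L)) :=
    Module.Flat.linearIndependent_one_tmul hs
  rw [Fintype.linearIndependent_iff] at hli
  have hd0 := hli d (by
    rw [← hz0]
    refine Finset.sum_congr rfl fun i _ => ?_
    rw [TensorProduct.smul_tmul', smul_eq_mul, mul_one])
  intro i
  have := hd i
  rw [hd0 i, zero_pow hp.ne_zero] at this
  exact (map_eq_zero_iff _ (RingHom.injective _)).1 this.symm

open scoped IntermediateField in
/-- a finitely generated field extension `L/k` with `Ω ⊗ L` reduced (`Ω` algebraically closed) is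
formally smooth -/
theorem formallySmooth_of_isReduced_tensor {k L Ω : Type u} [Field k] [Field L] [Algebra k L]
    [Algebra.EssFiniteType k L] [Field Ω] [Algebra k Ω] [IsAlgClosed Ω]
    (h : IsReduced (Ω ⊗[k] L)) : Algebra.FormallySmooth k L := by
  obtain _ | ⟨p, hp, hpk⟩ := CharP.exists' k
  · exact Algebra.FormallySmooth.of_perfectField
  · haveI : ExpChar k p := .prime hp.out
    obtain ⟨s, hs, H⟩ :=
      exists_isTranscendenceBasis_and_isSeparable_of_linearIndepOn_pow_of_essFiniteType
        (k := k) (K := L) p hp.out (fun s hs => linearIndepOn_pow_of_isReduced p hp.out h s hs)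
    have : Algebra.IsSeparable (IntermediateField.adjoin k (Set.range ((↑) : s → L))) L := by
      convert! H <;> simp
    exact .of_algebraicIndependent_of_isSeparable hs.1

/-! ### part G2 -/
/-- an étale algebra over a domain is reduced -/
theorem isReduced_of_etale_of_isDomain {P T : Type u} [CommRing P] [IsDomain P] [CommRing T]
    [Algebra P T] [Algebra.Etale P T] : IsReduced T := by
  have hinj : Function.Injective
      (Algebra.TensorProduct.includeRight : T →ₐ[P] (FractionRing P) ⊗[P] T) :=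
    Algebra.TensorProduct.includeRight_injective (IsFractionRing.injective P (FractionRing P))
  haveI : IsReduced ((FractionRing P) ⊗[P] T) :=
    Algebra.FormallyUnramified.isReduced_of_field (FractionRing P) ((FractionRing P) ⊗[P] T)
  exact isReduced_of_injective _ hinj

/-- a smooth algebra over a field is reduced -/
theorem isReduced_of_smooth_field {K S : Type u} [Field K] [CommRing S] [Algebra K S]
    [Algebra.Smooth K S] : IsReduced S := by
  constructor
  intro x hx
  by_contra hx0
  have hI : (Ideal.span {x}).annihilator ≠ ⊤ := by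
    intro h
    have : (1 : S) ∈ (Ideal.span {x}).annihilator := h ▸ Submodule.mem_top
    rw [Submodule.mem_annihilator_span_singleton, one_smul] at this
    exact hx0 this
  obtain ⟨m, hm, hle⟩ := Ideal.exists_le_maximal _ hI
  haveI : m.IsPrime := hm.isPrime
  obtain ⟨f, hf, n, _, _, _⟩ :=
    Algebra.IsSmoothAt.exists_isStandardEtale_mvPolynomial (R := K) (p := m)
  haveI : IsReduced (Localization.Away f) :=
    isReduced_of_etale_of_isDomain (P := MvPolynomial (Fin n) K)
  have h0 : algebraMap S (Localization.Away f) x = 0 :=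
    IsReduced.eq_zero _ (hx.map _)
  rw [IsLocalization.map_eq_zero_iff (Submonoid.powers f)] at h0
  obtain ⟨⟨_, k, rfl⟩, hk⟩ := h0
  apply hf
  apply hm.isPrime.mem_of_pow_mem k
  apply hle
  rw [Submodule.mem_annihilator_span_singleton]
  exact hk

/-! ### part G3 -/
/-- the localization of a reduced ring at a minimal prime is a field -/
theorem isField_localization_of_mem_minimalPrimes {R : Type u} [CommRing R] [IsReduced R]
    (P : Ideal R) [P.IsPrime] (hP : P ∈ minimalPrimes R) : IsField (Localization.AtPrime P) := by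
  rw [IsLocalRing.isField_iff_maximalIdeal_eq]
  have h1 := IsLocalization.AtPrime.radical_map_of_mem_minimalPrimes
    (A := Localization.AtPrime P) P ⊥ hP
  rw [Ideal.map_bot, IsLocalization.AtPrime.map_eq_maximalIdeal] at h1
  rw [← h1]
  exact nilradical_eq_zero _

section
attribute [local instance] Algebra.TensorProduct.rightAlgebra

/-! ### part G3b -/
/-- the generic fibre of the smooth locus is scheme theoretically dense when the generic fibre is
geometrically reduced: pointwise form. `P` is a minimal prime of the reduced ring `K ⊗ B`. -/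
theorem comap_mem_smoothLocus {A B K Ω : Type u} [CommRing A] [IsDomain A] [CommRing B]
    [Algebra A B] [Algebra.FiniteType A B] [Field K] [Algebra A K] [IsFractionRing A K]
    [Field Ω] [Algebra A Ω] [Algebra K Ω] [IsScalarTower A K Ω] [IsAlgClosed Ω]
    (h : IsReduced (Ω ⊗[A] B)) [IsReduced (K ⊗[A] B)] (P : Ideal (K ⊗[A] B)) [P.IsPrime]
    (hP : P ∈ minimalPrimes (K ⊗[A] B)) :
    Algebra.FormallySmooth A (Localization.AtPrime (P.comap (algebraMap B (K ⊗[A] B)))) := by
  -- the field `L`
  have hfield : IsField (Localization.AtPrime P) := isField_localization_of_mem_minimalPrimes P hP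
  letI : Field (Localization.AtPrime P) := hfield.toField
  haveI : Algebra.EssFiniteType (K ⊗[A] B) (Localization.AtPrime P) :=
    .of_isLocalization _ P.primeCompl
  haveI : Algebra.EssFiniteType K (Localization.AtPrime P) := .comp K (K ⊗[A] B) _
  -- `Ω ⊗ L` is reduced
  haveI hred1 : IsReduced (Ω ⊗[K] (K ⊗[A] B)) :=
    isReduced_of_injective (Algebra.TensorProduct.cancelBaseChange A K Ω Ω B) (AlgEquiv.injective _)
  have hred2 : IsReduced (Ω ⊗[K] (Localization.AtPrime P)) :=
    isReduced_of_injective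
      (IsLocalization.tensorProductEquivOfMapIncludeRight K Ω P.primeCompl (Localization.AtPrime P)
        (Localization (P.primeCompl.map
          (Algebra.TensorProduct.includeRight (R := K) (A := Ω) (B := K ⊗[A] B)))))
      (AlgEquiv.injective _)
  haveI : Algebra.FormallySmooth K (Localization.AtPrime P) :=
    formallySmooth_of_isReduced_tensor (Ω := Ω) hred2
  haveI : Algebra.FormallySmooth A K := .of_isLocalization (nonZeroDivisors A)
  haveI : Algebra.FormallySmooth A (Localization.AtPrime P) := .comp A K _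
  -- identify the two localizations
  haveI : IsLocalization.AtPrime (Localization.AtPrime P) (P.comap (algebraMap B (K ⊗[A] B))) :=
    IsLocalization.isLocalization_isLocalization_atPrime_isLocalization
      (Algebra.algebraMapSubmonoid B (nonZeroDivisors A)) (Localization.AtPrime P) P
  let e : Localization.AtPrime (P.comap (algebraMap B (K ⊗[A] B))) ≃ₐ[B] Localization.AtPrime P :=
    IsLocalization.algEquiv (P.comap (algebraMap B (K ⊗[A] B))).primeCompl _ _
  exact .of_equiv (e.symm.restrictScalars A)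

end

section
attribute [local instance] Algebra.TensorProduct.rightAlgebra

/-! ### part G3c -/
theorem isReduced_of_isReduced_algClosed {A B K Ω : Type u} [CommRing A] [CommRing B]
    [Algebra A B] [Field K] [Algebra A K]
    [Field Ω] [Algebra A Ω] [Algebra K Ω] [IsScalarTower A K Ω]
    (h : IsReduced (Ω ⊗[A] B)) : IsReduced (K ⊗[A] B) := by
  haveI hred1 : IsReduced (Ω ⊗[K] (K ⊗[A] B)) :=
    isReduced_of_injective (Algebra.TensorProduct.cancelBaseChange A K Ω Ω B) (AlgEquiv.injective _)
  have hinj : Function.Injective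
      (Algebra.TensorProduct.includeRight : (K ⊗[A] B) →ₐ[K] Ω ⊗[K] (K ⊗[A] B)) :=
    Algebra.TensorProduct.includeRight_injective (RingHom.injective _)
  exact isReduced_of_injective _ hinj

/-- the generic fibre of the smooth locus is scheme theoretically dense when the generic fibre is
geometrically reduced -/
theorem eq_zero_of_forall_smooth_mul {A B K Ω : Type u} [CommRing A] [IsDomain A] [CommRing B]
    [Algebra A B] [Algebra.FinitePresentation A B] [Field K] [Algebra A K] [IsFractionRing A K]
    [Field Ω] [Algebra A Ω] [Algebra K Ω] [IsScalarTower A K Ω] [IsAlgClosed Ω]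
    (h : IsReduced (Ω ⊗[A] B)) (r : K ⊗[A] B)
    (hr : ∀ b : B, Algebra.FormallySmooth A (Localization.Away b) →
      ((1 : K) ⊗ₜ[A] b) * r = 0) : r = 0 := by
  haveI : IsReduced (K ⊗[A] B) := isReduced_of_isReduced_algClosed (Ω := Ω) h
  by_contra hr0
  have h1 : r ∉ sInf (minimalPrimes (K ⊗[A] B)) := by
    rw [minimalPrimes, Ideal.sInf_minimalPrimes]
    show r ∉ nilradical _
    rw [nilradical_eq_zero]
    exact hr0
  rw [Ideal.mem_sInf] at h1
  push Not at h1
  obtain ⟨P, hP, hrP⟩ := h1
  haveI : P.IsPrime := hP.1.1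
  have hsm := comap_mem_smoothLocus (Ω := Ω) h P hP
  haveI : Algebra.FiniteType A B := Algebra.FiniteType.of_finitePresentation
  set P' : PrimeSpectrum B := ⟨P.comap (algebraMap B (K ⊗[A] B)), inferInstance⟩ with hP'
  have hmem : P' ∈ Algebra.smoothLocus A B := hsm
  obtain ⟨_, ⟨g, rfl⟩, hgP, hgs⟩ :=
    PrimeSpectrum.isTopologicalBasis_basic_opens.exists_subset_of_mem_open hmem
      Algebra.isOpen_smoothLocus
  have hg := Algebra.basicOpen_subset_smoothLocus_iff.1 hgs
  have h2 := hr g hg
  have h3 : ((1 : K) ⊗ₜ[A] g) * r ∈ P := h2 ▸ P.zero_mem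
  rcases Ideal.IsPrime.mem_or_mem inferInstance h3 with h4 | h4
  · exact hgP h4
  · exact hrP h4

end

/-! ### part G4 -/
/-- the base change to a field of a localization `B[1/b]` smooth over `A` is reduced -/
theorem exists_pow_mul_eq_zero_of_smooth {A B K' : Type u} [CommRing A] [CommRing B]
    [Algebra A B] [Algebra.FinitePresentation A B] [Field K'] [Algebra A K'] (b : B)
    (hb : Algebra.FormallySmooth A (Localization.Away b)) (r : K' ⊗[A] B) (hr : IsNilpotent r) :
    ∃ n : ℕ, ((1 : K') ⊗ₜ[A] b) ^ n * r = 0 := by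
  haveI : Algebra.FinitePresentation B (Localization.Away b) :=
    IsLocalization.Away.finitePresentation b
  haveI : Algebra.FinitePresentation A (Localization.Away b) :=
    Algebra.FinitePresentation.trans A B (Localization.Away b)
  haveI : Algebra.Smooth A (Localization.Away b) := ⟨hb, inferInstance⟩
  haveI : Algebra.Smooth K' (K' ⊗[A] Localization.Away b) := inferInstance
  haveI : IsReduced (K' ⊗[A] Localization.Away b) := isReduced_of_smooth_field (K := K')
  haveI : IsReduced (Localization.Away ((1 : K') ⊗ₜ[A] b)) :=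
    isReduced_of_injective
      (IsLocalization.Away.tensorProductEquivTMulRight A K' b (Localization.Away b)).symm
      (AlgEquiv.injective _)
  have h0 : algebraMap (K' ⊗[A] B) (Localization.Away ((1 : K') ⊗ₜ[A] b)) r = 0 :=
    IsReduced.eq_zero _ (hr.map _)
  rw [IsLocalization.map_eq_zero_iff (Submonoid.powers ((1 : K') ⊗ₜ[A] b))] at h0
  obtain ⟨⟨_, n, rfl⟩, hn⟩ := h0
  exact ⟨n, hn⟩

/-- **Geometric reducedness of the generic fibre spreads out**, finitely presented algebra over a
domain. -/
theorem exists_forall_isReduced_of_domain_fp {A B K Ω : Type u} [CommRing A] [IsDomain A]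
    [CommRing B] [Algebra A B] [Algebra.FinitePresentation A B] [Field K] [Algebra A K]
    [IsFractionRing A K] [Field Ω] [Algebra A Ω] [Algebra K Ω] [IsScalarTower A K Ω]
    [IsAlgClosed Ω] (h : IsReduced (Ω ⊗[A] B)) :
    ∃ f : A, f ≠ 0 ∧ ∀ (K' : Type u) [Field K'] [Algebra A K'], algebraMap A K' f ≠ 0 →
      IsReduced (K' ⊗[A] B) := by
  classical
  haveI : Algebra.FiniteType A B := Algebra.FiniteType.of_finitePresentation
  obtain ⟨s, hs, f, hf, H⟩ := exists_forall_ann (A := A) (B := B) (K := K) (⊥ : Ideal A)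
    (fun q _ => bot_le)
    (fun a => by
      rw [Ideal.mem_bot]
      exact map_eq_zero_iff _ (IsFractionRing.injective A K))
    {b : B | Algebra.FormallySmooth A (Localization.Away b)}
    (fun r hr => eq_zero_of_forall_smooth_mul (Ω := Ω) h r hr)
  refine ⟨f, fun hf0 => hf (hf0 ▸ Ideal.zero_mem _), ?_⟩
  intro K' _ _ hfK'
  constructor
  intro r hr
  apply eq_zero_of_forall_pow_mul_eq_zero (s.image (fun b => (1 : K') ⊗ₜ[A] b)) ?_ r ?_
  · intro r' hr'
    apply H K' hfK' r'
    intro b hb
    exact hr' _ (Finset.mem_image_of_mem _ hb)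
  · intro c hc
    obtain ⟨b, hb, rfl⟩ := Finset.mem_image.1 hc
    exact exists_pow_mul_eq_zero_of_smooth b (hs hb) r hr

/-! ### part G5 -/
/-- **Geometric reducedness of the generic fibre spreads out**, finite type algebra over a domain. -/
theorem exists_forall_isReduced_of_domain {A B : Type u} [CommRing A] [IsDomain A]
    [CommRing B] [Algebra A B] [Algebra.FiniteType A B]
    (h : ∀ (K : Type u) [Field K] [Algebra A K], Function.Injective (algebraMap A K) →
      IsReduced (K ⊗[A] B)) :
    ∃ f : A, f ≠ 0 ∧ ∀ (K' : Type u) [Field K'] [Algebra A K'], algebraMap A K' f ≠ 0 →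
      IsReduced (K' ⊗[A] B) := by
  obtain ⟨f₀, hf₀, Hfp⟩ := Groth.Agent.Lib.Helper18.exists_finitePresentation_tensor (R := A) B
  have hle : Submonoid.powers f₀ ≤ nonZeroDivisors A :=
    powers_le_nonZeroDivisors_of_noZeroDivisors hf₀
  haveI : IsDomain (Localization.Away f₀) := IsLocalization.isDomain_localization hle
  haveI : Algebra.FinitePresentation (Localization.Away f₀) (Localization.Away f₀ ⊗[A] B) :=
    Hfp f₀ dvd_rfl hf₀ (Localization.Away f₀)
  have hinj₁ : Function.Injective (algebraMap A (Localization.Away f₀)) :=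
    IsLocalization.injective (Localization.Away f₀) hle
  let K := FractionRing (Localization.Away f₀)
  let Ω := AlgebraicClosure K
  have hinjΩ : Function.Injective (algebraMap A Ω) := by
    rw [IsScalarTower.algebraMap_eq A (Localization.Away f₀) Ω, RingHom.coe_comp]
    refine Function.Injective.comp ?_ hinj₁
    rw [IsScalarTower.algebraMap_eq (Localization.Away f₀) K Ω, RingHom.coe_comp]
    exact (RingHom.injective _).comp (IsFractionRing.injective _ K)
  have h1 : IsReduced (Ω ⊗[A] B) := h Ω hinjΩ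
  have h2 : IsReduced (Ω ⊗[Localization.Away f₀] (Localization.Away f₀ ⊗[A] B)) :=
    isReduced_of_injective
      (Algebra.TensorProduct.cancelBaseChange A (Localization.Away f₀) Ω Ω B)
      (AlgEquiv.injective _)
  obtain ⟨f₁, hf₁, H⟩ := exists_forall_isReduced_of_domain_fp (A := Localization.Away f₀)
    (B := Localization.Away f₀ ⊗[A] B) (K := K) (Ω := Ω) h2
  obtain ⟨⟨a, s⟩, has⟩ := IsLocalization.surj (Submonoid.powers f₀) f₁
  have ha : a ≠ 0 := by
    rintro rfl
    rw [map_zero] at has
    have hs : IsUnit (algebraMap A (Localization.Away f₀) s.1) :=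
      IsLocalization.map_units _ s
    exact hf₁ (hs.mul_left_eq_zero.1 has)
  refine ⟨f₀ * a, mul_ne_zero hf₀ ha, ?_⟩
  intro K' _ _ hK'
  rw [map_mul] at hK'
  have hf₀K' : algebraMap A K' f₀ ≠ 0 := left_ne_zero_of_mul hK'
  have haK' : algebraMap A K' a ≠ 0 := right_ne_zero_of_mul hK'
  letI : Algebra (Localization.Away f₀) K' :=
    (IsLocalization.Away.lift f₀ (g := algebraMap A K') (isUnit_iff_ne_zero.2 hf₀K')).toAlgebra
  haveI : IsScalarTower A (Localization.Away f₀) K' :=
    IsScalarTower.of_algebraMap_eq (fun x => (IsLocalization.Away.lift_eq f₀ _ x).symm)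
  have hf₁K' : algebraMap (Localization.Away f₀) K' f₁ ≠ 0 := by
    intro h0
    have := congrArg (algebraMap (Localization.Away f₀) K') has
    rw [map_mul, h0, zero_mul, ← IsScalarTower.algebraMap_apply] at this
    exact haK' this.symm
  have h3 := H K' hf₁K'
  exact isReduced_of_injective
    (Algebra.TensorProduct.cancelBaseChange A (Localization.Away f₀) K' K' B).symm
    (AlgEquiv.injective _)

/-! ### part G5b -/
/-- **Geometric reducedness of the generic fibre spreads out** (algebra): `p₀` is a prime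
contained in all primes. -/
theorem exists_forall_isReduced_ext {A B : Type u} [CommRing A] [CommRing B] [Algebra A B]
    [Algebra.FiniteType A B] (p₀ : Ideal A) [p₀.IsPrime]
    (hmin : ∀ q : Ideal A, q.IsPrime → p₀ ≤ q)
    (h : ∀ (K : Type u) [Field K] [Algebra A K], (∀ a : A, algebraMap A K a = 0 ↔ a ∈ p₀) →
      IsReduced (K ⊗[A] B)) :
    ∃ f : A, f ∉ p₀ ∧ ∀ (K' : Type u) [Field K'] [Algebra A K'], algebraMap A K' f ≠ 0 →
      IsReduced (K' ⊗[A] B) := by
  obtain ⟨f', hf', H⟩ := exists_forall_isReduced_of_domain (A := A ⧸ p₀)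
    (B := (A ⧸ p₀) ⊗[A] B) (by
      intro K _ _ hinj
      letI : Algebra A K := ((algebraMap (A ⧸ p₀) K).comp (Ideal.Quotient.mk p₀)).toAlgebra
      haveI : IsScalarTower A (A ⧸ p₀) K := IsScalarTower.of_algebraMap_eq (fun a => rfl)
      have hker : ∀ a : A, algebraMap A K a = 0 ↔ a ∈ p₀ := by
        intro a
        show algebraMap (A ⧸ p₀) K (Ideal.Quotient.mk p₀ a) = 0 ↔ _
        rw [map_eq_zero_iff _ hinj, Ideal.Quotient.eq_zero_iff_mem]
      have h1 := h K hker
      exact isReduced_of_injective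
        (Algebra.TensorProduct.cancelBaseChange A (A ⧸ p₀) K K B) (AlgEquiv.injective _))
  obtain ⟨f, rfl⟩ := Ideal.Quotient.mk_surjective f'
  refine ⟨f, fun hf => hf' (Ideal.Quotient.eq_zero_iff_mem.2 hf), ?_⟩
  intro K' _ _ hfK'
  have hker' : ∀ a ∈ p₀, algebraMap A K' a = 0 := by
    intro a ha
    have hprime : (RingHom.ker (algebraMap A K')).IsPrime := RingHom.ker_isPrime _
    exact hmin _ hprime ha
  letI : Algebra (A ⧸ p₀) K' :=
    (Ideal.Quotient.lift p₀ (algebraMap A K') hker').toAlgebra
  haveI : IsScalarTower A (A ⧸ p₀) K' := IsScalarTower.of_algebraMap_eq (fun a => rfl)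
  have h0 := H K' (show algebraMap (A ⧸ p₀) K' (Ideal.Quotient.mk p₀ f) ≠ 0 from hfK')
  exact isReduced_of_injective
    (Algebra.TensorProduct.cancelBaseChange A (A ⧸ p₀) K' K' B).symm (AlgEquiv.injective _)

/-! ### part G6 -/
/-- all geometric points over `y` have reduced pullback -/
def GR {X Y : Scheme.{u}} (f : X ⟶ Y) (y : Y) : Prop :=
  ∀ (K : Type u) [Field K] (z : Spec (CommRingCat.of K) ⟶ Y),
    (∀ x : Spec (CommRingCat.of K), z x = y) → IsReduced (pullback f z)

theorem geometricallyReduced_fiber_iff {X Y : Scheme.{u}} (f : X ⟶ Y) (y : Y) :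
    GeometricallyReduced (f.fiberToSpecResidueField y) ↔ GR f y := by
  rw [← not_iff_not, not_geometricallyReduced_fiber_iff]
  constructor
  · rintro ⟨K, _, z, hz, hnr⟩ h
    exact hnr (h K z hz)
  · intro h
    by_contra hcon
    apply h
    intro K _ z hz
    by_contra hnr
    exact hcon ⟨K, inferInstance, z, hz, hnr⟩

/-- a pullback is reduced as soon as enough of its affine pieces are -/
theorem isReduced_pullback_of_forall_exists_affine {X Y T : Scheme.{u}} (f : X ⟶ Y) {V : Y.Opens}
    (hV : IsAffineOpen V) (z' : T ⟶ Spec Γ(Y, V))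
    (H : ∀ x ∈ f ⁻¹ᵁ V, ∃ (W : X.Opens) (_ : IsAffineOpen W) (e : W ≤ f ⁻¹ᵁ V), x ∈ W ∧
      IsReduced (pullback (Spec.map (f.appLE V W e)) z')) :
    IsReduced (pullback f (z' ≫ hV.fromSpec)) := by
  haveI : ∀ x : ↑(pullback f (z' ≫ hV.fromSpec)),
      _root_.IsReduced ((pullback f (z' ≫ hV.fromSpec)).presheaf.stalk x) := by
    intro x
    have hx : pullback.fst f (z' ≫ hV.fromSpec) x ∈ f ⁻¹ᵁ V := by
      show f (pullback.fst f (z' ≫ hV.fromSpec) x) ∈ V
      rw [← Scheme.Hom.comp_apply, pullback.condition, Scheme.Hom.comp_apply,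
        Scheme.Hom.comp_apply]
      have h2 : hV.fromSpec (z' (pullback.snd f (z' ≫ hV.fromSpec) x)) ∈ Set.range hV.fromSpec :=
        ⟨_, rfl⟩
      rw [hV.range_fromSpec] at h2
      exact h2
    obtain ⟨W, hW, hWV, hxW, hred⟩ := H _ hx
    obtain ⟨j, hj⟩ := exists_isPullback_pullback_affine f hV hW hWV z'
    haveI : IsOpenImmersion j :=
      MorphismProperty.of_isPullback (P := @IsOpenImmersion) hj.flip inferInstance
    have hr : x ∈ Set.range j := by
      rw [show Set.range j = Set.range j.base from rfl, range_fst_of_isPullback hj]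
      show pullback.fst f (z' ≫ hV.fromSpec) x ∈ Set.range hW.fromSpec
      rw [hW.range_fromSpec]
      exact hxW
    obtain ⟨t, rfl⟩ := hr
    haveI := hred
    exact isReduced_of_injective (j.stalkMap t).hom
      ((ConcreteCategory.bijective_of_isIso (j.stalkMap t)).1)
  exact isReduced_of_isReduced_stalk _

/-! ### part G7 -/
/-- the local claim on one affine chart -/
theorem exists_forall_chart_isReduced {X Y : Scheme.{u}} (f : X ⟶ Y) [LocallyOfFiniteType f]
    {V : Y.Opens} (hV : IsAffineOpen V) {W : X.Opens} (hW : IsAffineOpen W) (e : W ≤ f ⁻¹ᵁ V)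
    (p₀ : Spec Γ(Y, V))
    (hmin : ∀ q : Ideal Γ(Y, V), q.IsPrime → (show PrimeSpectrum Γ(Y, V) from p₀).asIdeal ≤ q)
    (h : GR f (hV.fromSpec p₀)) :
    ∃ f₀ : Γ(Y, V), f₀ ∉ (show PrimeSpectrum Γ(Y, V) from p₀).asIdeal ∧
      ∀ (K' : Type u) [Field K'] (ψ : Γ(Y, V) ⟶ CommRingCat.of K'), ψ.hom f₀ ≠ 0 →
        IsReduced (pullback (Spec.map (f.appLE V W e)) (Spec.map ψ)) := by
  letI : Algebra Γ(Y, V) Γ(X, W) := (f.appLE V W e).hom.toAlgebra
  haveI : Algebra.FiniteType Γ(Y, V) Γ(X, W) := f.finiteType_appLE hV hW e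
  obtain ⟨f₀, hf₀, H⟩ := exists_forall_isReduced_ext (A := Γ(Y, V)) (B := Γ(X, W))
    (show PrimeSpectrum Γ(Y, V) from p₀).asIdeal hmin (by
      intro K _ _ hker
      have hz : ∀ x : Spec (CommRingCat.of K),
          (Spec.map (CommRingCat.ofHom (algebraMap Γ(Y, V) K)) ≫ hV.fromSpec) x =
            hV.fromSpec p₀ := by
        intro x
        rw [Scheme.Hom.comp_apply]
        congr 1
        exact (SpecMap_apply_eq_iff (CommRingCat.ofHom (algebraMap Γ(Y, V) K)) x p₀).2 hker
      have hred := h K _ hz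
      obtain ⟨j, hj⟩ := exists_isPullback_pullback_affine f hV hW e
        (Spec.map (CommRingCat.ofHom (algebraMap Γ(Y, V) K)))
      haveI : IsOpenImmersion j :=
        MorphismProperty.of_isPullback (P := @IsOpenImmersion) hj.flip inferInstance
      haveI := hred
      have h3 : IsReduced (pullback (Spec.map (f.appLE V W e))
          (Spec.map (CommRingCat.ofHom (algebraMap Γ(Y, V) K)))) := isReduced_of_isOpenImmersion j
      exact (isReduced_pullback_affine_iff f e (K := K)).1 h3)
  refine ⟨f₀, hf₀, ?_⟩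
  intro K' _ ψ hψ
  letI : Algebra Γ(Y, V) K' := ψ.hom.toAlgebra
  have h1 := H K' hψ
  exact (isReduced_pullback_affine_iff f e (K := K')).2 h1

/-- **Geometric reducedness of the generic fibre spreads out** (pointwise form). -/
theorem exists_open_forall_GR {X Y : Scheme.{u}} (f : X ⟶ Y) [IrreducibleSpace Y]
    [LocallyOfFiniteType f] [QuasiCompact f] (h : GR f (genericPoint Y)) :
    ∃ V : Y.Opens, (V : Set Y).Nonempty ∧ ∀ y ∈ V, GR f y := by
  classical
  obtain ⟨_, ⟨V, hV : IsAffineOpen V, rfl⟩, hηV, -⟩ :=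
    Y.isBasis_affineOpens.exists_subset_of_mem_open (Set.mem_univ (genericPoint Y)) isOpen_univ
  obtain ⟨p₀, hp₀, hmin⟩ := exists_generic_prime hV hηV
  rw [← hp₀] at h
  -- a finite affine cover of `f⁻¹ V`
  have hcompact : IsCompact ((f ⁻¹ᵁ V : X.Opens) : Set X) := f.isCompact_preimage hV.isCompact
  obtain ⟨𝒲, h𝒲fin, h𝒲⟩ := isCompact_and_isOpen_iff_finite_and_eq_biUnion_affineOpens.1
    ⟨hcompact, (f ⁻¹ᵁ V).isOpen⟩
  have hle : ∀ W ∈ 𝒲, (W : X.Opens) ≤ f ⁻¹ᵁ V := by
    intro W hW x hx
    have : x ∈ ⋃ i ∈ 𝒲, ((i : X.Opens) : Set X) := Set.mem_biUnion hW hx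
    rw [← h𝒲] at this
    exact this
  have hloc : ∀ W : X.affineOpens, ∀ hW : W ∈ 𝒲, ∃ f₀ : Γ(Y, V),
      f₀ ∉ (show PrimeSpectrum Γ(Y, V) from p₀).asIdeal ∧
      ∀ (K' : Type u) [Field K'] (ψ : Γ(Y, V) ⟶ CommRingCat.of K'), ψ.hom f₀ ≠ 0 →
        IsReduced (pullback (Spec.map (f.appLE V W (hle W hW))) (Spec.map ψ)) :=
    fun W hW => exists_forall_chart_isReduced f hV W.2 (hle W hW) p₀ hmin h
  choose F hF₀ hF using hloc
  refine ⟨hV.fromSpec ''ᵁ (PrimeSpectrum.basicOpen
    (∏ W ∈ h𝒲fin.toFinset.attach, F W.1 (h𝒲fin.mem_toFinset.1 W.2))), ⟨hV.fromSpec p₀, p₀, ?_, rfl⟩, ?_⟩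
  · show _ ∉ (show PrimeSpectrum Γ(Y, V) from p₀).asIdeal
    rw [Ideal.IsPrime.prod_mem_iff]
    rintro ⟨W, -, hW⟩
    exact hF₀ W.1 _ hW
  rintro _ ⟨q, hq, rfl⟩
  replace hq : (∏ W ∈ h𝒲fin.toFinset.attach, F W.1 (h𝒲fin.mem_toFinset.1 W.2)) ∉
      (show PrimeSpectrum Γ(Y, V) from q).asIdeal := hq
  rw [Ideal.IsPrime.prod_mem_iff] at hq
  push Not at hq
  show GR f (hV.fromSpec q)
  intro K _ z hz
  -- `z` factors through the chart
  have hrange : Set.range z ⊆ Set.range hV.fromSpec := by
    rintro _ ⟨x, rfl⟩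
    rw [hz x]
    exact ⟨q, rfl⟩
  have hz' : IsOpenImmersion.lift hV.fromSpec z hrange ≫ hV.fromSpec = z :=
    IsOpenImmersion.lift_fac _ _ _
  obtain ⟨ψ, hψ⟩ := Spec.map_surjective (IsOpenImmersion.lift hV.fromSpec z hrange)
  rw [← hψ] at hz'
  have hpt : ∀ x : Spec (CommRingCat.of K), Spec.map ψ x = q := by
    intro x
    apply hV.fromSpec.isOpenEmbedding.injective
    rw [← Scheme.Hom.comp_apply, hz', hz x]
  obtain ⟨x₀⟩ : Nonempty (Spec (CommRingCat.of K)) := inferInstance
  have hker := (SpecMap_apply_eq_iff ψ x₀ q).1 (hpt x₀)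
  rw [← hz']
  apply isReduced_pullback_of_forall_exists_affine f hV (Spec.map ψ)
  intro x hx
  have hx' : x ∈ ((f ⁻¹ᵁ V : X.Opens) : Set X) := hx
  rw [h𝒲] at hx'
  obtain ⟨W, hW, hxW⟩ := Set.mem_iUnion₂.1 hx'
  refine ⟨W, W.2, hle W hW, hxW, hF W hW K ψ ?_⟩
  intro h0
  exact hq ⟨W, h𝒲fin.mem_toFinset.2 hW⟩ (Finset.mem_attach _ _) ((hker _).1 h0)

/-! ### part G8 -/
theorem geometricallyReduced_restrict_of_forall_GR {X Y : Scheme.{u}} (f : X ⟶ Y) (V : Y.Opens)
    (H : ∀ y ∈ V, GR f y) : GeometricallyReduced (f ∣_ V) := by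
  refine ⟨fun K _ y Z fst snd hpb => ?_⟩
  have hP : IsPullback (fst ≫ (f ⁻¹ᵁ V).ι) snd f (y ≫ V.ι) :=
    hpb.paste_horiz (isPullback_morphismRestrict f V).flip
  obtain ⟨x₀⟩ : Nonempty (Spec (CommRingCat.of K)) := inferInstance
  haveI : Subsingleton (Spec (CommRingCat.of K)) :=
    (inferInstance : Subsingleton (PrimeSpectrum K))
  have hmem : (y ≫ V.ι) x₀ ∈ V := by
    rw [Scheme.Hom.comp_apply]
    exact (y x₀).2
  haveI : IsReduced (pullback f (y ≫ V.ι)) :=
    H _ hmem K (y ≫ V.ι) (fun x => by rw [Subsingleton.elim x x₀])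
  exact isReduced_of_isOpenImmersion hP.isoPullback.hom

/-- **Stacks 0578**: if the generic fibre is geometrically reduced, so is `f` over a nonempty
open. -/
theorem exists_open_geometricallyReduced_restrict {X Y : Scheme.{u}} (f : X ⟶ Y)
    [IrreducibleSpace Y] [LocallyOfFiniteType f] [QuasiCompact f]
    (h : GeometricallyReduced (f.fiberToSpecResidueField (genericPoint Y))) :
    ∃ V : Y.Opens, (V : Set Y).Nonempty ∧ GeometricallyReduced (f ∣_ V) := by
  obtain ⟨V, hV, H⟩ := exists_open_forall_GR f ((geometricallyReduced_fiber_iff f _).1 h)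
  exact ⟨V, hV, geometricallyReduced_restrict_of_forall_GR f V H⟩

/-- pointwise form -/
theorem exists_open_forall_geometricallyReduced_fiber {X Y : Scheme.{u}} (f : X ⟶ Y)
    [IrreducibleSpace Y] [LocallyOfFiniteType f] [QuasiCompact f]
    (h : GeometricallyReduced (f.fiberToSpecResidueField (genericPoint Y))) :
    ∃ V : Y.Opens, (V : Set Y).Nonempty ∧
      ∀ y ∈ V, GeometricallyReduced (f.fiberToSpecResidueField y) := by
  obtain ⟨V, hV, H⟩ := exists_open_forall_GR f ((geometricallyReduced_fiber_iff f _).1 h)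
  exact ⟨V, hV, fun y hy => (geometricallyReduced_fiber_iff f y).2 (H y hy)⟩

end Groth.Agent.Lib.Helper78.GeomRed
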