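import Mathlib
import Groth.Agent.Lib.Helper78.GeomRed
import Groth.Agent.Lib.Helper78.ConsMor
import Groth.Agent.Lib.Helper78.ConsOne

/-!
# The geometrically reduced locus is locally constructible (EGA IV 9.7.7)

helper78.  Geometric reducedness is invariant under extension of the base field; the relation
"geometrically reduced" is a constructible property of morphisms (`ConsProp.IsConsMor`), via
`GeomRed` (S0434) and `GenFibreGeom` (S1331); hence the locus of geometrically reduced fibres of a
quasi-compact morphism locally of finite presentation is locally constructible.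
-/

set_option autoImplicit false
set_option linter.style.haveILetI false
universe u

namespace Groth.Agent.Lib.Helper78.GeomRedCons

open TensorProduct
open AlgebraicGeometry CategoryTheory Limits Topology
open Groth.Agent.Lib.Helper78.GeomRed
open Groth.Agent.Lib.Helper78.GenFibre Groth.Agent.Lib.Helper78.GenFibreGeom

/-! ### part H1 -/
/-- a morphism from a nonempty scheme to a one-point scheme is surjective -/
theorem surjective_of_subsingleton {T' T : Scheme.{u}} (h : T' ⟶ T) [Nonempty T'] [Subsingleton T] :
    Surjective h :=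
  ⟨fun t => ⟨Classical.arbitrary T', Subsingleton.elim _ _⟩⟩

/-- reducedness descends along an extension of the base field -/
theorem isReduced_of_isReduced_pullback_field {Z : Scheme.{u}} {K K'' : Type u} [Field K] [Field K'']
    (snd : Z ⟶ Spec (CommRingCat.of K)) (z'' : Spec (CommRingCat.of K'') ⟶ Spec (CommRingCat.of K))
    [IsReduced (pullback snd z'')] : IsReduced Z := by
  haveI : Subsingleton (Spec (CommRingCat.of K)) :=
    (inferInstance : Subsingleton (PrimeSpectrum K))
  haveI : Surjective z'' := surjective_of_subsingleton z''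
  haveI : IsDominant z'' := inferInstance
  haveI : IsSchemeTheoreticallyDominant z'' := IsSchemeTheoreticallyDominant.of_isDominant z''
  haveI : Flat snd := inferInstance
  haveI : IsSchemeTheoreticallyDominant (pullback.fst snd z'') := inferInstance
  exact IsSchemeTheoreticallyDominant.isReduced (pullback.fst snd z'')

/-! ### part H1b -/
/-- geometric reducedness is invariant under extension of the base field -/
theorem geometricallyReduced_iff_of_isPullback {Y Y' T T' : Scheme.{u}} {g : Y ⟶ T} {g' : Y' ⟶ T'}
    {e : Y' ⟶ Y} {h : T' ⟶ T} [Subsingleton T] [IsIntegral T']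
    (hP : IsPullback e g' g h) : GeometricallyReduced g ↔ GeometricallyReduced g' := by
  constructor
  · intro hg
    exact MorphismProperty.of_isPullback (P := @GeometricallyReduced) hP hg
  · intro hg'
    refine ⟨fun K _ z Z fst snd hpb => ?_⟩
    haveI : Nonempty T' := inferInstance
    haveI : Surjective h := surjective_of_subsingleton h
    haveI : Surjective (pullback.fst z h) :=
      MorphismProperty.of_isPullback (P := @Surjective) (IsPullback.of_hasPullback z h).flip
        inferInstance
    obtain ⟨x₀⟩ : Nonempty (Spec (CommRingCat.of K)) := inferInstance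
    obtain ⟨w, -⟩ := (pullback.fst z h).surjective x₀
    let ιw : Spec (CommRingCat.of ((pullback z h).residueField w)) ⟶ pullback z h :=
      (pullback z h).fromSpecResidueField w
    let z'' : Spec (CommRingCat.of ((pullback z h).residueField w)) ⟶ Spec (CommRingCat.of K) :=
      ιw ≫ pullback.fst z h
    let z₁ : Spec (CommRingCat.of ((pullback z h).residueField w)) ⟶ T' :=
      ιw ≫ pullback.snd z h
    have hc : z'' ≫ z = z₁ ≫ h := by
      simp only [z'', z₁, Category.assoc, pullback.condition]
    suffices IsReduced (pullback snd z'') from isReduced_of_isReduced_pullback_field snd z''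
    have h1 : IsPullback (pullback.fst snd z'' ≫ fst) (pullback.snd snd z'') g (z'' ≫ z) :=
      (IsPullback.of_hasPullback snd z'').paste_horiz hpb
    rw [hc] at h1
    have w' : (pullback.fst snd z'' ≫ fst) ≫ g = (pullback.snd snd z'' ≫ z₁) ≫ h := by
      rw [Category.assoc, Category.assoc]
      exact h1.w
    have h2 : IsPullback (hP.lift (pullback.fst snd z'' ≫ fst) (pullback.snd snd z'' ≫ z₁) w')
        (pullback.snd snd z'') g' z₁ :=
      IsPullback.of_right (by rw [hP.lift_fst]; exact h1) (hP.lift_snd _ _ w') hP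
    exact hg'.geometrically_isReduced z₁ _ _ h2

/-! ### part H2 -/
/-- the relation "`Y` is geometrically reduced over the base field" -/
def PGR : ∀ ⦃X Y T : Scheme.{u}⦄, (X ⟶ Y) → (Y ⟶ T) → Prop :=
  fun _ _ _ _ g => GeometricallyReduced g

theorem locusMor_PGR {X Y S : Scheme.{u}} (f : X ⟶ Y) (g : Y ⟶ S) :
    ConsProp.locusMor PGR f g = {s | GeometricallyReduced (g.fiberToSpecResidueField s)} := rfl

theorem isConsMor_PGR : ConsProp.IsConsMor PGR.{u} := by
  refine ⟨?_, ?_⟩
  · intro X X' Y Y' T T' f g f' g' eX eY h _ _ _ _ _ _ _ _ hY hX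
    exact geometricallyReduced_iff_of_isPullback hY
  · intro X Y S f g _ _ _ _ _ _
    rw [locusMor_PGR]
    by_cases hgen : GeometricallyReduced (g.fiberToSpecResidueField (genericPoint S))
    · left
      obtain ⟨V, ⟨v, hv⟩, H⟩ := exists_open_forall_geometricallyReduced_fiber g hgen
      exact ⟨v, mem_interior.2 ⟨V, fun y hy => H y hy, V.2, hv⟩⟩
    · right
      obtain ⟨V, ⟨v, hv⟩, H⟩ :=
        Groth.Agent.Lib.Helper78.GenFibreGeom.exists_open_forall_not_geometricallyReduced_fiber g hgen
      exact ⟨v, mem_interior.2 ⟨V, fun y hy => H y hy, V.2, hv⟩⟩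

/-- the geometrically reduced locus of a finitely presented morphism to an affine scheme is
constructible -/
theorem isConstructible_locus_of_isAffine {Y S : Scheme.{u}} [IsAffine S] (g : Y ⟶ S)
    [LocallyOfFinitePresentation g] [QuasiCompact g] [QuasiSeparated g] :
    IsConstructible {s : S | GeometricallyReduced (g.fiberToSpecResidueField s)} := by
  have := Groth.Agent.Lib.Helper78.ConsMor.isConstructible_locusMor_of_isAffine isConsMor_PGR
    (𝟙 Y) g
  rwa [locusMor_PGR] at this

/-! ### part H3 -/
/-- geometric reducedness of a fibre, through affine charts -/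
theorem GR_fromSpec_iff {X Y : Scheme.{u}} (f : X ⟶ Y) {V : Y.Opens} (hV : IsAffineOpen V)
    (𝒲 : Set X.affineOpens) (hle : ∀ W ∈ 𝒲, (W : X.Opens) ≤ f ⁻¹ᵁ V)
    (hcov : ((f ⁻¹ᵁ V : X.Opens) : Set X) = ⋃ W ∈ 𝒲, ((W : X.Opens) : Set X))
    (q : Spec Γ(Y, V)) :
    GR f (hV.fromSpec q) ↔
      ∀ W : X.affineOpens, ∀ hW : W ∈ 𝒲, GR (Spec.map (f.appLE V W (hle W hW))) q := by
  constructor
  · intro h W hW K _ z' hz'
    have hz : ∀ x : Spec (CommRingCat.of K), (z' ≫ hV.fromSpec) x = hV.fromSpec q := by
      intro x
      rw [Scheme.Hom.comp_apply, hz' x]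
    haveI := h K (z' ≫ hV.fromSpec) hz
    obtain ⟨j, hj⟩ := exists_isPullback_pullback_affine f hV
      (show IsAffineOpen (W : X.Opens) from W.2) (hle W hW) z'
    haveI : IsOpenImmersion j :=
      MorphismProperty.of_isPullback (P := @IsOpenImmersion) hj.flip inferInstance
    exact isReduced_of_isOpenImmersion j
  · intro h K _ z hz
    haveI : IsOpenImmersion hV.fromSpec := inferInstance
    have hrange : Set.range z ⊆ Set.range hV.fromSpec := by
      rintro _ ⟨x, rfl⟩
      rw [hz x]
      exact ⟨q, rfl⟩
    have hz' : IsOpenImmersion.lift hV.fromSpec z hrange ≫ hV.fromSpec = z :=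
      IsOpenImmersion.lift_fac _ _ _
    have hpt : ∀ x : Spec (CommRingCat.of K), IsOpenImmersion.lift hV.fromSpec z hrange x = q := by
      intro x
      apply hV.fromSpec.isOpenEmbedding.injective
      rw [← Scheme.Hom.comp_apply, hz', hz x]
    rw [← hz']
    apply isReduced_pullback_of_forall_exists_affine f hV
    intro x hx
    have hx' : x ∈ ((f ⁻¹ᵁ V : X.Opens) : Set X) := hx
    rw [hcov] at hx'
    obtain ⟨W, hW, hxW⟩ := Set.mem_iUnion₂.1 hx'
    exact ⟨W, W.2, hle W hW, hxW, h W hW K _ hpt⟩

/-- **EGA IV 9.7.7 (geometrically reduced)**: the set of points with geometrically reduced fibre is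
locally constructible. -/
theorem isLocallyConstructible_geometricallyReduced_locus {X Y : Scheme.{u}} (f : X ⟶ Y)
    [QuasiCompact f] [LocallyOfFinitePresentation f] :
    IsLocallyConstructible {y : Y | GeometricallyReduced (f.fiberToSpecResidueField y)} := by
  intro y₀
  obtain ⟨_, ⟨V, hV : IsAffineOpen V, rfl⟩, hyV, -⟩ :=
    Y.isBasis_affineOpens.exists_subset_of_mem_open (Set.mem_univ y₀) isOpen_univ
  refine ⟨V, V.2.mem_nhds hyV, V.2, ?_⟩
  have hcompact : IsCompact ((f ⁻¹ᵁ V : X.Opens) : Set X) := f.isCompact_preimage hV.isCompact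
  obtain ⟨𝒲, h𝒲fin, h𝒲⟩ := isCompact_and_isOpen_iff_finite_and_eq_biUnion_affineOpens.1
    ⟨hcompact, (f ⁻¹ᵁ V).isOpen⟩
  have hle : ∀ W ∈ 𝒲, (W : X.Opens) ≤ f ⁻¹ᵁ V := by
    intro W hW x hx
    have : x ∈ ⋃ i ∈ 𝒲, ((i : X.Opens) : Set X) := Set.mem_biUnion hW hx
    rw [← h𝒲] at this
    exact this
  have hc : ∀ W : X.affineOpens, ∀ hW : W ∈ 𝒲, IsConstructible {q : Spec Γ(Y, V) |
      GeometricallyReduced
        ((Spec.map (f.appLE V W (hle W hW))).fiberToSpecResidueField q)} := by
    intro W hW
    haveI : LocallyOfFinitePresentation (Spec.map (f.appLE V W (hle W hW))) := by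
      rw [HasRingHomProperty.Spec_iff (P := @LocallyOfFinitePresentation)]
      exact f.finitePresentation_appLE hV W.2 _
    exact isConstructible_locus_of_isAffine _
  have hc' : IsConstructible (⋂ W : X.affineOpens, ⋂ hW : W ∈ 𝒲, {q : Spec Γ(Y, V) |
      GeometricallyReduced
        ((Spec.map (f.appLE V W (hle W hW))).fiberToSpecResidueField q)}) := by
    have : (⋂ W : X.affineOpens, ⋂ hW : W ∈ 𝒲, {q : Spec Γ(Y, V) |
        GeometricallyReduced
          ((Spec.map (f.appLE V W (hle W hW))).fiberToSpecResidueField q)}) =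
        ⋂ W : 𝒲, {q : Spec Γ(Y, V) | GeometricallyReduced
          ((Spec.map (f.appLE V W.1 (hle W.1 W.2))).fiberToSpecResidueField q)} := by
      ext q
      simp only [Set.mem_iInter, Subtype.forall]
    rw [this]
    haveI : Finite 𝒲 := h𝒲fin
    exact IsConstructible.iInter fun W => hc W.1 W.2
  suffices hsuff : IsConstructible ((Scheme.Opens.ι V) ⁻¹'
      {y : Y | GeometricallyReduced (f.fiberToSpecResidueField y)}) from hsuff
  have heq : ((Scheme.Opens.ι V) ⁻¹'
      {y : Y | GeometricallyReduced (f.fiberToSpecResidueField y)}) =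
      hV.isoSpec.hom ⁻¹' (⋂ W : X.affineOpens, ⋂ hW : W ∈ 𝒲, {q : Spec Γ(Y, V) |
        GeometricallyReduced
          ((Spec.map (f.appLE V W (hle W hW))).fiberToSpecResidueField q)}) := by
    ext v
    rw [Set.mem_preimage, Set.mem_preimage, Set.mem_iInter₂]
    have hv : hV.fromSpec (hV.isoSpec.hom v) = Scheme.Opens.ι V v := by
      rw [← Scheme.Hom.comp_apply, hV.isoSpec_hom_fromSpec]
    show GeometricallyReduced (f.fiberToSpecResidueField (Scheme.Opens.ι V v)) ↔
      ∀ (W : X.affineOpens) (hW : W ∈ 𝒲), GeometricallyReduced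
        ((Spec.map (f.appLE V W (hle W hW))).fiberToSpecResidueField (hV.isoSpec.hom v))
    rw [geometricallyReduced_fiber_iff, ← hv, GR_fromSpec_iff f hV 𝒲 hle h𝒲]
    exact forall₂_congr fun W hW => (geometricallyReduced_fiber_iff _ _).symm
  rw [heq]
  exact hV.isoSpec.hom.isConstructible_preimage hc'

end Groth.Agent.Lib.Helper78.GeomRedCons
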