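import Mathlib
import Groth.Agent.Lib.Helper78.GeomRedCons

/-!
# Noetherian approximation preserving geometric reducedness (EGA IV 8/9 limit argument)

helper78.  A constructible set of `Spec A₀` containing the image of `Spec A` contains the image of
`Spec A₁` for a finitely generated subalgebra `A₀ ⊆ A₁ ⊆ A`; a finitely presented geometrically
reduced morphism of affine schemes descends to a geometrically reduced morphism of finite type over
a finitely generated `ℤ`-algebra.
-/

set_option autoImplicit false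
set_option linter.style.haveILetI false
universe u

namespace Groth.Agent.Lib.Helper78.GeomRedApprox

open TensorProduct
open AlgebraicGeometry CategoryTheory Limits Topology
open Groth.Agent.Lib.Helper78.GeomRed Groth.Agent.Lib.Helper78.GeomRedCons

/-! ### part K1 -/
/-- one basic constructible piece missed by `Spec A` is missed by the spectrum of a finitely
generated subalgebra -/
theorem exists_finset_forall_notMem_basic {A₀ A : Type u} [CommRing A₀] [CommRing A] [Algebra A₀ A]
    (C : PrimeSpectrum.BasicConstructibleSetData A₀)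
    (h : ∀ q : PrimeSpectrum A, PrimeSpectrum.comap (algebraMap A₀ A) q ∉ C.toSet) :
    ∃ F : Finset A, ∀ A₁ : Subalgebra A₀ A, (F : Set A) ⊆ A₁ →
      ∀ q : PrimeSpectrum A₁, PrimeSpectrum.comap (algebraMap A₀ A₁) q ∉ C.toSet := by
  classical
  have hrad : algebraMap A₀ A C.f ∈
      (Ideal.span (Set.range (fun i => algebraMap A₀ A (C.g i)))).radical := by
    rw [Ideal.radical_eq_sInf, Ideal.mem_sInf]
    rintro J ⟨hJ, hJp⟩
    by_contra hf
    apply h ⟨J, hJp⟩
    refine ⟨?_, ?_⟩
    · rw [PrimeSpectrum.mem_zeroLocus]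
      rintro _ ⟨i, rfl⟩
      exact hJ (Ideal.subset_span ⟨i, rfl⟩)
    · rw [PrimeSpectrum.mem_zeroLocus]
      intro hcon
      exact hf (hcon (Set.mem_singleton _))
  obtain ⟨N, hN⟩ := hrad
  obtain ⟨a, ha⟩ := Ideal.mem_span_range_iff_exists_fun.1 hN
  refine ⟨Finset.univ.image a, ?_⟩
  intro A₁ hF q hq
  obtain ⟨hq1, hq2⟩ := hq
  apply hq2
  rw [PrimeSpectrum.mem_zeroLocus] at hq1 ⊢
  rintro _ rfl
  have haA₁ : ∀ i, a i ∈ A₁ := fun i => hF (by simp)
  have hpow : (algebraMap A₀ A₁ C.f) ^ N = ∑ i, (⟨a i, haA₁ i⟩ : A₁) * algebraMap A₀ A₁ (C.g i) := by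
    apply Subtype.ext
    simp only [SubmonoidClass.coe_pow, AddSubmonoidClass.coe_finsetSum, MulMemClass.coe_mul]
    exact ha.symm
  show algebraMap A₀ A₁ C.f ∈ q.asIdeal
  apply q.2.mem_of_pow_mem N
  rw [hpow]
  refine Ideal.sum_mem _ fun i _ => Ideal.mul_mem_left _ _ ?_
  exact hq1 ⟨i, rfl⟩

/-! ### part K1b -/
/-- if `Spec A` maps into a constructible subset `E` of `Spec A₀`, so does the spectrum of a finitely
generated `A₀`-subalgebra of `A` -/
theorem exists_finset_forall_comap_mem {A₀ A : Type u} [CommRing A₀] [CommRing A] [Algebra A₀ A]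
    (E : Set (PrimeSpectrum A₀)) (hE : IsConstructible E)
    (h : ∀ q : PrimeSpectrum A, PrimeSpectrum.comap (algebraMap A₀ A) q ∈ E) :
    ∃ F : Finset A, ∀ q : PrimeSpectrum (Algebra.adjoin A₀ (F : Set A)),
      PrimeSpectrum.comap (algebraMap A₀ (Algebra.adjoin A₀ (F : Set A))) q ∈ E := by
  classical
  obtain ⟨T, hT⟩ := PrimeSpectrum.exists_constructibleSetData_iff.2 hE.compl
  have hC : ∀ C ∈ T, ∃ F : Finset A, ∀ A₁ : Subalgebra A₀ A, (F : Set A) ⊆ A₁ →
      ∀ q : PrimeSpectrum A₁, PrimeSpectrum.comap (algebraMap A₀ A₁) q ∉ C.toSet := by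
    intro C hCT
    apply exists_finset_forall_notMem_basic
    intro q hq
    have : PrimeSpectrum.comap (algebraMap A₀ A) q ∈ T.toSet :=
      Set.mem_biUnion (Finset.mem_coe.2 hCT) hq
    rw [hT] at this
    exact this (h q)
  choose! Fn hFn using hC
  refine ⟨T.biUnion Fn, ?_⟩
  intro q
  by_contra hq
  have hq' : PrimeSpectrum.comap (algebraMap A₀ (Algebra.adjoin A₀ ((T.biUnion Fn : Finset A) : Set A))) q
      ∈ T.toSet := by
    rw [hT]
    exact hq
  obtain ⟨C, hCT, hqC⟩ := Set.mem_iUnion₂.1 hq'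
  refine hFn C hCT _ ?_ q hqC
  intro x hx
  exact Algebra.subset_adjoin (Finset.mem_coe.2 (Finset.mem_biUnion.2 ⟨C, hCT, hx⟩))

/-! ### part K2 -/
/-- the one-scheme relation "geometrically reduced" -/
def PGR1 : ∀ ⦃Y T : Scheme.{u}⦄, (Y ⟶ T) → Prop := fun _ _ g => GeometricallyReduced g

theorem isFieldStable_PGR1 : ConsProp.IsFieldStable PGR1.{u} := by
  intro Y Y' T T' g g' e h _ _ _ _ _ _ hP
  exact geometricallyReduced_iff_of_isPullback hP

theorem geometricallyReduced_of_forall_fiber {X Y : Scheme.{u}} (f : X ⟶ Y)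
    (H : ∀ y, GeometricallyReduced (f.fiberToSpecResidueField y)) : GeometricallyReduced f :=
  (geometricallyReduced_iff f).2
    (geometrically_iff_forall_fiberToSpecResidueField.2
      fun y => (geometricallyReduced_iff _).1 (H y))

/-- the cartesian square attached to a model of a presentation -/
theorem isPullback_of_algEquiv {A₀ A B₀ B : Type u} [CommRing A₀] [CommRing A] [CommRing B₀]
    [CommRing B] [Algebra A₀ A] [Algebra A₀ B₀] [Algebra A B] (e₀ : A ⊗[A₀] B₀ ≃ₐ[A] B) :
    IsPullback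
      (Spec.map (CommRingCat.ofHom ((e₀ : A ⊗[A₀] B₀ →+* B).comp
        (Algebra.TensorProduct.includeRight : B₀ →ₐ[A₀] A ⊗[A₀] B₀).toRingHom)))
      (Spec.map (CommRingCat.ofHom (algebraMap A B)))
      (Spec.map (CommRingCat.ofHom (algebraMap A₀ B₀)))
      (Spec.map (CommRingCat.ofHom (algebraMap A₀ A))) := by
  have h1 := CommRingCat.isPushout_tensorProduct A₀ A B₀
  have h2 := h1.of_iso (Iso.refl _) (Iso.refl _) (Iso.refl _)
    (e₀.toRingEquiv.toCommRingCatIso)
    (f' := CommRingCat.ofHom (algebraMap A₀ A)) (g' := CommRingCat.ofHom (algebraMap A₀ B₀))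
    (inl' := CommRingCat.ofHom (algebraMap A B))
    (inr' := CommRingCat.ofHom ((e₀ : A ⊗[A₀] B₀ →+* B).comp
        (Algebra.TensorProduct.includeRight : B₀ →ₐ[A₀] A ⊗[A₀] B₀).toRingHom))
    (by simp) (by simp)
    (by
      ext a
      have := e₀.commutes a
      simpa [Algebra.TensorProduct.algebraMap_apply] using this)
    (by
      ext b
      simp)
  exact (isPullback_SpecMap_of_isPushout _ _ _ _ h2).flip

/-! ### part K3 -/
/-- **Noetherian approximation of a geometrically reduced morphism**, for spectra. -/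
theorem exists_approx_Spec {A B : Type u} [CommRing A] [CommRing B] [Algebra A B]
    [Algebra.FinitePresentation A B]
    (hGR : GeometricallyReduced (Spec.map (CommRingCat.ofHom (algebraMap A B)))) :
    ∃ (X₀ S₀ : Scheme.{u}) (f₀ : X₀ ⟶ S₀) (g : Spec (CommRingCat.of A) ⟶ S₀)
      (g' : Spec (CommRingCat.of B) ⟶ X₀), IsAffine X₀ ∧ IsAffine S₀ ∧
      IsPullback g' (Spec.map (CommRingCat.ofHom (algebraMap A B))) f₀ g ∧
      Algebra.FiniteType ℤ Γ(S₀, ⊤) ∧ LocallyOfFiniteType f₀ ∧ GeometricallyReduced f₀ := by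
  classical
  let P := Algebra.Presentation.ofFinitePresentation A B
  let e₀ : A ⊗[P.Core] P.ModelOfHasCoeffs P.Core ≃ₐ[A] B := P.tensorModelOfHasCoeffsEquiv P.Core
  have sq0 := isPullback_of_algEquiv e₀
  set x₀ := Spec.map (CommRingCat.ofHom ((e₀ : A ⊗[P.Core] P.ModelOfHasCoeffs P.Core →+* B).comp
        (Algebra.TensorProduct.includeRight :
          P.ModelOfHasCoeffs P.Core →ₐ[P.Core] A ⊗[P.Core] P.ModelOfHasCoeffs P.Core).toRingHom))
    with hx₀
  set f₀' := Spec.map (CommRingCat.ofHom (algebraMap P.Core (P.ModelOfHasCoeffs P.Core))) with hf₀'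
  set s₀ := Spec.map (CommRingCat.ofHom (algebraMap P.Core A)) with hs₀
  haveI : LocallyOfFinitePresentation f₀' := by
    rw [hf₀', HasRingHomProperty.Spec_iff (P := @LocallyOfFinitePresentation)]
    exact (RingHom.finitePresentation_algebraMap).2 inferInstance
  -- the constructible locus
  have hE : IsConstructible {s : Spec (CommRingCat.of P.Core) |
      GeometricallyReduced (f₀'.fiberToSpecResidueField s)} :=
    isConstructible_locus_of_isAffine f₀'
  have hloc : ∀ q : Spec (CommRingCat.of A),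
      GeometricallyReduced (f₀'.fiberToSpecResidueField (s₀ q)) := by
    intro q
    have e := Groth.Agent.Lib.Helper78.ConsOne.locus_of_isPullback isFieldStable_PGR1 sq0
    have hq : q ∈ ConsProp.locus PGR1 (Spec.map (CommRingCat.ofHom (algebraMap A B))) := by
      show GeometricallyReduced _
      infer_instance
    rw [e] at hq
    exact hq
  obtain ⟨F, hF⟩ := exists_finset_forall_comap_mem (A₀ := P.Core) (A := A)
    {s : PrimeSpectrum P.Core | GeometricallyReduced (f₀'.fiberToSpecResidueField s)} hE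
    (fun q => hloc q)
  -- the enlarged finitely generated subalgebra
  set A₁ : Subalgebra P.Core A := Algebra.adjoin P.Core (F : Set A) with hA₁
  set ι₁ := Spec.map (CommRingCat.ofHom (algebraMap P.Core A₁)) with hι₁
  set g := Spec.map (CommRingCat.ofHom (algebraMap A₁ A)) with hg
  have hgι : g ≫ ι₁ = s₀ := by
    rw [hg, hι₁, hs₀, ← Spec.map_comp, ← CommRingCat.ofHom_comp,
      ← IsScalarTower.algebraMap_eq P.Core A₁ A]
  have w : x₀ ≫ f₀' = (Spec.map (CommRingCat.ofHom (algebraMap A B)) ≫ g) ≫ ι₁ := by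
    rw [Category.assoc, hgι]
    exact sq0.w
  refine ⟨pullback f₀' ι₁, Spec (CommRingCat.of A₁), pullback.snd f₀' ι₁, g,
    pullback.lift x₀ (Spec.map (CommRingCat.ofHom (algebraMap A B)) ≫ g) w, inferInstance,
    inferInstance, ?_, ?_, inferInstance, ?_⟩
  · refine IsPullback.of_right ?_ (pullback.lift_snd _ _ w) (IsPullback.of_hasPullback f₀' ι₁)
    rw [pullback.lift_fst, hgι]
    exact sq0
  · haveI : Algebra.FiniteType P.Core A₁ :=
      (Subalgebra.fg_iff_finiteType A₁).1 (Subalgebra.fg_adjoin_finset F)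
    haveI : Algebra.FiniteType ℤ A₁ := Algebra.FiniteType.trans (S := P.Core) inferInstance inferInstance
    exact Algebra.FiniteType.equiv (inferInstance : Algebra.FiniteType ℤ A₁)
      (Scheme.ΓSpecIso (CommRingCat.of A₁)).symm.commRingCatIsoToRingEquiv.toIntAlgEquiv
  · apply geometricallyReduced_of_forall_fiber
    intro y
    have e := Groth.Agent.Lib.Helper78.ConsOne.locus_of_isPullback isFieldStable_PGR1
      (IsPullback.of_hasPullback f₀' ι₁)
    have hy : y ∈ ConsProp.locus PGR1 (pullback.snd f₀' ι₁) := by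
      rw [e]
      exact hF y
    exact hy

/-! ### part K4 -/
/-- **Noetherian approximation of a geometrically reduced morphism of affine schemes.** -/
theorem exists_approx {X S : Scheme.{u}} (f : X ⟶ S) [IsAffine X] [IsAffine S]
    [LocallyOfFinitePresentation f] [GeometricallyReduced f] :
    ∃ (X₀ S₀ : Scheme.{u}) (f₀ : X₀ ⟶ S₀) (g : S ⟶ S₀) (g' : X ⟶ X₀), IsAffine X₀ ∧ IsAffine S₀ ∧
      IsPullback g' f f₀ g ∧ Algebra.FiniteType ℤ Γ(S₀, ⊤) ∧ LocallyOfFiniteType f₀ ∧
      GeometricallyReduced f₀ := by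
  letI : Algebra Γ(S, ⊤) Γ(X, ⊤) := f.appTop.hom.toAlgebra
  haveI : Algebra.FinitePresentation Γ(S, ⊤) Γ(X, ⊤) :=
    (HasRingHomProperty.iff_of_isAffine (P := @LocallyOfFinitePresentation)).1 inferInstance
  have hnat : X.isoSpec.hom ≫ Spec.map f.appTop = f ≫ S.isoSpec.hom :=
    Scheme.isoSpec_hom_naturality f
  have sq : IsPullback X.isoSpec.hom f (Spec.map f.appTop) S.isoSpec.hom :=
    IsPullback.of_horiz_isIso ⟨hnat⟩
  have sq' : IsPullback X.isoSpec.inv (Spec.map f.appTop) f S.isoSpec.inv :=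
    IsPullback.of_horiz_isIso ⟨by
      rw [← cancel_mono S.isoSpec.hom, Category.assoc, Category.assoc, Iso.inv_hom_id,
        Category.comp_id, ← hnat, Iso.inv_hom_id_assoc]⟩
  have hGR : GeometricallyReduced (Spec.map f.appTop) :=
    MorphismProperty.of_isPullback (P := @GeometricallyReduced) sq' inferInstance
  obtain ⟨X₀, S₀, f₀, g, g', h1, h2, h3, h4, h5, h6⟩ :=
    exists_approx_Spec (A := Γ(S, ⊤)) (B := Γ(X, ⊤)) hGR
  exact ⟨X₀, S₀, f₀, S.isoSpec.hom ≫ g, X.isoSpec.hom ≫ g', h1, h2, sq.paste_horiz h3, h4, h5, h6⟩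

end Groth.Agent.Lib.Helper78.GeomRedApprox
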