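import Mathlib

/-!
# Common localisations of two finitely generated subalgebras of a field (helper78)

If `D` and `C` are finitely generated `k`-algebras embedded in a field `L` such that both have `L` as
field of fractions, then `D[1/a] ≃ C[1/c]` for suitable nonzero `a`, `c`, compatibly with the
embeddings into `L`.
-/

set_option autoImplicit false

namespace Groth.Agent.Lib.Helper78.Birat

section CL

variable {k D C L : Type*} [CommRing k] [CommRing D] [CommRing C] [Field L]
  [Algebra k D] [Algebra k C] [Algebra k L]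

theorem isUnit_of_mem_powers (i : D →ₐ[k] L) {a : D} (ha : i a ≠ 0) :
    ∀ y : Submonoid.powers a, IsUnit (i y) := by
  rintro ⟨_, n, rfl⟩
  rw [map_pow]
  exact (isUnit_iff_ne_zero.mpr ha).pow n

/-- The extension of `i : D → L` to `D[1/a]`. -/
noncomputable def awayLift (i : D →ₐ[k] L) (a : D) (ha : i a ≠ 0) : Localization.Away a →ₐ[k] L :=
  IsLocalization.liftAlgHom (M := Submonoid.powers a) (f := i) (isUnit_of_mem_powers i ha)

@[simp]
theorem awayLift_algebraMap (i : D →ₐ[k] L) (a : D) (ha : i a ≠ 0) (d : D) :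
    awayLift i a ha (algebraMap D (Localization.Away a) d) = i d := by
  simp [awayLift]

theorem awayLift_mk' (i : D →ₐ[k] L) (a : D) (ha : i a ≠ 0) (d : D) (s : Submonoid.powers a) :
    awayLift i a ha (IsLocalization.mk' (Localization.Away a) d s) * i s = i d := by
  have h1 : IsLocalization.mk' (Localization.Away a) d s *
      algebraMap D (Localization.Away a) s = algebraMap D _ d := IsLocalization.mk'_spec _ _ _
  have := congrArg (awayLift i a ha) h1
  rw [map_mul, awayLift_algebraMap, awayLift_algebraMap] at this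
  exact this

theorem awayLift_injective (i : D →ₐ[k] L) (a : D) (ha : i a ≠ 0) (hi : Function.Injective i) :
    Function.Injective (awayLift i a ha) := by
  rw [injective_iff_map_eq_zero]
  intro w hw
  obtain ⟨d, s, rfl⟩ := IsLocalization.exists_mk'_eq (Submonoid.powers a) w
  have h := awayLift_mk' i a ha d s
  rw [hw, zero_mul] at h
  have hd : d = 0 := hi (by rw [← h, map_zero])
  rw [hd, IsLocalization.mk'_zero]

theorem mem_range_awayLift (i : D →ₐ[k] L) (a : D) (ha : i a ≠ 0) (z : L) :
    z ∈ (awayLift i a ha).range ↔ ∃ (d : D) (n : ℕ), z = i d / (i a) ^ n := by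
  constructor
  · rintro ⟨w, rfl⟩
    obtain ⟨d, s, rfl⟩ := IsLocalization.exists_mk'_eq (Submonoid.powers a) w
    obtain ⟨n, hn⟩ := (Submonoid.mem_powers_iff _ _).mp s.2
    refine ⟨d, n, ?_⟩
    rw [eq_div_iff (pow_ne_zero _ ha), ← map_pow, hn]
    exact awayLift_mk' i a ha d s
  · rintro ⟨d, n, rfl⟩
    refine ⟨IsLocalization.mk' (Localization.Away a) d
      (⟨a ^ n, ⟨n, rfl⟩⟩ : Submonoid.powers a), ?_⟩
    rw [eq_div_iff (pow_ne_zero _ ha), ← map_pow]
    exact awayLift_mk' i a ha d ⟨a ^ n, ⟨n, rfl⟩⟩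

theorem range_le_range_awayLift (i : D →ₐ[k] L) (a : D) (ha : i a ≠ 0) :
    i.range ≤ (awayLift i a ha).range := by
  rintro _ ⟨d, rfl⟩
  exact ⟨algebraMap D _ d, awayLift_algebraMap i a ha d⟩

theorem inv_mem_range_awayLift (i : D →ₐ[k] L) (a : D) (ha : i a ≠ 0) :
    (i a)⁻¹ ∈ (awayLift i a ha).range := by
  rw [mem_range_awayLift]
  exact ⟨1, 1, by simp⟩

theorem range_awayLift_le (i : D →ₐ[k] L) (a : D) (ha : i a ≠ 0) (S : Subalgebra k L)
    (h1 : i.range ≤ S) (h2 : (i a)⁻¹ ∈ S) : (awayLift i a ha).range ≤ S := by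
  intro z hz
  obtain ⟨d, n, rfl⟩ := (mem_range_awayLift i a ha z).mp hz
  rw [div_eq_mul_inv, ← inv_pow]
  exact S.mul_mem (h1 ⟨d, rfl⟩) (S.pow_mem h2 n)

/-- A finitely generated subalgebra of the fraction field of `D` lies in some `D[1/a]`. -/
theorem exists_range_le [Algebra.FiniteType k C] (iC : C →ₐ[k] L) (iD : D →ₐ[k] L)
    (hfrac : ∀ z : L, ∃ x y, iD y ≠ 0 ∧ z = iD x / iD y) :
    ∃ (a : D) (ha : iD a ≠ 0), iC.range ≤ (awayLift iD a ha).range := by
  classical
  obtain ⟨s, hs⟩ := (Algebra.FiniteType.out : (⊤ : Subalgebra k C).FG)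
  choose num den hden hnd using fun y : C => hfrac (iC y)
  have ha : iD (∏ y ∈ s, den y) ≠ 0 := by
    rw [map_prod]
    exact Finset.prod_ne_zero_iff.mpr fun y _ => hden y
  refine ⟨∏ y ∈ s, den y, ha, ?_⟩
  have hrange : iC.range = Algebra.adjoin k (iC '' (s : Set C)) := by
    rw [← AlgHom.map_adjoin, hs, Algebra.map_top]
  rw [hrange]
  apply Algebra.adjoin_le
  rintro _ ⟨y, hy, rfl⟩
  rw [SetLike.mem_coe, mem_range_awayLift]
  refine ⟨num y * ∏ y' ∈ s.erase y, den y', 1, ?_⟩
  rw [hnd y, pow_one, div_eq_div_iff (hden y) ha, map_mul, ← Finset.mul_prod_erase s den hy, map_mul]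
  ring

/-- Two finitely generated subalgebras with the same fraction field have a common localisation. -/
theorem exists_range_eq [Algebra.FiniteType k C] [Algebra.FiniteType k D]
    (iC : C →ₐ[k] L) (iD : D →ₐ[k] L)
    (hfracD : ∀ z : L, ∃ x y, iD y ≠ 0 ∧ z = iD x / iD y)
    (hfracC : ∀ z : L, ∃ x y, iC y ≠ 0 ∧ z = iC x / iC y) :
    ∃ (a : D) (ha : iD a ≠ 0) (c : C) (hc : iC c ≠ 0),
      (awayLift iD a ha).range = (awayLift iC c hc).range := by
  obtain ⟨a, ha, hCa⟩ := exists_range_le iC iD hfracD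
  obtain ⟨c, hc, hDc⟩ := exists_range_le iD iC hfracC
  -- `iC c ∈ E_a`
  obtain ⟨n, N, hn⟩ := (mem_range_awayLift iD a ha (iC c)).mp (hCa ⟨c, rfl⟩)
  have hn0 : iD n ≠ 0 := by
    intro h0
    rw [h0, zero_div] at hn
    exact hc hn
  have ha' : iD (a * n) ≠ 0 := by
    rw [map_mul]; exact mul_ne_zero ha hn0
  set E := (awayLift iD (a * n) ha').range with hE
  have hDE : iD.range ≤ E := range_le_range_awayLift iD _ ha'
  have hinvE : (iD (a * n))⁻¹ ∈ E := inv_mem_range_awayLift iD _ ha'
  have hainv : (iD a)⁻¹ ∈ E := by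
    have : (iD a)⁻¹ = iD n * (iD (a * n))⁻¹ := by
      rw [map_mul]; field_simp
    rw [this]
    exact E.mul_mem (hDE ⟨n, rfl⟩) hinvE
  have hninv : (iD n)⁻¹ ∈ E := by
    have : (iD n)⁻¹ = iD a * (iD (a * n))⁻¹ := by
      rw [map_mul]; field_simp
    rw [this]
    exact E.mul_mem (hDE ⟨a, rfl⟩) hinvE
  have hcinv : (iC c)⁻¹ ∈ E := by
    have : (iC c)⁻¹ = (iD a) ^ N * (iD n)⁻¹ := by
      rw [hn]; field_simp
    rw [this]
    exact E.mul_mem (E.pow_mem (hDE ⟨a, rfl⟩) N) hninv
  have hCE : iC.range ≤ E := hCa.trans (range_awayLift_le iD a ha E hDE hainv)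
  -- `iD (a * n) ∈ F_c`
  obtain ⟨m, M, hm⟩ := (mem_range_awayLift iC c hc (iD (a * n))).mp (hDc ⟨a * n, rfl⟩)
  have hm0 : iC m ≠ 0 := by
    intro h0
    rw [h0, zero_div] at hm
    exact ha' hm
  have hc' : iC (c * m) ≠ 0 := by
    rw [map_mul]; exact mul_ne_zero hc hm0
  refine ⟨a * n, ha', c * m, hc', ?_⟩
  set F := (awayLift iC (c * m) hc').range with hF
  have hCF : iC.range ≤ F := range_le_range_awayLift iC _ hc'
  have hinvF : (iC (c * m))⁻¹ ∈ F := inv_mem_range_awayLift iC _ hc'
  have hcinvF : (iC c)⁻¹ ∈ F := by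
    have : (iC c)⁻¹ = iC m * (iC (c * m))⁻¹ := by
      rw [map_mul]; field_simp
    rw [this]
    exact F.mul_mem (hCF ⟨m, rfl⟩) hinvF
  have hminvF : (iC m)⁻¹ ∈ F := by
    have : (iC m)⁻¹ = iC c * (iC (c * m))⁻¹ := by
      rw [map_mul]; field_simp
    rw [this]
    exact F.mul_mem (hCF ⟨c, rfl⟩) hinvF
  have hDF : iD.range ≤ F := hDc.trans (range_awayLift_le iC c hc F hCF hcinvF)
  apply le_antisymm
  · apply range_awayLift_le iD _ ha' F hDF
    have : (iD (a * n))⁻¹ = (iC c) ^ M * (iC m)⁻¹ := by
      rw [hm]; field_simp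
    rw [this]
    exact F.mul_mem (F.pow_mem (hCF ⟨c, rfl⟩) M) hminvF
  · apply range_awayLift_le iC _ hc' E hCE
    have : (iC (c * m))⁻¹ = (iC c)⁻¹ * ((iD (a * n))⁻¹ * ((iC c)⁻¹) ^ M) := by
      have hm' : iC m = iD (a * n) * (iC c) ^ M := by
        rw [hm]; field_simp
      rw [map_mul, hm', inv_pow]
      have := ha'
      field_simp
    rw [this]
    exact E.mul_mem hcinv (E.mul_mem hinvE (E.pow_mem hcinv M))

/-- The isomorphism of the common localisations. -/
theorem exists_algEquiv [Algebra.FiniteType k C] [Algebra.FiniteType k D]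
    (iC : C →ₐ[k] L) (iD : D →ₐ[k] L) (hiC : Function.Injective iC) (hiD : Function.Injective iD)
    (hfracD : ∀ z : L, ∃ x y, iD y ≠ 0 ∧ z = iD x / iD y)
    (hfracC : ∀ z : L, ∃ x y, iC y ≠ 0 ∧ z = iC x / iC y) :
    ∃ (a : D) (ha : iD a ≠ 0) (c : C) (hc : iC c ≠ 0)
      (e : Localization.Away a ≃ₐ[k] Localization.Away c),
      ∀ w, awayLift iC c hc (e w) = awayLift iD a ha w := by
  obtain ⟨a, ha, c, hc, h⟩ := exists_range_eq iC iD hfracD hfracC
  refine ⟨a, ha, c, hc, ?_⟩
  let e₁ := AlgEquiv.ofInjective (awayLift iD a ha) (awayLift_injective iD a ha hiD)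
  let e₂ := AlgEquiv.ofInjective (awayLift iC c hc) (awayLift_injective iC c hc hiC)
  refine ⟨(e₁.trans (Subalgebra.equivOfEq _ _ h)).trans e₂.symm, ?_⟩
  intro w
  have : ∀ v : (awayLift iC c hc).range, awayLift iC c hc (e₂.symm v) = v := by
    intro v
    have := e₂.apply_symm_apply v
    exact congrArg Subtype.val this
  simp only [AlgEquiv.trans_apply]
  rw [this]
  rfl

end CL

section FT

open Polynomial

variable {k L : Type*} [Field k] [Field L] [Algebra k L] {d : ℕ}

set_option maxHeartbeats 1600000 in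
/-- A finitely generated field extension with a separating transcendence basis is the fraction
field of a hypersurface ring `k[T₁, …, T_d][T]/(g)` with `g` monic, irreducible and separable over
`k(T₁, …, T_d)`. -/
theorem exists_hypersurface_model [Algebra.EssFiniteType k L] (s : Fin d → L)
    (hs : IsTranscendenceBasis k s)
    (hsep : Algebra.IsSeparable ↥(IntermediateField.adjoin k (Set.range s)) L) :
    ∃ (g : Polynomial (MvPolynomial (Fin d) k)), g.Monic ∧
      Irreducible (g.map (algebraMap (MvPolynomial (Fin d) k)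
        (FractionRing (MvPolynomial (Fin d) k)))) ∧
      (g.map (algebraMap (MvPolynomial (Fin d) k)
        (FractionRing (MvPolynomial (Fin d) k)))).Separable ∧
      ∃ iC : AdjoinRoot g →ₐ[k] L, Function.Injective iC ∧
        ∀ z : L, ∃ x y, iC y ≠ 0 ∧ z = iC x / iC y := by
  classical
  have hinj : Function.Injective (MvPolynomial.aeval s : MvPolynomial (Fin d) k →ₐ[k] L) :=
    algebraicIndependent_iff_injective_aeval.1 hs.1
  let algRL : Algebra (MvPolynomial (Fin d) k) L :=
    (MvPolynomial.aeval s : MvPolynomial (Fin d) k →ₐ[k] L).toRingHom.toAlgebra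
  have hRL : ∀ r : MvPolynomial (Fin d) k, algebraMap (MvPolynomial (Fin d) k) L r =
      MvPolynomial.aeval s r := fun r => rfl
  have : IsScalarTower k (MvPolynomial (Fin d) k) L :=
    IsScalarTower.of_algebraMap_eq (fun c => by rw [hRL, MvPolynomial.algebraMap_eq,
      MvPolynomial.aeval_C])
  have hinj' : Function.Injective (algebraMap (MvPolynomial (Fin d) k) L) := hinj
  have : FaithfulSMul (MvPolynomial (Fin d) k) L :=
    (faithfulSMul_iff_algebraMap_injective _ _).mpr hinj'
  let algFL : Algebra (FractionRing (MvPolynomial (Fin d) k)) L :=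
    (IsFractionRing.lift (K := FractionRing (MvPolynomial (Fin d) k)) hinj').toAlgebra
  have hFL : ∀ a : FractionRing (MvPolynomial (Fin d) k),
      algebraMap (FractionRing (MvPolynomial (Fin d) k)) L a = IsFractionRing.lift hinj' a :=
    fun a => rfl
  have : IsScalarTower (MvPolynomial (Fin d) k) (FractionRing (MvPolynomial (Fin d) k)) L :=
    IsScalarTower.of_algebraMap_eq (fun r => by rw [hFL, IsFractionRing.lift_algebraMap])
  have : IsScalarTower k (FractionRing (MvPolynomial (Fin d) k)) L :=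
    IsScalarTower.of_algebraMap_eq (fun c => by
      rw [IsScalarTower.algebraMap_apply k (MvPolynomial (Fin d) k)
        (FractionRing (MvPolynomial (Fin d) k)),
        ← IsScalarTower.algebraMap_apply (MvPolynomial (Fin d) k)
          (FractionRing (MvPolynomial (Fin d) k)) L,
        ← IsScalarTower.algebraMap_apply k (MvPolynomial (Fin d) k) L])
  -- separability over `F`
  have : Algebra.IsSeparable (FractionRing (MvPolynomial (Fin d) k)) L := by
    refine Algebra.IsSeparable.of_equiv_equiv
      (hs.1.aevalEquivField.symm : ↥(IntermediateField.adjoin k (Set.range s)) ≃+* _)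
      (RingEquiv.refl L) ?_
    ext p
    simp only [RingHom.coe_comp, RingHom.coe_coe, Function.comp_apply, RingEquiv.refl_apply]
    rw [hFL]
    exact hs.1.lift_reprField p
  have : Algebra.EssFiniteType (FractionRing (MvPolynomial (Fin d) k)) L :=
    Algebra.EssFiniteType.of_comp k _ L
  have : Algebra.FormallyUnramified (FractionRing (MvPolynomial (Fin d) k)) L :=
    Algebra.FormallyUnramified.of_isSeparable _ L
  have : Module.Finite (FractionRing (MvPolynomial (Fin d) k)) L :=
    Algebra.FormallyUnramified.finite_of_free (R := FractionRing (MvPolynomial (Fin d) k)) (S := L)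
  obtain ⟨α, hα⟩ := Field.exists_primitive_element (FractionRing (MvPolynomial (Fin d) k)) L
  -- integral multiple
  have halg : IsAlgebraic (MvPolynomial (Fin d) k) α := by
    have h1 : IsAlgebraic (FractionRing (MvPolynomial (Fin d) k)) α :=
      Algebra.IsAlgebraic.isAlgebraic α
    exact (IsFractionRing.isAlgebraic_iff (MvPolynomial (Fin d) k)
      (FractionRing (MvPolynomial (Fin d) k)) L).mpr h1
  obtain ⟨r, hr0, hint⟩ := halg.exists_integral_multiple
  set x' : L := r • α with hx'
  have hrL : algebraMap (MvPolynomial (Fin d) k) L r ≠ 0 := by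
    rw [Ne, ← map_zero (algebraMap (MvPolynomial (Fin d) k) L)]
    exact fun h => hr0 (hinj' h)
  have hx'α : x' = algebraMap (FractionRing (MvPolynomial (Fin d) k)) L
      (algebraMap (MvPolynomial (Fin d) k) _ r) * α := by
    rw [hx', Algebra.smul_def, IsScalarTower.algebraMap_apply (MvPolynomial (Fin d) k)
      (FractionRing (MvPolynomial (Fin d) k)) L]
  have htop : IntermediateField.adjoin (FractionRing (MvPolynomial (Fin d) k)) {x'} = ⊤ := by
    rw [eq_top_iff, ← hα]
    apply IntermediateField.adjoin_le_iff.mpr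
    intro y hy
    have hyα : y = α := hy
    have hmem : x' ∈ IntermediateField.adjoin (FractionRing (MvPolynomial (Fin d) k)) {x'} :=
      IntermediateField.mem_adjoin_simple_self _ _
    have hr' : algebraMap (FractionRing (MvPolynomial (Fin d) k)) L
        (algebraMap (MvPolynomial (Fin d) k) _ r) ≠ 0 := by
      rw [← IsScalarTower.algebraMap_apply]; exact hrL
    have : α = (algebraMap (FractionRing (MvPolynomial (Fin d) k)) L
        (algebraMap (MvPolynomial (Fin d) k) _ r))⁻¹ * x' := by
      rw [hx'α, inv_mul_cancel_left₀ hr']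
    rw [hyα, this]
    exact (IntermediateField.adjoin _ _).mul_mem
      ((IntermediateField.adjoin _ _).inv_mem
        ((IntermediateField.adjoin _ _).algebraMap_mem _)) hmem
  have hintF : IsIntegral (FractionRing (MvPolynomial (Fin d) k)) x' := hint.tower_top
  refine ⟨minpoly (MvPolynomial (Fin d) k) x', minpoly.monic hint, ?_, ?_, ?_⟩
  · rw [← minpoly.isIntegrallyClosed_eq_field_fractions' (FractionRing (MvPolynomial (Fin d) k)) hint]
    exact minpoly.irreducible hintF
  · rw [← minpoly.isIntegrallyClosed_eq_field_fractions' (FractionRing (MvPolynomial (Fin d) k)) hint]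
    exact Algebra.IsSeparable.isSeparable _ x'
  · have h0 : (minpoly (MvPolynomial (Fin d) k) x').eval₂
        ((MvPolynomial.aeval s : MvPolynomial (Fin d) k →ₐ[k] L) : _ →+* L) x' = 0 :=
      minpoly.aeval (MvPolynomial (Fin d) k) x'
    refine ⟨AdjoinRoot.liftAlgHom _ (MvPolynomial.aeval s) x' h0, ?_, ?_⟩
    · rw [injective_iff_map_eq_zero]
      intro w hw
      obtain ⟨P, rfl⟩ := AdjoinRoot.mk_surjective w
      rw [AdjoinRoot.liftAlgHom_mk] at hw
      have hw' : Polynomial.aeval x' P = 0 := hw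
      rw [AdjoinRoot.mk_eq_zero]
      exact minpoly.isIntegrallyClosed_dvd hint hw'
    · intro z
      have hz : z ∈ (IntermediateField.adjoin (FractionRing (MvPolynomial (Fin d) k))
          {x'}).toSubalgebra := by
        rw [htop]; trivial
      rw [IntermediateField.adjoin_simple_toSubalgebra_of_isAlgebraic hintF.isAlgebraic,
        Algebra.adjoin_singleton_eq_range_aeval] at hz
      obtain ⟨p, rfl⟩ := hz
      obtain ⟨b, hbM, hb⟩ := IsLocalization.integerNormalization_spec
        (nonZeroDivisors (MvPolynomial (Fin d) k)) p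
      set q := IsLocalization.integerNormalization (nonZeroDivisors (MvPolynomial (Fin d) k)) p
      have hbL : algebraMap (MvPolynomial (Fin d) k) L b ≠ 0 := by
        rw [Ne, ← map_zero (algebraMap (MvPolynomial (Fin d) k) L)]
        exact fun h => (nonZeroDivisors.ne_zero hbM) (hinj' h)
      refine ⟨AdjoinRoot.mk _ q, AdjoinRoot.of _ b, ?_, ?_⟩
      · rw [← AdjoinRoot.mk_C, AdjoinRoot.liftAlgHom_mk, eval₂_C]
        exact hbL
      · rw [← AdjoinRoot.mk_C, AdjoinRoot.liftAlgHom_mk, AdjoinRoot.liftAlgHom_mk, eval₂_C]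
        have h1 : Polynomial.aeval x' (q.map (algebraMap (MvPolynomial (Fin d) k)
            (FractionRing (MvPolynomial (Fin d) k)))) = Polynomial.aeval x' q :=
          aeval_map_algebraMap _ _ _
        show Polynomial.aeval x' p = Polynomial.aeval x' q / algebraMap (MvPolynomial (Fin d) k) L b
        rw [eq_div_iff hbL, ← h1, hb,
          ← algebraMap_smul (FractionRing (MvPolynomial (Fin d) k)) b p, map_smul,
          Algebra.smul_def, ← IsScalarTower.algebraMap_apply, mul_comm]

end FT

end Groth.Agent.Lib.Helper78.Birat
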