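import Mathlib

/-!
# Common localisations of two finitely generated subalgebras of a field (helper78)

If `D` and `C` are finitely generated `k`-algebras embedded in a field `L` such that both have `L` as
field of fractions, then `D[1/a] ≃ C[1/c]` for suitable nonzero `a`, `c`, compatibly with the
embeddings into `L`.
-/

set_option autoImplicit false

namespace Groth.Agent.Lib.Helper78.BiratDom

/-! Copy of section `CL` of `Lib/Helper78/Birat.lean` with the base `k` only a commutative ring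
(instead of a field), as needed by `Lib/Helper78/GeomIrr.lean` (repair by lead: the landed
`Birat.lean` has `[Field k]`, while `GeomIrr` applies `exists_algEquiv` over a domain). -/

section CL

variable {k D C L : Type*} [CommRing k] [CommRing D] [CommRing C] [Field L]
  [Algebra k D] [Algebra k C] [Algebra k L]

theorem isUnit_of_mem_powers (i : D →ₐ[k] L) {a : D} (ha : i a ≠ 0) :
    ∀ y : Submonoid.powers a, IsUnit (i y) := by
  rintro ⟨_, n, rfl⟩
  rw [map_pow]
  exact (isUnit_iff_ne_zero.mpr ha).pow n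

/-- The extension of `i : D → L` to `D[1/a]`. -/
noncomputable def awayLift (i : D →ₐ[k] L) (a : D) (ha : i a ≠ 0) : Localization.Away a →ₐ[k] L :=
  IsLocalization.liftAlgHom (M := Submonoid.powers a) (f := i) (isUnit_of_mem_powers i ha)

@[simp]
theorem awayLift_algebraMap (i : D →ₐ[k] L) (a : D) (ha : i a ≠ 0) (d : D) :
    awayLift i a ha (algebraMap D (Localization.Away a) d) = i d := by
  simp [awayLift]

theorem awayLift_mk' (i : D →ₐ[k] L) (a : D) (ha : i a ≠ 0) (d : D) (s : Submonoid.powers a) :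
    awayLift i a ha (IsLocalization.mk' (Localization.Away a) d s) * i s = i d := by
  have h1 : IsLocalization.mk' (Localization.Away a) d s *
      algebraMap D (Localization.Away a) s = algebraMap D _ d := IsLocalization.mk'_spec _ _ _
  have := congrArg (awayLift i a ha) h1
  rw [map_mul, awayLift_algebraMap, awayLift_algebraMap] at this
  exact this

theorem awayLift_injective (i : D →ₐ[k] L) (a : D) (ha : i a ≠ 0) (hi : Function.Injective i) :
    Function.Injective (awayLift i a ha) := by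
  rw [injective_iff_map_eq_zero]
  intro w hw
  obtain ⟨d, s, rfl⟩ := IsLocalization.exists_mk'_eq (Submonoid.powers a) w
  have h := awayLift_mk' i a ha d s
  rw [hw, zero_mul] at h
  have hd : d = 0 := hi (by rw [← h, map_zero])
  rw [hd, IsLocalization.mk'_zero]

theorem mem_range_awayLift (i : D →ₐ[k] L) (a : D) (ha : i a ≠ 0) (z : L) :
    z ∈ (awayLift i a ha).range ↔ ∃ (d : D) (n : ℕ), z = i d / (i a) ^ n := by
  constructor
  · rintro ⟨w, rfl⟩
    obtain ⟨d, s, rfl⟩ := IsLocalization.exists_mk'_eq (Submonoid.powers a) w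
    obtain ⟨n, hn⟩ := (Submonoid.mem_powers_iff _ _).mp s.2
    refine ⟨d, n, ?_⟩
    rw [eq_div_iff (pow_ne_zero _ ha), ← map_pow, hn]
    exact awayLift_mk' i a ha d s
  · rintro ⟨d, n, rfl⟩
    refine ⟨IsLocalization.mk' (Localization.Away a) d
      (⟨a ^ n, ⟨n, rfl⟩⟩ : Submonoid.powers a), ?_⟩
    rw [eq_div_iff (pow_ne_zero _ ha), ← map_pow]
    exact awayLift_mk' i a ha d ⟨a ^ n, ⟨n, rfl⟩⟩

theorem range_le_range_awayLift (i : D →ₐ[k] L) (a : D) (ha : i a ≠ 0) :
    i.range ≤ (awayLift i a ha).range := by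
  rintro _ ⟨d, rfl⟩
  exact ⟨algebraMap D _ d, awayLift_algebraMap i a ha d⟩

theorem inv_mem_range_awayLift (i : D →ₐ[k] L) (a : D) (ha : i a ≠ 0) :
    (i a)⁻¹ ∈ (awayLift i a ha).range := by
  rw [mem_range_awayLift]
  exact ⟨1, 1, by simp⟩

theorem range_awayLift_le (i : D →ₐ[k] L) (a : D) (ha : i a ≠ 0) (S : Subalgebra k L)
    (h1 : i.range ≤ S) (h2 : (i a)⁻¹ ∈ S) : (awayLift i a ha).range ≤ S := by
  intro z hz
  obtain ⟨d, n, rfl⟩ := (mem_range_awayLift i a ha z).mp hz
  rw [div_eq_mul_inv, ← inv_pow]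
  exact S.mul_mem (h1 ⟨d, rfl⟩) (S.pow_mem h2 n)

/-- A finitely generated subalgebra of the fraction field of `D` lies in some `D[1/a]`. -/
theorem exists_range_le [Algebra.FiniteType k C] (iC : C →ₐ[k] L) (iD : D →ₐ[k] L)
    (hfrac : ∀ z : L, ∃ x y, iD y ≠ 0 ∧ z = iD x / iD y) :
    ∃ (a : D) (ha : iD a ≠ 0), iC.range ≤ (awayLift iD a ha).range := by
  classical
  obtain ⟨s, hs⟩ := (Algebra.FiniteType.out : (⊤ : Subalgebra k C).FG)
  choose num den hden hnd using fun y : C => hfrac (iC y)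
  have ha : iD (∏ y ∈ s, den y) ≠ 0 := by
    rw [map_prod]
    exact Finset.prod_ne_zero_iff.mpr fun y _ => hden y
  refine ⟨∏ y ∈ s, den y, ha, ?_⟩
  have hrange : iC.range = Algebra.adjoin k (iC '' (s : Set C)) := by
    rw [← AlgHom.map_adjoin, hs, Algebra.map_top]
  rw [hrange]
  apply Algebra.adjoin_le
  rintro _ ⟨y, hy, rfl⟩
  rw [SetLike.mem_coe, mem_range_awayLift]
  refine ⟨num y * ∏ y' ∈ s.erase y, den y', 1, ?_⟩
  rw [hnd y, pow_one, div_eq_div_iff (hden y) ha, map_mul, ← Finset.mul_prod_erase s den hy, map_mul]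
  ring

/-- Two finitely generated subalgebras with the same fraction field have a common localisation. -/
theorem exists_range_eq [Algebra.FiniteType k C] [Algebra.FiniteType k D]
    (iC : C →ₐ[k] L) (iD : D →ₐ[k] L)
    (hfracD : ∀ z : L, ∃ x y, iD y ≠ 0 ∧ z = iD x / iD y)
    (hfracC : ∀ z : L, ∃ x y, iC y ≠ 0 ∧ z = iC x / iC y) :
    ∃ (a : D) (ha : iD a ≠ 0) (c : C) (hc : iC c ≠ 0),
      (awayLift iD a ha).range = (awayLift iC c hc).range := by
  obtain ⟨a, ha, hCa⟩ := exists_range_le iC iD hfracD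
  obtain ⟨c, hc, hDc⟩ := exists_range_le iD iC hfracC
  -- `iC c ∈ E_a`
  obtain ⟨n, N, hn⟩ := (mem_range_awayLift iD a ha (iC c)).mp (hCa ⟨c, rfl⟩)
  have hn0 : iD n ≠ 0 := by
    intro h0
    rw [h0, zero_div] at hn
    exact hc hn
  have ha' : iD (a * n) ≠ 0 := by
    rw [map_mul]; exact mul_ne_zero ha hn0
  set E := (awayLift iD (a * n) ha').range with hE
  have hDE : iD.range ≤ E := range_le_range_awayLift iD _ ha'
  have hinvE : (iD (a * n))⁻¹ ∈ E := inv_mem_range_awayLift iD _ ha'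
  have hainv : (iD a)⁻¹ ∈ E := by
    have : (iD a)⁻¹ = iD n * (iD (a * n))⁻¹ := by
      rw [map_mul]; field_simp
    rw [this]
    exact E.mul_mem (hDE ⟨n, rfl⟩) hinvE
  have hninv : (iD n)⁻¹ ∈ E := by
    have : (iD n)⁻¹ = iD a * (iD (a * n))⁻¹ := by
      rw [map_mul]; field_simp
    rw [this]
    exact E.mul_mem (hDE ⟨a, rfl⟩) hinvE
  have hcinv : (iC c)⁻¹ ∈ E := by
    have : (iC c)⁻¹ = (iD a) ^ N * (iD n)⁻¹ := by
      rw [hn]; field_simp
    rw [this]
    exact E.mul_mem (E.pow_mem (hDE ⟨a, rfl⟩) N) hninv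
  have hCE : iC.range ≤ E := hCa.trans (range_awayLift_le iD a ha E hDE hainv)
  -- `iD (a * n) ∈ F_c`
  obtain ⟨m, M, hm⟩ := (mem_range_awayLift iC c hc (iD (a * n))).mp (hDc ⟨a * n, rfl⟩)
  have hm0 : iC m ≠ 0 := by
    intro h0
    rw [h0, zero_div] at hm
    exact ha' hm
  have hc' : iC (c * m) ≠ 0 := by
    rw [map_mul]; exact mul_ne_zero hc hm0
  refine ⟨a * n, ha', c * m, hc', ?_⟩
  set F := (awayLift iC (c * m) hc').range with hF
  have hCF : iC.range ≤ F := range_le_range_awayLift iC _ hc'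
  have hinvF : (iC (c * m))⁻¹ ∈ F := inv_mem_range_awayLift iC _ hc'
  have hcinvF : (iC c)⁻¹ ∈ F := by
    have : (iC c)⁻¹ = iC m * (iC (c * m))⁻¹ := by
      rw [map_mul]; field_simp
    rw [this]
    exact F.mul_mem (hCF ⟨m, rfl⟩) hinvF
  have hminvF : (iC m)⁻¹ ∈ F := by
    have : (iC m)⁻¹ = iC c * (iC (c * m))⁻¹ := by
      rw [map_mul]; field_simp
    rw [this]
    exact F.mul_mem (hCF ⟨c, rfl⟩) hinvF
  have hDF : iD.range ≤ F := hDc.trans (range_awayLift_le iC c hc F hCF hcinvF)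
  apply le_antisymm
  · apply range_awayLift_le iD _ ha' F hDF
    have : (iD (a * n))⁻¹ = (iC c) ^ M * (iC m)⁻¹ := by
      rw [hm]; field_simp
    rw [this]
    exact F.mul_mem (F.pow_mem (hCF ⟨c, rfl⟩) M) hminvF
  · apply range_awayLift_le iC _ hc' E hCE
    have : (iC (c * m))⁻¹ = (iC c)⁻¹ * ((iD (a * n))⁻¹ * ((iC c)⁻¹) ^ M) := by
      have hm' : iC m = iD (a * n) * (iC c) ^ M := by
        rw [hm]; field_simp
      rw [map_mul, hm', inv_pow]
      have := ha'
      field_simp
    rw [this]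
    exact E.mul_mem hcinv (E.mul_mem hinvE (E.pow_mem hcinv M))

/-- The isomorphism of the common localisations. -/
theorem exists_algEquiv [Algebra.FiniteType k C] [Algebra.FiniteType k D]
    (iC : C →ₐ[k] L) (iD : D →ₐ[k] L) (hiC : Function.Injective iC) (hiD : Function.Injective iD)
    (hfracD : ∀ z : L, ∃ x y, iD y ≠ 0 ∧ z = iD x / iD y)
    (hfracC : ∀ z : L, ∃ x y, iC y ≠ 0 ∧ z = iC x / iC y) :
    ∃ (a : D) (ha : iD a ≠ 0) (c : C) (hc : iC c ≠ 0)
      (e : Localization.Away a ≃ₐ[k] Localization.Away c),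
      ∀ w, awayLift iC c hc (e w) = awayLift iD a ha w := by
  obtain ⟨a, ha, c, hc, h⟩ := exists_range_eq iC iD hfracD hfracC
  refine ⟨a, ha, c, hc, ?_⟩
  let e₁ := AlgEquiv.ofInjective (awayLift iD a ha) (awayLift_injective iD a ha hiD)
  let e₂ := AlgEquiv.ofInjective (awayLift iC c hc) (awayLift_injective iC c hc hiC)
  refine ⟨(e₁.trans (Subalgebra.equivOfEq _ _ h)).trans e₂.symm, ?_⟩
  intro w
  have : ∀ v : (awayLift iC c hc).range, awayLift iC c hc (e₂.symm v) = v := by
    intro v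
    have := e₂.apply_symm_apply v
    exact congrArg Subtype.val this
  simp only [AlgEquiv.trans_apply]
  rw [this]
  rfl

end CL

end Groth.Agent.Lib.Helper78.BiratDom
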