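import Mathlib
import Groth.Agent.S1352
import Groth.Agent.Lib.Helper78.Birat
import Groth.Agent.Lib.Helper78.BiratDom
import Groth.Agent.Lib.Helper78.SchDense
import Groth.Agent.Lib.Helper78.GenFibreGeom

/-!
# Spreading out geometric irreducibility (helper78)

EGA IV 9.7.7 / Stacks 0559: for a quasi-compact morphism locally of finite type to an irreducible
scheme whose generic fibre is geometrically irreducible, the fibres over a nonempty open are
geometrically irreducible.

Algebraic core: over a domain `A` with algebraically closed fraction field, a finitely generated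
domain `B` is birational (over a localisation of `A`) to a hypersurface `A[X]/(P)` with `P`
absolutely irreducible; Bertini–Noether (`S1352`) keeps `P` irreducible on nearby fibres.
-/

set_option autoImplicit false
set_option linter.style.haveILetI false
universe u

open TensorProduct

namespace Groth.Agent.Lib.Helper78.GeomIrr

/-! ### part I1 -/
/-- The spectrum is irreducible: the nilradical is prime. -/
def IrrSpec (R : Type*) [CommRing R] : Prop := (nilradical R).IsPrime

theorem irrSpec_iff (R : Type*) [CommRing R] :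
    IrrSpec R ↔ IrreducibleSpace (PrimeSpectrum R) :=
  PrimeSpectrum.irreducibleSpace_iff_isPrime_nilradical.symm

theorem IrrSpec.of_isDomain (R : Type*) [CommRing R] [IsDomain R] : IrrSpec R := by
  unfold IrrSpec
  rw [nilradical_eq_zero]
  exact Ideal.isPrime_bot

theorem IrrSpec.nontrivial {R : Type*} [CommRing R] (h : IrrSpec R) : Nontrivial R := by
  by_contra hn
  rw [not_nontrivial_iff_subsingleton] at hn
  exact h.ne_top (Ideal.eq_top_of_isUnit_mem _ (Submodule.zero_mem _) (by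
    rw [Subsingleton.elim (0 : R) 1]; exact isUnit_one))

theorem IrrSpec.of_comap_nilradical {R R' : Type*} [CommRing R] [CommRing R'] (φ : R →+* R')
    (hφ : ∀ x : R, IsNilpotent (φ x) → IsNilpotent x) (h : IrrSpec R') : IrrSpec R := by
  unfold IrrSpec at h ⊢
  have : nilradical R = Ideal.comap φ (nilradical R') := by
    ext x
    rw [Ideal.mem_comap, mem_nilradical, mem_nilradical]
    exact ⟨fun hx => hx.map φ, hφ x⟩
  rw [this]
  exact Ideal.comap_isPrime φ _

theorem IrrSpec.of_comap_surjective {R R' : Type*} [CommRing R] [CommRing R'] (φ : R →+* R')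
    (hφ : Function.Surjective (PrimeSpectrum.comap φ)) (h : IrrSpec R') : IrrSpec R := by
  apply IrrSpec.of_comap_nilradical φ _ h
  intro x hx
  rw [← mem_nilradical, nilradical_eq_sInf, Ideal.mem_sInf]
  intro p hp
  obtain ⟨q, hq⟩ := hφ ⟨p, hp⟩
  have h1 : φ x ∈ q.asIdeal := by
    have : φ x ∈ nilradical R' := (mem_nilradical).2 hx
    rw [nilradical_eq_sInf, Ideal.mem_sInf] at this
    exact this q.2
  have h2 : x ∈ (PrimeSpectrum.comap φ q).asIdeal := h1
  rw [hq] at h2
  exact h2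

theorem IrrSpec.of_ker_le_nilradical {R R' : Type*} [CommRing R] [CommRing R'] (φ : R →+* R')
    (hker : RingHom.ker φ ≤ nilradical R) (h : IrrSpec R') : IrrSpec R := by
  apply IrrSpec.of_comap_nilradical φ _ h
  intro x ⟨n, hn⟩
  have : x ^ n ∈ nilradical R := hker (by rw [RingHom.mem_ker, map_pow, hn])
  obtain ⟨m, hm⟩ := (mem_nilradical).1 this
  exact ⟨n * m, by rw [pow_mul, hm]⟩

theorem IrrSpec.map_of_surjective {R R' : Type*} [CommRing R] [CommRing R'] (φ : R →+* R')
    (hφ : Function.Surjective φ) (hker : RingHom.ker φ ≤ nilradical R) (h : IrrSpec R) :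
    IrrSpec R' := by
  unfold IrrSpec at h ⊢
  have : nilradical R' = Ideal.map φ (nilradical R) := by
    ext x'
    obtain ⟨x, rfl⟩ := hφ x'
    rw [mem_nilradical, Ideal.mem_map_iff_of_surjective φ hφ]
    constructor
    · rintro ⟨n, hn⟩
      have : x ^ n ∈ nilradical R := hker (by rw [RingHom.mem_ker, map_pow, hn])
      obtain ⟨m, hm⟩ := (mem_nilradical).1 this
      exact ⟨x, (mem_nilradical).2 ⟨n * m, by rw [pow_mul, hm]⟩, rfl⟩
    · rintro ⟨y, hy, hyx⟩
      rw [← hyx]
      exact ((mem_nilradical).1 hy).map φ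
  rw [this]
  exact Ideal.map_isPrime_of_surjective hφ hker

theorem IrrSpec.of_ringEquiv {R R' : Type*} [CommRing R] [CommRing R'] (e : R ≃+* R')
    (h : IrrSpec R) : IrrSpec R' :=
  IrrSpec.of_comap_nilradical (e.symm : R' →+* R) (fun x hx => by
    have := hx.map (e : R →+* R')
    simpa using this) h

/-- If `a` is a nonzerodivisor and `φ` looks like the localisation at `a`, irreducibility of the
target spectrum gives irreducibility of the source spectrum. -/
theorem IrrSpec.of_nzd {R R' : Type*} [CommRing R] [CommRing R'] (φ : R →+* R') (a : R)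
    (ha : ∀ r : R, a * r = 0 → r = 0) (hker : ∀ r : R, φ r = 0 → ∃ n : ℕ, a ^ n * r = 0)
    (h : IrrSpec R') : IrrSpec R := by
  apply IrrSpec.of_comap_nilradical φ _ h
  intro x ⟨n, hn⟩
  obtain ⟨m, hm⟩ := hker (x ^ n) (by rw [map_pow, hn])
  refine ⟨n, ?_⟩
  clear hn
  induction m with
  | zero => simpa using hm
  | succ m ih =>
    apply ih
    apply ha
    rw [← mul_assoc, ← pow_succ']
    exact hm

/-! ### part I2 -/
theorem IrrSpec.of_field_ext {A B K' K'' : Type u} [CommRing A] [CommRing B] [Algebra A B]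
    [Field K'] [Field K''] [Algebra A K'] [Algebra A K''] [Algebra K' K'']
    [IsScalarTower A K' K''] (h : IrrSpec (K'' ⊗[A] B)) : IrrSpec (K' ⊗[A] B) := by
  let e := Algebra.TensorProduct.cancelBaseChange A K' K'' K'' B
  let ι : (K' ⊗[A] B) →+* K'' ⊗[K'] (K' ⊗[A] B) :=
    (Algebra.TensorProduct.includeRight : (K' ⊗[A] B) →ₐ[K'] K'' ⊗[K'] (K' ⊗[A] B)).toRingHom
  have hι : Function.Injective ι := by
    intro x y hxy
    have h1 : (1 : K'') ⊗ₜ[K'] (x - y) = 0 := by
      rw [TensorProduct.tmul_sub, sub_eq_zero]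
      exact hxy
    rw [Module.FaithfullyFlat.one_tmul_eq_zero_iff] at h1
    exact sub_eq_zero.1 h1
  apply IrrSpec.of_comap_nilradical ((e : _ →+* K'' ⊗[A] B).comp ι) _ h
  rintro x ⟨n, hn⟩
  refine ⟨n, ?_⟩
  apply hι
  apply e.injective
  rw [map_zero, map_zero, ← hn, map_pow, map_pow]
  rfl

/-- Change of base: it suffices to prove the spreading statement after a base extension
`A → A₁` such that every field point of `Spec A` (in a suitable open) lifts to `Spec A₁`. -/
theorem exists_irr_of_baseChange {A A₁ B : Type u} [CommRing A] [CommRing A₁] [Algebra A A₁]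
    [CommRing B] [Algebra A B]
    (hA₁ : ∀ f₁ : A₁, f₁ ≠ 0 → ∃ f : A, f ≠ 0 ∧ ∀ (K' : Type u) [Field K'] [Algebra A K'],
      algebraMap A K' f ≠ 0 → ∃ (K'' : Type u) (_ : Field K'') (_ : Algebra A₁ K'')
        (_ : Algebra K' K''), algebraMap A₁ K'' f₁ ≠ 0 ∧
        (algebraMap K' K'').comp (algebraMap A K') = (algebraMap A₁ K'').comp (algebraMap A A₁))
    (h : ∃ f₁ : A₁, f₁ ≠ 0 ∧ ∀ (K'' : Type u) [Field K''] [Algebra A₁ K''],
      algebraMap A₁ K'' f₁ ≠ 0 → IrrSpec (K'' ⊗[A₁] (A₁ ⊗[A] B))) :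
    ∃ f : A, f ≠ 0 ∧ ∀ (K' : Type u) [Field K'] [Algebra A K'], algebraMap A K' f ≠ 0 →
      IrrSpec (K' ⊗[A] B) := by
  obtain ⟨f₁, hf₁, H⟩ := h
  obtain ⟨f, hf, Hf⟩ := hA₁ f₁ hf₁
  refine ⟨f, hf, ?_⟩
  intro K' _ _ hK'
  obtain ⟨K'', _, _, _, hf₁K'', hcomp⟩ := Hf K' hK'
  letI : Algebra A K'' := ((algebraMap A₁ K'').comp (algebraMap A A₁)).toAlgebra
  haveI : IsScalarTower A A₁ K'' := IsScalarTower.of_algebraMap_eq (fun x => rfl)
  haveI : IsScalarTower A K' K'' := IsScalarTower.of_algebraMap_eq (fun x => by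
    have := congrArg (fun φ => φ x) hcomp
    exact this.symm)
  have h1 : IrrSpec (K'' ⊗[A₁] (A₁ ⊗[A] B)) := H K'' hf₁K''
  have h2 : IrrSpec (K'' ⊗[A] B) :=
    IrrSpec.of_ringEquiv (Algebra.TensorProduct.cancelBaseChange A A₁ K'' K'' B).toRingEquiv h1
  exact IrrSpec.of_field_ext (K'' := K'') h2

/-- Localisation away from a nonzero element satisfies the lifting hypothesis. -/
theorem lift_away {A : Type u} [CommRing A] [IsDomain A] (f₀ : A) (hf₀ : f₀ ≠ 0) :
    ∀ f₁ : Localization.Away f₀, f₁ ≠ 0 → ∃ f : A, f ≠ 0 ∧ ∀ (K' : Type u) [Field K']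
      [Algebra A K'], algebraMap A K' f ≠ 0 → ∃ (K'' : Type u) (_ : Field K'')
        (_ : Algebra (Localization.Away f₀) K'') (_ : Algebra K' K''),
        algebraMap (Localization.Away f₀) K'' f₁ ≠ 0 ∧
        (algebraMap K' K'').comp (algebraMap A K') =
          (algebraMap (Localization.Away f₀) K'').comp (algebraMap A (Localization.Away f₀)) := by
  intro f₁ hf₁
  obtain ⟨⟨a, s⟩, has⟩ := IsLocalization.surj (Submonoid.powers f₀) f₁
  have ha : a ≠ 0 := by
    rintro rfl
    rw [map_zero] at has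
    have hs : IsUnit (algebraMap A (Localization.Away f₀) s.1) :=
      IsLocalization.map_units _ s
    exact hf₁ (hs.mul_left_eq_zero.1 has)
  refine ⟨f₀ * a, mul_ne_zero hf₀ ha, ?_⟩
  intro K' _ _ hK'
  rw [map_mul] at hK'
  have hf₀K' : algebraMap A K' f₀ ≠ 0 := left_ne_zero_of_mul hK'
  have haK' : algebraMap A K' a ≠ 0 := right_ne_zero_of_mul hK'
  let alg : Algebra (Localization.Away f₀) K' :=
    (IsLocalization.Away.lift f₀ (g := algebraMap A K') (isUnit_iff_ne_zero.2 hf₀K')).toAlgebra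
  refine ⟨K', inferInstance, alg, Algebra.id K', ?_, ?_⟩
  · intro h0
    have := congrArg (algebraMap (Localization.Away f₀) K') has
    rw [map_mul, h0, zero_mul] at this
    have h2 : algebraMap (Localization.Away f₀) K' (algebraMap A (Localization.Away f₀) a) =
        algebraMap A K' a := IsLocalization.Away.lift_eq f₀ _ a
    rw [h2] at this
    exact haK' this.symm
  · ext x
    simp only [RingHom.coe_comp, Function.comp_apply, Algebra.algebraMap_self, RingHom.id_apply]
    exact (IsLocalization.Away.lift_eq f₀ _ x).symm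

/-! ### part I2b -/
/-- An integral injective extension of domains satisfies the lifting hypothesis. -/
theorem lift_integral {A A₁ : Type u} [CommRing A] [IsDomain A] [CommRing A₁] [IsDomain A₁]
    [Algebra A A₁] [Algebra.IsIntegral A A₁] (hinj : Function.Injective (algebraMap A A₁)) :
    ∀ f₁ : A₁, f₁ ≠ 0 → ∃ f : A, f ≠ 0 ∧ ∀ (K' : Type u) [Field K'] [Algebra A K'],
      algebraMap A K' f ≠ 0 → ∃ (K'' : Type u) (_ : Field K'') (_ : Algebra A₁ K'')
        (_ : Algebra K' K''), algebraMap A₁ K'' f₁ ≠ 0 ∧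
        (algebraMap K' K'').comp (algebraMap A K') =
          (algebraMap A₁ K'').comp (algebraMap A A₁) := by
  intro f₁ hf₁
  have hne : (Ideal.span {f₁}).comap (algebraMap A A₁) ≠ ⊥ :=
    Ideal.comap_ne_bot_of_integral_mem hf₁ (Ideal.mem_span_singleton_self f₁)
      (Algebra.IsIntegral.isIntegral f₁)
  obtain ⟨f, hfmem, hf0⟩ := Submodule.exists_mem_ne_zero_of_ne_bot hne
  obtain ⟨w, hw⟩ := Ideal.mem_span_singleton'.1 (Ideal.mem_comap.1 hfmem)
  refine ⟨f, hf0, ?_⟩
  intro K' _ _ hK'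
  let p : Ideal A := RingHom.ker (algebraMap A K')
  haveI : p.IsPrime := RingHom.ker_isPrime _
  obtain ⟨P, hPprime, hPp⟩ := Ideal.exists_ideal_over_prime_of_isIntegral_of_isDomain
    (S := A₁) p (by
      rw [(RingHom.injective_iff_ker_eq_bot _).1 hinj]; exact bot_le)
  haveI : P.IsPrime := hPprime
  haveI : P.LiesOver p := ⟨hPp.symm⟩
  let M := AlgebraicClosure K'
  let φ : A ⧸ p →+* M := Ideal.Quotient.lift p (algebraMap A M) (fun a ha => by
    rw [IsScalarTower.algebraMap_apply A K' M, (RingHom.mem_ker).1 ha, map_zero])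
  have hφ : Function.Injective φ := by
    rw [injective_iff_map_eq_zero]
    intro x hx
    obtain ⟨a, rfl⟩ := Ideal.Quotient.mk_surjective x
    rw [Ideal.Quotient.lift_mk, IsScalarTower.algebraMap_apply A K' M,
      map_eq_zero_iff _ (algebraMap K' M).injective] at hx
    exact Ideal.Quotient.eq_zero_iff_mem.2 hx
  letI : Algebra (A ⧸ p) M := φ.toAlgebra
  haveI : FaithfulSMul (A ⧸ p) M := (faithfulSMul_iff_algebraMap_injective _ _).2 hφ
  haveI : IsDomain (A₁ ⧸ P) := Ideal.Quotient.isDomain P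
  haveI : IsDomain (A ⧸ p) := Ideal.Quotient.isDomain p
  haveI : Module.IsTorsionFree (A ⧸ p) (A₁ ⧸ P) := FaithfulSMul.to_isTorsionFree _ _
  haveI : Module.IsTorsionFree (A ⧸ p) M := FaithfulSMul.to_isTorsionFree _ _
  haveI : Algebra.IsAlgebraic (A ⧸ p) (A₁ ⧸ P) := Algebra.IsIntegral.isAlgebraic
  let σ : (A₁ ⧸ P) →ₐ[A ⧸ p] M := IsAlgClosed.lift
  let alg : Algebra A₁ M := ((σ : (A₁ ⧸ P) →+* M).comp (Ideal.Quotient.mk P)).toAlgebra
  have hcomp : ∀ a : A, σ (Ideal.Quotient.mk P (algebraMap A A₁ a)) = algebraMap A M a := by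
    intro a
    rw [← Ideal.Quotient.algebraMap_mk_of_liesOver P p a, σ.commutes]
    rfl
  refine ⟨M, inferInstance, alg, inferInstance, ?_, ?_⟩
  · intro h0
    have h0' : σ (Ideal.Quotient.mk P f₁) = 0 := h0
    have h1 : algebraMap A M f = 0 := by
      rw [← hcomp f, ← hw, map_mul, map_mul, h0', mul_zero]
    rw [IsScalarTower.algebraMap_apply A K' M, map_eq_zero_iff _ (algebraMap K' M).injective] at h1
    exact hK' h1
  · ext a
    simp only [RingHom.coe_comp, Function.comp_apply]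
    rw [← IsScalarTower.algebraMap_apply A K' M]
    exact (hcomp a).symm

/-! ### part I3 -/
/-- The fibre of a hypersurface `A[X]/(P)` over a field `K'` is a domain when `P` stays
irreducible over `K'`. -/
theorem isDomain_tensor_quotient {A K' : Type u} [CommRing A] [Field K'] [Algebra A K']
    {σ : Type} (P : MvPolynomial σ A)
    (hP : Irreducible (MvPolynomial.map (algebraMap A K') P)) :
    IsDomain (K' ⊗[A] (MvPolynomial σ A ⧸ Ideal.span {P})) := by
  let e := MvPolynomial.algebraTensorAlgEquiv (σ := σ) A K'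
  let q : MvPolynomial σ A →ₐ[A] MvPolynomial σ A ⧸ Ideal.span {P} := Ideal.Quotient.mkₐ A _
  have hq : Function.Surjective q := Ideal.Quotient.mkₐ_surjective A _
  let T : K' ⊗[A] MvPolynomial σ A →ₐ[A] K' ⊗[A] (MvPolynomial σ A ⧸ Ideal.span {P}) :=
    Algebra.TensorProduct.map (AlgHom.id A K') q
  have hT : Function.Surjective T := by
    have : Function.Surjective (LinearMap.lTensor K' q.toLinearMap) :=
      LinearMap.lTensor_surjective K' hq
    exact this
  let ψ : MvPolynomial σ K' →+* K' ⊗[A] (MvPolynomial σ A ⧸ Ideal.span {P}) :=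
    T.toRingHom.comp (e.symm : MvPolynomial σ K' →+* K' ⊗[A] MvPolynomial σ A)
  have hψ : Function.Surjective ψ := hT.comp e.symm.surjective
  let I₀ : Ideal (MvPolynomial σ K') := RingHom.ker ψ
  have hker : I₀ = Ideal.span {MvPolynomial.map (algebraMap A K') P} := by
    have h1 : I₀ = Ideal.comap (e.symm : MvPolynomial σ K' →+* K' ⊗[A] MvPolynomial σ A)
        (RingHom.ker T.toRingHom) := (RingHom.comap_ker _ _).symm
    have h2 : RingHom.ker T.toRingHom = (RingHom.ker q).map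
        (Algebra.TensorProduct.includeRight : MvPolynomial σ A →ₐ[A] K' ⊗[A] MvPolynomial σ A) :=
      Algebra.TensorProduct.lTensor_ker q hq
    have h3 : RingHom.ker q = Ideal.span {P} := Ideal.Quotient.mkₐ_ker A _
    rw [h1, h2, h3, Ideal.map_span, Set.image_singleton]
    have h4 : Ideal.comap (e.symm : MvPolynomial σ K' →+* K' ⊗[A] MvPolynomial σ A)
        (Ideal.span {(Algebra.TensorProduct.includeRight :
          MvPolynomial σ A →ₐ[A] K' ⊗[A] MvPolynomial σ A) P}) =
        Ideal.map (e : K' ⊗[A] MvPolynomial σ A →+* MvPolynomial σ K')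
          (Ideal.span {(Algebra.TensorProduct.includeRight :
          MvPolynomial σ A →ₐ[A] K' ⊗[A] MvPolynomial σ A) P}) :=
      Ideal.comap_symm (e : K' ⊗[A] MvPolynomial σ A ≃+* MvPolynomial σ K')
    rw [h4, Ideal.map_span, Set.image_singleton]
    congr 2
    show e ((1 : K') ⊗ₜ[A] P) = _
    rw [MvPolynomial.algebraTensorAlgEquiv_tmul, one_smul]
  have hprime : I₀.IsPrime := by
    rw [hker, Ideal.span_singleton_prime hP.ne_zero]
    exact hP.prime
  have : IsDomain (MvPolynomial σ K' ⧸ I₀) := Ideal.Quotient.isDomain I₀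
  exact MulEquiv.isDomain (MvPolynomial σ K' ⧸ I₀)
    (RingHom.quotientKerEquivOfSurjective hψ).symm.toMulEquiv

/-! ### part I4 -/
/-- Clearing denominators in a polynomial over the fraction field. -/
theorem exists_map_eq_C_mul {A K : Type u} [CommRing A] [IsDomain A] [Field K] [Algebra A K]
    [IsFractionRing A K] {σ : Type} (p : MvPolynomial σ K) :
    ∃ (p' : MvPolynomial σ A) (t : A), t ≠ 0 ∧
      MvPolynomial.map (algebraMap A K) p' = MvPolynomial.C (algebraMap A K t) * p := by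
  let := MvPolynomial.algebraMvPolynomial (σ := σ) (R := A) (S := K)
  obtain ⟨⟨x, ⟨m, hm⟩⟩, hx⟩ := IsLocalization.surj
    ((nonZeroDivisors A).map (MvPolynomial.C (σ := σ))) p
  obtain ⟨t, ht, rfl⟩ := hm
  refine ⟨x, t, nonZeroDivisors.ne_zero ht, ?_⟩
  have h1 : algebraMap (MvPolynomial σ A) (MvPolynomial σ K) x =
      MvPolynomial.map (algebraMap A K) x := rfl
  have h2 : algebraMap (MvPolynomial σ A) (MvPolynomial σ K) (MvPolynomial.C t) =
      MvPolynomial.C (algebraMap A K t) := by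
    show MvPolynomial.map (algebraMap A K) (MvPolynomial.C t) = _
    rw [MvPolynomial.map_C]
  rw [← h1, ← hx, mul_comm]
  congr 1

/-! ### part I5a -/
/-- If the fraction field `K` of `A` is algebraically closed, irreducibility over `K` is
irreducibility over the algebraic closure of `FractionRing A`. -/
theorem irreducible_map_algebraicClosure {A K : Type u} [CommRing A] [IsDomain A] [Field K]
    [Algebra A K] [IsFractionRing A K] [IsAlgClosed K] {σ : Type} (P : MvPolynomial σ A)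
    (hP : Irreducible (MvPolynomial.map (algebraMap A K) P)) :
    Irreducible (MvPolynomial.map (algebraMap A (AlgebraicClosure (FractionRing A))) P) := by
  let e₀ : FractionRing A ≃ₐ[A] K := FractionRing.algEquiv A K
  have : IsAlgClosed (FractionRing A) :=
    IsAlgClosed.of_ringEquiv K (FractionRing A) e₀.symm.toRingEquiv
  have hbij : Function.Bijective (algebraMap (FractionRing A)
      (AlgebraicClosure (FractionRing A))) := IsAlgClosed.algebraMap_bijective_of_isIntegral
  let ε : K ≃+* AlgebraicClosure (FractionRing A) :=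
    e₀.symm.toRingEquiv.trans (RingEquiv.ofBijective _ hbij)
  have hε : (ε : K →+* AlgebraicClosure (FractionRing A)).comp (algebraMap A K) =
      algebraMap A (AlgebraicClosure (FractionRing A)) := by
    ext a
    show algebraMap (FractionRing A) (AlgebraicClosure (FractionRing A))
      (e₀.symm (algebraMap A K a)) = _
    rw [e₀.symm.commutes]
    exact (IsScalarTower.algebraMap_apply A (FractionRing A) _ a).symm
  let E := MvPolynomial.mapEquiv σ ε
  have h1 : Irreducible (E (MvPolynomial.map (algebraMap A K) P)) :=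
    (MulEquiv.irreducible_iff E).2 hP
  have h2 : E (MvPolynomial.map (algebraMap A K) P) =
      MvPolynomial.map (algebraMap A (AlgebraicClosure (FractionRing A))) P := by
    show MvPolynomial.map (ε : K →+* AlgebraicClosure (FractionRing A))
      (MvPolynomial.map (algebraMap A K) P) = _
    rw [MvPolynomial.map_map, hε]
  rwa [h2] at h1

/-! ### part I5 -/
open Groth.Agent.Lib.Helper78 in
/-- The core case: `B` is a domain, finitely generated over the domain `A` whose fraction field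
`K` is algebraically closed, and `K ⊗ B` is a domain. -/
theorem exists_irr_core {A B K : Type u} [CommRing A] [IsDomain A] [Field K] [Algebra A K]
    [IsFractionRing A K] [IsAlgClosed K] [CommRing B] [IsDomain B] [Algebra A B]
    [Algebra.FiniteType A B] (hinj : Function.Injective (algebraMap A B))
    (hD : IsDomain (K ⊗[A] B))
    (hincl : Function.Injective (Algebra.TensorProduct.includeRight : B →ₐ[A] K ⊗[A] B)) :
    ∃ f : A, f ≠ 0 ∧ ∀ (K' : Type u) [Field K'] [Algebra A K'], algebraMap A K' f ≠ 0 →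
      IrrSpec (K' ⊗[A] B) := by
  classical
  -- the function field
  let L := FractionRing B
  have hinjL : Function.Injective (algebraMap A L) := by
    rw [IsScalarTower.algebraMap_eq A B L]
    exact (IsFractionRing.injective B L).comp hinj
  let algKL : Algebra K L := (IsFractionRing.lift hinjL).toAlgebra
  have towerAKL : IsScalarTower A K L :=
    IsScalarTower.of_algebraMap_eq (fun a => (IsFractionRing.lift_algebraMap hinjL a).symm)
  have hess : Algebra.EssFiniteType K L := by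
    have h1 : Algebra.EssFiniteType B L :=
      Algebra.EssFiniteType.of_isLocalization _ (nonZeroDivisors B)
    have h2 : Algebra.EssFiniteType A L := Algebra.EssFiniteType.comp A B L
    exact Algebra.EssFiniteType.of_comp A K L
  let iB : B →ₐ[A] L := IsScalarTower.toAlgHom A B L
  have hiB : Function.Injective iB := IsFractionRing.injective B L
  have hfracB : ∀ z : L, ∃ x y, iB y ≠ 0 ∧ z = iB x / iB y := by
    intro z
    obtain ⟨x, y, hy, hxy⟩ := IsFractionRing.div_surjective (A := B) z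
    refine ⟨x, y, ?_, hxy.symm⟩
    intro h0
    have : y = 0 := hiB (by rw [h0, map_zero])
    exact (nonZeroDivisors.ne_zero hy) this
  -- separating transcendence basis
  obtain ⟨s, hs, hsep⟩ := exists_isTranscendenceBasis_and_isSeparable_of_perfectField K L
  obtain ⟨d, hd⟩ : ∃ d : ℕ, d = s.card := ⟨_, rfl⟩
  let es : Fin d ≃ s := (hd ▸ s.equivFin.symm : Fin d ≃ s)
  let s' : Fin d → L := fun i => ((es i : s) : L)
  have hs' : IsTranscendenceBasis K s' := IsTranscendenceBasis.comp_equiv es hs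
  have hrange : Set.range s' = (s : Set L) := by
    ext z
    constructor
    · rintro ⟨i, rfl⟩
      exact (es i).2
    · intro hz
      exact ⟨es.symm ⟨z, hz⟩, by simp [s']⟩
  have hsep' : Algebra.IsSeparable ↥(IntermediateField.adjoin K (Set.range s')) L := by
    rw [hrange]
    exact hsep
  obtain ⟨g, hgm, hgi, -, iC, hiC, hfracC⟩ := Birat.exists_hypersurface_model s' hs' hsep'
  -- the polynomial in `d + 1` variables
  have hgirr : Irreducible g := Polynomial.Monic.irreducible_of_irreducible_map _ g hgm hgi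
  let PK : MvPolynomial (Fin (d + 1)) K := (MvPolynomial.finSuccEquiv K d).symm g
  have hPKirr : Irreducible PK := (MulEquiv.irreducible_iff (MvPolynomial.finSuccEquiv K d).symm).2 hgirr
  obtain ⟨P, s₀, hs₀, hP⟩ := exists_map_eq_C_mul (A := A) PK
  have hs₀K : algebraMap A K s₀ ≠ 0 := by
    intro h0
    exact hs₀ (IsFractionRing.injective A K (by rw [h0, map_zero]))
  have hPirr : Irreducible (MvPolynomial.map (algebraMap A K) P) := by
    rw [hP]
    exact (irreducible_isUnit_mul ((isUnit_iff_ne_zero.2 hs₀K).map MvPolynomial.C)).2 hPKirr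
  obtain ⟨f₁, hf₁, H₁⟩ := Groth.Agent.S1352.result P (irreducible_map_algebraicClosure P hPirr)
  -- the map `K[X₀,…,X_d] → L`
  let θ : MvPolynomial (Fin (d + 1)) K →ₐ[K] L :=
    (iC.comp ((AdjoinRoot.mkₐ g).restrictScalars K)).comp (MvPolynomial.finSuccEquiv K d).toAlgHom
  have hθPK : θ PK = 0 := by
    show iC (AdjoinRoot.mk g ((MvPolynomial.finSuccEquiv K d)
      ((MvPolynomial.finSuccEquiv K d).symm g))) = 0
    rw [AlgEquiv.apply_symm_apply, AdjoinRoot.mk_self, map_zero]
  have hθsurj : ∀ w : AdjoinRoot g, ∃ p, θ p = iC w := by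
    intro w
    obtain ⟨q, rfl⟩ := AdjoinRoot.mk_surjective w
    refine ⟨(MvPolynomial.finSuccEquiv K d).symm q, ?_⟩
    show iC (AdjoinRoot.mk g ((MvPolynomial.finSuccEquiv K d)
      ((MvPolynomial.finSuccEquiv K d).symm q))) = _
    rw [AlgEquiv.apply_symm_apply]
  have hθker : ∀ p, θ p = 0 → PK ∣ p := by
    intro p hp
    have h1 : AdjoinRoot.mk g ((MvPolynomial.finSuccEquiv K d) p) = 0 :=
      hiC (by rw [map_zero]; exact hp)
    rw [AdjoinRoot.mk_eq_zero] at h1
    have h2 := map_dvd (MvPolynomial.finSuccEquiv K d).symm h1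
    rwa [AlgEquiv.symm_apply_apply] at h2
  let ξ : Fin (d + 1) → L := fun i => θ (MvPolynomial.X i)
  have hξ : ∀ p : MvPolynomial (Fin (d + 1)) A,
      MvPolynomial.aeval ξ p = θ (MvPolynomial.map (algebraMap A K) p) := by
    intro p
    induction p using MvPolynomial.induction_on with
    | C a =>
      rw [MvPolynomial.map_C, MvPolynomial.aeval_C, ← MvPolynomial.algebraMap_eq, θ.commutes]
      exact IsScalarTower.algebraMap_apply A K L a
    | add p q hp hq => rw [map_add, map_add, map_add, hp, hq]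
    | mul_X p i hp => rw [map_mul, map_mul, map_mul, hp, MvPolynomial.aeval_X, MvPolynomial.map_X]
  let CA := MvPolynomial (Fin (d + 1)) A ⧸ Ideal.span {P}
  let iCA : CA →ₐ[A] L := Ideal.Quotient.liftₐ (Ideal.span {P}) (MvPolynomial.aeval ξ) (by
    intro a ha
    obtain ⟨c, rfl⟩ := Ideal.mem_span_singleton'.1 ha
    rw [map_mul, hξ P, hP, map_mul, hθPK, mul_zero, mul_zero])
  have hiCA : ∀ p, iCA (Ideal.Quotient.mk _ p) = θ (MvPolynomial.map (algebraMap A K) p) := by
    intro p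
    rw [← hξ]
    rfl
  have hθC : ∀ (t : A) (p : MvPolynomial (Fin (d + 1)) K),
      θ (MvPolynomial.C (algebraMap A K t) * p) = algebraMap A L t * θ p := by
    intro t p
    rw [map_mul, ← MvPolynomial.algebraMap_eq, θ.commutes,
      ← IsScalarTower.algebraMap_apply A K L t]
  have hθfrac : ∀ p : MvPolynomial (Fin (d + 1)) K, ∃ (u : CA) (t : A), t ≠ 0 ∧
      algebraMap A L t * θ p = iCA u := by
    intro p
    obtain ⟨p', t, ht, hp'⟩ := exists_map_eq_C_mul (A := A) p
    refine ⟨Ideal.Quotient.mk _ p', t, ht, ?_⟩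
    rw [hiCA, hp', hθC]
  have hAL : ∀ t : A, t ≠ 0 → algebraMap A L t ≠ 0 := by
    intro t ht h0
    exact ht (hinjL (by rw [h0, map_zero]))
  -- the image of `CA` in `L`
  let C' : Subalgebra A L := iCA.range
  let π : CA →ₐ[A] C' := iCA.rangeRestrict
  have hπ : Function.Surjective π := iCA.rangeRestrict_surjective
  have hπval : ∀ u, ((π u : C') : L) = iCA u := fun u => rfl
  have hftCA : Algebra.FiniteType A CA :=
    Algebra.FiniteType.of_surjective (Ideal.Quotient.mkₐ A (Ideal.span {P}))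
      (Ideal.Quotient.mkₐ_surjective A _)
  have hftC' : Algebra.FiniteType A C' := Algebra.FiniteType.of_surjective π hπ
  have hfracC' : ∀ z : L, ∃ x y : C', C'.val y ≠ 0 ∧ z = C'.val x / C'.val y := by
    intro z
    obtain ⟨x₀, y₀, hy₀, rfl⟩ := hfracC z
    obtain ⟨p₁, hp₁⟩ := hθsurj x₀
    obtain ⟨p₂, hp₂⟩ := hθsurj y₀
    obtain ⟨u₁, t₁, ht₁, h₁⟩ := hθfrac p₁
    obtain ⟨u₂, t₂, ht₂, h₂⟩ := hθfrac p₂
    rw [hp₁] at h₁
    rw [hp₂] at h₂
    have hu₂ : iCA u₂ ≠ 0 := by
      rw [← h₂]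
      exact mul_ne_zero (hAL t₂ ht₂) hy₀
    refine ⟨π (u₁ * algebraMap A CA t₂), π (u₂ * algebraMap A CA t₁), ?_, ?_⟩
    · show iCA (u₂ * algebraMap A CA t₁) ≠ 0
      rw [map_mul, iCA.commutes]
      exact mul_ne_zero hu₂ (hAL t₁ ht₁)
    · show _ = iCA (u₁ * algebraMap A CA t₂) / iCA (u₂ * algebraMap A CA t₁)
      rw [map_mul, map_mul, iCA.commutes, iCA.commutes, ← h₁, ← h₂]
      have e1 := hAL t₁ ht₁
      have e2 := hAL t₂ ht₂
      rw [div_eq_div_iff hy₀ (mul_ne_zero (mul_ne_zero e2 hy₀) e1)]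
      ring
  obtain ⟨a, ha, c, hc, e, -⟩ := BiratDom.exists_algEquiv (k := A) C'.val iB
    Subtype.val_injective hiB hfracB hfracC'
  -- the kernel of `π` is torsion
  have hmapinj : Function.Injective (MvPolynomial.map (σ := Fin (d + 1)) (algebraMap A K)) :=
    MvPolynomial.map_injective _ (IsFractionRing.injective A K)
  have htors : ∀ u : CA, π u = 0 → ∃ t : A, t ≠ 0 ∧ t • u = 0 := by
    intro u hu
    obtain ⟨p, rfl⟩ := Ideal.Quotient.mk_surjective u
    have h0 : iCA (Ideal.Quotient.mk _ p) = 0 := by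
      rw [← hπval, hu]
      rfl
    rw [hiCA] at h0
    obtain ⟨r, hr⟩ := hθker _ h0
    obtain ⟨r', t, ht, hr'⟩ := exists_map_eq_C_mul (A := A) r
    refine ⟨s₀ * t, mul_ne_zero hs₀ ht, ?_⟩
    have h1 : MvPolynomial.C (s₀ * t) * p = P * r' := by
      apply hmapinj
      simp only [map_mul, MvPolynomial.map_C, hr, hP, hr']
      ring
    have h2 : (s₀ * t) • (Ideal.Quotient.mk (Ideal.span {P})) p =
        Ideal.Quotient.mk (Ideal.span {P}) (MvPolynomial.C (s₀ * t) * p) := by
      rw [map_mul (Ideal.Quotient.mk (Ideal.span {P}))]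
      exact Algebra.smul_def (R := A) (A := CA) (s₀ * t) (Ideal.Quotient.mk (Ideal.span {P}) p)
    rw [h2, h1, Ideal.Quotient.eq_zero_iff_mem]
    exact Ideal.mul_mem_right _ _ (Ideal.mem_span_singleton_self P)
  obtain ⟨f₂, hf₂, H₂⟩ := Groth.Agent.Lib.Helper18.exists_free_tensor_dvd (R := A) CA CA
  have : Module.Free (Localization.Away f₂) (Localization.Away f₂ ⊗[A] CA) :=
    H₂ f₂ dvd_rfl hf₂ (Localization.Away f₂)
  have hkerπ : ∀ u : CA, π.toLinearMap u = 0 → ∃ k : ℕ, f₂ ^ k • u = 0 := by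
    intro u hu
    obtain ⟨t, ht, htu⟩ := htors u hu
    exact SchDense.exists_pow_smul_eq_zero_of_torsion f₂ hf₂ u t ht htu
  -- `1 ⊗ c` is generically nonzero
  obtain ⟨f₃, hf₃, H₃⟩ := GenFibreGeom.exists_forall_tmul_ne_zero (A := A) (B := C') c (by
    intro t ht h0
    have h1 : algebraMap A L t * (c : L) = 0 := by
      have := congrArg (C'.val) h0
      rw [map_zero, Algebra.smul_def, map_mul] at this
      exact this
    rcases mul_eq_zero.1 h1 with h2 | h2
    · exact hAL t ht h2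
    · exact hc h2)
  -- `1 ⊗ a` is generically a nonzerodivisor
  have ha0 : a ≠ 0 := by
    rintro rfl
    exact ha (map_zero _)
  obtain ⟨f₄, hf₄, H₄⟩ := SchDense.exists_forall_ann_of_domain (A := A) (B := B) (K := K)
    (IsFractionRing.injective A K) (ι := PUnit) (fun _ => a) (by
      intro r hr
      have h1 := hr PUnit.unit
      rcases mul_eq_zero.1 h1 with h2 | h2
      · exfalso
        exact ha0 (hincl (by rw [map_zero]; exact h2))
      · exact h2)
  refine ⟨f₁ * f₂ * f₃ * f₄, mul_ne_zero (mul_ne_zero (mul_ne_zero hf₁ hf₂) hf₃) hf₄, ?_⟩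
  intro K' _ _ hK'
  rw [map_mul, map_mul, map_mul] at hK'
  have h4 : algebraMap A K' f₄ ≠ 0 := right_ne_zero_of_mul hK'
  have h123 := left_ne_zero_of_mul hK'
  have h3 : algebraMap A K' f₃ ≠ 0 := right_ne_zero_of_mul h123
  have h12 := left_ne_zero_of_mul h123
  have h2 : algebraMap A K' f₂ ≠ 0 := right_ne_zero_of_mul h12
  have h1 : algebraMap A K' f₁ ≠ 0 := left_ne_zero_of_mul h12
  -- `K' ⊗ CA` is a domain
  have hdomCA : IsDomain (K' ⊗[A] CA) := by
    apply isDomain_tensor_quotient P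
    have := H₁ K' (IsLocalization.Away.lift f₁ (g := algebraMap A K') (isUnit_iff_ne_zero.2 h1))
    rwa [IsLocalization.Away.lift_comp] at this
  -- `K' ⊗ C'` is a domain
  have hbij : Function.Bijective (π.toLinearMap.baseChange K') :=
    ⟨Groth.Agent.S4801.baseChange_injective_of_pow_torsion_ker f₂ K' (isUnit_iff_ne_zero.2 h2)
      π.toLinearMap hπ hkerπ, LinearMap.lTensor_surjective K' hπ⟩
  let Eπ : K' ⊗[A] CA ≃+* K' ⊗[A] C' :=
    RingEquiv.ofBijective (Algebra.TensorProduct.map (AlgHom.id K' K') π).toRingHom hbij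
  have hdomC' : IsDomain (K' ⊗[A] C') := MulEquiv.isDomain (K' ⊗[A] CA) Eπ.symm.toMulEquiv
  -- localisation at `1 ⊗ c`
  have hc' : (1 : K') ⊗ₜ[A] c ≠ 0 := H₃ K' (isUnit_iff_ne_zero.2 h3)
  have hdomLoc : IsDomain (Localization.Away ((1 : K') ⊗ₜ[A] c)) :=
    IsLocalization.isDomain_localization (powers_le_nonZeroDivisors_of_noZeroDivisors hc')
  let E₁ := IsLocalization.Away.tensorProductEquivTMulRight A K' c (Localization.Away c)
  let E₂ : K' ⊗[A] Localization.Away a ≃ₐ[K'] K' ⊗[A] Localization.Away c :=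
    Algebra.TensorProduct.congr (AlgEquiv.refl : K' ≃ₐ[K'] K') e
  have hirr₁ : IrrSpec (K' ⊗[A] Localization.Away a) :=
    IrrSpec.of_ringEquiv (E₂.trans E₁).symm.toRingEquiv (IrrSpec.of_isDomain _)
  let φ : K' ⊗[A] B →ₐ[K'] K' ⊗[A] Localization.Away a :=
    Algebra.TensorProduct.map (AlgHom.id K' K') (IsScalarTower.toAlgHom A B (Localization.Away a))
  let E₃ := IsLocalization.Away.tensorProductEquivTMulRight A K' a (Localization.Away a)
  have hE₃ : ∀ r, E₃ (φ r) =
      algebraMap (K' ⊗[A] B) (Localization.Away ((1 : K') ⊗ₜ[A] a)) r := by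
    intro r
    induction r using TensorProduct.induction_on with
    | zero => rw [map_zero, map_zero, map_zero]
    | tmul x b => exact IsLocalization.Away.tensorProductEquivTMulRight_tmul B a _ x b
    | add x y hx hy => rw [map_add, map_add, map_add, hx, hy]
  apply IrrSpec.of_nzd φ.toRingHom ((1 : K') ⊗ₜ[A] a) _ _ hirr₁
  · intro r hr
    exact H₄ K' (isUnit_iff_ne_zero.2 h4) r (fun _ => hr)
  · intro r hr
    have h0 : algebraMap (K' ⊗[A] B) (Localization.Away ((1 : K') ⊗ₜ[A] a)) r = 0 := by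
      rw [← hE₃, show φ r = 0 from hr, map_zero]
    obtain ⟨⟨m, n, rfl⟩, hm⟩ := (IsLocalization.map_eq_zero_iff
      (Submonoid.powers ((1 : K') ⊗ₜ[A] a)) _ r).1 h0
    exact ⟨n, hm⟩

/-! ### part I6 -/
/-- The kernel of `K' ⊗ B → K' ⊗ B/I` is nil when `I` is. -/
theorem ker_map_le_nilradical {A B K' : Type u} [CommRing A] [CommRing B] [Algebra A B]
    [CommRing K'] [Algebra A K'] (I : Ideal B) (hI : I ≤ nilradical B) :
    RingHom.ker (Algebra.TensorProduct.map (AlgHom.id A K') (Ideal.Quotient.mkₐ A I)).toRingHom ≤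
      nilradical (K' ⊗[A] B) := by
  have h2 : RingHom.ker (Algebra.TensorProduct.map (AlgHom.id A K')
      (Ideal.Quotient.mkₐ A I)).toRingHom = (RingHom.ker (Ideal.Quotient.mkₐ A I)).map
        (Algebra.TensorProduct.includeRight : B →ₐ[A] K' ⊗[A] B) :=
    Algebra.TensorProduct.lTensor_ker (Ideal.Quotient.mkₐ A I) (Ideal.Quotient.mkₐ_surjective A I)
  have h3 : RingHom.ker (Ideal.Quotient.mkₐ A I) = I := Ideal.Quotient.mkₐ_ker A I
  rw [h2, h3, Ideal.map_le_iff_le_comap]
  intro b hb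
  rw [Ideal.mem_comap, mem_nilradical]
  exact (mem_nilradical.1 (hI hb)).map _

/-- A localisation of the base tensored with a reduced algebra is reduced. -/
theorem isReduced_tensor_of_isLocalization {A B : Type u} [CommRing A] [CommRing B] [Algebra A B]
    [IsReduced B] (M : Submonoid A) (A₁ : Type u) [CommRing A₁] [Algebra A A₁]
    [IsLocalization M A₁] : IsReduced (A₁ ⊗[A] B) := by
  have h0 : IsLocalization (Algebra.algebraMapSubmonoid B M) (B ⊗[A] A₁) :=
    IsLocalization.tensor A₁ M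
  have h1 : IsReduced (B ⊗[A] A₁) :=
    isReduced_localizationPreserves (Algebra.algebraMapSubmonoid B M) _ inferInstance
  exact isReduced_of_injective (Algebra.TensorProduct.comm A A₁ B).toRingHom
    (Algebra.TensorProduct.comm A A₁ B).injective

open Groth.Agent.Lib.Helper78 in
/-- The reduced flat case. -/
theorem exists_irr_flat {A B K : Type u} [CommRing A] [IsDomain A] [Field K] [Algebra A K]
    [IsFractionRing A K] [IsAlgClosed K] [CommRing B] [Algebra A B] [Algebra.FiniteType A B]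
    [IsReduced B] [Module.Flat A B] (h : IrrSpec (K ⊗[A] B)) :
    ∃ f : A, f ≠ 0 ∧ ∀ (K' : Type u) [Field K'] [Algebra A K'], algebraMap A K' f ≠ 0 →
      IrrSpec (K' ⊗[A] B) := by
  have hred : IsReduced (K ⊗[A] B) := isReduced_tensor_of_isLocalization (nonZeroDivisors A) K
  have hnt : Nontrivial (K ⊗[A] B) := h.nontrivial
  have hD : IsDomain (K ⊗[A] B) := by
    have : NoZeroDivisors (K ⊗[A] B) := by
      refine ⟨fun {x y} hxy => ?_⟩
      have hmem : x * y ∈ nilradical (K ⊗[A] B) := by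
        rw [hxy]
        exact Submodule.zero_mem _
      rcases h.mem_or_mem hmem with hx | hy
      · exact Or.inl (mem_nilradical.1 hx).eq_zero
      · exact Or.inr (mem_nilradical.1 hy).eq_zero
    exact NoZeroDivisors.to_isDomain _
  have hincl : Function.Injective (Algebra.TensorProduct.includeRight : B →ₐ[A] K ⊗[A] B) :=
    Algebra.TensorProduct.includeRight_injective (IsFractionRing.injective A K)
  have hBdom : IsDomain B :=
    Function.Injective.isDomain
      (Algebra.TensorProduct.includeRight : B →ₐ[A] K ⊗[A] B).toRingHom hincl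
  have hinj : Function.Injective (algebraMap A B) := by
    rw [injective_iff_map_eq_zero]
    intro a ha
    have h1 : (algebraMap A K a) ⊗ₜ[A] (1 : B) = 0 := by
      rw [Algebra.algebraMap_eq_smul_one, TensorProduct.smul_tmul,
        ← Algebra.algebraMap_eq_smul_one, ha, TensorProduct.tmul_zero]
    have h2 : algebraMap A K a = 0 :=
      (algebraMap K (K ⊗[A] B)).injective (by rw [map_zero]; exact h1)
    exact IsFractionRing.injective A K (by rw [h2, map_zero])
  exact exists_irr_core hinj hD hincl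

open Groth.Agent.Lib.Helper78 in
/-- The case of an algebraically closed fraction field. -/
theorem exists_irr_acl {A B K : Type u} [CommRing A] [IsDomain A] [Field K] [Algebra A K]
    [IsFractionRing A K] [IsAlgClosed K] [CommRing B] [Algebra A B] [Algebra.FiniteType A B]
    (h : IrrSpec (K ⊗[A] B)) :
    ∃ f : A, f ≠ 0 ∧ ∀ (K' : Type u) [Field K'] [Algebra A K'], algebraMap A K' f ≠ 0 →
      IrrSpec (K' ⊗[A] B) := by
  -- pass to the reduction
  let Bred := B ⧸ nilradical B
  have hBred : IsReduced Bred :=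
    (RingHom.ker_isRadical_iff_reduced_of_surjective (f := Ideal.Quotient.mk (nilradical B))
      Ideal.Quotient.mk_surjective).1 (by
        rw [Ideal.mk_ker]
        exact Ideal.radical_isRadical _)
  have hsurj : ∀ (K' : Type u) [CommRing K'] [Algebra A K'], Function.Surjective
      (Algebra.TensorProduct.map (AlgHom.id A K')
        (Ideal.Quotient.mkₐ A (nilradical B))).toRingHom := by
    intro K' _ _
    have : Function.Surjective (LinearMap.lTensor K'
        (Ideal.Quotient.mkₐ A (nilradical B)).toLinearMap) :=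
      LinearMap.lTensor_surjective K' (Ideal.Quotient.mkₐ_surjective A _)
    exact this
  have hredK : IrrSpec (K ⊗[A] Bred) :=
    IrrSpec.map_of_surjective _ (hsurj K) (ker_map_le_nilradical _ le_rfl) h
  suffices H : ∃ f : A, f ≠ 0 ∧ ∀ (K' : Type u) [Field K'] [Algebra A K'],
      algebraMap A K' f ≠ 0 → IrrSpec (K' ⊗[A] Bred) by
    obtain ⟨f, hf, Hf⟩ := H
    refine ⟨f, hf, fun K' _ _ hK' => ?_⟩
    exact IrrSpec.of_ker_le_nilradical _ (ker_map_le_nilradical (K' := K') _ le_rfl) (Hf K' hK')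
  -- generic freeness
  obtain ⟨f₀, hf₀, H₀⟩ := Groth.Agent.Lib.Helper18.exists_free_tensor_dvd (R := A) Bred Bred
  let A₁ := Localization.Away f₀
  have hfree : Module.Free A₁ (A₁ ⊗[A] Bred) := H₀ f₀ dvd_rfl hf₀ A₁
  have hflat : Module.Flat A₁ (A₁ ⊗[A] Bred) := Module.Flat.of_free
  have hdomA₁ : IsDomain A₁ :=
    IsLocalization.isDomain_localization (powers_le_nonZeroDivisors_of_noZeroDivisors hf₀)
  have hf₀K : IsUnit (algebraMap A K f₀) :=
    isUnit_iff_ne_zero.2 (fun h0 => hf₀ (IsFractionRing.injective A K (by rw [h0, map_zero])))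
  let algA₁K : Algebra A₁ K := (IsLocalization.Away.lift f₀ (g := algebraMap A K) hf₀K).toAlgebra
  have tower : IsScalarTower A A₁ K :=
    IsScalarTower.of_algebraMap_eq (fun a => (IsLocalization.Away.lift_eq f₀ hf₀K a).symm)
  have hfrac : IsFractionRing A₁ K :=
    IsFractionRing.isFractionRing_of_isDomain_of_isLocalization (Submonoid.powers f₀) A₁ K
  have hred₁ : IsReduced (A₁ ⊗[A] Bred) :=
    isReduced_tensor_of_isLocalization (Submonoid.powers f₀) A₁
  have hirr₁ : IrrSpec (K ⊗[A₁] (A₁ ⊗[A] Bred)) :=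
    IrrSpec.of_ringEquiv (Algebra.TensorProduct.cancelBaseChange A A₁ K K Bred).symm.toRingEquiv
      hredK
  exact exists_irr_of_baseChange (lift_away f₀ hf₀)
    (exists_irr_flat (A := A₁) (B := A₁ ⊗[A] Bred) (K := K) hirr₁)

/-- **Spreading out geometric irreducibility** over a domain: the hypothesis is irreducibility
of the fibre over the algebraic closure of the fraction field. -/
theorem exists_irr_domain {A B : Type u} [CommRing A] [IsDomain A] [CommRing B] [Algebra A B]
    [Algebra.FiniteType A B]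
    (h : IrrSpec (AlgebraicClosure (FractionRing A) ⊗[A] B)) :
    ∃ f : A, f ≠ 0 ∧ ∀ (K' : Type u) [Field K'] [Algebra A K'], algebraMap A K' f ≠ 0 →
      IrrSpec (K' ⊗[A] B) := by
  let Ω := AlgebraicClosure (FractionRing A)
  let A₁ : Subalgebra A Ω := integralClosure A Ω
  have hinjΩ : Function.Injective (algebraMap A Ω) := by
    rw [IsScalarTower.algebraMap_eq A (FractionRing A) Ω]
    exact (algebraMap (FractionRing A) Ω).injective.comp (IsFractionRing.injective A _)
  have hinj : Function.Injective (algebraMap A A₁) := by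
    intro x y hxy
    apply hinjΩ
    have := congrArg (algebraMap A₁ Ω) hxy
    rwa [← IsScalarTower.algebraMap_apply, ← IsScalarTower.algebraMap_apply] at this
  have halg : Algebra.IsAlgebraic A Ω := by
    have : Algebra.IsAlgebraic A (FractionRing A) :=
      IsLocalization.isAlgebraic (FractionRing A) (nonZeroDivisors A)
    exact Algebra.IsAlgebraic.trans A (FractionRing A) Ω
  have hfrac : IsFractionRing A₁ Ω := integralClosure.isFractionRing_of_algebraic
    (fun x hx => hinjΩ (by rw [hx, map_zero]))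
  have hirr₁ : IrrSpec (Ω ⊗[A₁] (A₁ ⊗[A] B)) :=
    IrrSpec.of_ringEquiv (Algebra.TensorProduct.cancelBaseChange A A₁ Ω Ω B).symm.toRingEquiv h
  exact exists_irr_of_baseChange (lift_integral hinj)
    (exists_irr_acl (A := A₁) (B := A₁ ⊗[A] B) (K := Ω) hirr₁)

/-! ### part I7 -/
open Groth.Agent.Lib.Helper78 in
/-- An empty generic fibre spreads out (domain case). -/
theorem exists_triv_domain {A B K : Type u} [CommRing A] [IsDomain A] [CommRing B] [Algebra A B]
    [Field K] [Algebra A K] (hinj : Function.Injective (algebraMap A K))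
    (h : Subsingleton (K ⊗[A] B)) :
    ∃ f : A, f ≠ 0 ∧ ∀ (K' : Type u) [Field K'] [Algebra A K'], algebraMap A K' f ≠ 0 →
      Subsingleton (K' ⊗[A] B) := by
  obtain ⟨t, ht, htx⟩ := SchDense.exists_smul_eq_zero_of_tmul_eq_zero_field hinj (1 : B)
    (Subsingleton.elim _ _)
  refine ⟨t, ht, ?_⟩
  intro K' _ _ hK'
  apply subsingleton_of_zero_eq_one
  have h1 : (algebraMap A K' t) ⊗ₜ[A] (1 : B) = 0 := by
    rw [Algebra.algebraMap_eq_smul_one, TensorProduct.smul_tmul, htx, TensorProduct.tmul_zero]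
  have h2 : (1 : K' ⊗[A] B) = ((algebraMap A K' t)⁻¹ ⊗ₜ[A] (1 : B)) *
      ((algebraMap A K' t) ⊗ₜ[A] (1 : B)) := by
    rw [Algebra.TensorProduct.tmul_mul_tmul, inv_mul_cancel₀ hK', mul_one]
    rfl
  rw [h2, h1, mul_zero]

/-- **Spreading out geometric irreducibility**: `p₀` is a prime contained in all primes. -/
theorem exists_irr_ext {A B : Type u} [CommRing A] [CommRing B] [Algebra A B]
    [Algebra.FiniteType A B] (p₀ : Ideal A) [p₀.IsPrime]
    (hmin : ∀ q : Ideal A, q.IsPrime → p₀ ≤ q)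
    (h : IrrSpec (AlgebraicClosure (FractionRing (A ⧸ p₀)) ⊗[A] B)) :
    ∃ f : A, f ∉ p₀ ∧ ∀ (K' : Type u) [Field K'] [Algebra A K'], algebraMap A K' f ≠ 0 →
      IrrSpec (K' ⊗[A] B) := by
  obtain ⟨f', hf', H⟩ := exists_irr_domain (A := A ⧸ p₀) (B := (A ⧸ p₀) ⊗[A] B)
    (IrrSpec.of_ringEquiv (Algebra.TensorProduct.cancelBaseChange A (A ⧸ p₀)
      (AlgebraicClosure (FractionRing (A ⧸ p₀))) (AlgebraicClosure (FractionRing (A ⧸ p₀)))
      B).symm.toRingEquiv h)
  obtain ⟨f, rfl⟩ := Ideal.Quotient.mk_surjective f'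
  refine ⟨f, fun hf => hf' (Ideal.Quotient.eq_zero_iff_mem.2 hf), ?_⟩
  intro K' _ _ hfK'
  have hker' : ∀ a ∈ p₀, algebraMap A K' a = 0 := by
    intro a ha
    have hprime : (RingHom.ker (algebraMap A K')).IsPrime := RingHom.ker_isPrime _
    exact hmin _ hprime ha
  let _ : Algebra (A ⧸ p₀) K' :=
    (Ideal.Quotient.lift p₀ (algebraMap A K') hker').toAlgebra
  have : IsScalarTower A (A ⧸ p₀) K' := IsScalarTower.of_algebraMap_eq (fun a => rfl)
  have h0 := H K' (show algebraMap (A ⧸ p₀) K' (Ideal.Quotient.mk p₀ f) ≠ 0 from hfK')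
  exact IrrSpec.of_ringEquiv
    (Algebra.TensorProduct.cancelBaseChange A (A ⧸ p₀) K' K' B).toRingEquiv h0

/-- An empty generic fibre spreads out. -/
theorem exists_triv_ext {A B : Type u} [CommRing A] [CommRing B] [Algebra A B]
    (p₀ : Ideal A) [p₀.IsPrime]
    (hmin : ∀ q : Ideal A, q.IsPrime → p₀ ≤ q)
    (h : Subsingleton (AlgebraicClosure (FractionRing (A ⧸ p₀)) ⊗[A] B)) :
    ∃ f : A, f ∉ p₀ ∧ ∀ (K' : Type u) [Field K'] [Algebra A K'], algebraMap A K' f ≠ 0 →
      Subsingleton (K' ⊗[A] B) := by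
  have hinj : Function.Injective (algebraMap (A ⧸ p₀)
      (AlgebraicClosure (FractionRing (A ⧸ p₀)))) := by
    rw [IsScalarTower.algebraMap_eq (A ⧸ p₀) (FractionRing (A ⧸ p₀))]
    exact (algebraMap (FractionRing (A ⧸ p₀)) _).injective.comp (IsFractionRing.injective _ _)
  obtain ⟨f', hf', H⟩ := exists_triv_domain (A := A ⧸ p₀) (B := (A ⧸ p₀) ⊗[A] B)
    (K := AlgebraicClosure (FractionRing (A ⧸ p₀))) hinj
    ((Algebra.TensorProduct.cancelBaseChange A (A ⧸ p₀)
      (AlgebraicClosure (FractionRing (A ⧸ p₀))) (AlgebraicClosure (FractionRing (A ⧸ p₀)))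
      B).toEquiv.subsingleton_congr.2 h)
  obtain ⟨f, rfl⟩ := Ideal.Quotient.mk_surjective f'
  refine ⟨f, fun hf => hf' (Ideal.Quotient.eq_zero_iff_mem.2 hf), ?_⟩
  intro K' _ _ hfK'
  have hker' : ∀ a ∈ p₀, algebraMap A K' a = 0 := by
    intro a ha
    have hprime : (RingHom.ker (algebraMap A K')).IsPrime := RingHom.ker_isPrime _
    exact hmin _ hprime ha
  let _ : Algebra (A ⧸ p₀) K' :=
    (Ideal.Quotient.lift p₀ (algebraMap A K') hker').toAlgebra
  have : IsScalarTower A (A ⧸ p₀) K' := IsScalarTower.of_algebraMap_eq (fun a => rfl)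
  have h0 := H K' (show algebraMap (A ⧸ p₀) K' (Ideal.Quotient.mk p₀ f) ≠ 0 from hfK')
  exact (Algebra.TensorProduct.cancelBaseChange A (A ⧸ p₀) K' K'
    B).toEquiv.subsingleton_congr.1 h0

/-! ### part I8 -/
/-- A nonempty space covered by open sets which are irreducible when nonempty and pairwise meet
when nonempty is irreducible. -/
theorem irreducibleSpace_of_cover {T : Type*} [TopologicalSpace T] {ι : Type*} (U : ι → Set T)
    (hopen : ∀ i, IsOpen (U i)) (hcov : ∀ t : T, ∃ i, t ∈ U i)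
    (hirr : ∀ i, (U i).Nonempty → IsIrreducible (U i)) (hne : Nonempty T)
    (hpair : ∀ i j, (U i).Nonempty → (U j).Nonempty → (U i ∩ U j).Nonempty) :
    IrreducibleSpace T := by
  refine @IrreducibleSpace.mk T _ ⟨?_⟩ hne
  rintro u v hu hv ⟨x, -, hxu⟩ ⟨y, -, hyv⟩
  obtain ⟨i, hi⟩ := hcov x
  obtain ⟨j, hj⟩ := hcov y
  have hIi := hirr i ⟨x, hi⟩
  have hIj := hirr j ⟨y, hj⟩
  obtain ⟨w, hwi, hwj⟩ := hpair i j ⟨x, hi⟩ ⟨y, hj⟩
  obtain ⟨x', -, hx'u, hx'j⟩ := hIi.2 u (U j) hu (hopen j) ⟨x, hi, hxu⟩ ⟨w, hwi, hwj⟩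
  obtain ⟨z, -, hzu, hzv⟩ := hIj.2 u v hu hv ⟨x', hx'j, hx'u⟩ ⟨y, hj, hyv⟩
  exact ⟨z, Set.mem_univ _, hzu, hzv⟩

section Sch

open AlgebraicGeometry CategoryTheory Limits

/-! ### part I9 -/
theorem isIrreducible_range_iff {P T : Type*} [TopologicalSpace P] [TopologicalSpace T]
    {j : P → T} (hj : Topology.IsOpenEmbedding j) :
    IsIrreducible (Set.range j) ↔ IrreducibleSpace P := by
  rw [irreducibleSpace_def]
  constructor
  · intro h
    have := h.preimage hj (by rw [Set.inter_self]; exact h.1)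
    rwa [Set.preimage_range] at this
  · intro h
    have := h.image j hj.continuous.continuousOn
    rwa [Set.top_eq_univ, Set.image_univ] at this

open Groth.Agent.Lib.Helper78.GenFibreGeom Groth.Agent.Lib.Helper78.FinLocus in
/-- The part of the pullback of `f` to a field lying over an affine chart is the spectrum of the
tensor product. -/
theorem exists_chart_embedding {X Y : Scheme.{u}} (f : X ⟶ Y) {V : Y.Opens} (hV : IsAffineOpen V)
    {W : X.Opens} (hW : IsAffineOpen W) (e : W ≤ f ⁻¹ᵁ V) (K : Type u) [Field K]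
    [Algebra Γ(Y, V) K] :
    letI : Algebra Γ(Y, V) Γ(X, W) := (f.appLE V W e).hom.toAlgebra
    ∃ (j : PrimeSpectrum (K ⊗[Γ(Y, V)] Γ(X, W)) →
        ↥(pullback f (Spec.map (CommRingCat.ofHom (algebraMap Γ(Y, V) K)) ≫ hV.fromSpec))),
      Topology.IsOpenEmbedding j ∧
      Set.range j = (pullback.fst f (Spec.map (CommRingCat.ofHom (algebraMap Γ(Y, V) K)) ≫
        hV.fromSpec)) ⁻¹' (W : Set X) := by
  let _ : Algebra Γ(Y, V) Γ(X, W) := (f.appLE V W e).hom.toAlgebra
  let ψ : Γ(Y, V) ⟶ CommRingCat.of K := CommRingCat.ofHom (algebraMap Γ(Y, V) K)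
  show ∃ (j : PrimeSpectrum (K ⊗[Γ(Y, V)] Γ(X, W)) →
        ↥(pullback f (Spec.map ψ ≫ hV.fromSpec))),
      Topology.IsOpenEmbedding j ∧
      Set.range j = (pullback.fst f (Spec.map ψ ≫ hV.fromSpec)) ⁻¹' (W : Set X)
  obtain ⟨j₀, hj₀⟩ := exists_isPullback_pullback_affine f hV hW e (Spec.map ψ)
  have : IsOpenImmersion j₀ :=
    MorphismProperty.of_isPullback (P := @IsOpenImmersion) hj₀.flip inferInstance
  let iso : pullback (Spec.map (f.appLE V W e)) (Spec.map ψ) ≅
      Spec (CommRingCat.of (Γ(X, W) ⊗[Γ(Y, V)] K)) := pullbackSpecIso Γ(Y, V) Γ(X, W) K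
  let h₁ : PrimeSpectrum (K ⊗[Γ(Y, V)] Γ(X, W)) ≃ₜ PrimeSpectrum (Γ(X, W) ⊗[Γ(Y, V)] K) :=
    PrimeSpectrum.homeomorphOfRingEquiv (Algebra.TensorProduct.comm Γ(Y, V) K Γ(X, W)).toRingEquiv
  let h₂ : ↥(Spec (CommRingCat.of (Γ(X, W) ⊗[Γ(Y, V)] K))) ≃ₜ
      ↥(pullback (Spec.map (f.appLE V W e)) (Spec.map ψ)) := iso.inv.homeomorph
  refine ⟨fun x => j₀ (h₂ (h₁ x)), ?_, ?_⟩
  · exact j₀.isOpenEmbedding.comp (h₂.isOpenEmbedding.comp h₁.isOpenEmbedding)
  · have hr : Set.range (fun x => j₀ (h₂ (h₁ x))) = Set.range j₀ := by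
      apply Set.eq_of_subset_of_subset
      · rintro _ ⟨x, rfl⟩
        exact ⟨_, rfl⟩
      · rintro _ ⟨t, rfl⟩
        refine ⟨h₁.symm (h₂.symm t), ?_⟩
        have e1 : h₁ (h₁.symm (h₂.symm t)) = h₂.symm t := h₁.apply_symm_apply _
        have e2 : h₂ (h₂.symm t) = t := h₂.apply_symm_apply t
        exact congrArg j₀ ((congrArg h₂ e1).trans e2)
    rw [hr, show Set.range j₀ = Set.range j₀.base from rfl, range_fst_of_isPullback hj₀]
    congr 1
    exact hW.range_fromSpec

/-- The chart of the pullback is nonempty iff the tensor product is nontrivial. -/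
theorem chart_nonempty_iff {X Y : Scheme.{u}} (f : X ⟶ Y) {V : Y.Opens} (hV : IsAffineOpen V)
    {W : X.Opens} (hW : IsAffineOpen W) (e : W ≤ f ⁻¹ᵁ V) (K : Type u) [Field K]
    [Algebra Γ(Y, V) K] :
    letI : Algebra Γ(Y, V) Γ(X, W) := (f.appLE V W e).hom.toAlgebra
    ((pullback.fst f (Spec.map (CommRingCat.ofHom (algebraMap Γ(Y, V) K)) ≫
        hV.fromSpec)) ⁻¹' (W : Set X)).Nonempty ↔ Nontrivial (K ⊗[Γ(Y, V)] Γ(X, W)) := by
  let _ : Algebra Γ(Y, V) Γ(X, W) := (f.appLE V W e).hom.toAlgebra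
  obtain ⟨j, -, hr⟩ := exists_chart_embedding f hV hW e K
  rw [← hr, Set.range_nonempty_iff_nonempty, PrimeSpectrum.nonempty_iff_nontrivial]

/-- The chart of the pullback is irreducible iff the spectrum of the tensor product is. -/
theorem chart_isIrreducible_iff {X Y : Scheme.{u}} (f : X ⟶ Y) {V : Y.Opens}
    (hV : IsAffineOpen V) {W : X.Opens} (hW : IsAffineOpen W) (e : W ≤ f ⁻¹ᵁ V) (K : Type u)
    [Field K] [Algebra Γ(Y, V) K] :
    letI : Algebra Γ(Y, V) Γ(X, W) := (f.appLE V W e).hom.toAlgebra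
    IsIrreducible ((pullback.fst f (Spec.map (CommRingCat.ofHom (algebraMap Γ(Y, V) K)) ≫
        hV.fromSpec)) ⁻¹' (W : Set X)) ↔ IrrSpec (K ⊗[Γ(Y, V)] Γ(X, W)) := by
  let _ : Algebra Γ(Y, V) Γ(X, W) := (f.appLE V W e).hom.toAlgebra
  obtain ⟨j, hj, hr⟩ := exists_chart_embedding f hV hW e K
  rw [← hr, isIrreducible_range_iff hj, irrSpec_iff]

/-! ### part I10 -/
/-- all geometric points over `y` have irreducible pullback -/
def GI {X Y : Scheme.{u}} (f : X ⟶ Y) (y : Y) : Prop :=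
  ∀ (K : Type u) [Field K] (z : Spec (CommRingCat.of K) ⟶ Y),
    (∀ x : Spec (CommRingCat.of K), z x = y) → IrreducibleSpace ↥(pullback f z)

theorem GI_of_geometricallyIrreducible_fiber {X Y : Scheme.{u}} (f : X ⟶ Y) (y : Y)
    (h : GeometricallyIrreducible (f.fiberToSpecResidueField y)) : GI f y := by
  intro K _ z hz
  obtain ⟨⟨y', φ⟩, rfl⟩ := (Scheme.SpecToEquivOfField K Y).symm.surjective z
  have hy : y' = y := by
    obtain ⟨x⟩ : Nonempty (Spec (CommRingCat.of K)) := inferInstance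
    rw [← hz x]
    show y' = (Spec.map φ ≫ Y.fromSpecResidueField y') x
    rw [Scheme.Hom.comp_apply, Scheme.fromSpecResidueField_apply]
  subst hy
  have hirr : IrreducibleSpace ↥(pullback (f.fiberToSpecResidueField y') (Spec.map φ)) :=
    h.geometrically_irreducibleSpace _ _ _ (IsPullback.of_hasPullback _ _)
  let e2 : pullback (f.fiberToSpecResidueField y') (Spec.map φ) ≅
      pullback f (Spec.map φ ≫ Y.fromSpecResidueField y') :=
    pullbackLeftPullbackSndIso f (Y.fromSpecResidueField y') (Spec.map φ)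
  exact (e2.hom.homeomorph.irreducibleSpace_iff).1 hirr

theorem geometricallyIrreducible_restrict_of_forall_GI {X Y : Scheme.{u}} (f : X ⟶ Y)
    (V : Y.Opens) (H : ∀ y ∈ V, GI f y) : GeometricallyIrreducible (f ∣_ V) := by
  refine ⟨fun K _ y Z fst snd hpb => ?_⟩
  have hP : IsPullback (fst ≫ (f ⁻¹ᵁ V).ι) snd f (y ≫ V.ι) :=
    hpb.paste_horiz (isPullback_morphismRestrict f V).flip
  obtain ⟨x₀⟩ : Nonempty (Spec (CommRingCat.of K)) := inferInstance
  have : Subsingleton (Spec (CommRingCat.of K)) :=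
    (inferInstance : Subsingleton (PrimeSpectrum K))
  have hmem : (y ≫ V.ι) x₀ ∈ V := by
    rw [Scheme.Hom.comp_apply]
    exact (y x₀).2
  have : IrreducibleSpace ↥(pullback f (y ≫ V.ι)) :=
    H _ hmem K (y ≫ V.ι) (fun x => by rw [Subsingleton.elim x x₀])
  exact (hP.isoPullback.hom.homeomorph.irreducibleSpace_iff).2 this

/-- the chart of the pullback to the field `K` lying over `W` -/
def chart {X Y : Scheme.{u}} (f : X ⟶ Y) {V : Y.Opens} (hV : IsAffineOpen V) (W : X.Opens)
    (K : Type u) [Field K] [Algebra Γ(Y, V) K] :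
    Set ↥(pullback f (Spec.map (CommRingCat.ofHom (algebraMap Γ(Y, V) K)) ≫ hV.fromSpec)) :=
  (pullback.fst f (Spec.map (CommRingCat.ofHom (algebraMap Γ(Y, V) K)) ≫ hV.fromSpec)) ⁻¹'
    (W : Set X)

theorem isOpen_chart {X Y : Scheme.{u}} (f : X ⟶ Y) {V : Y.Opens} (hV : IsAffineOpen V)
    (W : X.Opens) (K : Type u) [Field K] [Algebra Γ(Y, V) K] : IsOpen (chart f hV W K) :=
  W.isOpen.preimage (pullback.fst f _).continuous

theorem fst_mem_preimage {X Y T : Scheme.{u}} (f : X ⟶ Y) {V : Y.Opens} (hV : IsAffineOpen V)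
    (z' : T ⟶ Spec Γ(Y, V)) (t : ↥(pullback f (z' ≫ hV.fromSpec))) :
    pullback.fst f (z' ≫ hV.fromSpec) t ∈ f ⁻¹ᵁ V := by
  show f (pullback.fst f (z' ≫ hV.fromSpec) t) ∈ V
  rw [← Scheme.Hom.comp_apply, pullback.condition, Scheme.Hom.comp_apply,
    Scheme.Hom.comp_apply]
  have h2 : hV.fromSpec (z' (pullback.snd f (z' ≫ hV.fromSpec) t)) ∈ Set.range hV.fromSpec :=
    ⟨_, rfl⟩
  rw [hV.range_fromSpec] at h2
  exact h2

/-- the local claim on one affine chart -/
theorem exists_good {X Y : Scheme.{u}} (f : X ⟶ Y) [LocallyOfFiniteType f] {V : Y.Opens}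
    (hV : IsAffineOpen V) (p : Ideal Γ(Y, V)) [p.IsPrime]
    (hmin : ∀ q : Ideal Γ(Y, V), q.IsPrime → p ≤ q)
    [IrreducibleSpace ↥(pullback f (Spec.map (CommRingCat.ofHom (algebraMap Γ(Y, V)
      (AlgebraicClosure (FractionRing (Γ(Y, V) ⧸ p))))) ≫ hV.fromSpec))]
    {W : X.Opens} (hW : IsAffineOpen W) (e : W ≤ f ⁻¹ᵁ V) :
    ∃ f₀ : Γ(Y, V), f₀ ∉ p ∧ ∀ (K' : Type u) [Field K'] [Algebra Γ(Y, V) K'],
      algebraMap Γ(Y, V) K' f₀ ≠ 0 →
      ((chart f hV W (AlgebraicClosure (FractionRing (Γ(Y, V) ⧸ p)))).Nonempty →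
        IsIrreducible (chart f hV W K')) ∧
      ((chart f hV W K').Nonempty →
        (chart f hV W (AlgebraicClosure (FractionRing (Γ(Y, V) ⧸ p)))).Nonempty) := by
  let _ : Algebra Γ(Y, V) Γ(X, W) := (f.appLE V W e).hom.toAlgebra
  have : Algebra.FiniteType Γ(Y, V) Γ(X, W) := f.finiteType_appLE hV hW e
  by_cases hne : (chart f hV W (AlgebraicClosure (FractionRing (Γ(Y, V) ⧸ p)))).Nonempty
  · have hirr₀ : IsIrreducible (chart f hV W (AlgebraicClosure (FractionRing (Γ(Y, V) ⧸ p)))) :=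
      ⟨hne, (PreirreducibleSpace.isPreirreducible_univ).open_subset (isOpen_chart f hV W _)
        (Set.subset_univ _)⟩
    have h1 := (chart_isIrreducible_iff f hV hW e
      (AlgebraicClosure (FractionRing (Γ(Y, V) ⧸ p)))).1 hirr₀
    obtain ⟨f₀, hf₀, H⟩ := exists_irr_ext p hmin h1
    exact ⟨f₀, hf₀, fun K' _ _ hK' =>
      ⟨fun _ => (chart_isIrreducible_iff f hV hW e K').2 (H K' hK'), fun _ => hne⟩⟩
  · have h1 : Subsingleton (AlgebraicClosure (FractionRing (Γ(Y, V) ⧸ p)) ⊗[Γ(Y, V)] Γ(X, W)) :=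
      not_nontrivial_iff_subsingleton.1 (fun hnt => hne ((chart_nonempty_iff f hV hW e
        (AlgebraicClosure (FractionRing (Γ(Y, V) ⧸ p)))).2 hnt))
    obtain ⟨f₀, hf₀, H⟩ := exists_triv_ext p hmin h1
    refine ⟨f₀, hf₀, fun K' _ _ hK' => ⟨fun h => absurd h hne, fun h => ?_⟩⟩
    have hnt := (chart_nonempty_iff f hV hW e K').1 h
    have := H K' hK'
    exact absurd hnt (not_nontrivial_iff_subsingleton.2 this)

open Groth.Agent.Lib.Helper78.GenFibre Groth.Agent.Lib.Helper78.GenFibreGeom in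
/-- **Geometric irreducibility of the generic fibre spreads out** (pointwise form). -/
theorem exists_open_forall_GI {X Y : Scheme.{u}} (f : X ⟶ Y) [IrreducibleSpace Y]
    [LocallyOfFiniteType f] [QuasiCompact f] (h : GI f (genericPoint Y)) :
    ∃ V : Y.Opens, (V : Set Y).Nonempty ∧ ∀ y ∈ V, GI f y := by
  classical
  obtain ⟨_, ⟨V, hV : IsAffineOpen V, rfl⟩, hηV, -⟩ :=
    Y.isBasis_affineOpens.exists_subset_of_mem_open (Set.mem_univ (genericPoint Y)) isOpen_univ
  obtain ⟨p₀, hp₀, hmin⟩ := exists_generic_prime hV hηV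
  obtain ⟨p, hpdef⟩ : ∃ p : Ideal Γ(Y, V), p = (show PrimeSpectrum Γ(Y, V) from p₀).asIdeal :=
    ⟨_, rfl⟩
  have hpprime : p.IsPrime := hpdef ▸ (show PrimeSpectrum Γ(Y, V) from p₀).isPrime
  rw [← hpdef] at hmin
  -- the geometric generic fibre
  have hinj₀ : Function.Injective (algebraMap (Γ(Y, V) ⧸ p)
      (AlgebraicClosure (FractionRing (Γ(Y, V) ⧸ p)))) := by
    rw [IsScalarTower.algebraMap_eq (Γ(Y, V) ⧸ p) (FractionRing (Γ(Y, V) ⧸ p))]
    exact (algebraMap (FractionRing (Γ(Y, V) ⧸ p)) _).injective.comp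
      (IsFractionRing.injective _ _)
  have hker₀ : ∀ a : Γ(Y, V),
      algebraMap Γ(Y, V) (AlgebraicClosure (FractionRing (Γ(Y, V) ⧸ p))) a = 0 ↔ a ∈ p := by
    intro a
    rw [IsScalarTower.algebraMap_apply Γ(Y, V) (Γ(Y, V) ⧸ p), map_eq_zero_iff _ hinj₀,
      Ideal.Quotient.algebraMap_eq, Ideal.Quotient.eq_zero_iff_mem]
  have hT₀ : IrreducibleSpace ↥(pullback f (Spec.map (CommRingCat.ofHom (algebraMap Γ(Y, V)
      (AlgebraicClosure (FractionRing (Γ(Y, V) ⧸ p))))) ≫ hV.fromSpec)) := by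
    apply h
    intro x
    rw [Scheme.Hom.comp_apply, ← hp₀]
    congr 1
    refine (SpecMap_apply_eq_iff _ x p₀).2 ?_
    intro a
    rw [← hpdef]
    exact hker₀ a
  -- a finite affine cover of `f⁻¹ V`
  have hcompact : IsCompact ((f ⁻¹ᵁ V : X.Opens) : Set X) := f.isCompact_preimage hV.isCompact
  obtain ⟨𝒲, h𝒲fin, h𝒲⟩ := isCompact_and_isOpen_iff_finite_and_eq_biUnion_affineOpens.1
    ⟨hcompact, (f ⁻¹ᵁ V).isOpen⟩
  have hle : ∀ W ∈ 𝒲, (W : X.Opens) ≤ f ⁻¹ᵁ V := by
    intro W hW x hx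
    have : x ∈ ⋃ i ∈ 𝒲, ((i : X.Opens) : Set X) := Set.mem_biUnion hW hx
    rw [← h𝒲] at this
    exact this
  have hcover : ∀ (K : Type u) [Field K] [Algebra Γ(Y, V) K]
      (t : ↥(pullback f (Spec.map (CommRingCat.ofHom (algebraMap Γ(Y, V) K)) ≫ hV.fromSpec))),
      ∃ W : 𝒲, t ∈ chart f hV W.1 K := by
    intro K _ _ t
    have hx' : pullback.fst f _ t ∈ ((f ⁻¹ᵁ V : X.Opens) : Set X) := fst_mem_preimage f hV _ t
    rw [h𝒲] at hx'
    obtain ⟨W, hW, hxW⟩ := Set.mem_iUnion₂.1 hx'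
    exact ⟨⟨W, hW⟩, hxW⟩
  -- charts for the pairwise intersections
  have hpair : ∀ W W' : X.affineOpens, ∃ W'' : X.affineOpens, (W'' : X.Opens) ≤ W.1 ⊓ W'.1 ∧
      ((chart f hV W.1 (AlgebraicClosure (FractionRing (Γ(Y, V) ⧸ p))) ∩
        chart f hV W'.1 (AlgebraicClosure (FractionRing (Γ(Y, V) ⧸ p)))).Nonempty →
      (chart f hV W''.1 (AlgebraicClosure (FractionRing (Γ(Y, V) ⧸ p)))).Nonempty) := by
    intro W W'
    by_cases hne : (chart f hV W.1 (AlgebraicClosure (FractionRing (Γ(Y, V) ⧸ p))) ∩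
        chart f hV W'.1 (AlgebraicClosure (FractionRing (Γ(Y, V) ⧸ p)))).Nonempty
    · obtain ⟨t, ht, ht'⟩ := hne
      obtain ⟨_, ⟨W'', hW'' : IsAffineOpen W'', rfl⟩, hx, hsub⟩ :=
        X.isBasis_affineOpens.exists_subset_of_mem_open
          (show pullback.fst f _ t ∈ ((W.1 ⊓ W'.1 : X.Opens) : Set X) from ⟨ht, ht'⟩)
          (W.1 ⊓ W'.1).isOpen
      exact ⟨⟨W'', hW''⟩, hsub, fun _ => ⟨t, hx⟩⟩
    · exact ⟨⟨⊥, isAffineOpen_bot X⟩, bot_le, fun h => absurd h hne⟩
  choose W2 hW2le hW2ne using hpair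
  have hgood : ∀ (W : X.affineOpens) (hWle : (W : X.Opens) ≤ f ⁻¹ᵁ V), ∃ f₀ : Γ(Y, V), f₀ ∉ p ∧
      ∀ (K' : Type u) [Field K'] [Algebra Γ(Y, V) K'], algebraMap Γ(Y, V) K' f₀ ≠ 0 →
      ((chart f hV W.1 (AlgebraicClosure (FractionRing (Γ(Y, V) ⧸ p)))).Nonempty →
        IsIrreducible (chart f hV W.1 K')) ∧
      ((chart f hV W.1 K').Nonempty →
        (chart f hV W.1 (AlgebraicClosure (FractionRing (Γ(Y, V) ⧸ p)))).Nonempty) :=
    fun W hWle => exists_good f hV p hmin W.2 hWle
  choose F hF₀ hF using hgood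
  have := h𝒲fin.fintype
  have hle2 : ∀ P : 𝒲 × 𝒲, ((W2 P.1.1 P.2.1 : X.affineOpens) : X.Opens) ≤ f ⁻¹ᵁ V :=
    fun P => (hW2le P.1.1 P.2.1).trans (inf_le_left.trans (hle P.1.1 P.1.2))
  obtain ⟨ftot, hftot⟩ : ∃ ftot : Γ(Y, V), ftot = (∏ W : 𝒲, F W.1 (hle W.1 W.2)) *
      (∏ P : 𝒲 × 𝒲, F (W2 P.1.1 P.2.1) (hle2 P)) := ⟨_, rfl⟩
  have hftot1 : ∀ (q : Ideal Γ(Y, V)) [q.IsPrime], ftot ∉ q →
      ∀ W : 𝒲, F W.1 (hle W.1 W.2) ∉ q := by
    intro q _ hq W hmem
    apply hq
    rw [hftot]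
    exact Ideal.mul_mem_right _ _ (Ideal.IsPrime.prod_mem_iff.2 ⟨W, Finset.mem_univ _, hmem⟩)
  have hftot2 : ∀ (q : Ideal Γ(Y, V)) [q.IsPrime], ftot ∉ q →
      ∀ P : 𝒲 × 𝒲, F (W2 P.1.1 P.2.1) (hle2 P) ∉ q := by
    intro q _ hq P hmem
    apply hq
    rw [hftot]
    exact Ideal.mul_mem_left _ _ (Ideal.IsPrime.prod_mem_iff.2 ⟨P, Finset.mem_univ _, hmem⟩)
  refine ⟨hV.fromSpec ''ᵁ (PrimeSpectrum.basicOpen ftot), ⟨hV.fromSpec p₀, p₀, ?_, rfl⟩, ?_⟩
  · show ftot ∉ (show PrimeSpectrum Γ(Y, V) from p₀).asIdeal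
    rw [← hpdef, hftot]
    intro hmem
    rcases hpprime.mem_or_mem hmem with h1 | h1
    · obtain ⟨W, -, hW⟩ := Ideal.IsPrime.prod_mem_iff.1 h1
      exact hF₀ W.1 _ hW
    · obtain ⟨P, -, hP⟩ := Ideal.IsPrime.prod_mem_iff.1 h1
      exact hF₀ _ _ hP
  rintro _ ⟨q, hq, rfl⟩
  replace hq : ftot ∉ (show PrimeSpectrum Γ(Y, V) from q).asIdeal := hq
  have hqprime : ((show PrimeSpectrum Γ(Y, V) from q).asIdeal).IsPrime :=
    (show PrimeSpectrum Γ(Y, V) from q).isPrime
  show GI f (hV.fromSpec q)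
  intro K _ z hz
  -- `z` factors through the chart
  have hrange : Set.range z ⊆ Set.range hV.fromSpec := by
    rintro _ ⟨x, rfl⟩
    rw [hz x]
    exact ⟨q, rfl⟩
  have hz' : IsOpenImmersion.lift hV.fromSpec z hrange ≫ hV.fromSpec = z :=
    IsOpenImmersion.lift_fac _ _ _
  obtain ⟨ψ, hψ⟩ := Spec.map_surjective (IsOpenImmersion.lift hV.fromSpec z hrange)
  rw [← hψ] at hz'
  have hpt : ∀ x : Spec (CommRingCat.of K), Spec.map ψ x = q := by
    intro x
    apply hV.fromSpec.isOpenEmbedding.injective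
    rw [← Scheme.Hom.comp_apply, hz', hz x]
  obtain ⟨x₀⟩ : Nonempty (Spec (CommRingCat.of K)) := inferInstance
  have hker := (SpecMap_apply_eq_iff ψ x₀ q).1 (hpt x₀)
  rw [← hz']
  let _ : Algebra Γ(Y, V) K := ψ.hom.toAlgebra
  have hne : ∀ a : Γ(Y, V), a ∉ (show PrimeSpectrum Γ(Y, V) from q).asIdeal →
      algebraMap Γ(Y, V) K a ≠ 0 := fun a ha h0 => ha ((hker a).1 h0)
  show IrreducibleSpace ↥(pullback f (Spec.map (CommRingCat.ofHom (algebraMap Γ(Y, V) K)) ≫
    hV.fromSpec))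
  have hgoodW : ∀ W : 𝒲, _ := fun W => hF W.1 (hle W.1 W.2) K (hne _ (hftot1 _ hq W))
  have hgoodP : ∀ P : 𝒲 × 𝒲, _ := fun P => hF _ (hle2 P) K (hne _ (hftot2 _ hq P))
  apply irreducibleSpace_of_cover (fun W : 𝒲 => chart f hV W.1 K)
    (fun W => isOpen_chart f hV W.1 K) (hcover K)
  · intro W hW
    exact (hgoodW W).1 ((hgoodW W).2 hW)
  · obtain ⟨t₀⟩ : Nonempty ↥(pullback f (Spec.map (CommRingCat.ofHom (algebraMap Γ(Y, V)
        (AlgebraicClosure (FractionRing (Γ(Y, V) ⧸ p))))) ≫ hV.fromSpec)) := inferInstance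
    obtain ⟨W, hW⟩ := hcover _ t₀
    obtain ⟨t, -⟩ := ((hgoodW W).1 ⟨t₀, hW⟩).1
    exact ⟨t⟩
  · intro W W' hW hW'
    have h0 := (hgoodW W).2 hW
    have h0' := (hgoodW W').2 hW'
    have hint := nonempty_preirreducible_inter (isOpen_chart f hV W.1 _)
      (isOpen_chart f hV W'.1 _) h0 h0'
    have h2 := hW2ne W.1 W'.1 hint
    obtain ⟨t, ht⟩ := ((hgoodP (W, W')).1 h2).1
    have := hW2le W.1 W'.1 ht
    exact ⟨t, this.1, this.2⟩

/-- **EGA IV 9.7.7 / Stacks 0559**: if the generic fibre is geometrically irreducible, so is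
`f` over a nonempty open. -/
theorem exists_open_geometricallyIrreducible_restrict {X Y : Scheme.{u}} (f : X ⟶ Y)
    [IrreducibleSpace Y] [LocallyOfFiniteType f] [QuasiCompact f]
    (h : GeometricallyIrreducible (f.fiberToSpecResidueField (genericPoint Y))) :
    ∃ V : Y.Opens, (V : Set Y).Nonempty ∧ GeometricallyIrreducible (f ∣_ V) := by
  obtain ⟨V, hV, H⟩ := exists_open_forall_GI f (GI_of_geometricallyIrreducible_fiber f _ h)
  exact ⟨V, hV, geometricallyIrreducible_restrict_of_forall_GI f V H⟩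

end Sch

end Groth.Agent.Lib.Helper78.GeomIrr
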