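import Mathlib
import Groth.Agent.Lib.Helper78.GeomIrr

/-!
# Spreading out geometric connectedness (helper78)

EGA IV 9.7.7 / Stacks 055G: for a quasi-compact morphism locally of finite type to an irreducible
scheme whose generic fibre is geometrically connected, the fibres over a nonempty open are
geometrically connected.

Strategy: base change to the integral closure of the base in the algebraic closure of its function
field; there each affine chart is cut into finitely many closed pieces (from the minimal primes of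
the generic fibre) with geometrically irreducible fibres (`GeomIrr`); the intersection graph of the
pieces is connected over the generic point and its edges persist over a nonempty open.
-/

set_option autoImplicit false
set_option linter.style.haveILetI false
universe u

open TensorProduct

namespace Groth.Agent.Lib.Helper78.GeomConn

open Groth.Agent.Lib.Helper78.GeomIrr

/-! ### part J1 -/
/-- A union of pieces, over a set of vertices closed under the intersection relation, is closed. -/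
theorem isClosed_biUnion_pieces {T : Type*} [TopologicalSpace T]
    {ι V : Type*} [Finite V] (ix : V → ι) (U : ι → Set T) (C : V → Set T)
    (hU : ∀ i, IsOpen (U i))
    (hCcl : ∀ v, closure (C v) ∩ U (ix v) ⊆ C v) (hCirr : ∀ v, IsIrreducible (C v))
    (hcovU : ∀ t : T, ∃ i, t ∈ U i) (hcov : ∀ i, U i ⊆ ⋃ v ∈ {v | ix v = i}, C v)
    (S : Set V) (hS : ∀ v ∈ S, ∀ w, (C v ∩ C w).Nonempty → w ∈ S) :
    IsClosed (⋃ v ∈ S, C v) := by
  classical
  have := Fintype.ofFinite V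
  rw [← closure_eq_iff_isClosed, (Set.toFinite S).closure_biUnion]
  apply Set.eq_of_subset_of_subset
  · intro t ht
    obtain ⟨v, hvS, htv⟩ := Set.mem_iUnion₂.1 ht
    obtain ⟨i, hti⟩ := hcovU t
    -- `C v` meets `U i`
    obtain ⟨x, hxi, hxv⟩ := mem_closure_iff.1 htv (U i) (hU i) hti
    let fam : Finset (Set T) :=
      insert (U i)ᶜ ((Finset.univ.filter (fun w => ix w = i)).image (fun w => closure (C w)))
    have hfamcl : ∀ z ∈ fam, IsClosed z := by
      intro z hz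
      rcases Finset.mem_insert.1 hz with rfl | hz
      · exact (hU i).isClosed_compl
      · obtain ⟨w, -, rfl⟩ := Finset.mem_image.1 hz
        exact isClosed_closure
    have hsub : C v ⊆ ⋃₀ (fam : Set (Set T)) := by
      intro y hy
      by_cases hyi : y ∈ U i
      · obtain ⟨w, hw, hyw⟩ := Set.mem_iUnion₂.1 (hcov i hyi)
        refine ⟨closure (C w), ?_, subset_closure hyw⟩
        exact Finset.mem_coe.2 (Finset.mem_insert_of_mem (Finset.mem_image.2
          ⟨w, Finset.mem_filter.2 ⟨Finset.mem_univ _, hw⟩, rfl⟩))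
      · exact ⟨(U i)ᶜ, Finset.mem_coe.2 (Finset.mem_insert_self _ _), hyi⟩
    obtain ⟨z, hz, hvz⟩ := (isIrreducible_iff_sUnion_isClosed.1 (hCirr v)) fam hfamcl hsub
    rcases Finset.mem_insert.1 hz with rfl | hz
    · exact absurd hxi (hvz hxv)
    · obtain ⟨w, hw, rfl⟩ := Finset.mem_image.1 hz
      have hwi : ix w = i := (Finset.mem_filter.1 hw).2
      have hxw : x ∈ C w := hCcl w ⟨hvz hxv, by rw [hwi]; exact hxi⟩
      have hwS : w ∈ S := hS v hvS w ⟨x, hxv, hxw⟩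
      have htw : t ∈ C w :=
        hCcl w ⟨closure_minimal hvz isClosed_closure htv, by rw [hwi]; exact hti⟩
      exact Set.mem_iUnion₂.2 ⟨w, hwS, htw⟩
  · exact Set.iUnion₂_mono fun v _ => subset_closure

/-- In a connected space covered by finitely many charts, each a finite union of relatively closed
irreducible pieces, the intersection graph of the pieces is connected. -/
theorem reflTransGen_of_preconnectedSpace {T : Type*} [TopologicalSpace T] [PreconnectedSpace T]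
    {ι V : Type*} [Finite V] (ix : V → ι) (U : ι → Set T) (C : V → Set T)
    (hU : ∀ i, IsOpen (U i))
    (hCcl : ∀ v, closure (C v) ∩ U (ix v) ⊆ C v) (hCirr : ∀ v, IsIrreducible (C v))
    (hcovU : ∀ t : T, ∃ i, t ∈ U i) (hcov : ∀ i, U i ⊆ ⋃ v ∈ {v | ix v = i}, C v) :
    ∀ v v', Relation.ReflTransGen (fun a b => (C a ∩ C b).Nonempty) v v' := by
  intro v₀ v'
  let S₁ : Set V := {v | Relation.ReflTransGen (fun a b => (C a ∩ C b).Nonempty) v₀ v}
  have hS₁ : ∀ v ∈ S₁, ∀ w, (C v ∩ C w).Nonempty → w ∈ S₁ := fun v hv w hvw =>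
    Relation.ReflTransGen.tail hv hvw
  have hS₂ : ∀ v ∈ S₁ᶜ, ∀ w, (C v ∩ C w).Nonempty → w ∈ S₁ᶜ := by
    intro v hv w hvw hw
    exact hv (hS₁ w hw v (by rwa [Set.inter_comm]))
  have hcl₁ := isClosed_biUnion_pieces ix U C hU hCcl hCirr hcovU hcov S₁ hS₁
  have hcl₂ := isClosed_biUnion_pieces ix U C hU hCcl hCirr hcovU hcov S₁ᶜ hS₂
  have hcompl : (⋃ v ∈ S₁, C v)ᶜ = ⋃ v ∈ S₁ᶜ, C v := by
    ext t
    constructor
    · intro ht
      obtain ⟨i, hti⟩ := hcovU t
      obtain ⟨w, -, htw⟩ := Set.mem_iUnion₂.1 (hcov i hti)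
      refine Set.mem_iUnion₂.2 ⟨w, fun hw => ht (Set.mem_iUnion₂.2 ⟨w, hw, htw⟩), htw⟩
    · intro ht ht'
      obtain ⟨w, hw, htw⟩ := Set.mem_iUnion₂.1 ht
      obtain ⟨v, hv, htv⟩ := Set.mem_iUnion₂.1 ht'
      exact hw (hS₁ v hv w ⟨t, htv, htw⟩)
  have hclopen : IsClopen (⋃ v ∈ S₁, C v) := ⟨hcl₁, by
    rw [← isClosed_compl_iff, hcompl]
    exact hcl₂⟩
  rcases isClopen_iff.1 hclopen with h0 | h1
  · exfalso
    obtain ⟨x, hx⟩ := (hCirr v₀).1
    have : x ∈ ⋃ v ∈ S₁, C v := Set.mem_iUnion₂.2 ⟨v₀, Relation.ReflTransGen.refl, hx⟩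
    rw [h0] at this
    exact this
  · obtain ⟨x, hx⟩ := (hCirr v').1
    have : x ∈ ⋃ v ∈ S₁, C v := by
      rw [h1]
      exact Set.mem_univ _
    obtain ⟨v, hv, hxv⟩ := Set.mem_iUnion₂.1 this
    exact hS₁ v hv v' ⟨x, hxv, hx⟩

/-- A space covered by connected pieces whose intersection graph is connected is connected. -/
theorem connectedSpace_of_reflTransGen {T : Type*} [TopologicalSpace T] {V : Type*} [Nonempty V]
    (C : V → Set T) (hC : ∀ v, IsIrreducible (C v)) (hcov : ∀ t : T, ∃ v, t ∈ C v)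
    (hG : ∀ v v', Relation.ReflTransGen (fun a b => (C a ∩ C b).Nonempty) v v') :
    ConnectedSpace T := by
  have h1 : IsPreconnected (⋃ v, C v) :=
    IsPreconnected.iUnion_of_reflTransGen (fun v => (hC v).isConnected.isPreconnected) hG
  have h2 : (⋃ v, C v) = Set.univ := by
    ext t
    simp only [Set.mem_iUnion, Set.mem_univ, iff_true]
    exact hcov t
  rw [h2] at h1
  have : PreconnectedSpace T := ⟨h1⟩
  obtain ⟨v⟩ : Nonempty V := inferInstance
  obtain ⟨x, -⟩ := (hC v).1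
  exact { toNonempty := ⟨x⟩ }

/-! ### part J2 -/
attribute [local instance] Algebra.TensorProduct.rightAlgebra in
/-- Ideals of `K ⊗ B`, `K = Frac A`, are extended from `B`. -/
theorem map_comap_includeRight {A B K : Type u} [CommRing A] [Field K] [Algebra A K]
    [IsFractionRing A K] [CommRing B] [Algebra A B] (J : Ideal (K ⊗[A] B)) :
    (J.comap (Algebra.TensorProduct.includeRight : B →ₐ[A] K ⊗[A] B)).map
      (Algebra.TensorProduct.includeRight : B →ₐ[A] K ⊗[A] B) = J := by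
  have := IsLocalization.tensorRight (S := B) K (nonZeroDivisors A)
  exact IsLocalization.map_under (Algebra.algebraMapSubmonoid B (nonZeroDivisors A)) (K ⊗[A] B) J

/-- The quotient by the contraction of a prime of `K ⊗ B` has irreducible generic fibre. -/
theorem irrSpec_tensor_quotient_comap {A B K : Type u} [CommRing A] [Field K] [Algebra A K]
    [IsFractionRing A K] [CommRing B] [Algebra A B] (P : Ideal (K ⊗[A] B)) [hP : P.IsPrime] :
    IrrSpec (K ⊗[A] (B ⧸ P.comap (Algebra.TensorProduct.includeRight : B →ₐ[A] K ⊗[A] B))) := by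
  obtain ⟨I, hI⟩ : ∃ I : Ideal B,
    I = P.comap (Algebra.TensorProduct.includeRight : B →ₐ[A] K ⊗[A] B) := ⟨_, rfl⟩
  rw [← hI]
  let φ : K ⊗[A] B →ₐ[A] K ⊗[A] (B ⧸ I) :=
    Algebra.TensorProduct.map (AlgHom.id A K) (Ideal.Quotient.mkₐ A I)
  have hφ : Function.Surjective φ.toRingHom := by
    have : Function.Surjective (LinearMap.lTensor K (Ideal.Quotient.mkₐ A I).toLinearMap) :=
      LinearMap.lTensor_surjective K (Ideal.Quotient.mkₐ_surjective A _)
    exact this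
  have hker : RingHom.ker φ.toRingHom = P := by
    have h2 : RingHom.ker φ.toRingHom = (RingHom.ker (Ideal.Quotient.mkₐ A I)).map
        (Algebra.TensorProduct.includeRight : B →ₐ[A] K ⊗[A] B) :=
      Algebra.TensorProduct.lTensor_ker (Ideal.Quotient.mkₐ A I)
        (Ideal.Quotient.mkₐ_surjective A I)
    have h3 : RingHom.ker (Ideal.Quotient.mkₐ A I) = I := Ideal.Quotient.mkₐ_ker A I
    rw [h2, h3, hI]
    exact map_comap_includeRight P
  have hprime : (RingHom.ker φ.toRingHom).IsPrime := hker ▸ hP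
  have : IsDomain ((K ⊗[A] B) ⧸ RingHom.ker φ.toRingHom) := Ideal.Quotient.isDomain _
  exact IrrSpec.of_ringEquiv (RingHom.quotientKerEquivOfSurjective hφ) (IrrSpec.of_isDomain _)

open Groth.Agent.Lib.Helper78 in
/-- The "irreducible components" of a chart, spread out: finitely many ideals of `B` whose
quotients have irreducible fibres and whose zero loci cover every fibre, over a nonempty open of
the base. -/
theorem exists_ideals {A B K : Type u} [CommRing A] [IsDomain A] [Field K] [Algebra A K]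
    [IsFractionRing A K] [IsAlgClosed K] [CommRing B] [Algebra A B] [Algebra.FiniteType A B] :
    ∃ (𝓘 : Finset (Ideal B)) (g : A), g ≠ 0 ∧ ∀ (K'' : Type u) [Field K''] [Algebra A K''],
      algebraMap A K'' g ≠ 0 →
      (∀ I ∈ 𝓘, IrrSpec (K'' ⊗[A] (B ⧸ I))) ∧
      ∀ q : Ideal (K'' ⊗[A] B), q.IsPrime → ∃ I ∈ 𝓘,
        I ≤ q.comap (Algebra.TensorProduct.includeRight : B →ₐ[A] K'' ⊗[A] B) := by
  classical
  have hnoeth : IsNoetherianRing (K ⊗[A] B) := Algebra.FiniteType.isNoetherianRing K _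
  have hfin := minimalPrimes.finite_of_isNoetherianRing (R := K ⊗[A] B)
  let 𝓘 : Finset (Ideal B) := hfin.toFinset.image
    (Ideal.comap (Algebra.TensorProduct.includeRight : B →ₐ[A] K ⊗[A] B))
  have hI : ∀ I ∈ 𝓘, ∃ g : A, g ≠ 0 ∧ ∀ (K'' : Type u) [Field K''] [Algebra A K''],
      algebraMap A K'' g ≠ 0 → IrrSpec (K'' ⊗[A] (B ⧸ I)) := by
    intro I hI
    obtain ⟨P, hP, rfl⟩ := Finset.mem_image.1 hI
    have hPmin : P ∈ minimalPrimes (K ⊗[A] B) := hfin.mem_toFinset.1 hP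
    have : P.IsPrime := hPmin.1.1
    exact exists_irr_acl (K := K) (irrSpec_tensor_quotient_comap P)
  choose! G hG₀ hG using hI
  obtain ⟨g₀, hg₀, H₀⟩ := Groth.Agent.Lib.Helper18.exists_free_tensor_dvd (R := A) B B
  have hfree : Module.Free (Localization.Away g₀) (Localization.Away g₀ ⊗[A] B) :=
    H₀ g₀ dvd_rfl hg₀ _
  refine ⟨𝓘, g₀ * ∏ I ∈ 𝓘, G I,
    mul_ne_zero hg₀ (Finset.prod_ne_zero_iff.2 (fun I hI => hG₀ I hI)), ?_⟩
  intro K'' _ _ hK''
  rw [map_mul, map_prod] at hK''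
  have h0 : algebraMap A K'' g₀ ≠ 0 := left_ne_zero_of_mul hK''
  have hprod := right_ne_zero_of_mul hK''
  refine ⟨fun I hI => hG I hI K'' (Finset.prod_ne_zero_iff.1 hprod I hI), ?_⟩
  intro q hq
  have hq₀ : (q.comap (Algebra.TensorProduct.includeRight : B →ₐ[A] K'' ⊗[A] B)).IsPrime :=
    Ideal.comap_isPrime _ q
  have hle : ∏ I ∈ 𝓘, I ≤ q.comap (Algebra.TensorProduct.includeRight : B →ₐ[A] K'' ⊗[A] B) := by
    intro b hb
    have hbI : ∀ I ∈ 𝓘, b ∈ I := fun I hI =>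
      (Finset.inf_le (f := fun J : Ideal B => J) hI : 𝓘.inf (fun J => J) ≤ I)
        (Ideal.prod_le_inf hb)
    have hnil : (1 : K) ⊗ₜ[A] b ∈ (⊥ : Ideal (K ⊗[A] B)).radical := by
      rw [← Ideal.sInf_minimalPrimes, Ideal.mem_sInf]
      intro P hP
      have : b ∈ P.comap (Algebra.TensorProduct.includeRight : B →ₐ[A] K ⊗[A] B) :=
        hbI _ (Finset.mem_image.2 ⟨P, hfin.mem_toFinset.2 hP, rfl⟩)
      exact this
    obtain ⟨m, hm⟩ := hnil
    rw [Ideal.mem_bot, Algebra.TensorProduct.tmul_pow, one_pow] at hm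
    obtain ⟨t, ht, htx⟩ := SchDense.exists_smul_eq_zero_of_tmul_eq_zero_field
      (IsFractionRing.injective A K) (b ^ m) hm
    obtain ⟨k, hk⟩ := SchDense.exists_pow_smul_eq_zero_of_torsion g₀ hg₀ (b ^ m) t ht htx
    have h1 : ((algebraMap A K'' g₀) ^ k) ⊗ₜ[A] (b ^ m) = 0 := by
      rw [← map_pow, Algebra.algebraMap_eq_smul_one, TensorProduct.smul_tmul, hk,
        TensorProduct.tmul_zero]
    have h2 : ((1 : K'') ⊗ₜ[A] b) ^ m = 0 := by
      rw [Algebra.TensorProduct.tmul_pow, one_pow]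
      have h3 : ((algebraMap A K'' g₀) ^ k)⁻¹ • (((algebraMap A K'' g₀) ^ k) ⊗ₜ[A] (b ^ m)) =
          (1 : K'') ⊗ₜ[A] (b ^ m) := by
        rw [TensorProduct.smul_tmul', smul_eq_mul, inv_mul_cancel₀ (pow_ne_zero _ h0)]
      rw [← h3, h1, smul_zero]
    rw [Ideal.mem_comap]
    apply hq.mem_of_pow_mem m
    show ((1 : K'') ⊗ₜ[A] b) ^ m ∈ q
    rw [h2]
    exact Submodule.zero_mem _
  exact (Ideal.IsPrime.prod_le hq₀).1 hle

open Groth.Agent.Lib.Helper78 in
/-- A nonempty generic fibre spreads out. -/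
theorem exists_nontrivial {A B K : Type u} [CommRing A] [IsDomain A] [Field K] [Algebra A K]
    (hinj : Function.Injective (algebraMap A K)) [CommRing B] [Algebra A B]
    [Algebra.FiniteType A B] (h : Nontrivial (K ⊗[A] B)) :
    ∃ g : A, g ≠ 0 ∧ ∀ (K'' : Type u) [Field K''] [Algebra A K''], algebraMap A K'' g ≠ 0 →
      Nontrivial (K'' ⊗[A] B) := by
  obtain ⟨g, hg, H⟩ := GenFibreGeom.exists_forall_tmul_ne_zero (A := A) (B := B) 1 (by
    intro a ha h0
    have h1 : (algebraMap A K a) ⊗ₜ[A] (1 : B) = 0 := by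
      rw [Algebra.algebraMap_eq_smul_one, TensorProduct.smul_tmul, h0, TensorProduct.tmul_zero]
    have h2 : algebraMap A K a = 0 :=
      (algebraMap K (K ⊗[A] B)).injective (by rw [map_zero]; exact h1)
    exact ha (hinj (by rw [h2, map_zero])))
  refine ⟨g, hg, fun K'' _ _ hK'' => ?_⟩
  exact nontrivial_of_ne _ _ (H K'' (isUnit_iff_ne_zero.2 hK''))

section Sch

open AlgebraicGeometry CategoryTheory Limits

/-! ### part J3 -/
open Groth.Agent.Lib.Helper78.GenFibreGeom Groth.Agent.Lib.Helper78.FinLocus in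
/-- The chart embedding, together with the formula for the first projection. -/
theorem exists_chart_embedding' {X Y : Scheme.{u}} (f : X ⟶ Y) {V : Y.Opens} (hV : IsAffineOpen V)
    {W : X.Opens} (hW : IsAffineOpen W) (e : W ≤ f ⁻¹ᵁ V) (K : Type u) [Field K]
    [Algebra Γ(Y, V) K] :
    letI : Algebra Γ(Y, V) Γ(X, W) := (f.appLE V W e).hom.toAlgebra
    ∃ (j : PrimeSpectrum (K ⊗[Γ(Y, V)] Γ(X, W)) →
        ↥(pullback f (Spec.map (CommRingCat.ofHom (algebraMap Γ(Y, V) K)) ≫ hV.fromSpec))),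
      Topology.IsOpenEmbedding j ∧
      Set.range j = (pullback.fst f (Spec.map (CommRingCat.ofHom (algebraMap Γ(Y, V) K)) ≫
        hV.fromSpec)) ⁻¹' (W : Set X) ∧
      ∀ q, pullback.fst f (Spec.map (CommRingCat.ofHom (algebraMap Γ(Y, V) K)) ≫ hV.fromSpec)
        (j q) = hW.fromSpec (PrimeSpectrum.comap (Algebra.TensorProduct.includeRight :
          Γ(X, W) →ₐ[Γ(Y, V)] K ⊗[Γ(Y, V)] Γ(X, W)).toRingHom q) := by
  let _ : Algebra Γ(Y, V) Γ(X, W) := (f.appLE V W e).hom.toAlgebra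
  let ψ : Γ(Y, V) ⟶ CommRingCat.of K := CommRingCat.ofHom (algebraMap Γ(Y, V) K)
  show ∃ (j : PrimeSpectrum (K ⊗[Γ(Y, V)] Γ(X, W)) →
        ↥(pullback f (Spec.map ψ ≫ hV.fromSpec))),
      Topology.IsOpenEmbedding j ∧
      Set.range j = (pullback.fst f (Spec.map ψ ≫ hV.fromSpec)) ⁻¹' (W : Set X) ∧
      ∀ q, pullback.fst f (Spec.map ψ ≫ hV.fromSpec) (j q) =
        hW.fromSpec (PrimeSpectrum.comap (Algebra.TensorProduct.includeRight :
          Γ(X, W) →ₐ[Γ(Y, V)] K ⊗[Γ(Y, V)] Γ(X, W)).toRingHom q)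
  obtain ⟨j₀, hj₀⟩ := exists_isPullback_pullback_affine f hV hW e (Spec.map ψ)
  have : IsOpenImmersion j₀ :=
    MorphismProperty.of_isPullback (P := @IsOpenImmersion) hj₀.flip inferInstance
  let iso : pullback (Spec.map (f.appLE V W e)) (Spec.map ψ) ≅
      Spec (CommRingCat.of (Γ(X, W) ⊗[Γ(Y, V)] K)) := pullbackSpecIso Γ(Y, V) Γ(X, W) K
  let h₁ : PrimeSpectrum (K ⊗[Γ(Y, V)] Γ(X, W)) ≃ₜ PrimeSpectrum (Γ(X, W) ⊗[Γ(Y, V)] K) :=
    PrimeSpectrum.homeomorphOfRingEquiv (Algebra.TensorProduct.comm Γ(Y, V) K Γ(X, W)).toRingEquiv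
  let h₂ : ↥(Spec (CommRingCat.of (Γ(X, W) ⊗[Γ(Y, V)] K))) ≃ₜ
      ↥(pullback (Spec.map (f.appLE V W e)) (Spec.map ψ)) := iso.inv.homeomorph
  refine ⟨fun x => j₀ (h₂ (h₁ x)), ?_, ?_, ?_⟩
  · exact j₀.isOpenEmbedding.comp (h₂.isOpenEmbedding.comp h₁.isOpenEmbedding)
  · have hr : Set.range (fun x => j₀ (h₂ (h₁ x))) = Set.range j₀ := by
      apply Set.eq_of_subset_of_subset
      · rintro _ ⟨x, rfl⟩
        exact ⟨_, rfl⟩
      · rintro _ ⟨t, rfl⟩
        refine ⟨h₁.symm (h₂.symm t), ?_⟩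
        have e1 : h₁ (h₁.symm (h₂.symm t)) = h₂.symm t := h₁.apply_symm_apply _
        have e2 : h₂ (h₂.symm t) = t := h₂.apply_symm_apply t
        exact congrArg j₀ ((congrArg h₂ e1).trans e2)
    rw [hr, show Set.range j₀ = Set.range j₀.base from rfl, range_fst_of_isPullback hj₀]
    congr 1
    exact hW.range_fromSpec
  · intro q
    have e1 : pullback.fst f (Spec.map ψ ≫ hV.fromSpec) (j₀ (h₂ (h₁ q))) =
        hW.fromSpec (pullback.fst (Spec.map (f.appLE V W e)) (Spec.map ψ) (h₂ (h₁ q))) := by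
      rw [← Scheme.Hom.comp_apply, ← Scheme.Hom.comp_apply, hj₀.w]
    have e2 : pullback.fst (Spec.map (f.appLE V W e)) (Spec.map ψ) (h₂ (h₁ q)) =
        Spec.map (CommRingCat.ofHom (Algebra.TensorProduct.includeLeftRingHom :
          Γ(X, W) →+* Γ(X, W) ⊗[Γ(Y, V)] K)) (h₁ q) := by
      have key : ∀ z : ↥(Spec (CommRingCat.of (Γ(X, W) ⊗[Γ(Y, V)] K))),
          pullback.fst (Spec.map (f.appLE V W e)) (Spec.map ψ) (iso.inv z) =
          Spec.map (CommRingCat.ofHom (Algebra.TensorProduct.includeLeftRingHom :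
            Γ(X, W) →+* Γ(X, W) ⊗[Γ(Y, V)] K)) z := by
        intro z
        have hcomp : iso.inv ≫ pullback.fst (Spec.map (f.appLE V W e)) (Spec.map ψ) =
            Spec.map (CommRingCat.ofHom (Algebra.TensorProduct.includeLeftRingHom :
            Γ(X, W) →+* Γ(X, W) ⊗[Γ(Y, V)] K)) := pullbackSpecIso_inv_fst Γ(Y, V) Γ(X, W) K
        rw [← Scheme.Hom.comp_apply, hcomp]
      exact key (h₁ q)
    rw [e1, e2]
    congr 1

/-- the part of the pullback to `K` lying over a subset `Z ⊆ X` -/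
def piece {X Y : Scheme.{u}} (f : X ⟶ Y) {V : Y.Opens} (hV : IsAffineOpen V) (Z : Set X)
    (K : Type u) [Field K] [Algebra Γ(Y, V) K] :
    Set ↥(pullback f (Spec.map (CommRingCat.ofHom (algebraMap Γ(Y, V) K)) ≫ hV.fromSpec)) :=
  (pullback.fst f (Spec.map (CommRingCat.ofHom (algebraMap Γ(Y, V) K)) ≫ hV.fromSpec)) ⁻¹' Z

/-- The piece over a closed subset `V(J)` of an affine chart is the image of the spectrum of
`K ⊗ B/J`. -/
theorem exists_piece_map {X Y : Scheme.{u}} (f : X ⟶ Y) {V : Y.Opens} (hV : IsAffineOpen V)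
    {W : X.Opens} (hW : IsAffineOpen W) (e : W ≤ f ⁻¹ᵁ V) (J : Ideal Γ(X, W)) (K : Type u)
    [Field K] [Algebra Γ(Y, V) K] :
    letI : Algebra Γ(Y, V) Γ(X, W) := (f.appLE V W e).hom.toAlgebra
    ∃ (j' : PrimeSpectrum (K ⊗[Γ(Y, V)] (Γ(X, W) ⧸ J)) →
        ↥(pullback f (Spec.map (CommRingCat.ofHom (algebraMap Γ(Y, V) K)) ≫ hV.fromSpec))),
      Continuous j' ∧
      Set.range j' = piece f hV (hW.fromSpec '' (PrimeSpectrum.zeroLocus (J : Set Γ(X, W)))) K := by
  let _ : Algebra Γ(Y, V) Γ(X, W) := (f.appLE V W e).hom.toAlgebra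
  obtain ⟨j, hj, hjr, hjfst⟩ := exists_chart_embedding' f hV hW e K
  let φ : K ⊗[Γ(Y, V)] Γ(X, W) →ₐ[Γ(Y, V)] K ⊗[Γ(Y, V)] (Γ(X, W) ⧸ J) :=
    Algebra.TensorProduct.map (AlgHom.id Γ(Y, V) K) (Ideal.Quotient.mkₐ Γ(Y, V) J)
  have hφ : Function.Surjective φ.toRingHom := by
    have : Function.Surjective (LinearMap.lTensor K
        (Ideal.Quotient.mkₐ Γ(Y, V) J).toLinearMap) :=
      LinearMap.lTensor_surjective K (Ideal.Quotient.mkₐ_surjective Γ(Y, V) _)
    exact this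
  have hker : RingHom.ker φ.toRingHom = J.map
      (Algebra.TensorProduct.includeRight : Γ(X, W) →ₐ[Γ(Y, V)] K ⊗[Γ(Y, V)] Γ(X, W)) := by
    have h2 : RingHom.ker φ.toRingHom = (RingHom.ker (Ideal.Quotient.mkₐ Γ(Y, V) J)).map
        (Algebra.TensorProduct.includeRight : Γ(X, W) →ₐ[Γ(Y, V)] K ⊗[Γ(Y, V)] Γ(X, W)) :=
      Algebra.TensorProduct.lTensor_ker (Ideal.Quotient.mkₐ Γ(Y, V) J)
        (Ideal.Quotient.mkₐ_surjective Γ(Y, V) J)
    have h3 : RingHom.ker (Ideal.Quotient.mkₐ Γ(Y, V) J) = J := Ideal.Quotient.mkₐ_ker Γ(Y, V) J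
    rw [h2, h3]
  have hzl : ∀ q : PrimeSpectrum (K ⊗[Γ(Y, V)] Γ(X, W)),
      q ∈ Set.range (PrimeSpectrum.comap φ.toRingHom) ↔
      PrimeSpectrum.comap (Algebra.TensorProduct.includeRight :
        Γ(X, W) →ₐ[Γ(Y, V)] K ⊗[Γ(Y, V)] Γ(X, W)).toRingHom q ∈
        PrimeSpectrum.zeroLocus (J : Set Γ(X, W)) := by
    intro q
    rw [range_comap_of_surjective _ _ hφ, hker, PrimeSpectrum.mem_zeroLocus,
      PrimeSpectrum.mem_zeroLocus, SetLike.coe_subset_coe, SetLike.coe_subset_coe,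
      Ideal.map_le_iff_le_comap]
    rfl
  refine ⟨fun p => j (PrimeSpectrum.comap φ.toRingHom p),
    hj.continuous.comp (PrimeSpectrum.continuous_comap φ.toRingHom), ?_⟩
  apply Set.eq_of_subset_of_subset
  · rintro _ ⟨p, rfl⟩
    show pullback.fst f _ (j (PrimeSpectrum.comap φ.toRingHom p)) ∈
      (hW.fromSpec '' (PrimeSpectrum.zeroLocus (J : Set Γ(X, W))))
    rw [hjfst]
    exact ⟨_, (hzl _).1 ⟨p, rfl⟩, rfl⟩
  · intro t ht
    obtain ⟨r, hr, hrt⟩ := ht
    have htW : t ∈ Set.range j := by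
      rw [hjr]
      show pullback.fst f _ t ∈ (W : Set X)
      rw [← hrt, ← hW.range_fromSpec]
      exact ⟨r, rfl⟩
    obtain ⟨q, rfl⟩ := htW
    rw [hjfst] at hrt
    have hqr := hW.fromSpec.isOpenEmbedding.injective hrt
    have : q ∈ Set.range (PrimeSpectrum.comap φ.toRingHom) := by
      rw [hzl, ← hqr]
      exact hr
    obtain ⟨p, rfl⟩ := this
    exact ⟨p, rfl⟩

/-- Nonemptiness of a piece. -/
theorem piece_nonempty_iff {X Y : Scheme.{u}} (f : X ⟶ Y) {V : Y.Opens} (hV : IsAffineOpen V)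
    {W : X.Opens} (hW : IsAffineOpen W) (e : W ≤ f ⁻¹ᵁ V) (J : Ideal Γ(X, W)) (K : Type u)
    [Field K] [Algebra Γ(Y, V) K] :
    letI : Algebra Γ(Y, V) Γ(X, W) := (f.appLE V W e).hom.toAlgebra
    (piece f hV (hW.fromSpec '' (PrimeSpectrum.zeroLocus (J : Set Γ(X, W)))) K).Nonempty ↔
      Nontrivial (K ⊗[Γ(Y, V)] (Γ(X, W) ⧸ J)) := by
  let _ : Algebra Γ(Y, V) Γ(X, W) := (f.appLE V W e).hom.toAlgebra
  obtain ⟨j', -, hr⟩ := exists_piece_map f hV hW e J K
  rw [← hr, Set.range_nonempty_iff_nonempty, PrimeSpectrum.nonempty_iff_nontrivial]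

/-- Irreducibility of a piece. -/
theorem piece_isIrreducible {X Y : Scheme.{u}} (f : X ⟶ Y) {V : Y.Opens} (hV : IsAffineOpen V)
    {W : X.Opens} (hW : IsAffineOpen W) (e : W ≤ f ⁻¹ᵁ V) (J : Ideal Γ(X, W)) (K : Type u)
    [Field K] [Algebra Γ(Y, V) K]
    (h : letI : Algebra Γ(Y, V) Γ(X, W) := (f.appLE V W e).hom.toAlgebra
      IrrSpec (K ⊗[Γ(Y, V)] (Γ(X, W) ⧸ J))) :
    IsIrreducible (piece f hV (hW.fromSpec '' (PrimeSpectrum.zeroLocus (J : Set Γ(X, W)))) K) := by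
  let _ : Algebra Γ(Y, V) Γ(X, W) := (f.appLE V W e).hom.toAlgebra
  obtain ⟨j', hc, hr⟩ := exists_piece_map f hV hW e J K
  have h1 : IrreducibleSpace (PrimeSpectrum (K ⊗[Γ(Y, V)] (Γ(X, W) ⧸ J))) := (irrSpec_iff _).1 h
  have h2 := ((irreducibleSpace_def _).1 h1).image j' hc.continuousOn
  rwa [Set.top_eq_univ, Set.image_univ, hr] at h2

/-! ### part J4 -/
theorem closure_image_fromSpec_inter {X : Scheme.{u}} {W : X.Opens} (hW : IsAffineOpen W)
    (C : Set (Spec Γ(X, W))) (hC : IsClosed C) :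
    closure (hW.fromSpec '' C) ∩ (W : Set X) ⊆ hW.fromSpec '' C := by
  rintro x ⟨hx, hxW⟩
  rw [← hW.range_fromSpec] at hxW
  obtain ⟨r, rfl⟩ := hxW
  refine ⟨r, ?_, rfl⟩
  have := hW.fromSpec.isOpenEmbedding.isInducing.closure_eq_preimage_closure_image C
  rw [hC.closure_eq] at this
  rw [this]
  exact hx

/-- The components of a chart, spread out. -/
theorem exists_chart_components {X Y : Scheme.{u}} (f : X ⟶ Y) [LocallyOfFiniteType f]
    {V : Y.Opens} (hV : IsAffineOpen V) [IsDomain Γ(Y, V)] (K : Type u) [Field K]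
    [Algebra Γ(Y, V) K] [IsFractionRing Γ(Y, V) K] [IsAlgClosed K] {W : X.Opens}
    (hW : IsAffineOpen W) (e : W ≤ f ⁻¹ᵁ V) :
    ∃ (𝒵 : Finset (Set X)) (g : Γ(Y, V)), g ≠ 0 ∧
      (∀ Z ∈ 𝒵, Z ⊆ (W : Set X) ∧ closure Z ∩ (W : Set X) ⊆ Z) ∧
      ∀ (K'' : Type u) [Field K''] [Algebra Γ(Y, V) K''], algebraMap Γ(Y, V) K'' g ≠ 0 →
        (∀ Z ∈ 𝒵, IsIrreducible (piece f hV Z K'')) ∧
        piece f hV (W : Set X) K'' ⊆ ⋃ Z ∈ 𝒵, piece f hV Z K'' := by
  classical
  let _ : Algebra Γ(Y, V) Γ(X, W) := (f.appLE V W e).hom.toAlgebra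
  have : Algebra.FiniteType Γ(Y, V) Γ(X, W) := f.finiteType_appLE hV hW e
  obtain ⟨𝓘, g, hg, H⟩ := exists_ideals (A := Γ(Y, V)) (B := Γ(X, W)) (K := K)
  refine ⟨𝓘.image (fun I : Ideal Γ(X, W) =>
    hW.fromSpec '' (PrimeSpectrum.zeroLocus (I : Set Γ(X, W)))), g, hg,
    ?_, ?_⟩
  · intro Z hZ
    obtain ⟨I, -, rfl⟩ := Finset.mem_image.1 hZ
    refine ⟨?_, closure_image_fromSpec_inter hW _ (PrimeSpectrum.isClosed_zeroLocus _)⟩
    rintro _ ⟨r, -, rfl⟩
    rw [← hW.range_fromSpec]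
    exact ⟨r, rfl⟩
  · intro K'' _ _ hK''
    obtain ⟨H1, H2⟩ := H K'' hK''
    refine ⟨?_, ?_⟩
    · intro Z hZ
      obtain ⟨I, hI, rfl⟩ := Finset.mem_image.1 hZ
      exact piece_isIrreducible f hV hW e I K'' (H1 I hI)
    · intro t ht
      obtain ⟨j, -, hjr, hjfst⟩ := exists_chart_embedding' f hV hW e K''
      have htr : t ∈ Set.range j := by
        rw [hjr]
        exact ht
      obtain ⟨q, rfl⟩ := htr
      obtain ⟨I, hI, hIq⟩ := H2 q.asIdeal q.isPrime
      refine Set.mem_iUnion₂.2 ⟨_, Finset.mem_image.2 ⟨I, hI, rfl⟩, ?_⟩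
      show pullback.fst f _ (j q) ∈ hW.fromSpec '' (PrimeSpectrum.zeroLocus (I : Set Γ(X, W)))
      rw [hjfst]
      exact ⟨_, hIq, rfl⟩

/-- A nonempty intersection of two pieces of the generic geometric fibre spreads out. -/
theorem exists_pair_witness {X Y : Scheme.{u}} (f : X ⟶ Y) [LocallyOfFiniteType f]
    {V : Y.Opens} (hV : IsAffineOpen V) [IsDomain Γ(Y, V)] (K : Type u) [Field K]
    [Algebra Γ(Y, V) K] (hinj : Function.Injective (algebraMap Γ(Y, V) K)) {W W' : X.Opens}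
    (hWV : W ≤ f ⁻¹ᵁ V) (Z Z' : Set X)
    (hZ : Z ⊆ (W : Set X) ∧ closure Z ∩ (W : Set X) ⊆ Z)
    (hZ' : Z' ⊆ (W' : Set X) ∧ closure Z' ∩ (W' : Set X) ⊆ Z')
    (hne : (piece f hV Z K ∩ piece f hV Z' K).Nonempty) :
    ∃ g : Γ(Y, V), g ≠ 0 ∧ ∀ (K'' : Type u) [Field K''] [Algebra Γ(Y, V) K''],
      algebraMap Γ(Y, V) K'' g ≠ 0 → (piece f hV Z K'' ∩ piece f hV Z' K'').Nonempty := by
  obtain ⟨t, ht, ht'⟩ := hne
  have hx : pullback.fst f _ t ∈ ((W ⊓ W' : X.Opens) : Set X) := ⟨hZ.1 ht, hZ'.1 ht'⟩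
  obtain ⟨_, ⟨W'', hW'' : IsAffineOpen W'', rfl⟩, hxW'', hsub⟩ :=
    X.isBasis_affineOpens.exists_subset_of_mem_open hx (W ⊓ W').isOpen
  have e'' : W'' ≤ f ⁻¹ᵁ V := fun y hy => hWV (hsub hy).1
  let _ : Algebra Γ(Y, V) Γ(X, W'') := (f.appLE V W'' e'').hom.toAlgebra
  have : Algebra.FiniteType Γ(Y, V) Γ(X, W'') := f.finiteType_appLE hV hW'' e''
  let C : Set (Spec Γ(X, W'')) := hW''.fromSpec ⁻¹' (closure Z ∩ closure Z')
  have hC : IsClosed C := (isClosed_closure.inter isClosed_closure).preimage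
    hW''.fromSpec.continuous
  let J : Ideal Γ(X, W'') := PrimeSpectrum.vanishingIdeal C
  have hJ : PrimeSpectrum.zeroLocus (J : Set Γ(X, W'')) = C :=
    (PrimeSpectrum.zeroLocus_vanishingIdeal_eq_closure C).trans hC.closure_eq
  have hZ'' : hW''.fromSpec '' (PrimeSpectrum.zeroLocus (J : Set Γ(X, W''))) ⊆ Z ∩ Z' := by
    rw [hJ]
    rintro _ ⟨r, hr, rfl⟩
    have hrW : hW''.fromSpec r ∈ (W'' : Set X) := by
      rw [← hW''.range_fromSpec]
      exact ⟨r, rfl⟩
    exact ⟨hZ.2 ⟨hr.1, (hsub hrW).1⟩, hZ'.2 ⟨hr.2, (hsub hrW).2⟩⟩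
  have hne'' : (piece f hV (hW''.fromSpec '' (PrimeSpectrum.zeroLocus
      (J : Set Γ(X, W'')))) K).Nonempty := by
    refine ⟨t, ?_⟩
    show pullback.fst f _ t ∈ hW''.fromSpec '' (PrimeSpectrum.zeroLocus (J : Set Γ(X, W'')))
    rw [hJ]
    have hxr : pullback.fst f _ t ∈ Set.range hW''.fromSpec := by
      rw [hW''.range_fromSpec]
      exact hxW''
    obtain ⟨r, hr⟩ := hxr
    refine ⟨r, ?_, hr⟩
    show hW''.fromSpec r ∈ closure Z ∩ closure Z'
    rw [hr]
    exact ⟨subset_closure ht, subset_closure ht'⟩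
  have hnt := (piece_nonempty_iff f hV hW'' e'' J K).1 hne''
  obtain ⟨g, hg, H⟩ := exists_nontrivial (A := Γ(Y, V)) (B := Γ(X, W'') ⧸ J) (K := K) hinj hnt
  refine ⟨g, hg, fun K'' _ _ hK'' => ?_⟩
  obtain ⟨t'', ht''⟩ := (piece_nonempty_iff f hV hW'' e'' J K'').2 (H K'' hK'')
  exact ⟨t'', (hZ'' ht'').1, (hZ'' ht'').2⟩

theorem isOpen_piece {X Y : Scheme.{u}} (f : X ⟶ Y) {V : Y.Opens} (hV : IsAffineOpen V)
    (W : X.Opens) (K : Type u) [Field K] [Algebra Γ(Y, V) K] :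
    IsOpen (piece f hV (W : Set X) K) :=
  W.isOpen.preimage (pullback.fst f _).continuous

/-- **Geometric connectedness spreads out** when the function field of the base chart is
algebraically closed. -/
theorem exists_connected_acl {X Y : Scheme.{u}} (f : X ⟶ Y) [LocallyOfFiniteType f]
    [QuasiCompact f] {V : Y.Opens} (hV : IsAffineOpen V) [IsDomain Γ(Y, V)] (K : Type u) [Field K]
    [Algebra Γ(Y, V) K] [IsFractionRing Γ(Y, V) K] [IsAlgClosed K]
    [ConnectedSpace ↥(pullback f (Spec.map (CommRingCat.ofHom (algebraMap Γ(Y, V) K)) ≫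
      hV.fromSpec))] :
    ∃ g : Γ(Y, V), g ≠ 0 ∧ ∀ (K'' : Type u) [Field K''] [Algebra Γ(Y, V) K''],
      algebraMap Γ(Y, V) K'' g ≠ 0 →
      ConnectedSpace ↥(pullback f (Spec.map (CommRingCat.ofHom (algebraMap Γ(Y, V) K'')) ≫
        hV.fromSpec)) := by
  classical
  have hinj : Function.Injective (algebraMap Γ(Y, V) K) := IsFractionRing.injective _ _
  -- a finite affine cover of `f⁻¹ V`
  have hcompact : IsCompact ((f ⁻¹ᵁ V : X.Opens) : Set X) := f.isCompact_preimage hV.isCompact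
  obtain ⟨𝒲, h𝒲fin, h𝒲⟩ := isCompact_and_isOpen_iff_finite_and_eq_biUnion_affineOpens.1
    ⟨hcompact, (f ⁻¹ᵁ V).isOpen⟩
  have hle : ∀ W ∈ 𝒲, (W : X.Opens) ≤ f ⁻¹ᵁ V := by
    intro W hW x hx
    have : x ∈ ⋃ i ∈ 𝒲, ((i : X.Opens) : Set X) := Set.mem_biUnion hW hx
    rw [← h𝒲] at this
    exact this
  have hcover : ∀ (K'' : Type u) [Field K''] [Algebra Γ(Y, V) K'']
      (t : ↥(pullback f (Spec.map (CommRingCat.ofHom (algebraMap Γ(Y, V) K'')) ≫ hV.fromSpec))),
      ∃ W : 𝒲, t ∈ piece f hV ((W.1 : X.Opens) : Set X) K'' := by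
    intro K'' _ _ t
    have hx' : pullback.fst f _ t ∈ ((f ⁻¹ᵁ V : X.Opens) : Set X) := fst_mem_preimage f hV _ t
    rw [h𝒲] at hx'
    obtain ⟨W, hW, hxW⟩ := Set.mem_iUnion₂.1 hx'
    exact ⟨⟨W, hW⟩, hxW⟩
  have := h𝒲fin.fintype
  -- the components of the charts
  have hcomp : ∀ W : 𝒲, ∃ (𝒵 : Finset (Set X)) (g : Γ(Y, V)), g ≠ 0 ∧
      (∀ Z ∈ 𝒵, Z ⊆ ((W.1 : X.Opens) : Set X) ∧ closure Z ∩ ((W.1 : X.Opens) : Set X) ⊆ Z) ∧
      ∀ (K'' : Type u) [Field K''] [Algebra Γ(Y, V) K''], algebraMap Γ(Y, V) K'' g ≠ 0 →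
        (∀ Z ∈ 𝒵, IsIrreducible (piece f hV Z K'')) ∧
        piece f hV ((W.1 : X.Opens) : Set X) K'' ⊆ ⋃ Z ∈ 𝒵, piece f hV Z K'' :=
    fun W => exists_chart_components f hV K W.1.2 (hle W.1 W.2)
  choose 𝒵 G hG₀ h𝒵 hG using hcomp
  have hGK : ∀ W : 𝒲, algebraMap Γ(Y, V) K (G W) ≠ 0 := fun W h0 =>
    hG₀ W (hinj (by rw [h0, map_zero]))
  -- the vertices
  let Vtx := Σ W : 𝒲, ↥(𝒵 W)
  -- connectivity of the graph over `K`
  have hgraph : ∀ v v' : Vtx, Relation.ReflTransGen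
      (fun a b : Vtx => (piece f hV a.2.1 K ∩ piece f hV b.2.1 K).Nonempty) v v' := by
    apply reflTransGen_of_preconnectedSpace (fun v : Vtx => v.1)
      (fun W : 𝒲 => piece f hV ((W.1 : X.Opens) : Set X) K) (fun v : Vtx => piece f hV v.2.1 K)
    · exact fun W => isOpen_piece f hV W.1 K
    · rintro ⟨W, Z, hZ⟩ t ⟨ht, htW⟩
      have h1 : pullback.fst f _ t ∈ closure Z :=
        (pullback.fst f _).continuous.closure_preimage_subset Z ht
      exact (h𝒵 W Z hZ).2 ⟨h1, htW⟩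
    · rintro ⟨W, Z, hZ⟩
      exact (hG W K (hGK W)).1 Z hZ
    · exact fun t => hcover K t
    · intro W t ht
      obtain ⟨Z, hZ, htZ⟩ := Set.mem_iUnion₂.1 ((hG W K (hGK W)).2 ht)
      exact Set.mem_iUnion₂.2 ⟨⟨W, Z, hZ⟩, rfl, htZ⟩
  -- persistence of the edges
  have hedge : ∀ v v' : Vtx, ∃ g : Γ(Y, V), g ≠ 0 ∧ ∀ (K'' : Type u) [Field K'']
      [Algebra Γ(Y, V) K''], algebraMap Γ(Y, V) K'' g ≠ 0 →
      (piece f hV v.2.1 K ∩ piece f hV v'.2.1 K).Nonempty →
      (piece f hV v.2.1 K'' ∩ piece f hV v'.2.1 K'').Nonempty := by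
    rintro ⟨W, Z, hZ⟩ ⟨W', Z', hZ'⟩
    by_cases hne : (piece f hV Z K ∩ piece f hV Z' K).Nonempty
    · obtain ⟨g, hg, H⟩ := exists_pair_witness f hV K hinj (hle W.1 W.2) Z Z'
        (h𝒵 W Z hZ) (h𝒵 W' Z' hZ') hne
      exact ⟨g, hg, fun K'' _ _ hK'' _ => H K'' hK''⟩
    · exact ⟨1, one_ne_zero, fun K'' _ _ _ h => absurd h hne⟩
  choose GP hGP₀ hGP using hedge
  refine ⟨(∏ W : 𝒲, G W) * ∏ p : Vtx × Vtx, GP p.1 p.2,
    mul_ne_zero (Finset.prod_ne_zero_iff.2 fun W _ => hG₀ W)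
      (Finset.prod_ne_zero_iff.2 fun p _ => hGP₀ p.1 p.2), ?_⟩
  intro K'' _ _ hK''
  rw [map_mul, map_prod, map_prod] at hK''
  have hK1 : ∀ W : 𝒲, algebraMap Γ(Y, V) K'' (G W) ≠ 0 := fun W =>
    Finset.prod_ne_zero_iff.1 (left_ne_zero_of_mul hK'') W (Finset.mem_univ _)
  have hK2 : ∀ v v' : Vtx, algebraMap Γ(Y, V) K'' (GP v v') ≠ 0 := fun v v' =>
    Finset.prod_ne_zero_iff.1 (right_ne_zero_of_mul hK'') (v, v') (Finset.mem_univ _)
  have hVne : Nonempty Vtx := by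
    obtain ⟨t₀⟩ : Nonempty ↥(pullback f (Spec.map (CommRingCat.ofHom
      (algebraMap Γ(Y, V) K)) ≫ hV.fromSpec)) := inferInstance
    obtain ⟨W, hW⟩ := hcover K t₀
    obtain ⟨Z, hZ, -⟩ := Set.mem_iUnion₂.1 ((hG W K (hGK W)).2 hW)
    exact ⟨⟨W, Z, hZ⟩⟩
  apply connectedSpace_of_reflTransGen (fun v : Vtx => piece f hV v.2.1 K'')
  · rintro ⟨W, Z, hZ⟩
    exact (hG W K'' (hK1 W)).1 Z hZ
  · intro t
    obtain ⟨W, hW⟩ := hcover K'' t
    obtain ⟨Z, hZ, htZ⟩ := Set.mem_iUnion₂.1 ((hG W K'' (hK1 W)).2 hW)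
    exact ⟨⟨W, Z, hZ⟩, htZ⟩
  · intro v v'
    exact Relation.ReflTransGen.mono (fun a b hab => hGP a b K'' (hK2 a b) hab) v v'
      (hgraph v v')

/-! ### part J5 -/
/-- all geometric points over `y` have connected pullback -/
def GC {X Y : Scheme.{u}} (f : X ⟶ Y) (y : Y) : Prop :=
  ∀ (K : Type u) [Field K] (z : Spec (CommRingCat.of K) ⟶ Y),
    (∀ x : Spec (CommRingCat.of K), z x = y) → ConnectedSpace ↥(pullback f z)

theorem GC_of_geometricallyConnected_fiber {X Y : Scheme.{u}} (f : X ⟶ Y) (y : Y)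
    (h : GeometricallyConnected (f.fiberToSpecResidueField y)) : GC f y := by
  intro K _ z hz
  obtain ⟨⟨y', φ⟩, rfl⟩ := (Scheme.SpecToEquivOfField K Y).symm.surjective z
  have hy : y' = y := by
    obtain ⟨x⟩ : Nonempty (Spec (CommRingCat.of K)) := inferInstance
    rw [← hz x]
    show y' = (Spec.map φ ≫ Y.fromSpecResidueField y') x
    rw [Scheme.Hom.comp_apply, Scheme.fromSpecResidueField_apply]
  subst hy
  have hconn : ConnectedSpace ↥(pullback (f.fiberToSpecResidueField y') (Spec.map φ)) :=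
    h.geometrically_connectedSpace _ _ _ (IsPullback.of_hasPullback _ _)
  let e2 : pullback (f.fiberToSpecResidueField y') (Spec.map φ) ≅
      pullback f (Spec.map φ ≫ Y.fromSpecResidueField y') :=
    pullbackLeftPullbackSndIso f (Y.fromSpecResidueField y') (Spec.map φ)
  exact e2.hom.homeomorph.surjective.connectedSpace e2.hom.homeomorph.continuous

theorem geometricallyConnected_restrict_of_forall_GC {X Y : Scheme.{u}} (f : X ⟶ Y)
    (V : Y.Opens) (H : ∀ y ∈ V, GC f y) : GeometricallyConnected (f ∣_ V) := by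
  refine ⟨fun K _ y Z fst snd hpb => ?_⟩
  have hP : IsPullback (fst ≫ (f ⁻¹ᵁ V).ι) snd f (y ≫ V.ι) :=
    hpb.paste_horiz (isPullback_morphismRestrict f V).flip
  obtain ⟨x₀⟩ : Nonempty (Spec (CommRingCat.of K)) := inferInstance
  have : Subsingleton (Spec (CommRingCat.of K)) :=
    (inferInstance : Subsingleton (PrimeSpectrum K))
  have hmem : (y ≫ V.ι) x₀ ∈ V := by
    rw [Scheme.Hom.comp_apply]
    exact (y x₀).2
  have : ConnectedSpace ↥(pullback f (y ≫ V.ι)) :=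
    H _ hmem K (y ≫ V.ι) (fun x => by rw [Subsingleton.elim x x₀])
  exact hP.isoPullback.inv.homeomorph.surjective.connectedSpace
    hP.isoPullback.inv.homeomorph.continuous

/-- Connectedness descends along a field extension of the geometric point. -/
theorem connectedSpace_pullback_of_field_ext {X Y : Scheme.{u}} (f : X ⟶ Y) {K' K'' : Type u}
    [Field K'] [Field K''] (w : K' →+* K'') (z' : Spec (CommRingCat.of K') ⟶ Y)
    [ConnectedSpace ↥(pullback f (Spec.map (CommRingCat.ofHom w) ≫ z'))] :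
    ConnectedSpace ↥(pullback f z') := by
  have hs : Surjective (Spec.map (CommRingCat.ofHom w)) := by
    refine ⟨fun a => ?_⟩
    obtain ⟨b⟩ : Nonempty (Spec (CommRingCat.of K'')) :=
      inferInstanceAs (Nonempty (PrimeSpectrum K''))
    have : Subsingleton (Spec (CommRingCat.of K')) :=
      inferInstanceAs (Subsingleton (PrimeSpectrum K'))
    exact ⟨b, Subsingleton.elim _ _⟩
  let e2 : pullback (pullback.snd f z') (Spec.map (CommRingCat.ofHom w)) ≅
      pullback f (Spec.map (CommRingCat.ofHom w) ≫ z') :=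
    pullbackLeftPullbackSndIso f z' (Spec.map (CommRingCat.ofHom w))
  have h1 : ConnectedSpace ↥(pullback (pullback.snd f z') (Spec.map (CommRingCat.ofHom w))) :=
    e2.inv.homeomorph.surjective.connectedSpace e2.inv.homeomorph.continuous
  have h2 : Surjective (pullback.fst (pullback.snd f z') (Spec.map (CommRingCat.ofHom w))) :=
    MorphismProperty.of_isPullback (IsPullback.of_hasPullback (pullback.snd f z') _).flip hs
  exact h2.surj.connectedSpace
    (pullback.fst (pullback.snd f z') (Spec.map (CommRingCat.ofHom w))).continuous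

/-- Transfer of the fraction field along a ring isomorphism of the base. -/
theorem isFractionRing_of_ringEquiv {R R' K : Type*} [CommRing R] [CommRing R'] [Field K]
    [Algebra R K] [IsFractionRing R K] [Algebra R' K] (e : R' ≃+* R)
    (he : ∀ r, algebraMap R' K r = algebraMap R K (e r)) : IsFractionRing R' K := by
  have hinj : Function.Injective (algebraMap R' K) := by
    intro x y hxy
    rw [he, he] at hxy
    exact e.injective (IsFractionRing.injective R K hxy)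
  have : FaithfulSMul R' K := (faithfulSMul_iff_algebraMap_injective R' K).2 hinj
  apply IsFractionRing.of_field
  intro z
  obtain ⟨x, y, -, hxy⟩ := IsFractionRing.div_surjective (A := R) z
  refine ⟨e.symm x, e.symm y, ?_⟩
  rw [he, he, e.apply_symm_apply, e.apply_symm_apply, hxy]

/-- **Geometric connectedness spreads out** after a base extension `A → A₁` to a domain with
algebraically closed fraction field. -/
theorem exists_connected_of_baseChange {X Y : Scheme.{u}} (f : X ⟶ Y) [LocallyOfFiniteType f]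
    [QuasiCompact f] {V : Y.Opens} (hV : IsAffineOpen V) (A₁ K₀ : Type u) [CommRing A₁]
    [IsDomain A₁] [Algebra Γ(Y, V) A₁] [Field K₀] [Algebra A₁ K₀] [IsFractionRing A₁ K₀]
    [IsAlgClosed K₀] [Algebra Γ(Y, V) K₀] [IsScalarTower Γ(Y, V) A₁ K₀]
    [ConnectedSpace ↥(pullback f (Spec.map (CommRingCat.ofHom (algebraMap Γ(Y, V) K₀)) ≫
      hV.fromSpec))] :
    ∃ a₁ : A₁, a₁ ≠ 0 ∧ ∀ (K'' : Type u) [Field K''] [Algebra A₁ K''] [Algebra Γ(Y, V) K'']
      [IsScalarTower Γ(Y, V) A₁ K''], algebraMap A₁ K'' a₁ ≠ 0 →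
      ConnectedSpace ↥(pullback f (Spec.map (CommRingCat.ofHom (algebraMap Γ(Y, V) K'')) ≫
        hV.fromSpec)) := by
  -- the base change
  let Y₁ : Scheme.{u} := Spec (CommRingCat.of A₁)
  let g : Y₁ ⟶ Y := Spec.map (CommRingCat.ofHom (algebraMap Γ(Y, V) A₁)) ≫ hV.fromSpec
  let f₁ : pullback f g ⟶ Y₁ := pullback.snd f g
  let eΓ : Γ(Y₁, ⊤) ≃+* A₁ := (Scheme.ΓSpecIso (CommRingCat.of A₁)).commRingCatIsoToRingEquiv
  have hdom : IsDomain Γ(Y₁, ⊤) := MulEquiv.isDomain A₁ eΓ.toMulEquiv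
  -- fields over `A₁` as fields over `Γ(Y₁, ⊤)`
  have key : ∀ (K'' : Type u) [Field K''] [Algebra A₁ K''] [Algebra Γ(Y, V) K'']
      [IsScalarTower Γ(Y, V) A₁ K''],
      letI : Algebra Γ(Y₁, ⊤) K'' := ((algebraMap A₁ K'').comp (eΓ : Γ(Y₁, ⊤) →+* A₁)).toAlgebra
      Nonempty (pullback f₁ (Spec.map (CommRingCat.ofHom (algebraMap Γ(Y₁, ⊤) K'')) ≫
          (isAffineOpen_top Y₁).fromSpec) ≅
        pullback f (Spec.map (CommRingCat.ofHom (algebraMap Γ(Y, V) K'')) ≫ hV.fromSpec)) := by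
    intro K'' _ _ _ _
    letI : Algebra Γ(Y₁, ⊤) K'' := ((algebraMap A₁ K'').comp (eΓ : Γ(Y₁, ⊤) →+* A₁)).toAlgebra
    have h1 : Spec.map (CommRingCat.ofHom (algebraMap Γ(Y₁, ⊤) K'')) ≫
        (isAffineOpen_top Y₁).fromSpec = Spec.map (CommRingCat.ofHom (algebraMap A₁ K'')) := by
      rw [IsAffineOpen.fromSpec_top, Scheme.isoSpec_Spec_inv, ← Spec.map_comp]
      congr 1
      ext x
      show algebraMap A₁ K'' (eΓ ((Scheme.ΓSpecIso (CommRingCat.of A₁)).inv.hom x)) = _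
      congr 1
      exact eΓ.apply_symm_apply x
    have h2 : Spec.map (CommRingCat.ofHom (algebraMap A₁ K'')) ≫ g =
        Spec.map (CommRingCat.ofHom (algebraMap Γ(Y, V) K'')) ≫ hV.fromSpec := by
      show Spec.map (CommRingCat.ofHom (algebraMap A₁ K'')) ≫
        Spec.map (CommRingCat.ofHom (algebraMap Γ(Y, V) A₁)) ≫ hV.fromSpec = _
      rw [← Category.assoc, ← Spec.map_comp, ← CommRingCat.ofHom_comp,
        ← IsScalarTower.algebraMap_eq]
    rw [h1, ← h2]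
    exact ⟨pullbackLeftPullbackSndIso f g _⟩
  have hlft : LocallyOfFiniteType f₁ := inferInstanceAs (LocallyOfFiniteType (pullback.snd f g))
  have hqc : QuasiCompact f₁ := inferInstanceAs (QuasiCompact (pullback.snd f g))
  letI algK₀ : Algebra Γ(Y₁, ⊤) K₀ :=
    ((algebraMap A₁ K₀).comp (eΓ : Γ(Y₁, ⊤) →+* A₁)).toAlgebra
  have hfrac : IsFractionRing Γ(Y₁, ⊤) K₀ := isFractionRing_of_ringEquiv eΓ (fun r => rfl)
  have hconn₁ : ConnectedSpace ↥(pullback f₁ (Spec.map (CommRingCat.ofHom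
      (algebraMap Γ(Y₁, ⊤) K₀)) ≫ (isAffineOpen_top Y₁).fromSpec)) := by
    obtain ⟨e⟩ := key K₀
    exact e.inv.homeomorph.surjective.connectedSpace e.inv.homeomorph.continuous
  obtain ⟨g₁, hg₁, H⟩ := exists_connected_acl f₁ (isAffineOpen_top Y₁) K₀
  refine ⟨eΓ g₁, (fun h0 => hg₁ (eΓ.injective (by rw [h0, map_zero]))), ?_⟩
  intro K'' _ _ _ _ hK''
  letI : Algebra Γ(Y₁, ⊤) K'' := ((algebraMap A₁ K'').comp (eΓ : Γ(Y₁, ⊤) →+* A₁)).toAlgebra
  have h1 := H K'' (show algebraMap Γ(Y₁, ⊤) K'' g₁ ≠ 0 from hK'')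
  obtain ⟨e⟩ := key K''
  exact e.hom.homeomorph.surjective.connectedSpace e.hom.homeomorph.continuous

open Groth.Agent.Lib.Helper78.GenFibre Groth.Agent.Lib.Helper78.GenFibreGeom in
/-- **Geometric connectedness of the generic fibre spreads out** (pointwise form). -/
theorem exists_open_forall_GC {X Y : Scheme.{u}} (f : X ⟶ Y) [IrreducibleSpace Y]
    [LocallyOfFiniteType f] [QuasiCompact f] (h : GC f (genericPoint Y)) :
    ∃ V : Y.Opens, (V : Set Y).Nonempty ∧ ∀ y ∈ V, GC f y := by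
  classical
  obtain ⟨_, ⟨V, hV : IsAffineOpen V, rfl⟩, hηV, -⟩ :=
    Y.isBasis_affineOpens.exists_subset_of_mem_open (Set.mem_univ (genericPoint Y)) isOpen_univ
  obtain ⟨p₀, hp₀, hmin⟩ := exists_generic_prime hV hηV
  obtain ⟨p, hpdef⟩ : ∃ p : Ideal Γ(Y, V), p = (show PrimeSpectrum Γ(Y, V) from p₀).asIdeal :=
    ⟨_, rfl⟩
  have hpprime : p.IsPrime := hpdef ▸ (show PrimeSpectrum Γ(Y, V) from p₀).isPrime
  rw [← hpdef] at hmin
  -- the algebraic closure of the function field and the integral closure of the base in it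
  have hinjΩ : Function.Injective (algebraMap (Γ(Y, V) ⧸ p)
      (AlgebraicClosure (FractionRing (Γ(Y, V) ⧸ p)))) := by
    rw [IsScalarTower.algebraMap_eq (Γ(Y, V) ⧸ p) (FractionRing (Γ(Y, V) ⧸ p))]
    exact (algebraMap (FractionRing (Γ(Y, V) ⧸ p)) _).injective.comp
      (IsFractionRing.injective _ _)
  have hinj01 : Function.Injective (algebraMap (Γ(Y, V) ⧸ p)
      (integralClosure (Γ(Y, V) ⧸ p) (AlgebraicClosure (FractionRing (Γ(Y, V) ⧸ p))))) := by
    intro x y hxy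
    apply hinjΩ
    have := congrArg (algebraMap (integralClosure (Γ(Y, V) ⧸ p)
      (AlgebraicClosure (FractionRing (Γ(Y, V) ⧸ p))))
      (AlgebraicClosure (FractionRing (Γ(Y, V) ⧸ p)))) hxy
    rwa [← IsScalarTower.algebraMap_apply, ← IsScalarTower.algebraMap_apply] at this
  have halg : Algebra.IsAlgebraic (Γ(Y, V) ⧸ p)
      (AlgebraicClosure (FractionRing (Γ(Y, V) ⧸ p))) := by
    have : Algebra.IsAlgebraic (Γ(Y, V) ⧸ p) (FractionRing (Γ(Y, V) ⧸ p)) :=
      IsLocalization.isAlgebraic (FractionRing (Γ(Y, V) ⧸ p)) (nonZeroDivisors (Γ(Y, V) ⧸ p))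
    exact Algebra.IsAlgebraic.trans (Γ(Y, V) ⧸ p) (FractionRing (Γ(Y, V) ⧸ p)) _
  have hfracA₁ : IsFractionRing (integralClosure (Γ(Y, V) ⧸ p)
      (AlgebraicClosure (FractionRing (Γ(Y, V) ⧸ p))))
      (AlgebraicClosure (FractionRing (Γ(Y, V) ⧸ p))) :=
    integralClosure.isFractionRing_of_algebraic (fun x hx => hinjΩ (by rw [hx, map_zero]))
  have hker₀ : ∀ a : Γ(Y, V),
      algebraMap Γ(Y, V) (AlgebraicClosure (FractionRing (Γ(Y, V) ⧸ p))) a = 0 ↔ a ∈ p := by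
    intro a
    rw [IsScalarTower.algebraMap_apply Γ(Y, V) (Γ(Y, V) ⧸ p), map_eq_zero_iff _ hinjΩ,
      Ideal.Quotient.algebraMap_eq, Ideal.Quotient.eq_zero_iff_mem]
  have hT₀ : ConnectedSpace ↥(pullback f (Spec.map (CommRingCat.ofHom (algebraMap Γ(Y, V)
      (AlgebraicClosure (FractionRing (Γ(Y, V) ⧸ p))))) ≫ hV.fromSpec)) := by
    apply h
    intro x
    rw [Scheme.Hom.comp_apply, ← hp₀]
    congr 1
    refine (SpecMap_apply_eq_iff _ x p₀).2 ?_
    intro a
    rw [← hpdef]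
    exact hker₀ a
  obtain ⟨a₁, ha₁, H₁⟩ := exists_connected_of_baseChange f hV
    (integralClosure (Γ(Y, V) ⧸ p) (AlgebraicClosure (FractionRing (Γ(Y, V) ⧸ p))))
    (AlgebraicClosure (FractionRing (Γ(Y, V) ⧸ p)))
  obtain ⟨a', ha', Ha⟩ := lift_integral hinj01 a₁ ha₁
  obtain ⟨a, rfl⟩ := Ideal.Quotient.mk_surjective a'
  have hap : a ∉ p := fun hmem => ha' (Ideal.Quotient.eq_zero_iff_mem.2 hmem)
  refine ⟨hV.fromSpec ''ᵁ (PrimeSpectrum.basicOpen a), ⟨hV.fromSpec p₀, p₀, ?_, rfl⟩, ?_⟩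
  · show a ∉ (show PrimeSpectrum Γ(Y, V) from p₀).asIdeal
    rw [← hpdef]
    exact hap
  rintro _ ⟨q, hq, rfl⟩
  replace hq : a ∉ (show PrimeSpectrum Γ(Y, V) from q).asIdeal := hq
  show GC f (hV.fromSpec q)
  intro K' _ z hz
  -- `z` factors through the chart
  have hrange : Set.range z ⊆ Set.range hV.fromSpec := by
    rintro _ ⟨x, rfl⟩
    rw [hz x]
    exact ⟨q, rfl⟩
  have hz' : IsOpenImmersion.lift hV.fromSpec z hrange ≫ hV.fromSpec = z :=
    IsOpenImmersion.lift_fac _ _ _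
  obtain ⟨ψ, hψ⟩ := Spec.map_surjective (IsOpenImmersion.lift hV.fromSpec z hrange)
  rw [← hψ] at hz'
  have hpt : ∀ x : Spec (CommRingCat.of K'), Spec.map ψ x = q := by
    intro x
    apply hV.fromSpec.isOpenEmbedding.injective
    rw [← Scheme.Hom.comp_apply, hz', hz x]
  obtain ⟨x₀⟩ : Nonempty (Spec (CommRingCat.of K')) := inferInstance
  have hker := (SpecMap_apply_eq_iff ψ x₀ q).1 (hpt x₀)
  rw [← hz']
  letI : Algebra Γ(Y, V) K' := ψ.hom.toAlgebra
  have hker' : ∀ x ∈ p, algebraMap Γ(Y, V) K' x = 0 := by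
    intro x hx
    have hprime : (RingHom.ker (algebraMap Γ(Y, V) K')).IsPrime := RingHom.ker_isPrime _
    exact hmin _ hprime hx
  letI : Algebra (Γ(Y, V) ⧸ p) K' :=
    (Ideal.Quotient.lift p (algebraMap Γ(Y, V) K') hker').toAlgebra
  have : IsScalarTower Γ(Y, V) (Γ(Y, V) ⧸ p) K' := IsScalarTower.of_algebraMap_eq (fun _ => rfl)
  have haK' : algebraMap (Γ(Y, V) ⧸ p) K' (Ideal.Quotient.mk p a) ≠ 0 := by
    show ψ.hom a ≠ 0
    intro h0
    exact hq ((hker a).1 h0)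
  obtain ⟨K'', _, _, _, ha₁K'', hcomp⟩ := Ha K' haK'
  letI : Algebra Γ(Y, V) K'' := ((algebraMap (integralClosure (Γ(Y, V) ⧸ p)
    (AlgebraicClosure (FractionRing (Γ(Y, V) ⧸ p)))) K'').comp (algebraMap Γ(Y, V) _)).toAlgebra
  have : IsScalarTower Γ(Y, V) (integralClosure (Γ(Y, V) ⧸ p)
    (AlgebraicClosure (FractionRing (Γ(Y, V) ⧸ p)))) K'' :=
    IsScalarTower.of_algebraMap_eq (fun _ => rfl)
  have hconn'' := H₁ K'' ha₁K''
  have hfac : Spec.map (CommRingCat.ofHom (algebraMap Γ(Y, V) K'')) =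
      Spec.map (CommRingCat.ofHom (algebraMap K' K'')) ≫ Spec.map ψ := by
    rw [← Spec.map_comp]
    congr 1
    ext x
    have h1 := congrArg (fun φ => φ (Ideal.Quotient.mk p x)) hcomp
    simp only [RingHom.coe_comp, Function.comp_apply] at h1
    show algebraMap (integralClosure (Γ(Y, V) ⧸ p)
        (AlgebraicClosure (FractionRing (Γ(Y, V) ⧸ p)))) K''
      (algebraMap Γ(Y, V) (integralClosure (Γ(Y, V) ⧸ p)
        (AlgebraicClosure (FractionRing (Γ(Y, V) ⧸ p)))) x) = algebraMap K' K'' (ψ.hom x)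
    rw [IsScalarTower.algebraMap_apply Γ(Y, V) (Γ(Y, V) ⧸ p)
      (integralClosure (Γ(Y, V) ⧸ p) (AlgebraicClosure (FractionRing (Γ(Y, V) ⧸ p))))]
    exact h1.symm
  have : ConnectedSpace ↥(pullback f (Spec.map (CommRingCat.ofHom (algebraMap K' K'')) ≫
      (Spec.map ψ ≫ hV.fromSpec))) := by
    rw [← Category.assoc, ← hfac]
    exact hconn''
  exact connectedSpace_pullback_of_field_ext f (algebraMap K' K'') (Spec.map ψ ≫ hV.fromSpec)

/-- **EGA IV 9.7.7 / Stacks 055G**: if the generic fibre is geometrically connected, so is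
`f` over a nonempty open. -/
theorem exists_open_geometricallyConnected_restrict {X Y : Scheme.{u}} (f : X ⟶ Y)
    [IrreducibleSpace Y] [LocallyOfFiniteType f] [QuasiCompact f]
    (h : GeometricallyConnected (f.fiberToSpecResidueField (genericPoint Y))) :
    ∃ V : Y.Opens, (V : Set Y).Nonempty ∧ GeometricallyConnected (f ∣_ V) := by
  obtain ⟨V, hV, H⟩ := exists_open_forall_GC f (GC_of_geometricallyConnected_fiber f _ h)
  exact ⟨V, hV, geometricallyConnected_restrict_of_forall_GC f V H⟩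

end Sch

end Groth.Agent.Lib.Helper78.GeomConn
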