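import Mathlib
import Groth.Prelude
import Groth.Agent.Lib.Helper78.GeomConn

/-!
# Counting the irreducible components of the geometric fibres near the generic point

For `f : X ⟶ Y` of finite type and an affine chart `V` of `Y` whose ring of sections is a domain
with algebraically closed fraction field, the number of irreducible components of
`X ×_Y Spec K''` is the same for all field-valued points `Spec K'' ⟶ V` outside a proper closed
subset (`exists_count_acl`, `exists_count_points`).  (EGA IV 9.7.8 / Stacks 0554.)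
-/

set_option autoImplicit false
set_option linter.style.haveILetI false
universe u
open TensorProduct

namespace Groth.Agent.Lib.Helper78.GeomCount

open Groth.Agent.Lib.Helper78.GeomIrr Groth.Agent.Lib.Helper78.GeomConn

/-! ### part K1 -/
/-- Counting irreducible components: finitely many irreducible sets whose closures cover the
space and none of which lies in the closure of another one. -/
theorem encard_irreducibleComponents_eq_card {T : Type*} [TopologicalSpace T] {ι : Type*}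
    [Fintype ι] (P : ι → Set T) (hirr : ∀ i, IsIrreducible (P i))
    (hcov : ∀ t, ∃ i, t ∈ closure (P i)) (hne : ∀ i j, P i ⊆ closure (P j) → i = j) :
    (irreducibleComponents T).encard = Fintype.card ι := by
  classical
  have hsub : ∀ S : Set T, IsIrreducible S → ∃ j, S ⊆ closure (P j) := by
    intro S hS
    have h1 := (isIrreducible_iff_sUnion_isClosed.1 hS)
      (Finset.univ.image (fun i => closure (P i))) (by
        intro z hz
        obtain ⟨i, -, rfl⟩ := Finset.mem_image.1 hz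
        exact isClosed_closure) (by
        intro t _
        obtain ⟨i, hi⟩ := hcov t
        exact Set.mem_sUnion.2 ⟨_, Finset.mem_coe.2 (Finset.mem_image.2 ⟨i, Finset.mem_univ _, rfl⟩), hi⟩)
    obtain ⟨z, hz, hSz⟩ := h1
    obtain ⟨j, -, rfl⟩ := Finset.mem_image.1 hz
    exact ⟨j, hSz⟩
  have hinj : Function.Injective (fun i => closure (P i)) := by
    intro i j hij
    apply hne
    have : closure (P i) = closure (P j) := hij
    rw [← this]
    exact subset_closure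
  have hrange : irreducibleComponents T = Set.range (fun i => closure (P i)) := by
    apply Set.eq_of_subset_of_subset
    · intro S hS
      obtain ⟨j, hj⟩ := hsub S hS.1
      have := hS.2 (hirr j).closure hj
      exact ⟨j, Set.eq_of_subset_of_subset this hj⟩
    · rintro _ ⟨i, rfl⟩
      refine ⟨(hirr i).closure, ?_⟩
      intro S hS hiS
      obtain ⟨j, hj⟩ := hsub S hS
      have hij : i = j := hne i j ((subset_closure.trans hiS).trans hj)
      subst hij
      exact hj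
  rw [hrange, ← Set.image_univ, hinj.encard_image, Set.encard_univ, ENat.card_eq_coe_fintype_card]

/-! ### part K2 -/
open Groth.Agent.Lib.Helper78 in
/-- The "irreducible components" of a chart, spread out, as points of the spectrum: finitely
many primes of `B`, contracted from the minimal primes of the generic fibre `K ⊗ B`, whose
quotients have irreducible fibres and whose zero loci cover every fibre, over a nonempty open of
the base. -/
theorem exists_primes {A B K : Type u} [CommRing A] [IsDomain A] [Field K] [Algebra A K]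
    [IsFractionRing A K] [IsAlgClosed K] [CommRing B] [Algebra A B] [Algebra.FiniteType A B] :
    ∃ (𝓟 : Finset (PrimeSpectrum B)) (g : A), g ≠ 0 ∧
      (∀ x ∈ 𝓟, ∃ P : PrimeSpectrum (K ⊗[A] B), P.asIdeal ∈ minimalPrimes (K ⊗[A] B) ∧
        PrimeSpectrum.comap (Algebra.TensorProduct.includeRight :
          B →ₐ[A] K ⊗[A] B).toRingHom P = x) ∧
      ∀ (K'' : Type u) [Field K''] [Algebra A K''], algebraMap A K'' g ≠ 0 →
      (∀ x ∈ 𝓟, IrrSpec (K'' ⊗[A] (B ⧸ x.asIdeal))) ∧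
      ∀ q : Ideal (K'' ⊗[A] B), q.IsPrime → ∃ x ∈ 𝓟,
        x.asIdeal ≤ q.comap (Algebra.TensorProduct.includeRight : B →ₐ[A] K'' ⊗[A] B) := by
  classical
  have hnoeth : IsNoetherianRing (K ⊗[A] B) := Algebra.FiniteType.isNoetherianRing K _
  have hfin := minimalPrimes.finite_of_isNoetherianRing (R := K ⊗[A] B)
  have hfin' : {P : PrimeSpectrum (K ⊗[A] B) | P.asIdeal ∈ minimalPrimes (K ⊗[A] B)}.Finite :=
    hfin.preimage (fun P _ P' _ h => PrimeSpectrum.ext h)
  let 𝓟 : Finset (PrimeSpectrum B) := hfin'.toFinset.image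
    (PrimeSpectrum.comap (Algebra.TensorProduct.includeRight : B →ₐ[A] K ⊗[A] B).toRingHom)
  have h𝓟 : ∀ x ∈ 𝓟, ∃ P : PrimeSpectrum (K ⊗[A] B), P.asIdeal ∈ minimalPrimes (K ⊗[A] B) ∧
      PrimeSpectrum.comap (Algebra.TensorProduct.includeRight :
        B →ₐ[A] K ⊗[A] B).toRingHom P = x := by
    intro x hx
    obtain ⟨P, hP, rfl⟩ := Finset.mem_image.1 hx
    exact ⟨P, hfin'.mem_toFinset.1 hP, rfl⟩
  have hI : ∀ x ∈ 𝓟, ∃ g : A, g ≠ 0 ∧ ∀ (K'' : Type u) [Field K''] [Algebra A K''],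
      algebraMap A K'' g ≠ 0 → IrrSpec (K'' ⊗[A] (B ⧸ x.asIdeal)) := by
    intro x hx
    obtain ⟨P, hPmin, rfl⟩ := h𝓟 x hx
    have : P.asIdeal.IsPrime := P.isPrime
    exact exists_irr_acl (K := K) (irrSpec_tensor_quotient_comap P.asIdeal)
  choose! G hG₀ hG using hI
  obtain ⟨g₀, hg₀, H₀⟩ := Groth.Agent.Lib.Helper18.exists_free_tensor_dvd (R := A) B B
  have hfree : Module.Free (Localization.Away g₀) (Localization.Away g₀ ⊗[A] B) :=
    H₀ g₀ dvd_rfl hg₀ _
  refine ⟨𝓟, g₀ * ∏ x ∈ 𝓟, G x,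
    mul_ne_zero hg₀ (Finset.prod_ne_zero_iff.2 (fun x hx => hG₀ x hx)), h𝓟, ?_⟩
  intro K'' _ _ hK''
  rw [map_mul, map_prod] at hK''
  have h0 : algebraMap A K'' g₀ ≠ 0 := left_ne_zero_of_mul hK''
  have hprod := right_ne_zero_of_mul hK''
  refine ⟨fun x hx => hG x hx K'' (Finset.prod_ne_zero_iff.1 hprod x hx), ?_⟩
  intro q hq
  have hq₀ : (q.comap (Algebra.TensorProduct.includeRight : B →ₐ[A] K'' ⊗[A] B)).IsPrime :=
    Ideal.comap_isPrime _ q
  have hle : ∏ x ∈ 𝓟, x.asIdeal ≤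
      q.comap (Algebra.TensorProduct.includeRight : B →ₐ[A] K'' ⊗[A] B) := by
    intro b hb
    have hbI : ∀ x ∈ 𝓟, b ∈ x.asIdeal := fun x hx =>
      (Finset.inf_le (f := fun y : PrimeSpectrum B => y.asIdeal) hx :
        𝓟.inf (fun y => y.asIdeal) ≤ x.asIdeal) (Ideal.prod_le_inf hb)
    have hnil : (1 : K) ⊗ₜ[A] b ∈ (⊥ : Ideal (K ⊗[A] B)).radical := by
      rw [← Ideal.sInf_minimalPrimes, Ideal.mem_sInf]
      intro P hP
      have hPprime : P.IsPrime := hP.1.1
      have : b ∈ (PrimeSpectrum.comap (Algebra.TensorProduct.includeRight :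
          B →ₐ[A] K ⊗[A] B).toRingHom ⟨P, hPprime⟩).asIdeal :=
        hbI _ (Finset.mem_image.2 ⟨⟨P, hPprime⟩, hfin'.mem_toFinset.2 hP, rfl⟩)
      exact this
    obtain ⟨m, hm⟩ := hnil
    rw [Ideal.mem_bot, Algebra.TensorProduct.tmul_pow, one_pow] at hm
    obtain ⟨t, ht, htx⟩ := SchDense.exists_smul_eq_zero_of_tmul_eq_zero_field
      (IsFractionRing.injective A K) (b ^ m) hm
    obtain ⟨k, hk⟩ := SchDense.exists_pow_smul_eq_zero_of_torsion g₀ hg₀ (b ^ m) t ht htx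
    have h1 : ((algebraMap A K'' g₀) ^ k) ⊗ₜ[A] (b ^ m) = 0 := by
      rw [← map_pow, Algebra.algebraMap_eq_smul_one, TensorProduct.smul_tmul, hk,
        TensorProduct.tmul_zero]
    have h2 : ((1 : K'') ⊗ₜ[A] b) ^ m = 0 := by
      rw [Algebra.TensorProduct.tmul_pow, one_pow]
      have h3 : ((algebraMap A K'' g₀) ^ k)⁻¹ • (((algebraMap A K'' g₀) ^ k) ⊗ₜ[A] (b ^ m)) =
          (1 : K'') ⊗ₜ[A] (b ^ m) := by
        rw [TensorProduct.smul_tmul', smul_eq_mul, inv_mul_cancel₀ (pow_ne_zero _ h0)]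
      rw [← h3, h1, smul_zero]
    rw [Ideal.mem_comap]
    apply hq.mem_of_pow_mem m
    show ((1 : K'') ⊗ₜ[A] b) ^ m ∈ q
    rw [h2]
    exact Submodule.zero_mem _
  obtain ⟨x, hx, hxq⟩ := (Ideal.IsPrime.prod_le hq₀).1 hle
  exact ⟨x, hx, hxq⟩

section Sch

open AlgebraicGeometry CategoryTheory Limits

/-! ### part K3 -/
/-- The closure of a point of an affine chart, inside the chart. -/
theorem closure_singleton_inter {X : Scheme.{u}} {W : X.Opens} (hW : IsAffineOpen W)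
    (x : PrimeSpectrum Γ(X, W)) :
    closure {hW.fromSpec x} ∩ (W : Set X) =
      hW.fromSpec '' (PrimeSpectrum.zeroLocus (x.asIdeal : Set Γ(X, W))) := by
  rw [← PrimeSpectrum.closure_singleton x]
  have h1 := hW.fromSpec.isOpenEmbedding.isInducing.closure_eq_preimage_closure_image
    ({x} : Set (Spec Γ(X, W)))
  have h0 : hW.fromSpec '' ({x} : Set (Spec Γ(X, W))) = {hW.fromSpec x} := Set.image_singleton
  have h2 : hW.fromSpec '' (closure ({x} : Set (Spec Γ(X, W)))) =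
      closure {hW.fromSpec x} ∩ Set.range hW.fromSpec := by
    rw [h1, Set.image_preimage_eq_inter_range, h0]
  rw [hW.range_fromSpec] at h2
  exact h2.symm

/-- The components of a chart, spread out, as points of `X`. -/
theorem exists_chart_points {X Y : Scheme.{u}} (f : X ⟶ Y) [LocallyOfFiniteType f]
    {V : Y.Opens} (hV : IsAffineOpen V) [IsDomain Γ(Y, V)] (K : Type u) [Field K]
    [Algebra Γ(Y, V) K] [IsFractionRing Γ(Y, V) K] [IsAlgClosed K] {W : X.Opens}
    (hW : IsAffineOpen W) (e : W ≤ f ⁻¹ᵁ V) :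
    ∃ (Ξ : Finset X) (g : Γ(Y, V)), g ≠ 0 ∧
      (∀ ξ ∈ Ξ, ξ ∈ W ∧
        (∃ t : ↥(pullback f (Spec.map (CommRingCat.ofHom (algebraMap Γ(Y, V) K)) ≫ hV.fromSpec)),
          pullback.fst f _ t = ξ) ∧
        ∀ t' : ↥(pullback f (Spec.map (CommRingCat.ofHom (algebraMap Γ(Y, V) K)) ≫ hV.fromSpec)),
          pullback.fst f _ t' ⤳ ξ → pullback.fst f _ t' = ξ) ∧
      ∀ (K'' : Type u) [Field K''] [Algebra Γ(Y, V) K''], algebraMap Γ(Y, V) K'' g ≠ 0 →
        (∀ ξ ∈ Ξ, IsIrreducible (piece f hV (closure {ξ} ∩ (W : Set X)) K'')) ∧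
        piece f hV (W : Set X) K'' ⊆ ⋃ ξ ∈ Ξ, piece f hV (closure {ξ} ∩ (W : Set X)) K'' := by
  classical
  let _ : Algebra Γ(Y, V) Γ(X, W) := (f.appLE V W e).hom.toAlgebra
  have : Algebra.FiniteType Γ(Y, V) Γ(X, W) := f.finiteType_appLE hV hW e
  obtain ⟨𝓟, g, hg, hmin, H⟩ := exists_primes (A := Γ(Y, V)) (B := Γ(X, W)) (K := K)
  refine ⟨𝓟.image (fun x : PrimeSpectrum Γ(X, W) => hW.fromSpec x), g, hg, ?_, ?_⟩
  · intro ξ hξ
    obtain ⟨x, hx, rfl⟩ := Finset.mem_image.1 hξ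
    obtain ⟨P, hPmin, hPx⟩ := hmin x hx
    obtain ⟨j, -, hjr, hjfst⟩ := exists_chart_embedding' f hV hW e K
    refine ⟨?_, ⟨j P, ?_⟩, ?_⟩
    · rw [← SetLike.mem_coe, ← hW.range_fromSpec]
      exact ⟨x, rfl⟩
    · rw [hjfst, hPx]
    · intro t' ht'
      have hmemW : hW.fromSpec x ∈ (W : Set X) := by
        rw [← hW.range_fromSpec]
        exact ⟨x, rfl⟩
      have ht'W : pullback.fst f _ t' ∈ (W : Set X) := ht'.mem_open W.isOpen hmemW
      have ht'r : t' ∈ Set.range j := by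
        rw [hjr]
        exact ht'W
      obtain ⟨P'', rfl⟩ := ht'r
      rw [hjfst] at ht' ⊢
      have hsp : PrimeSpectrum.comap (Algebra.TensorProduct.includeRight :
          Γ(X, W) →ₐ[Γ(Y, V)] K ⊗[Γ(Y, V)] Γ(X, W)).toRingHom P'' ⤳ x :=
        (hW.fromSpec.isOpenEmbedding.isInducing.specializes_iff).1 ht'
      have hle : (PrimeSpectrum.comap (Algebra.TensorProduct.includeRight :
          Γ(X, W) →ₐ[Γ(Y, V)] K ⊗[Γ(Y, V)] Γ(X, W)).toRingHom P'').asIdeal ≤ x.asIdeal :=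
        (PrimeSpectrum.le_iff_specializes _ _).2 hsp
      rw [← hPx] at hle
      have hle2 : P''.asIdeal ≤ P.asIdeal := by
        rw [← map_comap_includeRight (A := Γ(Y, V)) P''.asIdeal,
          ← map_comap_includeRight (A := Γ(Y, V)) P.asIdeal]
        exact Ideal.map_mono hle
      have hle3 : P.asIdeal ≤ P''.asIdeal := hPmin.2 ⟨P''.isPrime, bot_le⟩ hle2
      have hPP : P'' = P := PrimeSpectrum.ext (le_antisymm hle2 hle3)
      rw [hPP, hPx]
  · intro K'' _ _ hK''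
    obtain ⟨H1, H2⟩ := H K'' hK''
    refine ⟨?_, ?_⟩
    · intro ξ hξ
      obtain ⟨x, hx, rfl⟩ := Finset.mem_image.1 hξ
      rw [closure_singleton_inter hW x]
      exact piece_isIrreducible f hV hW e x.asIdeal K'' (H1 x hx)
    · intro t ht
      obtain ⟨j, -, hjr, hjfst⟩ := exists_chart_embedding' f hV hW e K''
      have htr : t ∈ Set.range j := by
        rw [hjr]
        exact ht
      obtain ⟨q, rfl⟩ := htr
      obtain ⟨x, hx, hxq⟩ := H2 q.asIdeal q.isPrime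
      refine Set.mem_iUnion₂.2 ⟨_, Finset.mem_image.2 ⟨x, hx, rfl⟩, ?_⟩
      show pullback.fst f _ (j q) ∈ closure {hW.fromSpec x} ∩ (W : Set X)
      rw [closure_singleton_inter hW x, hjfst]
      exact ⟨_, hxq, rfl⟩

/-! ### part K4 -/
theorem closure_inter_open_aux {X : Type*} [TopologicalSpace X] (ξ : X) (W : Set X) :
    closure {ξ} ∩ W ⊆ W ∧ closure (closure {ξ} ∩ W) ∩ W ⊆ closure {ξ} ∩ W :=
  ⟨Set.inter_subset_right, fun _ hx =>
    ⟨closure_minimal Set.inter_subset_left isClosed_closure hx.1, hx.2⟩⟩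

/-- Two charts of the closure of a point of the generic geometric fibre keep meeting in the
nearby fibres. -/
theorem exists_same_witness {X Y : Scheme.{u}} (f : X ⟶ Y) [LocallyOfFiniteType f]
    {V : Y.Opens} (hV : IsAffineOpen V) [IsDomain Γ(Y, V)] (K : Type u) [Field K]
    [Algebra Γ(Y, V) K] (hinj : Function.Injective (algebraMap Γ(Y, V) K)) (W W' : X.Opens)
    (hWV : W ≤ f ⁻¹ᵁ V) (ξ : X)
    (hξ : ∃ t : ↥(pullback f (Spec.map (CommRingCat.ofHom (algebraMap Γ(Y, V) K)) ≫ hV.fromSpec)),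
      pullback.fst f _ t = ξ) :
    ∃ g : Γ(Y, V), g ≠ 0 ∧ ∀ (K'' : Type u) [Field K''] [Algebra Γ(Y, V) K''],
      algebraMap Γ(Y, V) K'' g ≠ 0 → ξ ∈ W → ξ ∈ W' →
      (piece f hV (closure {ξ} ∩ (W : Set X)) K'' ∩
        piece f hV (closure {ξ} ∩ (W' : Set X)) K'').Nonempty := by
  by_cases hmem : ξ ∈ W ∧ ξ ∈ W'
  · obtain ⟨t, ht⟩ := hξ
    obtain ⟨g, hg, H⟩ := exists_pair_witness f hV K hinj (W := W) (W' := W') hWV
      (closure {ξ} ∩ (W : Set X)) (closure {ξ} ∩ (W' : Set X))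
      (closure_inter_open_aux ξ _) (closure_inter_open_aux ξ _)
      ⟨t, by
        show pullback.fst f _ t ∈ closure {ξ} ∩ (W : Set X)
        rw [ht]
        exact ⟨subset_closure rfl, hmem.1⟩, by
        show pullback.fst f _ t ∈ closure {ξ} ∩ (W' : Set X)
        rw [ht]
        exact ⟨subset_closure rfl, hmem.2⟩⟩
    exact ⟨g, hg, fun K'' _ _ hK'' _ _ => H K'' hK''⟩
  · exact ⟨1, one_ne_zero, fun K'' _ _ _ h1 h2 => absurd ⟨h1, h2⟩ hmem⟩

/-- A point of the generic geometric fibre which is not a specialisation of another point `ξ'`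
keeps, in the nearby fibres, a part of its closure outside the closure of `ξ'`. -/
theorem exists_diff_witness {X Y : Scheme.{u}} (f : X ⟶ Y) [LocallyOfFiniteType f]
    {V : Y.Opens} (hV : IsAffineOpen V) [IsDomain Γ(Y, V)] (K : Type u) [Field K]
    [Algebra Γ(Y, V) K] (hinj : Function.Injective (algebraMap Γ(Y, V) K)) (W : X.Opens)
    (hWV : W ≤ f ⁻¹ᵁ V) (ξ ξ' : X)
    (hξ : ∃ t : ↥(pullback f (Spec.map (CommRingCat.ofHom (algebraMap Γ(Y, V) K)) ≫ hV.fromSpec)),
      pullback.fst f _ t = ξ) :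
    ∃ g : Γ(Y, V), g ≠ 0 ∧ ∀ (K'' : Type u) [Field K''] [Algebra Γ(Y, V) K''],
      algebraMap Γ(Y, V) K'' g ≠ 0 → ξ ∈ W → ¬ ξ' ⤳ ξ →
      ¬ piece f hV (closure {ξ} ∩ (W : Set X)) K'' ⊆ piece f hV (closure {ξ'}) K'' := by
  by_cases hmem : ξ ∈ W ∧ ¬ ξ' ⤳ ξ
  · obtain ⟨hξW, hsp⟩ := hmem
    have hnot : ξ ∉ closure ({ξ'} : Set X) := fun h => hsp (specializes_iff_mem_closure.2 h)
    let U : X.Opens := ⟨(closure ({ξ'} : Set X))ᶜ, isClosed_closure.isOpen_compl⟩
    obtain ⟨g, hg, H⟩ := exists_same_witness f hV K hinj W (W ⊓ U) hWV ξ hξ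
    refine ⟨g, hg, fun K'' _ _ hK'' _ _ hsub => ?_⟩
    obtain ⟨t, ht, ht'⟩ := H K'' hK'' hξW ⟨hξW, hnot⟩
    have h1 : pullback.fst f _ t ∈ closure ({ξ'} : Set X) := hsub ht
    have h2 : pullback.fst f _ t ∈ closure {ξ} ∩ ((W ⊓ U : X.Opens) : Set X) := ht'
    exact h2.2.2 h1
  · refine ⟨1, one_ne_zero, fun K'' _ _ _ h1 h2 => absurd ⟨h1, h2⟩ hmem⟩

/-! ### part K5 -/
/-- **The number of irreducible components of the geometric fibres is constant near the generic
point** when the function field of the base chart is algebraically closed. -/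
theorem exists_count_acl {X Y : Scheme.{u}} (f : X ⟶ Y) [LocallyOfFiniteType f]
    [QuasiCompact f] {V : Y.Opens} (hV : IsAffineOpen V) [IsDomain Γ(Y, V)] (K : Type u) [Field K]
    [Algebra Γ(Y, V) K] [IsFractionRing Γ(Y, V) K] [IsAlgClosed K] :
    ∃ (n : ℕ) (g : Γ(Y, V)), g ≠ 0 ∧ ∀ (K'' : Type u) [Field K''] [Algebra Γ(Y, V) K''],
      algebraMap Γ(Y, V) K'' g ≠ 0 →
      (irreducibleComponents ↥(pullback f (Spec.map (CommRingCat.ofHom
        (algebraMap Γ(Y, V) K'')) ≫ hV.fromSpec))).encard = n := by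
  classical
  have hinj : Function.Injective (algebraMap Γ(Y, V) K) := IsFractionRing.injective _ _
  -- a finite affine cover of `f⁻¹ V`
  have hcompact : IsCompact ((f ⁻¹ᵁ V : X.Opens) : Set X) := f.isCompact_preimage hV.isCompact
  obtain ⟨𝒲, h𝒲fin, h𝒲⟩ := isCompact_and_isOpen_iff_finite_and_eq_biUnion_affineOpens.1
    ⟨hcompact, (f ⁻¹ᵁ V).isOpen⟩
  have hle : ∀ W ∈ 𝒲, (W : X.Opens) ≤ f ⁻¹ᵁ V := by
    intro W hW x hx
    have : x ∈ ⋃ i ∈ 𝒲, ((i : X.Opens) : Set X) := Set.mem_biUnion hW hx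
    rw [← h𝒲] at this
    exact this
  have hcover : ∀ (K'' : Type u) [Field K''] [Algebra Γ(Y, V) K'']
      (t : ↥(pullback f (Spec.map (CommRingCat.ofHom (algebraMap Γ(Y, V) K'')) ≫ hV.fromSpec))),
      ∃ W : 𝒲, t ∈ piece f hV ((W.1 : X.Opens) : Set X) K'' := by
    intro K'' _ _ t
    have hx' : pullback.fst f _ t ∈ ((f ⁻¹ᵁ V : X.Opens) : Set X) := fst_mem_preimage f hV _ t
    rw [h𝒲] at hx'
    obtain ⟨W, hW, hxW⟩ := Set.mem_iUnion₂.1 hx'
    exact ⟨⟨W, hW⟩, hxW⟩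
  have := h𝒲fin.fintype
  -- the generic points of the components, chart by chart
  have hpts : ∀ W : 𝒲, _ := fun W => exists_chart_points f hV K W.1.2 (hle W.1 W.2)
  choose ΞW G1 hG1 hΞW hG1' using hpts
  obtain ⟨Ξ, hΞdef⟩ : ∃ Ξ : Finset X, Ξ = Finset.univ.biUnion ΞW := ⟨_, rfl⟩
  have hΞ : ∀ ξ : Ξ, ∃ W : 𝒲, ξ.1 ∈ ΞW W := fun ξ => by
    have h0 : ξ.1 ∈ Finset.univ.biUnion ΞW := hΞdef ▸ ξ.2
    obtain ⟨W, -, hW⟩ := Finset.mem_biUnion.1 h0
    exact ⟨W, hW⟩
  choose Wc hWc using hΞ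
  have hξW : ∀ ξ : Ξ, ξ.1 ∈ ((Wc ξ).1 : X.Opens) := fun ξ => (hΞW _ _ (hWc ξ)).1
  have hξt : ∀ ξ : Ξ, ∃ t : ↥(pullback f (Spec.map (CommRingCat.ofHom
      (algebraMap Γ(Y, V) K)) ≫ hV.fromSpec)), pullback.fst f _ t = ξ.1 :=
    fun ξ => (hΞW _ _ (hWc ξ)).2.1
  have hξmin : ∀ ξ : Ξ, ∀ t' : ↥(pullback f (Spec.map (CommRingCat.ofHom
      (algebraMap Γ(Y, V) K)) ≫ hV.fromSpec)),
      pullback.fst f _ t' ⤳ ξ.1 → pullback.fst f _ t' = ξ.1 :=
    fun ξ => (hΞW _ _ (hWc ξ)).2.2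
  -- the witnesses
  have h2 : ∀ P : Ξ × 𝒲 × 𝒲, _ := fun P =>
    exists_same_witness f hV K hinj (P.2.1.1 : X.Opens) (P.2.2.1 : X.Opens)
      (hle P.2.1.1 P.2.1.2) P.1.1 (hξt P.1)
  choose G2 hG2 hG2' using h2
  have h3 : ∀ P : Ξ × Ξ, _ := fun P =>
    exists_diff_witness f hV K hinj ((Wc P.1).1 : X.Opens) (hle (Wc P.1).1 (Wc P.1).2)
      P.1.1 P.2.1 (hξt P.1)
  choose G3 hG3 hG3' using h3
  refine ⟨Fintype.card Ξ, (∏ W : 𝒲, G1 W) * (∏ P : Ξ × 𝒲 × 𝒲, G2 P) * (∏ P : Ξ × Ξ, G3 P),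
    mul_ne_zero (mul_ne_zero (Finset.prod_ne_zero_iff.2 (fun W _ => hG1 W))
      (Finset.prod_ne_zero_iff.2 (fun P _ => hG2 P)))
      (Finset.prod_ne_zero_iff.2 (fun P _ => hG3 P)), ?_⟩
  intro K'' _ _ hK''
  rw [map_mul, map_mul, map_prod, map_prod, map_prod] at hK''
  have hne1 : ∀ W : 𝒲, algebraMap Γ(Y, V) K'' (G1 W) ≠ 0 := fun W =>
    Finset.prod_ne_zero_iff.1 (left_ne_zero_of_mul (left_ne_zero_of_mul hK'')) W (Finset.mem_univ _)
  have hne2 : ∀ P : Ξ × 𝒲 × 𝒲, algebraMap Γ(Y, V) K'' (G2 P) ≠ 0 := fun P =>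
    Finset.prod_ne_zero_iff.1 (right_ne_zero_of_mul (left_ne_zero_of_mul hK'')) P
      (Finset.mem_univ _)
  have hne3 : ∀ P : Ξ × Ξ, algebraMap Γ(Y, V) K'' (G3 P) ≠ 0 := fun P =>
    Finset.prod_ne_zero_iff.1 (right_ne_zero_of_mul hK'') P (Finset.mem_univ _)
  apply encard_irreducibleComponents_eq_card
    (fun ξ : Ξ => piece f hV (closure {ξ.1} ∩ (((Wc ξ).1 : X.Opens) : Set X)) K'')
  · intro ξ
    exact (hG1' (Wc ξ) K'' (hne1 _)).1 ξ.1 (hWc ξ)
  · intro t
    obtain ⟨W, hW⟩ := hcover K'' t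
    obtain ⟨ξ', hξ', ht⟩ := Set.mem_iUnion₂.1 ((hG1' W K'' (hne1 _)).2 hW)
    have hξ'Ξ : ξ' ∈ Ξ := by
      rw [hΞdef]
      exact Finset.mem_biUnion.2 ⟨W, Finset.mem_univ _, hξ'⟩
    refine ⟨⟨ξ', hξ'Ξ⟩, ?_⟩
    have hSirr := (hG1' W K'' (hne1 _)).1 ξ' hξ'
    have hUopen := isOpen_piece f hV ((Wc ⟨ξ', hξ'Ξ⟩).1 : X.Opens) K''
    obtain ⟨t₀, ht₀, ht₀'⟩ := hG2' (⟨ξ', hξ'Ξ⟩, W, Wc ⟨ξ', hξ'Ξ⟩) K'' (hne2 _)
      (hΞW W ξ' hξ').1 (hξW ⟨ξ', hξ'Ξ⟩)
    have h1 := subset_closure_inter_of_isPreirreducible_of_isOpen hSirr.2 hUopen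
      ⟨t₀, ht₀, ht₀'.2⟩
    refine closure_mono ?_ (h1 ht)
    rintro t₁ ⟨ht₁, ht₁'⟩
    exact ⟨ht₁.1, ht₁'⟩
  · intro ξ ξ' hsub
    by_contra hneq
    have hnsp : ¬ ξ'.1 ⤳ ξ.1 := by
      intro hsp
      obtain ⟨t', ht'⟩ := hξt ξ'
      have h1 := hξmin ξ t' (by rw [ht']; exact hsp)
      rw [ht'] at h1
      exact hneq (Subtype.ext h1.symm)
    refine hG3' (ξ, ξ') K'' (hne3 _) (hξW ξ) hnsp (hsub.trans ?_)
    refine closure_minimal (fun t ht => ht.1) ?_
    exact isClosed_closure.preimage (pullback.fst f _).continuous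

/-! ### part K6 -/
/-- homeomorphic spaces have the same number of irreducible components -/
theorem encard_irreducibleComponents_of_homeomorph {T T' : Type*} [TopologicalSpace T]
    [TopologicalSpace T'] (h : T ≃ₜ T') :
    (irreducibleComponents T).encard = (irreducibleComponents T').encard := by
  have e := irreducibleComponentsEquivOfIsPreirreducibleFiber h h.continuous h.isOpenMap
    (fun x => (Set.subsingleton_singleton.preimage h.injective).isPreirreducible) h.surjective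
  exact (Set.encard_congr e.toEquiv).symm

open Groth.Agent.Lib.Helper78.GenFibreGeom in
/-- The number of geometric irreducible components of the fibre over a point of an affine chart
of the base, computed with a field-valued point of the chart. -/
theorem nGeomIrredComp_eq_encard {X Y : Scheme.{u}} (f : X ⟶ Y) {V : Y.Opens}
    (hV : IsAffineOpen V) (q : Spec Γ(Y, V)) :
    ∃ (K'' : Type u) (_ : Field K'') (_ : Algebra Γ(Y, V) K''),
      (∀ a : Γ(Y, V), algebraMap Γ(Y, V) K'' a = 0 ↔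
        a ∈ (show PrimeSpectrum Γ(Y, V) from q).asIdeal) ∧
      MoreMor.nGeomIrredComp f (hV.fromSpec q) =
        (irreducibleComponents ↥(pullback f (Spec.map (CommRingCat.ofHom
          (algebraMap Γ(Y, V) K'')) ≫ hV.fromSpec))).encard := by
  obtain ⟨y', hy'⟩ : ∃ y' : Y, y' = hV.fromSpec q := ⟨_, rfl⟩
  rw [← hy']
  let K'' : Type u := SeparableClosure (Y.residueField y')
  let φ : Y.residueField y' ⟶ CommRingCat.of K'' :=
    CommRingCat.ofHom (algebraMap (Y.residueField y') K'')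
  let z : Spec (CommRingCat.of K'') ⟶ Y := Spec.map φ ≫ Y.fromSpecResidueField y'
  have hz : ∀ x : Spec (CommRingCat.of K''), z x = hV.fromSpec q := by
    intro x
    show (Spec.map φ ≫ Y.fromSpecResidueField y') x = _
    rw [Scheme.Hom.comp_apply, Scheme.fromSpecResidueField_apply, hy']
  have hrange : Set.range z ⊆ Set.range hV.fromSpec := by
    rintro _ ⟨x, rfl⟩
    rw [hz x]
    exact ⟨q, rfl⟩
  have hz' : IsOpenImmersion.lift hV.fromSpec z hrange ≫ hV.fromSpec = z :=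
    IsOpenImmersion.lift_fac _ _ _
  obtain ⟨ψ, hψ⟩ := Spec.map_surjective (IsOpenImmersion.lift hV.fromSpec z hrange)
  rw [← hψ] at hz'
  have hpt : ∀ x : Spec (CommRingCat.of K''), Spec.map ψ x = q := by
    intro x
    apply hV.fromSpec.isOpenEmbedding.injective
    rw [← Scheme.Hom.comp_apply, hz', hz x]
  obtain ⟨x₀⟩ : Nonempty (Spec (CommRingCat.of K'')) :=
    inferInstanceAs (Nonempty (PrimeSpectrum K''))
  have hker := (SpecMap_apply_eq_iff ψ x₀ q).1 (hpt x₀)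
  refine ⟨K'', inferInstance, ψ.hom.toAlgebra, hker, ?_⟩
  letI : Algebra Γ(Y, V) K'' := ψ.hom.toAlgebra
  show MoreMor.nGeomIrredComp f y' =
    (irreducibleComponents ↥(pullback f (Spec.map ψ ≫ hV.fromSpec))).encard
  rw [hz']
  let e2 : pullback (f.fiberToSpecResidueField y') (Spec.map φ) ≅
      pullback f (Spec.map φ ≫ Y.fromSpecResidueField y') :=
    pullbackLeftPullbackSndIso f (Y.fromSpecResidueField y') (Spec.map φ)
  exact encard_irreducibleComponents_of_homeomorph e2.hom.homeomorph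

/-- **The number of irreducible components of the geometric fibres is constant near the generic
point** when the function field of the base chart is algebraically closed, pointwise form. -/
theorem exists_count_points {X Y : Scheme.{u}} (f : X ⟶ Y) [LocallyOfFiniteType f]
    [QuasiCompact f] {V : Y.Opens} (hV : IsAffineOpen V) [IsDomain Γ(Y, V)] (K : Type u) [Field K]
    [Algebra Γ(Y, V) K] [IsFractionRing Γ(Y, V) K] [IsAlgClosed K] :
    ∃ (n : ℕ) (g : Γ(Y, V)), g ≠ 0 ∧ ∀ q : Spec Γ(Y, V),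
      g ∉ (show PrimeSpectrum Γ(Y, V) from q).asIdeal →
      MoreMor.nGeomIrredComp f (hV.fromSpec q) = n := by
  obtain ⟨n, g, hg, H⟩ := exists_count_acl f hV K
  refine ⟨n, g, hg, fun q hq => ?_⟩
  obtain ⟨K'', _, _, hker, hcount⟩ := nGeomIrredComp_eq_encard f hV q
  rw [hcount]
  exact H K'' (fun h0 => hq ((hker g).1 h0))

end Sch

end Groth.Agent.Lib.Helper78.GeomCount
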