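import Mathlib
import Groth.Prelude
import Groth.Agent.Lib.Helper78.GeomCount

/-!
# Counting the connected components of the geometric fibres near the generic point

For `f : X ⟶ Y` of finite type and an affine chart `V` of `Y` whose ring of sections is a domain
with algebraically closed fraction field, the number of connected components of
`X ×_Y Spec K''` is the same for all field-valued points `Spec K'' ⟶ V` outside a proper closed
subset (`exists_conncount_acl`, `exists_conncount_points`).  (EGA IV 9.7.9 / Stacks 055H.)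
-/

set_option autoImplicit false
set_option linter.style.haveILetI false
universe u
open TensorProduct

namespace Groth.Agent.Lib.Helper78.GeomCountConn

open Groth.Agent.Lib.Helper78.GeomIrr Groth.Agent.Lib.Helper78.GeomConn
  Groth.Agent.Lib.Helper78.GeomCount

/-! ### part L1 -/
/-- Counting connected components: a space covered by finitely many closed connected sets has as
many connected components as the intersection graph of these sets. -/
theorem card_connectedComponents_eq_card_quot {T : Type*} [TopologicalSpace T] {ι : Type*}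
    [Finite ι] (Q : ι → Set T) (hcl : ∀ i, IsClosed (Q i)) (hconn : ∀ i, IsConnected (Q i))
    (hcov : ∀ t, ∃ i, t ∈ Q i) (E : ι → ι → Prop)
    (hE : ∀ i j, (Q i ∩ Q j).Nonempty ↔ E i j) :
    ENat.card (ConnectedComponents T) = ENat.card (Quot E) := by
  classical
  choose x hx using fun i => (hconn i).nonempty
  have hmk : ∀ i, ∀ t ∈ Q i, (ConnectedComponents.mk t : ConnectedComponents T) =
      ConnectedComponents.mk (x i) := by
    intro i t ht
    rw [ConnectedComponents.coe_eq_coe']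
    exact (hconn i).isPreconnected.subset_connectedComponent (hx i) ht
  let φ : Quot E → ConnectedComponents T := Quot.lift (fun i => ConnectedComponents.mk (x i)) (by
    intro i j hij
    obtain ⟨t, hti, htj⟩ := (hE i j).2 hij
    show (ConnectedComponents.mk (x i) : ConnectedComponents T) = ConnectedComponents.mk (x j)
    rw [← hmk i t hti, ← hmk j t htj])
  have hsurj : Function.Surjective φ := by
    intro c
    obtain ⟨t, rfl⟩ := ConnectedComponents.surjective_coe c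
    obtain ⟨i, hi⟩ := hcov t
    exact ⟨Quot.mk E i, (hmk i t hi).symm⟩
  have hinj : Function.Injective φ := by
    intro a b hab
    induction a using Quot.inductionOn with
    | _ i =>
    induction b using Quot.inductionOn with
    | _ j =>
    have hab' : (ConnectedComponents.mk (x i) : ConnectedComponents T) =
        ConnectedComponents.mk (x j) := hab
    let S : Set ι := {k | Quot.mk E k = Quot.mk E i}
    have hfin : ∀ S' : Set ι, IsClosed (⋃ k ∈ S', Q k) := fun S' =>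
      (Set.toFinite S').isClosed_biUnion (fun k _ => hcl k)
    have hcompl : (⋃ k ∈ S, Q k)ᶜ = ⋃ k ∈ Sᶜ, Q k := by
      ext t
      constructor
      · intro ht
        obtain ⟨k, hk⟩ := hcov t
        exact Set.mem_iUnion₂.2 ⟨k, fun hkS => ht (Set.mem_iUnion₂.2 ⟨k, hkS, hk⟩), hk⟩
      · intro ht ht'
        obtain ⟨l, hl, htl⟩ := Set.mem_iUnion₂.1 ht
        obtain ⟨k, hk, htk⟩ := Set.mem_iUnion₂.1 ht'
        apply hl
        show Quot.mk E l = Quot.mk E i
        rw [← (hk : Quot.mk E k = Quot.mk E i)]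
        exact (Quot.sound ((hE k l).1 ⟨t, htk, htl⟩)).symm
    have hclopen : IsClopen (⋃ k ∈ S, Q k) := ⟨hfin S, by
      rw [← isClosed_compl_iff, hcompl]
      exact hfin _⟩
    have hxi : x i ∈ ⋃ k ∈ S, Q k := Set.mem_iUnion₂.2 ⟨i, rfl, hx i⟩
    have hxj : x j ∈ ⋃ k ∈ S, Q k := by
      apply hclopen.connectedComponent_subset hxi
      exact ConnectedComponents.coe_eq_coe'.1 hab'.symm
    obtain ⟨k, hk, hxjk⟩ := Set.mem_iUnion₂.1 hxj
    have h1 : Quot.mk E k = Quot.mk E j := Quot.sound ((hE k j).1 ⟨x j, hxjk, hx j⟩)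
    rw [← (hk : Quot.mk E k = Quot.mk E i), h1]
  exact (ENat.card_congr (Equiv.ofBijective φ ⟨hinj, hsurj⟩)).symm

/-- homeomorphic spaces have the same number of connected components -/
theorem card_connectedComponents_of_homeomorph {T T' : Type*} [TopologicalSpace T]
    [TopologicalSpace T'] (h : T ≃ₜ T') :
    ENat.card (ConnectedComponents T) = ENat.card (ConnectedComponents T') := by
  have e := h.isQuotientMap.isCoinducing.connectedComponentsHomeomorph (fun y => by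
    have : h ⁻¹' {y} = {h.symm y} := by
      ext t
      simp only [Set.mem_preimage, Set.mem_singleton_iff]
      exact ⟨fun ht => by rw [← ht, h.symm_apply_apply], fun ht => by rw [ht, h.apply_symm_apply]⟩
    rw [this]
    exact isConnected_singleton)
  exact ENat.card_congr e.toEquiv

section Sch

open AlgebraicGeometry CategoryTheory Limits

/-! ### part L2 -/
/-- The closure of a point of the generic geometric fibre has irreducible trace on each affine
chart containing the point, in all nearby geometric fibres. -/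
theorem exists_irr_piece {X Y : Scheme.{u}} (f : X ⟶ Y) [LocallyOfFiniteType f]
    {V : Y.Opens} (hV : IsAffineOpen V) [IsDomain Γ(Y, V)] (K : Type u) [Field K]
    [Algebra Γ(Y, V) K] [IsFractionRing Γ(Y, V) K] [IsAlgClosed K] {W : X.Opens}
    (hW : IsAffineOpen W) (e : W ≤ f ⁻¹ᵁ V) (ξ : X)
    (hξ : ∃ t : ↥(pullback f (Spec.map (CommRingCat.ofHom (algebraMap Γ(Y, V) K)) ≫ hV.fromSpec)),
      pullback.fst f _ t = ξ) :
    ∃ g : Γ(Y, V), g ≠ 0 ∧ ∀ (K'' : Type u) [Field K''] [Algebra Γ(Y, V) K''],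
      algebraMap Γ(Y, V) K'' g ≠ 0 → ξ ∈ W →
      IsIrreducible (piece f hV (closure {ξ} ∩ (W : Set X)) K'') := by
  by_cases hmem : ξ ∈ W
  · let _ : Algebra Γ(Y, V) Γ(X, W) := (f.appLE V W e).hom.toAlgebra
    have : Algebra.FiniteType Γ(Y, V) Γ(X, W) := f.finiteType_appLE hV hW e
    obtain ⟨t, rfl⟩ := hξ
    obtain ⟨j, -, hjr, hjfst⟩ := exists_chart_embedding' f hV hW e K
    have htr : t ∈ Set.range j := by
      rw [hjr]
      exact hmem
    obtain ⟨P, rfl⟩ := htr
    have hPprime : P.asIdeal.IsPrime := P.isPrime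
    have h1 := irrSpec_tensor_quotient_comap (A := Γ(Y, V)) (B := Γ(X, W)) (K := K) P.asIdeal
    obtain ⟨g, hg, H⟩ := exists_irr_acl (K := K) h1
    refine ⟨g, hg, fun K'' _ _ hK'' _ => ?_⟩
    rw [hjfst, closure_singleton_inter hW]
    exact piece_isIrreducible f hV hW e _ K'' (H K'' hK'')
  · exact ⟨1, one_ne_zero, fun K'' _ _ _ h => absurd h hmem⟩

/-- Two closures of points which meet in the generic geometric fibre keep meeting nearby. -/
theorem exists_meet_witness {X Y : Scheme.{u}} (f : X ⟶ Y) [LocallyOfFiniteType f]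
    {V : Y.Opens} (hV : IsAffineOpen V) [IsDomain Γ(Y, V)] (K : Type u) [Field K]
    [Algebra Γ(Y, V) K] (hinj : Function.Injective (algebraMap Γ(Y, V) K)) (ξ ξ' : X) :
    ∃ g : Γ(Y, V), g ≠ 0 ∧ ∀ (K'' : Type u) [Field K''] [Algebra Γ(Y, V) K''],
      algebraMap Γ(Y, V) K'' g ≠ 0 →
      (piece f hV (closure {ξ}) K ∩ piece f hV (closure {ξ'}) K).Nonempty →
      (piece f hV (closure {ξ}) K'' ∩ piece f hV (closure {ξ'}) K'').Nonempty := by
  by_cases hne : (piece f hV (closure {ξ}) K ∩ piece f hV (closure {ξ'}) K).Nonempty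
  · obtain ⟨t, ht, ht'⟩ := hne
    have hx : pullback.fst f _ t ∈ ((f ⁻¹ᵁ V : X.Opens) : Set X) := fst_mem_preimage f hV _ t
    obtain ⟨g, hg, H⟩ := exists_pair_witness f hV K hinj (W := f ⁻¹ᵁ V) (W' := f ⁻¹ᵁ V) le_rfl
      (closure {ξ} ∩ ((f ⁻¹ᵁ V : X.Opens) : Set X)) (closure {ξ'} ∩ ((f ⁻¹ᵁ V : X.Opens) : Set X))
      (closure_inter_open_aux ξ _) (closure_inter_open_aux ξ' _) ⟨t, ⟨ht, hx⟩, ⟨ht', hx⟩⟩
    refine ⟨g, hg, fun K'' _ _ hK'' _ => ?_⟩
    obtain ⟨t'', h1, h2⟩ := H K'' hK''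
    exact ⟨t'', h1.1, h2.1⟩
  · exact ⟨1, one_ne_zero, fun K'' _ _ _ h => absurd h hne⟩

/-- Two closures of points which are disjoint in the generic geometric fibre stay disjoint
nearby, chart by chart. -/
theorem exists_disjoint_witness {X Y : Scheme.{u}} (f : X ⟶ Y) [LocallyOfFiniteType f]
    {V : Y.Opens} (hV : IsAffineOpen V) [IsDomain Γ(Y, V)] (K : Type u) [Field K]
    [Algebra Γ(Y, V) K] (hinj : Function.Injective (algebraMap Γ(Y, V) K)) {W : X.Opens}
    (hW : IsAffineOpen W) (e : W ≤ f ⁻¹ᵁ V) (ξ ξ' : X) :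
    ∃ g : Γ(Y, V), g ≠ 0 ∧ ∀ (K'' : Type u) [Field K''] [Algebra Γ(Y, V) K''],
      algebraMap Γ(Y, V) K'' g ≠ 0 →
      ¬ (piece f hV (closure {ξ}) K ∩ piece f hV (closure {ξ'}) K).Nonempty →
      ∀ t ∈ piece f hV (closure {ξ}) K'' ∩ piece f hV (closure {ξ'}) K'',
        t ∉ piece f hV (W : Set X) K'' := by
  let _ : Algebra Γ(Y, V) Γ(X, W) := (f.appLE V W e).hom.toAlgebra
  let C : Set (Spec Γ(X, W)) := hW.fromSpec ⁻¹' (closure {ξ} ∩ closure {ξ'})
  have hC : IsClosed C := (isClosed_closure.inter isClosed_closure).preimage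
    hW.fromSpec.continuous
  let J : Ideal Γ(X, W) := PrimeSpectrum.vanishingIdeal C
  have hJ : PrimeSpectrum.zeroLocus (J : Set Γ(X, W)) = C :=
    (PrimeSpectrum.zeroLocus_vanishingIdeal_eq_closure C).trans hC.closure_eq
  have hZ : hW.fromSpec '' (PrimeSpectrum.zeroLocus (J : Set Γ(X, W))) =
      closure {ξ} ∩ closure {ξ'} ∩ (W : Set X) := by
    rw [hJ, Set.image_preimage_eq_inter_range, hW.range_fromSpec]
  by_cases hne : (piece f hV (closure {ξ}) K ∩ piece f hV (closure {ξ'}) K).Nonempty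
  · exact ⟨1, one_ne_zero, fun K'' _ _ _ h => absurd hne h⟩
  · have hsub : Subsingleton (K ⊗[Γ(Y, V)] (Γ(X, W) ⧸ J)) := by
      rw [← not_nontrivial_iff_subsingleton, ← piece_nonempty_iff f hV hW e J K, hZ]
      rintro ⟨t, ht⟩
      exact hne ⟨t, ht.1.1, ht.1.2⟩
    obtain ⟨g, hg, H⟩ := exists_triv_domain (A := Γ(Y, V)) (B := Γ(X, W) ⧸ J) (K := K) hinj hsub
    refine ⟨g, hg, fun K'' _ _ hK'' _ t ht htW => ?_⟩
    have h1 := H K'' hK''
    have h2 : ¬ (piece f hV (hW.fromSpec '' (PrimeSpectrum.zeroLocus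
        (J : Set Γ(X, W)))) K'').Nonempty := by
      rw [piece_nonempty_iff f hV hW e J K'', not_nontrivial_iff_subsingleton]
      exact h1
    apply h2
    rw [hZ]
    exact ⟨t, ⟨ht.1, ht.2⟩, htW⟩

/-! ### part L3 -/
/-- **The number of connected components of the geometric fibres is constant near the generic
point** when the function field of the base chart is algebraically closed. -/
theorem exists_conncount_acl {X Y : Scheme.{u}} (f : X ⟶ Y) [LocallyOfFiniteType f]
    [QuasiCompact f] {V : Y.Opens} (hV : IsAffineOpen V) [IsDomain Γ(Y, V)] (K : Type u) [Field K]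
    [Algebra Γ(Y, V) K] [IsFractionRing Γ(Y, V) K] [IsAlgClosed K] :
    ∃ (n : ℕ∞) (g : Γ(Y, V)), g ≠ 0 ∧ ∀ (K'' : Type u) [Field K''] [Algebra Γ(Y, V) K''],
      algebraMap Γ(Y, V) K'' g ≠ 0 →
      ENat.card (_root_.ConnectedComponents ↥(pullback f (Spec.map (CommRingCat.ofHom
        (algebraMap Γ(Y, V) K'')) ≫ hV.fromSpec))) = n := by
  classical
  have hinj : Function.Injective (algebraMap Γ(Y, V) K) := IsFractionRing.injective _ _
  -- a finite affine cover of `f⁻¹ V`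
  have hcompact : IsCompact ((f ⁻¹ᵁ V : X.Opens) : Set X) := f.isCompact_preimage hV.isCompact
  obtain ⟨𝒲, h𝒲fin, h𝒲⟩ := isCompact_and_isOpen_iff_finite_and_eq_biUnion_affineOpens.1
    ⟨hcompact, (f ⁻¹ᵁ V).isOpen⟩
  have hle : ∀ W ∈ 𝒲, (W : X.Opens) ≤ f ⁻¹ᵁ V := by
    intro W hW x hx
    have : x ∈ ⋃ i ∈ 𝒲, ((i : X.Opens) : Set X) := Set.mem_biUnion hW hx
    rw [← h𝒲] at this
    exact this
  have hcover : ∀ (K'' : Type u) [Field K''] [Algebra Γ(Y, V) K'']
      (t : ↥(pullback f (Spec.map (CommRingCat.ofHom (algebraMap Γ(Y, V) K'')) ≫ hV.fromSpec))),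
      ∃ W : 𝒲, t ∈ piece f hV ((W.1 : X.Opens) : Set X) K'' := by
    intro K'' _ _ t
    have hx' : pullback.fst f _ t ∈ ((f ⁻¹ᵁ V : X.Opens) : Set X) := fst_mem_preimage f hV _ t
    rw [h𝒲] at hx'
    obtain ⟨W, hW, hxW⟩ := Set.mem_iUnion₂.1 hx'
    exact ⟨⟨W, hW⟩, hxW⟩
  have := h𝒲fin.fintype
  -- the generic points of the components, chart by chart
  have hpts : ∀ W : 𝒲, _ := fun W => exists_chart_points f hV K W.1.2 (hle W.1 W.2)
  choose ΞW G1 hG1 hΞW hG1' using hpts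
  obtain ⟨Ξ, hΞdef⟩ : ∃ Ξ : Finset X, Ξ = Finset.univ.biUnion ΞW := ⟨_, rfl⟩
  have hΞ : ∀ ξ : Ξ, ∃ W : 𝒲, ξ.1 ∈ ΞW W := fun ξ => by
    have h0 : ξ.1 ∈ Finset.univ.biUnion ΞW := hΞdef ▸ ξ.2
    obtain ⟨W, -, hW⟩ := Finset.mem_biUnion.1 h0
    exact ⟨W, hW⟩
  choose Wc hWc using hΞ
  have hξW : ∀ ξ : Ξ, ξ.1 ∈ ((Wc ξ).1 : X.Opens) := fun ξ => (hΞW _ _ (hWc ξ)).1
  have hξt : ∀ ξ : Ξ, ∃ t : ↥(pullback f (Spec.map (CommRingCat.ofHom
      (algebraMap Γ(Y, V) K)) ≫ hV.fromSpec)), pullback.fst f _ t = ξ.1 :=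
    fun ξ => (hΞW _ _ (hWc ξ)).2.1
  -- the witnesses
  have h2 : ∀ P : Ξ × 𝒲 × 𝒲, _ := fun P =>
    exists_same_witness f hV K hinj (P.2.1.1 : X.Opens) (P.2.2.1 : X.Opens)
      (hle P.2.1.1 P.2.1.2) P.1.1 (hξt P.1)
  choose G2 hG2 hG2' using h2
  have h4 : ∀ P : Ξ × 𝒲, _ := fun P =>
    exists_irr_piece f hV K P.2.1.2 (hle P.2.1 P.2.2) P.1.1 (hξt P.1)
  choose G4 hG4 hG4' using h4
  have h5 : ∀ P : Ξ × Ξ, _ := fun P => exists_meet_witness f hV K hinj P.1.1 P.2.1
  choose G5 hG5 hG5' using h5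
  have h6 : ∀ P : Ξ × Ξ × 𝒲, _ := fun P =>
    exists_disjoint_witness f hV K hinj P.2.2.1.2 (hle P.2.2.1 P.2.2.2) P.1.1 P.2.1.1
  choose G6 hG6 hG6' using h6
  refine ⟨ENat.card (Quot (fun ξ ξ' : Ξ => (piece f hV (closure {ξ.1}) K ∩
      piece f hV (closure {ξ'.1}) K).Nonempty)),
    (∏ W : 𝒲, G1 W) * (∏ P : Ξ × 𝒲 × 𝒲, G2 P) * (∏ P : Ξ × 𝒲, G4 P) *
      (∏ P : Ξ × Ξ, G5 P) * (∏ P : Ξ × Ξ × 𝒲, G6 P),
    mul_ne_zero (mul_ne_zero (mul_ne_zero (mul_ne_zero
      (Finset.prod_ne_zero_iff.2 (fun W _ => hG1 W))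
      (Finset.prod_ne_zero_iff.2 (fun P _ => hG2 P)))
      (Finset.prod_ne_zero_iff.2 (fun P _ => hG4 P)))
      (Finset.prod_ne_zero_iff.2 (fun P _ => hG5 P)))
      (Finset.prod_ne_zero_iff.2 (fun P _ => hG6 P)), ?_⟩
  intro K'' _ _ hK''
  rw [map_mul, map_mul, map_mul, map_mul, map_prod, map_prod, map_prod, map_prod, map_prod] at hK''
  have hne6 : ∀ P : Ξ × Ξ × 𝒲, algebraMap Γ(Y, V) K'' (G6 P) ≠ 0 := fun P =>
    Finset.prod_ne_zero_iff.1 (right_ne_zero_of_mul hK'') P (Finset.mem_univ _)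
  replace hK'' := left_ne_zero_of_mul hK''
  have hne5 : ∀ P : Ξ × Ξ, algebraMap Γ(Y, V) K'' (G5 P) ≠ 0 := fun P =>
    Finset.prod_ne_zero_iff.1 (right_ne_zero_of_mul hK'') P (Finset.mem_univ _)
  replace hK'' := left_ne_zero_of_mul hK''
  have hne4 : ∀ P : Ξ × 𝒲, algebraMap Γ(Y, V) K'' (G4 P) ≠ 0 := fun P =>
    Finset.prod_ne_zero_iff.1 (right_ne_zero_of_mul hK'') P (Finset.mem_univ _)
  replace hK'' := left_ne_zero_of_mul hK''
  have hne2 : ∀ P : Ξ × 𝒲 × 𝒲, algebraMap Γ(Y, V) K'' (G2 P) ≠ 0 := fun P =>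
    Finset.prod_ne_zero_iff.1 (right_ne_zero_of_mul hK'') P (Finset.mem_univ _)
  have hne1 : ∀ W : 𝒲, algebraMap Γ(Y, V) K'' (G1 W) ≠ 0 := fun W =>
    Finset.prod_ne_zero_iff.1 (left_ne_zero_of_mul hK'') W (Finset.mem_univ _)
  -- a point of `closure {ξ}` in a chart forces `ξ` into the chart
  have hchart : ∀ (ξ : X) (W : X.Opens) (x : X), x ∈ closure ({ξ} : Set X) → x ∈ W → ξ ∈ W :=
    fun ξ W x hx hxW => (specializes_iff_mem_closure.2 hx).mem_open W.isOpen hxW
  apply card_connectedComponents_eq_card_quot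
    (fun ξ : Ξ => piece f hV (closure {ξ.1}) K'')
  · intro ξ
    exact isClosed_closure.preimage (pullback.fst f _).continuous
  · intro ξ
    refine ⟨?_, ?_⟩
    · obtain ⟨t, ht⟩ := ((hG1' (Wc ξ) K'' (hne1 _)).1 ξ.1 (hWc ξ)).1
      exact ⟨t, ht.1⟩
    · apply isPreconnected_of_forall_pair
      intro t ht t' ht'
      obtain ⟨W, hW⟩ := hcover K'' t
      obtain ⟨W', hW'⟩ := hcover K'' t'
      have hξ1 : ξ.1 ∈ (W.1 : X.Opens) := hchart ξ.1 _ _ ht hW
      have hξ2 : ξ.1 ∈ (W'.1 : X.Opens) := hchart ξ.1 _ _ ht' hW'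
      refine ⟨piece f hV (closure {ξ.1} ∩ ((W.1 : X.Opens) : Set X)) K'' ∪
        piece f hV (closure {ξ.1} ∩ ((W'.1 : X.Opens) : Set X)) K'', ?_, Or.inl ⟨ht, hW⟩,
        Or.inr ⟨ht', hW'⟩, ?_⟩
      · rintro s (hs | hs)
        · exact hs.1
        · exact hs.1
      · exact IsPreconnected.union' (hG2' (ξ, W, W') K'' (hne2 _) hξ1 hξ2)
          (hG4' (ξ, W) K'' (hne4 _) hξ1).isConnected.isPreconnected
          (hG4' (ξ, W') K'' (hne4 _) hξ2).isConnected.isPreconnected
  · intro t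
    obtain ⟨W, hW⟩ := hcover K'' t
    obtain ⟨ξ', hξ', ht⟩ := Set.mem_iUnion₂.1 ((hG1' W K'' (hne1 _)).2 hW)
    have hξ'Ξ : ξ' ∈ Ξ := by
      rw [hΞdef]
      exact Finset.mem_biUnion.2 ⟨W, Finset.mem_univ _, hξ'⟩
    exact ⟨⟨ξ', hξ'Ξ⟩, ht.1⟩
  · intro ξ ξ'
    constructor
    · intro hne
      by_contra hE
      obtain ⟨t, ht⟩ := hne
      obtain ⟨W, hW⟩ := hcover K'' t
      exact hG6' (ξ, ξ', W) K'' (hne6 _) hE t ht hW
    · intro hE
      exact hG5' (ξ, ξ') K'' (hne5 _) hE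

/-! ### part L4 -/
open Groth.Agent.Lib.Helper78.GenFibreGeom in
/-- The number of geometric connected components of the fibre over a point of an affine chart
of the base, computed with a field-valued point of the chart. -/
theorem nGeomConnComp_eq_card {X Y : Scheme.{u}} (f : X ⟶ Y) {V : Y.Opens}
    (hV : IsAffineOpen V) (q : Spec Γ(Y, V)) :
    ∃ (K'' : Type u) (_ : Field K'') (_ : Algebra Γ(Y, V) K''),
      (∀ a : Γ(Y, V), algebraMap Γ(Y, V) K'' a = 0 ↔
        a ∈ (show PrimeSpectrum Γ(Y, V) from q).asIdeal) ∧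
      MoreMor.nGeomConnComp f (hV.fromSpec q) =
        ENat.card (_root_.ConnectedComponents ↥(pullback f (Spec.map (CommRingCat.ofHom
          (algebraMap Γ(Y, V) K'')) ≫ hV.fromSpec))) := by
  obtain ⟨y', hy'⟩ : ∃ y' : Y, y' = hV.fromSpec q := ⟨_, rfl⟩
  rw [← hy']
  let K'' : Type u := SeparableClosure (Y.residueField y')
  let φ : Y.residueField y' ⟶ CommRingCat.of K'' :=
    CommRingCat.ofHom (algebraMap (Y.residueField y') K'')
  let z : Spec (CommRingCat.of K'') ⟶ Y := Spec.map φ ≫ Y.fromSpecResidueField y'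
  have hz : ∀ x : Spec (CommRingCat.of K''), z x = hV.fromSpec q := by
    intro x
    show (Spec.map φ ≫ Y.fromSpecResidueField y') x = _
    rw [Scheme.Hom.comp_apply, Scheme.fromSpecResidueField_apply, hy']
  have hrange : Set.range z ⊆ Set.range hV.fromSpec := by
    rintro _ ⟨x, rfl⟩
    rw [hz x]
    exact ⟨q, rfl⟩
  have hz' : IsOpenImmersion.lift hV.fromSpec z hrange ≫ hV.fromSpec = z :=
    IsOpenImmersion.lift_fac _ _ _
  obtain ⟨ψ, hψ⟩ := Spec.map_surjective (IsOpenImmersion.lift hV.fromSpec z hrange)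
  rw [← hψ] at hz'
  have hpt : ∀ x : Spec (CommRingCat.of K''), Spec.map ψ x = q := by
    intro x
    apply hV.fromSpec.isOpenEmbedding.injective
    rw [← Scheme.Hom.comp_apply, hz', hz x]
  obtain ⟨x₀⟩ : Nonempty (Spec (CommRingCat.of K'')) :=
    inferInstanceAs (Nonempty (PrimeSpectrum K''))
  have hker := (SpecMap_apply_eq_iff ψ x₀ q).1 (hpt x₀)
  refine ⟨K'', inferInstance, ψ.hom.toAlgebra, hker, ?_⟩
  letI : Algebra Γ(Y, V) K'' := ψ.hom.toAlgebra
  show MoreMor.nGeomConnComp f y' =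
    ENat.card (_root_.ConnectedComponents ↥(pullback f (Spec.map ψ ≫ hV.fromSpec)))
  rw [hz']
  let e2 : pullback (f.fiberToSpecResidueField y') (Spec.map φ) ≅
      pullback f (Spec.map φ ≫ Y.fromSpecResidueField y') :=
    pullbackLeftPullbackSndIso f (Y.fromSpecResidueField y') (Spec.map φ)
  exact card_connectedComponents_of_homeomorph e2.hom.homeomorph

/-- **The number of connected components of the geometric fibres is constant near the generic
point** when the function field of the base chart is algebraically closed, pointwise form. -/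
theorem exists_conncount_points {X Y : Scheme.{u}} (f : X ⟶ Y) [LocallyOfFiniteType f]
    [QuasiCompact f] {V : Y.Opens} (hV : IsAffineOpen V) [IsDomain Γ(Y, V)] (K : Type u) [Field K]
    [Algebra Γ(Y, V) K] [IsFractionRing Γ(Y, V) K] [IsAlgClosed K] :
    ∃ (n : ℕ∞) (g : Γ(Y, V)), g ≠ 0 ∧ ∀ q : Spec Γ(Y, V),
      g ∉ (show PrimeSpectrum Γ(Y, V) from q).asIdeal →
      MoreMor.nGeomConnComp f (hV.fromSpec q) = n := by
  obtain ⟨n, g, hg, H⟩ := exists_conncount_acl f hV K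
  refine ⟨n, g, hg, fun q hq => ?_⟩
  obtain ⟨K'', _, _, hker, hcount⟩ := nGeomConnComp_eq_card f hV q
  rw [hcount]
  exact H K'' (fun h0 => hq ((hker g).1 h0))

end Sch

end Groth.Agent.Lib.Helper78.GeomCountConn
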