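import Groth.Agent.Lib.Helper72.NeutralQC
import Groth.Agent.Lib.Helper19.GC.NeutralSet
import Groth.Agent.Lib.Helper51.Pi0Sch
import Groth.Agent.S1326

/-!
# Constructibility of the union of the neutral components (SGA3 VI_B 3.10)

Helper library of helper78 for S5325.  Over an affine open `V` of the base choose an affine open
`U` of the group containing the unit section over `V`; then `U ∩ G⁰` is the set of section
components of `U → V` (the neutral components of the fibres are irreducible), hence constructible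
in `U` (EGA IV 9.7.12 = S1326), and `G⁰ ∩ π⁻¹ V` is the image of `(U ∩ G⁰) ×_V (U ∩ G⁰)` under
multiplication (`image_mulOpen`); Chevalley's theorem on affine pieces finishes the proof.
-/

set_option autoImplicit false
set_option linter.style.haveILetI false
set_option linter.unusedSectionVars false
universe u

namespace Groth.Agent.Lib.Helper78.NeutralCons
section Sch
open AlgebraicGeometry CategoryTheory CategoryTheory.Limits MonoidalCategory
  CartesianMonoidalCategory MonObj GrpObj Groth.Agent.Lib.Helper72.GrpComp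
  Groth.Agent.Lib.Helper72.GrpGen Groth.Agent.Lib.Helper72.GrpConn
  Groth.Agent.Lib.Helper72.NeutralQC Groth.Agent.Lib.Helper19 Topology

/-! ### part F -/
section Field
variable {K : Type u} [Field K] (G : Over (Spec (CommRingCat.of K))) [GrpObj G]

/-- the identity component of a locally algebraic group is irreducible -/
theorem isIrreducible_connectedComponent_ePt : IsIrreducible (connectedComponent (ePt G)) := by
  have h0 := irreducibleComponent_mem_irreducibleComponents (ePt G)
  rw [connectedComponent_ePt G h0 mem_irreducibleComponent]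
  exact h0.1

/-- the identity component is stable under multiplication -/
theorem mul_mem_connectedComponent_ePt (z : ↥(pullback G.hom G.hom))
    (h1 : pullback.fst G.hom G.hom z ∈ connectedComponent (ePt G))
    (h2 : pullback.snd G.hom G.hom z ∈ connectedComponent (ePt G)) :
    μ[G].left z ∈ connectedComponent (ePt G) := by
  have h0 := irreducibleComponent_mem_irreducibleComponents (ePt G)
  rw [connectedComponent_ePt G h0 mem_irreducibleComponent] at h1 h2 ⊢
  exact mulSet_subset_component G h0 mem_irreducibleComponent h0 ⟨z, ⟨h1, h2⟩, rfl⟩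

/-- a point of the identity component of a locally algebraic group is a product of two points of
the identity component lying in a given neighbourhood of the identity -/
theorem exists_mul_mem_connectedComponent_ePt [LocallyOfFiniteType G.hom] {W : Set G.left}
    (hW : IsOpen W) (heW : ePt G ∈ W) {x : G.left} (hx : x ∈ connectedComponent (ePt G)) :
    ∃ z : ↥(pullback G.hom G.hom),
      pullback.fst G.hom G.hom z ∈ W ∩ connectedComponent (ePt G) ∧
      pullback.snd G.hom G.hom z ∈ W ∩ connectedComponent (ePt G) ∧ μ[G].left z = x := by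
  haveI : IsLocallyNoetherian G.left := LocallyOfFiniteType.isLocallyNoetherian G.hom
  have hZo : IsOpen (connectedComponent (ePt G)) :=
    Groth.Agent.Lib.Helper51.Pi0Sch.isOpen_connectedComponent G.left (ePt G)
  have h0 := irreducibleComponent_mem_irreducibleComponents (ePt G)
  have hZ := connectedComponent_ePt G h0 mem_irreducibleComponent
  have hmem := mem_mulSet_of_inter_nonempty G h0 mem_irreducibleComponent h0
    (W := W ∩ connectedComponent (ePt G)) (hW.inter hZo)
    ⟨ePt G, mem_irreducibleComponent, heW, mem_connectedComponent⟩ hW heW (hZ ▸ hx)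
  obtain ⟨z, ⟨⟨hz1, hz1'⟩, hz2⟩, hz3⟩ := hmem
  exact ⟨z, ⟨hz1, hZ ▸ hz1'⟩, hz2, hz3⟩

end Field

/-! ### part T -/
section Base
variable {S : Scheme.{u}}

/-- the inclusion of the spectrum of the residue field, with the type used for fibre groups -/
noncomputable abbrev fS (s : S) : Spec (CommRingCat.of (S.residueField s)) ⟶ S :=
  S.fromSpecResidueField s

variable (G : Over S) [GrpObj G]

/-- the unit point of the fibre maps to the unit point -/
theorem fst_ePt (s : S) :
    pullback.fst G.hom (fS s) (ePt (Red.bc (fS s) G)) = η[G].left s := by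
  let fs : Spec (CommRingCat.of (S.residueField s)) ⟶ S := S.fromSpecResidueField s
  let cp : ↥(Spec (CommRingCat.of (S.residueField s))) := IsLocalRing.closedPoint (S.residueField s)
  have hinj : Function.Injective (𝟙_ (Over S)).hom := by
    rw [Over.tensorUnit_hom]
    exact fun a b h => h
  show pullback.fst G.hom fs (η[Red.bc fs G].left cp) = η[G].left s
  rw [← Scheme.Hom.comp_apply, unit_fibre_comp G s, Scheme.Hom.comp_apply, Scheme.Hom.comp_apply]
  congr 1
  apply hinj
  rw [← Scheme.Hom.comp_apply, pullback.condition, Scheme.Hom.comp_apply]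
  exact Scheme.fromSpecResidueField_apply _ _

theorem unit_mem_fibre (s : S) : η[G].left s ∈ G.hom ⁻¹' {s} := by
  show G.hom (η[G].left s) = s
  rw [← Scheme.Hom.comp_apply, Over.w η[G]]
  rfl

/-- the neutral component of the topological fibre is the image of the identity component of the
fibre group -/
theorem image_connectedComponent_ePt (s : S) :
    pullback.fst G.hom (fS s) '' connectedComponent (ePt (Red.bc (fS s) G)) =
      connectedComponentIn (G.hom ⁻¹' {s}) (η[G].left s) := by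
  let fs : Spec (CommRingCat.of (S.residueField s)) ⟶ S := S.fromSpecResidueField s
  let Gs : Over (Spec (CommRingCat.of (S.residueField s))) := Red.bc fs G
  let q : Gs.left ⟶ G.left := pullback.fst G.hom fs
  have h1 : q (ePt Gs) = η[G].left s := fst_ePt G s
  have hpF := unit_mem_fibre G s
  let e : ↥Gs.left ≃ₜ ↥(G.hom ⁻¹' {s}) := Scheme.Hom.fiberHomeo G.hom s
  have hq : ∀ a : Gs.left, (e a).1 = q a := by
    intro a
    have := Scheme.Hom.fiberι_fiberHomeo_symm G.hom s (e a)
    rw [show (Scheme.Hom.fiberHomeo G.hom s).symm (e a) = a from e.symm_apply_apply a] at this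
    exact this.symm
  have he : e (ePt Gs) = ⟨η[G].left s, hpF⟩ := Subtype.ext ((hq _).trans h1)
  have himg : e '' connectedComponent (ePt Gs) = connectedComponent (e (ePt Gs)) := by
    apply subset_antisymm (e.continuous.image_connectedComponent_subset _)
    intro y hy
    refine ⟨e.symm y, ?_, e.apply_symm_apply y⟩
    have := e.symm.continuous.image_connectedComponent_subset (e (ePt Gs)) ⟨y, hy, rfl⟩
    rwa [e.symm_apply_apply] at this
  rw [connectedComponentIn_eq_image hpF, ← he, ← himg, Set.image_image]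
  show q '' _ = _
  congr 1

end Base

/-! ### part T2 -/
section Base
variable {S : Scheme.{u}} (G : Over S) [GrpObj G]

/-- the comparison map from the square of a fibre group to the square of the group -/
noncomputable def theta (s : S) : (Red.bc (fS s) G ⊗ Red.bc (fS s) G).left ⟶ (G ⊗ G).left :=
  (Functor.LaxMonoidal.μ (Over.pullback (fS s)) G G).left ≫ pullback.fst (G ⊗ G).hom (fS s)

theorem theta_fst (s : S) :
    theta G s ≫ (fst G G).left =
      (fst (Red.bc (fS s) G) (Red.bc (fS s) G)).left ≫ pullback.fst G.hom (fS s) := by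
  unfold theta
  rw [Category.assoc]
  exact ActBC.μ_left_fst_fst _ _ _

theorem theta_snd (s : S) :
    theta G s ≫ (snd G G).left =
      (snd (Red.bc (fS s) G) (Red.bc (fS s) G)).left ≫ pullback.fst G.hom (fS s) := by
  unfold theta
  rw [Category.assoc]
  exact ActBC.μ_left_fst_snd _ _ _

theorem theta_mul (s : S) :
    theta G s ≫ μ[G].left = μ[Red.bc (fS s) G].left ≫ pullback.fst G.hom (fS s) := by
  unfold theta
  rw [Category.assoc]
  exact (mul_fibre_comp G s).symm

theorem theta_surjOn (s : S) (z : ↥(G ⊗ G).left) (hz : (G ⊗ G).hom z = s) :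
    ∃ z' : ↥(Red.bc (fS s) G ⊗ Red.bc (fS s) G).left, theta G s z' = z := by
  have h1 : z ∈ Set.range (pullback.fst (G ⊗ G).hom (fS s)) := by
    rw [Scheme.Pullback.range_fst]
    show (G ⊗ G).hom z ∈ Set.range (S.fromSpecResidueField s)
    rw [Scheme.range_fromSpecResidueField, hz]
    rfl
  obtain ⟨w, rfl⟩ := h1
  haveI : IsIso (Functor.LaxMonoidal.μ (Over.pullback (fS s)) G G) := inferInstance
  haveI : IsIso (Functor.LaxMonoidal.μ (Over.pullback (fS s)) G G).left :=
    Functor.map_isIso (Over.forget _) (Functor.LaxMonoidal.μ (Over.pullback (fS s)) G G)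
  obtain ⟨z', rfl⟩ :=
    (Functor.LaxMonoidal.μ (Over.pullback (fS s)) G G).left.homeomorph.surjective w
  exact ⟨z', rfl⟩

end Base

/-! ### part T3 -/
section Base
variable {S : Scheme.{u}} (G : Over S) [GrpObj G]

/-- a point of the neutral component of a fibre is a product of two points of the neutral
component lying in a given neighbourhood of the unit section -/
theorem exists_mul_of_mem_neutral' (s : S) [LocallyOfFiniteType (Red.bc (fS s) G).hom]
    (W : G.left.Opens) (hW : η[G].left s ∈ W) (x : G.left)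
    (hx : x ∈ connectedComponentIn (G.hom ⁻¹' {s}) (η[G].left s)) :
    ∃ z : ↥(G ⊗ G).left,
      ((fst G G).left z ∈ W ∧
        (fst G G).left z ∈ connectedComponentIn (G.hom ⁻¹' {s}) (η[G].left s)) ∧
      ((snd G G).left z ∈ W ∧
        (snd G G).left z ∈ connectedComponentIn (G.hom ⁻¹' {s}) (η[G].left s)) ∧
      μ[G].left z = x := by
  rw [← image_connectedComponent_ePt] at hx ⊢
  obtain ⟨c, hc, rfl⟩ := hx
  let Gs := Red.bc (fS s) G
  let q : Gs.left ⟶ G.left := pullback.fst G.hom (fS s)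
  have heW : ePt Gs ∈ q ⁻¹' (W : Set G.left) := by
    show q (ePt Gs) ∈ W
    rw [fst_ePt]
    exact hW
  obtain ⟨z', ⟨h1, h1'⟩, ⟨h2, h2'⟩, h3⟩ :=
    exists_mul_mem_connectedComponent_ePt Gs (W.2.preimage q.continuous) heW hc
  refine ⟨theta G s z', ⟨?_, ?_⟩, ⟨?_, ?_⟩, ?_⟩
  · rw [← Scheme.Hom.comp_apply, theta_fst, Scheme.Hom.comp_apply]
    exact h1
  · rw [← Scheme.Hom.comp_apply, theta_fst, Scheme.Hom.comp_apply]
    exact ⟨_, h1', rfl⟩
  · rw [← Scheme.Hom.comp_apply, theta_snd, Scheme.Hom.comp_apply]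
    exact h2
  · rw [← Scheme.Hom.comp_apply, theta_snd, Scheme.Hom.comp_apply]
    exact ⟨_, h2', rfl⟩
  · rw [← Scheme.Hom.comp_apply, theta_mul, Scheme.Hom.comp_apply]
    exact congrArg q h3

/-- the neutral component of a fibre is stable under multiplication -/
theorem mul_mem_neutral (s : S) (z : ↥(G ⊗ G).left)
    (h1 : (fst G G).left z ∈ connectedComponentIn (G.hom ⁻¹' {s}) (η[G].left s))
    (h2 : (snd G G).left z ∈ connectedComponentIn (G.hom ⁻¹' {s}) (η[G].left s)) :
    μ[G].left z ∈ connectedComponentIn (G.hom ⁻¹' {s}) (η[G].left s) := by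
  have hz : (G ⊗ G).hom z = s := by
    have h := connectedComponentIn_subset _ _ h1
    rw [← Over.w (fst G G)]
    exact h
  obtain ⟨z', rfl⟩ := theta_surjOn G s z hz
  let Gs := Red.bc (fS s) G
  let q : Gs.left ⟶ G.left := pullback.fst G.hom (fS s)
  have hqinj : Function.Injective q := (G.hom.fiberι s).isEmbedding.injective
  rw [← image_connectedComponent_ePt] at h1 h2 ⊢
  rw [← Scheme.Hom.comp_apply, theta_fst, Scheme.Hom.comp_apply] at h1
  rw [← Scheme.Hom.comp_apply, theta_snd, Scheme.Hom.comp_apply] at h2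
  obtain ⟨a, ha, hqa⟩ := h1
  obtain ⟨b, hb, hqb⟩ := h2
  have ha' := hqinj hqa
  have hb' := hqinj hqb
  rw [← Scheme.Hom.comp_apply, theta_mul, Scheme.Hom.comp_apply]
  refine ⟨_, mul_mem_connectedComponent_ePt Gs z' ?_ ?_, rfl⟩
  · exact ha' ▸ ha
  · exact hb' ▸ hb

/-- the neutral component of a fibre is irreducible -/
theorem isIrreducible_neutral (s : S) :
    IsIrreducible (connectedComponentIn (G.hom ⁻¹' {s}) (η[G].left s)) := by
  rw [← image_connectedComponent_ePt]
  exact (isIrreducible_connectedComponent_ePt (Red.bc (fS s) G)).image _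
    (pullback.fst G.hom (fS s)).continuous.continuousOn

end Base

/-! ### part L -/
/-- an affine open neighbourhood of the image of a section over an affine open of the base -/
theorem exists_affine_nbhd_section {S X : Scheme.{u}} (π : X ⟶ S) (e : S ⟶ X)
    (he : e ≫ π = 𝟙 S) (s : S) :
    ∃ (V : S.Opens) (U : X.Opens), IsAffineOpen V ∧ IsAffineOpen U ∧ s ∈ V ∧ U ≤ π ⁻¹ᵁ V ∧
      V ≤ e ⁻¹ᵁ U := by
  obtain ⟨_, ⟨S₀, hS₀ : IsAffineOpen S₀, rfl⟩, hsS₀, -⟩ :=
    S.isBasis_affineOpens.exists_subset_of_mem_open (Set.mem_univ s) isOpen_univ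
  have hπe : ∀ t : S, π (e t) = t := by
    intro t
    rw [← Scheme.Hom.comp_apply, he]
    rfl
  have hes : e s ∈ π ⁻¹ᵁ S₀ := by
    show π (e s) ∈ S₀
    rw [hπe]
    exact hsS₀
  obtain ⟨_, ⟨U₀, hU₀ : IsAffineOpen U₀, rfl⟩, heU₀, hU₀S₀'⟩ :=
    X.isBasis_affineOpens.exists_subset_of_mem_open hes (π ⁻¹ᵁ S₀).isOpen
  have hU₀S₀ : U₀ ≤ π ⁻¹ᵁ S₀ := hU₀S₀'
  have hs1 : s ∈ e ⁻¹ᵁ U₀ ⊓ S₀ := ⟨heU₀, hsS₀⟩
  obtain ⟨f, hf, hsf⟩ := hS₀.exists_basicOpen_le ⟨s, hs1⟩ hsS₀
  refine ⟨S.basicOpen f, X.basicOpen (π.appLE S₀ U₀ hU₀S₀ f), hS₀.basicOpen f,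
    hU₀.basicOpen _, hsf, ?_, ?_⟩
  · rw [Scheme.basicOpen_appLE]
    exact inf_le_right
  · intro t ht
    show e t ∈ X.basicOpen (π.appLE S₀ U₀ hU₀S₀ f)
    rw [Scheme.basicOpen_appLE]
    refine ⟨(hf ht).1, ?_⟩
    show π (e t) ∈ S.basicOpen f
    rw [hπe]
    exact ht

/-! ### part C1 -/
/-- the section components of an open neighbourhood of a section through irreducible
components of fibres -/
theorem mem_sectionComponents_resLE_iff {S X : Scheme.{u}} (π : X ⟶ S) (e : S ⟶ X)
    (he : e ≫ π = 𝟙 S) (V : S.Opens) (U : X.Opens) (hUV : U ≤ π ⁻¹ᵁ V) (hVU : V ≤ e ⁻¹ᵁ U)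
    (hirr : ∀ s : S, IsPreirreducible (connectedComponentIn (π ⁻¹' {s}) (e s)))
    (u : ↥(U : Scheme.{u})) :
    u ∈ MoreMor.sectionComponents (π.resLE V U hUV) (e.resLE U V hVU) ↔
      U.ι u ∈ MoreMor.sectionComponents π e := by
  set f'' := π.resLE V U hUV with hf''
  set e'' := e.resLE U V hVU with he''
  have hf1 : ∀ x : ↥(U : Scheme.{u}), V.ι (f'' x) = π (U.ι x) := by
    intro x
    rw [← Scheme.Hom.comp_apply, ← Scheme.Hom.comp_apply, hf'', Scheme.Hom.resLE_comp_ι]
  have he1 : ∀ t : ↥(V : Scheme.{u}), U.ι (e'' t) = e (V.ι t) := by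
    intro t
    rw [← Scheme.Hom.comp_apply, ← Scheme.Hom.comp_apply, he'', Scheme.Hom.resLE_comp_ι]
  have hπe : ∀ t : S, π (e t) = t := by
    intro t
    rw [← Scheme.Hom.comp_apply, he]
    rfl
  have hVinj : Function.Injective V.ι := V.ι.isOpenEmbedding.injective
  set t := f'' u with ht
  have hFpre : (U.ι ⁻¹' (π ⁻¹' {V.ι t}) : Set ↥(U : Scheme.{u})) = f'' ⁻¹' {t} := by
    ext x
    simp only [Set.mem_preimage, Set.mem_singleton_iff]
    rw [← hf1 x]
    exact ⟨fun h => hVinj h, fun h => congrArg V.ι h⟩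
  have hemem : e'' t ∈ f'' ⁻¹' {t} := by
    show f'' (e'' t) = t
    apply hVinj
    rw [hf1, he1, hπe]
  show u ∈ connectedComponentIn (f'' ⁻¹' {f'' u}) (e'' (f'' u)) ↔
    U.ι u ∈ connectedComponentIn (π ⁻¹' {π (U.ι u)}) (e (π (U.ι u)))
  rw [← hf1 u, ← ht]
  constructor
  · intro hu
    have hpc : _root_.IsPreconnected (U.ι '' connectedComponentIn (f'' ⁻¹' {t}) (e'' t)) :=
      isPreconnected_connectedComponentIn.image _ U.ι.continuous.continuousOn
    have hsub : U.ι '' connectedComponentIn (f'' ⁻¹' {t}) (e'' t) ⊆ π ⁻¹' {V.ι t} := by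
      rintro _ ⟨x, hx, rfl⟩
      have := connectedComponentIn_subset _ _ hx
      rw [← hFpre] at this
      exact this
    have hmem : e (V.ι t) ∈ U.ι '' connectedComponentIn (f'' ⁻¹' {t}) (e'' t) :=
      ⟨e'' t, mem_connectedComponentIn hemem, he1 t⟩
    exact hpc.subset_connectedComponentIn hmem hsub ⟨u, hu, rfl⟩
  · intro hu
    have hpi : IsPreirreducible (U.ι ⁻¹'
        connectedComponentIn (π ⁻¹' {V.ι t}) (e (V.ι t)) : Set ↥(U : Scheme.{u})) :=
      (hirr (V.ι t)).preimage U.ι.isOpenEmbedding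
    have hsub : (U.ι ⁻¹' connectedComponentIn (π ⁻¹' {V.ι t}) (e (V.ι t)) :
        Set ↥(U : Scheme.{u})) ⊆ f'' ⁻¹' {t} := by
      rw [← hFpre]
      exact Set.preimage_mono (connectedComponentIn_subset _ _)
    have hmem : e'' t ∈ (U.ι ⁻¹'
        connectedComponentIn (π ⁻¹' {V.ι t}) (e (V.ι t)) : Set ↥(U : Scheme.{u})) := by
      show U.ι (e'' t) ∈ connectedComponentIn (π ⁻¹' {V.ι t}) (e (V.ι t))
      rw [he1]
      exact mem_connectedComponentIn (hπe _)
    exact hpi.isPreconnected.subset_connectedComponentIn hmem hsub hu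

/-! ### part C2 -/
section Base
variable {S : Scheme.{u}} (G : Over S) [GrpObj G]

/-- the unit section as a morphism from the base -/
noncomputable abbrev unitSec : S ⟶ G.left := η[G].left

theorem unitSec_hom : unitSec G ≫ G.hom = 𝟙 S := Over.w η[G]

theorem neutralSet_eq_sectionComponents :
    SGA3x.neutralSet G = MoreMor.sectionComponents G.hom (unitSec G) := by
  ext x
  rw [mem_neutralSet_iff]
  rfl

theorem mem_neutralSet_of_mem {s : S} {x : G.left}
    (hx : x ∈ connectedComponentIn (G.hom ⁻¹' {s}) (η[G].left s)) : x ∈ SGA3x.neutralSet G := by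
  rw [mem_neutralSet_iff]
  have hs : G.hom x = s :=
    (connectedComponentIn_subset (G.hom ⁻¹' {s}) (η[G].left s) hx : x ∈ G.hom ⁻¹' {s})
  rw [hs]
  exact hx

theorem mem_of_mem_neutralSet {s : S} {x : G.left} (hx : x ∈ SGA3x.neutralSet G)
    (hs : G.hom x = s) : x ∈ connectedComponentIn (G.hom ⁻¹' {s}) (η[G].left s) := by
  rw [mem_neutralSet_iff, hs] at hx
  exact hx

theorem locallyOfFiniteType_fibre [LocallyOfFinitePresentation G.hom] (s : S) :
    LocallyOfFiniteType (Red.bc (fS s) G).hom := by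
  haveI : LocallyOfFinitePresentation (pullback.snd G.hom (fS s)) := inferInstance
  haveI : LocallyOfFiniteType (pullback.snd G.hom (fS s)) := inferInstance
  exact this

/-- the multiplication map on the square of an open neighbourhood of the unit section -/
noncomputable def mulOpen (V : S.Opens) (U : G.left.Opens) (hUV : U ≤ G.hom ⁻¹ᵁ V) :
    pullback (G.hom.resLE V U hUV) (G.hom.resLE V U hUV) ⟶ G.left :=
  pullback.map (G.hom.resLE V U hUV) (G.hom.resLE V U hUV) G.hom G.hom U.ι U.ι V.ι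
    (Scheme.Hom.resLE_comp_ι _ _) (Scheme.Hom.resLE_comp_ι _ _) ≫ μ[G].left

/-- **Key description**: over `V`, the neutral set is the image under multiplication of the
square of the section components of `U`. -/
theorem image_mulOpen [LocallyOfFinitePresentation G.hom] (V : S.Opens) (U : G.left.Opens)
    (hUV : U ≤ G.hom ⁻¹ᵁ V) (hVU : V ≤ unitSec G ⁻¹ᵁ U) :
    mulOpen G V U hUV ''
      (pullback.fst (G.hom.resLE V U hUV) (G.hom.resLE V U hUV) ⁻¹'
          MoreMor.sectionComponents (G.hom.resLE V U hUV) ((unitSec G).resLE U V hVU) ∩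
        pullback.snd (G.hom.resLE V U hUV) (G.hom.resLE V U hUV) ⁻¹'
          MoreMor.sectionComponents (G.hom.resLE V U hUV) ((unitSec G).resLE U V hVU)) =
      SGA3x.neutralSet G ∩ G.hom ⁻¹' (V : Set S) := by
  set f'' := G.hom.resLE V U hUV with hf''
  set e'' := (unitSec G).resLE U V hVU with he''
  set pm := pullback.map f'' f'' G.hom G.hom U.ι U.ι V.ι
    (Scheme.Hom.resLE_comp_ι _ _) (Scheme.Hom.resLE_comp_ι _ _) with hpm
  have hirr : ∀ s : S, IsPreirreducible (connectedComponentIn (G.hom ⁻¹' {s}) (unitSec G s)) :=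
    fun s => (isIrreducible_neutral G s).isPreirreducible
  have hC1 := mem_sectionComponents_resLE_iff G.hom (unitSec G) (unitSec_hom G) V U hUV hVU hirr
  have hpm1 : ∀ p, (fst G G).left (pm p) = U.ι (pullback.fst f'' f'' p) := by
    intro p
    show pullback.fst G.hom G.hom (pm p) = _
    rw [← Scheme.Hom.comp_apply, ← Scheme.Hom.comp_apply, hpm, pullback.lift_fst]
  have hpm2 : ∀ p, (snd G G).left (pm p) = U.ι (pullback.snd f'' f'' p) := by
    intro p
    show pullback.snd G.hom G.hom (pm p) = _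
    rw [← Scheme.Hom.comp_apply, ← Scheme.Hom.comp_apply, hpm, pullback.lift_snd]
  have hfst : ∀ z : ↥(G ⊗ G).left, G.hom ((fst G G).left z) = (G ⊗ G).hom z := by
    intro z
    rw [← Scheme.Hom.comp_apply, Over.w (fst G G)]
  have hsnd : ∀ z : ↥(G ⊗ G).left, G.hom ((snd G G).left z) = (G ⊗ G).hom z := by
    intro z
    rw [← Scheme.Hom.comp_apply, Over.w (snd G G)]
  have hmu : ∀ z : ↥(G ⊗ G).left, G.hom (μ[G].left z) = (G ⊗ G).hom z := by
    intro z
    rw [← Scheme.Hom.comp_apply, Over.w μ[G]]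
  apply Set.Subset.antisymm
  · rintro _ ⟨p, ⟨hp1, hp2⟩, rfl⟩
    have h1 : (fst G G).left (pm p) ∈ SGA3x.neutralSet G := by
      rw [hpm1, neutralSet_eq_sectionComponents]
      exact (hC1 _).1 hp1
    have h2 : (snd G G).left (pm p) ∈ SGA3x.neutralSet G := by
      rw [hpm2, neutralSet_eq_sectionComponents]
      exact (hC1 _).1 hp2
    have h1' := mem_of_mem_neutralSet G h1 (hfst _)
    have h2' := mem_of_mem_neutralSet G h2 (hsnd _)
    have h3 := mul_mem_neutral G _ (pm p) h1' h2'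
    refine ⟨mem_neutralSet_of_mem G h3, ?_⟩
    show G.hom (μ[G].left (pm p)) ∈ V
    rw [hmu, ← hfst, hpm1]
    exact hUV (pullback.fst f'' f'' p).2
  · rintro x ⟨hx, hxV⟩
    have hxV' : G.hom x ∈ V := hxV
    haveI : LocallyOfFiniteType (Red.bc (fS (G.hom x)) G).hom :=
      locallyOfFiniteType_fibre G (G.hom x)
    obtain ⟨z, ⟨hz1, hz1'⟩, ⟨hz2, hz2'⟩, hz3⟩ := exists_mul_of_mem_neutral' G (G.hom x) U
      (hVU hxV') x (mem_of_mem_neutralSet G hx rfl)
    have hz : z ∈ Set.range pm := by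
      rw [hpm, Scheme.Pullback.range_map, Scheme.Opens.range_ι]
      exact ⟨hz1, hz2⟩
    obtain ⟨p, rfl⟩ := hz
    refine ⟨p, ⟨?_, ?_⟩, hz3⟩
    · show pullback.fst f'' f'' p ∈ MoreMor.sectionComponents f'' e''
      refine (hC1 (pullback.fst f'' f'' p)).2 ?_
      rw [← hpm1, ← neutralSet_eq_sectionComponents]
      exact mem_neutralSet_of_mem G hz1'
    · show pullback.snd f'' f'' p ∈ MoreMor.sectionComponents f'' e''
      refine (hC1 (pullback.snd f'' f'' p)).2 ?_
      rw [← hpm2, ← neutralSet_eq_sectionComponents]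
      exact mem_neutralSet_of_mem G hz2'

end Base

/-! ### part C3 -/
/-- If `f ≫ g` is locally of finite presentation and `g` is locally of finite type, then `f` is
locally of finite presentation (Stacks 02FV; copied from helper50's `LimDesc10`). -/
theorem lfp_of_comp {X Y Z : Scheme.{u}} (f : X ⟶ Y) (g : Y ⟶ Z)
    [LocallyOfFinitePresentation (f ≫ g)] [LocallyOfFiniteType g] :
    LocallyOfFinitePresentation f := by
  rw [HasRingHomProperty.iff_exists_appLE (P := @LocallyOfFinitePresentation)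
    (RingHom.finitePresentation_stableUnderComposition.stableUnderCompositionWithLocalizationAway
      RingHom.finitePresentation_holdsForLocalizationAway).left]
  intro x
  obtain ⟨_, ⟨W, hW : IsAffineOpen W, rfl⟩, hxW, -⟩ :=
    Z.isBasis_affineOpens.exists_subset_of_mem_open (Set.mem_univ (g (f x))) isOpen_univ
  obtain ⟨_, ⟨V, hV : IsAffineOpen V, rfl⟩, hxV, hVW⟩ :=
    Y.isBasis_affineOpens.exists_subset_of_mem_open (show f x ∈ g ⁻¹ᵁ W from hxW) (g ⁻¹ᵁ W).2
  obtain ⟨_, ⟨U, hU : IsAffineOpen U, rfl⟩, hxU, hUV⟩ :=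
    X.isBasis_affineOpens.exists_subset_of_mem_open (show x ∈ f ⁻¹ᵁ V from hxV) (f ⁻¹ᵁ V).2
  refine ⟨⟨V, hV⟩, ⟨U, hU⟩, hxU, hUV, ?_⟩
  have hUW : U ≤ (f ≫ g) ⁻¹ᵁ W := fun y hy ↦ hVW (hUV hy)
  have h1 : ((f ≫ g).appLE W U hUW).hom.FinitePresentation :=
    HasRingHomProperty.appLE @LocallyOfFinitePresentation _ inferInstance ⟨W, hW⟩ ⟨U, hU⟩ hUW
  have h2 : (g.appLE W V hVW).hom.FiniteType :=
    HasRingHomProperty.appLE @LocallyOfFiniteType _ inferInstance ⟨W, hW⟩ ⟨V, hV⟩ hVW
  have e : (f ≫ g).appLE W U hUW = g.appLE W V hVW ≫ f.appLE V U hUV :=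
    (Scheme.Hom.appLE_comp_appLE ..).symm
  rw [e, CommRingCat.hom_comp] at h1
  exact RingHom.FinitePresentation.of_comp_finiteType _ h1 h2

section Base
variable {S : Scheme.{u}} (G : Over S) [GrpObj G]

theorem mulOpen_hom (V : S.Opens) (U : G.left.Opens) (hUV : U ≤ G.hom ⁻¹ᵁ V) :
    mulOpen G V U hUV ≫ G.hom =
      pullback.fst (G.hom.resLE V U hUV) (G.hom.resLE V U hUV) ≫ U.ι ≫ G.hom := by
  unfold mulOpen
  rw [Category.assoc]
  have h1 : μ[G].left ≫ G.hom = pullback.fst G.hom G.hom ≫ G.hom := by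
    rw [Over.w μ[G]]
    rfl
  rw [h1, pullback.lift_fst_assoc, Category.assoc]

theorem lfp_mulOpen [LocallyOfFinitePresentation G.hom] (V : S.Opens) (U : G.left.Opens)
    (hUV : U ≤ G.hom ⁻¹ᵁ V) : LocallyOfFinitePresentation (mulOpen G V U hUV) := by
  haveI : LocallyOfFinitePresentation (mulOpen G V U hUV ≫ G.hom) := by
    rw [mulOpen_hom]
    infer_instance
  exact lfp_of_comp _ G.hom

theorem range_mulOpen_subset (V : S.Opens) (U : G.left.Opens) (hUV : U ≤ G.hom ⁻¹ᵁ V) :
    Set.range (mulOpen G V U hUV) ⊆ G.hom ⁻¹' (V : Set S) := by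
  rintro _ ⟨p, rfl⟩
  show G.hom (mulOpen G V U hUV p) ∈ V
  rw [← Scheme.Hom.comp_apply, mulOpen_hom, Scheme.Hom.comp_apply, Scheme.Hom.comp_apply]
  exact hUV (pullback.fst (G.hom.resLE V U hUV) (G.hom.resLE V U hUV) p).2

/-- the local package: an affine scheme with a constructible subset mapping onto the neutral set
over `V` -/
theorem exists_local_package [LocallyOfFinitePresentation G.hom] (V : S.Opens)
    (U : G.left.Opens) (hV : IsAffineOpen V) (hU : IsAffineOpen U) (hUV : U ≤ G.hom ⁻¹ᵁ V)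
    (hVU : V ≤ unitSec G ⁻¹ᵁ U) :
    ∃ (P : Scheme.{u}) (_ : IsAffine P) (m : P ⟶ G.left) (_ : LocallyOfFinitePresentation m)
      (T₂ : Set P), IsConstructible T₂ ∧
        m '' T₂ = SGA3x.neutralSet G ∩ G.hom ⁻¹' (V : Set S) ∧
        Set.range m ⊆ G.hom ⁻¹' (V : Set S) := by
  haveI : IsAffine ↑U := hU
  haveI : IsAffine ↑V := hV
  set f'' := G.hom.resLE V U hUV with hf''
  set e'' := (unitSec G).resLE U V hVU with he''
  have hsec : e'' ≫ f'' = 𝟙 _ := by
    rw [← cancel_mono V.ι, Category.assoc, hf'', Scheme.Hom.resLE_comp_ι, he'',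
      Scheme.Hom.resLE_comp_ι_assoc, unitSec_hom, Category.comp_id, Category.id_comp]
  have hT : IsConstructible (MoreMor.sectionComponents f'' e'') :=
    (Groth.Agent.S1326.result f'' e'' hsec).isConstructible
  refine ⟨pullback f'' f'', inferInstance, mulOpen G V U hUV, lfp_mulOpen G V U hUV,
    pullback.fst f'' f'' ⁻¹' MoreMor.sectionComponents f'' e'' ∩
      pullback.snd f'' f'' ⁻¹' MoreMor.sectionComponents f'' e'', ?_, ?_, ?_⟩
  · exact ((pullback.fst f'' f'').isConstructible_preimage hT).inter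
      ((pullback.snd f'' f'').isConstructible_preimage hT)
  · exact image_mulOpen G V U hUV hVU
  · exact range_mulOpen_subset G V U hUV

end Base

/-! ### part C4 -/
/-- Chevalley on one quasi-compact piece -/
theorem isConstructible_piece {X P : Scheme.{u}} (m : P ⟶ X) [LocallyOfFinitePresentation m]
    {T₂ : Set P} (hT₂ : IsConstructible T₂) (B : X.Opens) (hB : IsAffineOpen B) (A : P.Opens)
    (hA : IsCompact (A : Set P)) (hAB : A ≤ m ⁻¹ᵁ B) :
    IsConstructible ((m.resLE B A hAB) '' (A.ι ⁻¹' T₂)) := by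
  haveI : IsAffine ↑B := hB
  haveI : CompactSpace ↥(A : Scheme.{u}) := isCompact_iff_compactSpace.1 hA
  haveI : QuasiCompact (m.resLE B A hAB) := inferInstance
  exact (m.resLE B A hAB).isConstructible_image (A.ι.isConstructible_preimage hT₂)

theorem piece_eq {X P : Scheme.{u}} (m : P ⟶ X) (T₂ : Set P) (B : X.Opens) (A : P.Opens)
    (hAB : A ≤ m ⁻¹ᵁ B) :
    (m.resLE B A hAB) '' (A.ι ⁻¹' T₂) = B.ι ⁻¹' (m '' (T₂ ∩ (A : Set P))) := by
  have hι : ∀ a : ↥(A : Scheme.{u}), B.ι (m.resLE B A hAB a) = m (A.ι a) := by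
    intro a
    rw [← Scheme.Hom.comp_apply, ← Scheme.Hom.comp_apply, Scheme.Hom.resLE_comp_ι]
  ext b
  constructor
  · rintro ⟨a, ha, rfl⟩
    exact ⟨A.ι a, ⟨ha, a.2⟩, (hι a).symm⟩
  · rintro ⟨p, ⟨hp, hpA⟩, hpb⟩
    let w : ↥(A : Scheme.{u}) := ⟨p, hpA⟩
    refine ⟨w, hp, ?_⟩
    apply B.ι.isOpenEmbedding.injective
    exact (hι w).trans hpb

/-- the ind-constructible description on an affine open -/
theorem exists_sUnion_of_image {X P : Scheme.{u}} (m : P ⟶ X) [LocallyOfFinitePresentation m]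
    {T₂ : Set P} (hT₂ : IsConstructible T₂) (E : Set X) (Ω : X.Opens)
    (hE : m '' T₂ = E ∩ (Ω : Set X)) (B : X.Opens) (hB : IsAffineOpen B) (hBΩ : B ≤ Ω) :
    ∃ 𝒮 : Set (Set ↥(B : Scheme.{u})), (∀ T ∈ 𝒮, IsConstructible T) ∧
      (B.ι ⁻¹' E : Set ↥(B : Scheme.{u})) = ⋃₀ 𝒮 := by
  refine ⟨{T | ∃ (A : P.Opens) (_ : IsAffineOpen A) (hAB : A ≤ m ⁻¹ᵁ B),
    T = (m.resLE B A hAB) '' (A.ι ⁻¹' T₂)}, ?_, ?_⟩
  · rintro _ ⟨A, hA, hAB, rfl⟩
    exact isConstructible_piece m hT₂ B hB A hA.isCompact hAB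
  · ext b
    constructor
    · intro hb
      have hb' : B.ι b ∈ E ∩ (Ω : Set X) := ⟨hb, hBΩ b.2⟩
      rw [← hE] at hb'
      obtain ⟨p, hp, hpb⟩ := hb'
      have hpB : p ∈ m ⁻¹ᵁ B := by
        show m p ∈ B
        rw [hpb]
        exact b.2
      obtain ⟨_, ⟨A, hA : IsAffineOpen A, rfl⟩, hpA, hAB'⟩ :=
        P.isBasis_affineOpens.exists_subset_of_mem_open hpB (m ⁻¹ᵁ B).isOpen
      have hAB : A ≤ m ⁻¹ᵁ B := hAB'
      refine ⟨_, ⟨A, hA, hAB, rfl⟩, ?_⟩
      rw [piece_eq]
      exact ⟨p, ⟨hp, hpA⟩, hpb⟩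
    · rintro ⟨_, ⟨A, hA, hAB, rfl⟩, hb⟩
      rw [piece_eq] at hb
      obtain ⟨p, ⟨hp, -⟩, hpb⟩ := hb
      have : m p ∈ E ∩ (Ω : Set X) := hE ▸ ⟨p, hp, rfl⟩
      show B.ι b ∈ E
      rw [← hpb]
      exact this.1

/-- the constructible description on an affine open with quasi-compact preimage -/
theorem isConstructible_of_image {X P : Scheme.{u}} (m : P ⟶ X) [LocallyOfFinitePresentation m]
    {T₂ : Set P} (hT₂ : IsConstructible T₂) (E : Set X) (Ω : X.Opens)
    (hE : m '' T₂ = E ∩ (Ω : Set X)) (B : X.Opens) (hB : IsAffineOpen B) (hBΩ : B ≤ Ω)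
    (hc : IsCompact (m ⁻¹' (B : Set X))) :
    IsConstructible (B.ι ⁻¹' E : Set ↥(B : Scheme.{u})) := by
  have h1 := isConstructible_piece m hT₂ B hB (m ⁻¹ᵁ B) hc le_rfl
  rw [piece_eq] at h1
  convert h1 using 1
  ext b
  constructor
  · intro hb
    have hb' : B.ι b ∈ E ∩ (Ω : Set X) := ⟨hb, hBΩ b.2⟩
    rw [← hE] at hb'
    obtain ⟨p, hp, hpb⟩ := hb'
    refine ⟨p, ⟨hp, ?_⟩, hpb⟩
    show m p ∈ B
    rw [hpb]
    exact b.2
  · rintro ⟨p, ⟨hp, -⟩, hpb⟩
    have : m p ∈ E ∩ (Ω : Set X) := hE ▸ ⟨p, hp, rfl⟩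
    show B.ι b ∈ E
    rw [← hpb]
    exact this.1

end Sch
end Groth.Agent.Lib.Helper78.NeutralCons
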