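import Groth.Agent.Lib.Helper78.FpqcCov
import Groth.Agent.S12496

/-!
# Descent of properties of morphisms along morphisms covering for the fpqc topology (helper78)
-/

set_option autoImplicit false
set_option linter.style.haveILetI false
set_option linter.unusedSectionVars false
set_option linter.dupNamespace false
set_option backward.isDefEq.respectTransparency.types false
universe u
open CategoryTheory CategoryTheory.Limits AlgebraicGeometry

namespace Groth.Agent.Lib.Helper78.FpqcCov

/-- descent along a single fpqc covering (quasi-compact covering, not nec. a quasi-compact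
morphism), from descent along fpqc morphisms. -/
theorem IsFpqc1.descends (P : MorphismProperty Scheme.{u}) [IsZariskiLocalAtTarget P]
    (hP : P.DescendsAlong (@Surjective ⊓ @Flat ⊓ @QuasiCompact : MorphismProperty Scheme.{u}))
    {X Y Z : Scheme.{u}} (f : X ⟶ Y) {q : Z ⟶ Y} (hq : IsFpqc1 q)
    (h : P (pullback.snd f q)) : P f := by
  let 𝒰 : Scheme.Cover.{u} Scheme.fpqcPrecoverage Y := Precoverage.ZeroHypercover.singleton q hq
  exact Groth.Agent.S12496.result P hP f 𝒰 (fun _ => h)

/-- descent along a morphism covering for the fpqc topology. -/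
theorem FpqcCov.descends (P : MorphismProperty Scheme.{u}) [IsZariskiLocalAtTarget P]
    [P.IsStableUnderBaseChange]
    (hP : P.DescendsAlong (@Surjective ⊓ @Flat ⊓ @QuasiCompact : MorphismProperty Scheme.{u}))
    {X Y X' W : Scheme.{u}} {f : X ⟶ Y} {p : X' ⟶ Y} (hp : FpqcCov p)
    {f' : W ⟶ X'} {g : W ⟶ X} (sq : IsPullback g f' f p) (h : P f') : P f := by
  obtain ⟨Z, q, r, hrq, hq⟩ := hp
  refine hq.descends P hP f ?_
  have big : IsPullback (pullback.fst f q) (pullback.snd f q) f (r ≫ p) := by
    rw [hrq]
    exact IsPullback.of_hasPullback f q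
  have hw : pullback.fst f q ≫ f = (pullback.snd f q ≫ r) ≫ p := by
    rw [Category.assoc, hrq]
    exact pullback.condition
  have left : IsPullback (sq.lift (pullback.fst f q) (pullback.snd f q ≫ r) hw)
      (pullback.snd f q) f' r := by
    refine IsPullback.of_right ?_ (sq.lift_snd _ _ _) sq
    rw [sq.lift_fst]
    exact big
  exact P.of_isPullback left h

end Groth.Agent.Lib.Helper78.FpqcCov
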