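import Mathlib
import Groth.Agent.Lib.Helper51.Tower

set_option autoImplicit false
set_option linter.style.haveILetI false
universe u
open TensorProduct

namespace Groth.Agent.Lib.Helper78.GalTrans

section Algebra

variable (K : Type*) [Field K] (R : Type*) [CommRing R] [Algebra K R]
  (L : Type*) [Field L] [Algebra K L]

/-- The action of `Gal(L/K)` on `R ⊗[K] L` through the second factor, as a monoid hom. -/
noncomputable def tensorAut : (L ≃ₐ[K] L) →* ((R ⊗[K] L) ≃ₐ[R] (R ⊗[K] L)) where
  toFun σ := Algebra.TensorProduct.congr AlgEquiv.refl σ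
  map_one' := by
    apply AlgEquiv.ext
    intro x
    induction x using TensorProduct.induction_on with
    | zero => simp
    | tmul a b => simp
    | add a b ha hb => simp only [map_add, ha, hb]
  map_mul' σ τ := by
    apply AlgEquiv.ext
    intro x
    induction x using TensorProduct.induction_on with
    | zero => simp
    | tmul a b => simp
    | add a b ha hb => simp only [map_add, ha, hb]

@[simp]
theorem tensorAut_tmul (σ : L ≃ₐ[K] L) (r : R) (l : L) :
    tensorAut K R L σ (r ⊗ₜ l) = r ⊗ₜ σ l := by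
  simp [tensorAut]

/-- The induced action. -/
@[reducible] noncomputable def tensorAction : MulSemiringAction (L ≃ₐ[K] L) (R ⊗[K] L) :=
  MulSemiringAction.compHom (R ⊗[K] L) (tensorAut K R L)

attribute [local instance] tensorAction

theorem smul_def (σ : L ≃ₐ[K] L) (x : R ⊗[K] L) : σ • x = tensorAut K R L σ x := rfl

instance : SMulCommClass (L ≃ₐ[K] L) R (R ⊗[K] L) where
  smul_comm σ r x := by
    rw [smul_def, smul_def, map_smul]

open Classical in
theorem repr_smul (ℬ : Module.Basis (Module.Free.ChooseBasisIndex K R) K R) (σ : L ≃ₐ[K] L)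
    (x : R ⊗[K] L) (i) :
    TensorProduct.equivFinsuppOfBasisLeft ℬ (σ • x) i =
      σ (TensorProduct.equivFinsuppOfBasisLeft ℬ x i) := by
  induction x using TensorProduct.induction_on with
  | zero => simp
  | tmul a b =>
    rw [smul_def, tensorAut_tmul]
    simp
  | add a b ha hb =>
    rw [smul_add, map_add, map_add, Finsupp.add_apply, Finsupp.add_apply, ha, hb, map_add]

theorem isInvariant [IsGalois K L] : Algebra.IsInvariant R (R ⊗[K] L) (L ≃ₐ[K] L) := by
  classical
  refine ⟨fun b hb => ?_⟩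
  let ℬ := Module.Free.chooseBasis K R
  have h1 : ∀ i, ∃ c : K, algebraMap K L c = TensorProduct.equivFinsuppOfBasisLeft ℬ b i := by
    intro i
    have : TensorProduct.equivFinsuppOfBasisLeft ℬ b i ∈ Set.range (algebraMap K L) := by
      rw [InfiniteGalois.mem_range_algebraMap_iff_fixed]
      intro σ
      rw [← repr_smul, hb σ]
    exact this
  choose c hc using h1
  refine ⟨(TensorProduct.equivFinsuppOfBasisLeft ℬ b).sum fun i _ => c i • ℬ i, ?_⟩
  conv_rhs => rw [← (TensorProduct.equivFinsuppOfBasisLeft ℬ).symm_apply_apply b,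
    TensorProduct.equivFinsuppOfBasisLeft_symm_apply]
  rw [Finsupp.sum, Finsupp.sum, map_sum]
  refine Finset.sum_congr rfl fun i _ => ?_
  rw [Algebra.TensorProduct.algebraMap_apply, Algebra.algebraMap_self, RingHom.id_apply,
    ← hc i, Algebra.algebraMap_eq_smul_one, TensorProduct.smul_tmul]

theorem isOpen_stabilizer [Algebra.IsIntegral K L] (b : R ⊗[K] L) :
    IsOpen (MulAction.stabilizer (L ≃ₐ[K] L) b : Set (L ≃ₐ[K] L)) := by
  classical
  obtain ⟨s, hs⟩ := TensorProduct.exists_finset b
  let E : IntermediateField K L := IntermediateField.adjoin K ((s.image Prod.snd : Finset L) : Set L)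
  haveI : FiniteDimensional K E :=
    IntermediateField.finiteDimensional_adjoin (fun x _ => Algebra.IsIntegral.isIntegral x)
  refine Subgroup.isOpen_mono (H₁ := E.fixingSubgroup) ?_ E.fixingSubgroup_isOpen
  intro σ hσ
  rw [MulAction.mem_stabilizer_iff, hs, Finset.smul_sum]
  refine Finset.sum_congr rfl fun i hi => ?_
  rw [smul_def, tensorAut_tmul]
  congr 1
  rw [IntermediateField.mem_fixingSubgroup_iff] at hσ
  exact hσ i.2 (IntermediateField.subset_adjoin K _ (by
    simp only [Finset.coe_image, Set.mem_image, Finset.mem_coe]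
    exact ⟨i, hi, rfl⟩))

/-- `Gal(L/K)` acts transitively on the primes of `R ⊗[K] L` lying over a given prime of `R`. -/
theorem exists_comap_eq [IsGalois K L] (P Q : Ideal (R ⊗[K] L)) [P.IsPrime] [Q.IsPrime]
    (hPQ : P.comap (algebraMap R (R ⊗[K] L)) = Q.comap (algebraMap R (R ⊗[K] L))) :
    ∃ σ : L ≃ₐ[K] L, Q = P.comap (tensorAut K R L σ : (R ⊗[K] L) →+* (R ⊗[K] L)) := by
  letI : TopologicalSpace (R ⊗[K] L) := ⊥
  haveI : DiscreteTopology (R ⊗[K] L) := ⟨rfl⟩
  haveI : ContinuousSMul (L ≃ₐ[K] L) (R ⊗[K] L) := by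
    refine ⟨continuous_prod_of_discrete_right.mpr fun b => ?_⟩
    refine continuous_discrete_rng.mpr fun b' => ?_
    by_cases h : ∃ g : L ≃ₐ[K] L, g • b = b'
    · obtain ⟨g, rfl⟩ := h
      have : (fun x : L ≃ₐ[K] L => x • b) ⁻¹' {g • b} =
          (fun x => g⁻¹ * x) ⁻¹' (MulAction.stabilizer (L ≃ₐ[K] L) b : Set (L ≃ₐ[K] L)) := by
        ext x
        simp only [Set.mem_preimage, Set.mem_singleton_iff, SetLike.mem_coe,
          MulAction.mem_stabilizer_iff, mul_smul]
        rw [inv_smul_eq_iff]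
      rw [this]
      exact (isOpen_stabilizer K R L b).preimage (continuous_const_mul _)
    · convert isOpen_empty
      ext x
      simp only [Set.mem_preimage, Set.mem_singleton_iff, Set.mem_empty_iff_false, iff_false]
      exact fun hx => h ⟨x, hx⟩
  haveI := isInvariant K R L
  obtain ⟨g, hg⟩ := Algebra.IsInvariant.exists_smul_of_under_eq_of_profinite
    (A := R) (B := R ⊗[K] L) (G := L ≃ₐ[K] L) P Q hPQ
  refine ⟨g⁻¹, ?_⟩
  rw [hg, Ideal.pointwise_smul_eq_comap]
  ext x
  simp only [Ideal.mem_comap]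
  rfl

end Algebra

section Scheme

open CategoryTheory CategoryTheory.Limits AlgebraicGeometry Groth.Agent.Lib.Helper51

variable {K : Type u} [Field K] {Y : Scheme.{u}} (g : Y ⟶ Spec (CommRingCat.of K))
  (L : Type u) [Field L] [Algebra K L]

/-- The action of a `K`-automorphism of `L` on the base change `Y_L`. -/
noncomputable def gal (σ : L ≃ₐ[K] L) :
    pullback g (Spec.map (CommRingCat.ofHom (algebraMap K L))) ⟶
      pullback g (Spec.map (CommRingCat.ofHom (algebraMap K L))) :=
  pullback.map _ _ _ _ (𝟙 Y) (Spec.map (CommRingCat.ofHom (σ : L →ₐ[K] L).toRingHom)) (𝟙 _)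
    (by simp) (by rw [Category.comp_id, ← Spec.map_comp, ← CommRingCat.ofHom_comp,
      AlgHom.toRingHom_eq_coe, AlgHom.comp_algebraMap])

@[reassoc (attr := simp)]
theorem gal_fst (σ : L ≃ₐ[K] L) : gal g L σ ≫ pullback.fst _ _ = pullback.fst _ _ := by
  rw [gal, pullback.map, pullback.lift_fst, Category.comp_id]

@[reassoc (attr := simp)]
theorem gal_snd (σ : L ≃ₐ[K] L) : gal g L σ ≫ pullback.snd _ _ =
    pullback.snd _ _ ≫ Spec.map (CommRingCat.ofHom (σ : L →ₐ[K] L).toRingHom) := by
  rw [gal, pullback.map, pullback.lift_snd]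

theorem gal_one : gal g L (1 : L ≃ₐ[K] L) = 𝟙 _ := by
  apply pullback.hom_ext
  · rw [gal_fst, Category.id_comp]
  · rw [gal_snd, Category.id_comp]
    have : CommRingCat.ofHom (((1 : L ≃ₐ[K] L) : L →ₐ[K] L).toRingHom) = 𝟙 _ := rfl
    rw [this, Spec.map_id, Category.comp_id]

theorem gal_mul (σ τ : L ≃ₐ[K] L) : gal g L (σ * τ) = gal g L σ ≫ gal g L τ := by
  apply pullback.hom_ext
  · rw [gal_fst, Category.assoc, gal_fst, gal_fst]
  · rw [gal_snd, Category.assoc, gal_snd, gal_snd_assoc, ← Spec.map_comp]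
    rfl

theorem gal_inv_apply (σ : L ≃ₐ[K] L)
    (a : ↥(pullback g (Spec.map (CommRingCat.ofHom (algebraMap K L))))) :
    gal g L σ (gal g L σ⁻¹ a) = a := by
  rw [← Scheme.Hom.comp_apply, ← gal_mul, inv_mul_cancel, gal_one]
  rfl

theorem fst_gal_apply (σ : L ≃ₐ[K] L)
    (a : ↥(pullback g (Spec.map (CommRingCat.ofHom (algebraMap K L))))) :
    pullback.fst g (Spec.map (CommRingCat.ofHom (algebraMap K L))) (gal g L σ a) =
      pullback.fst g (Spec.map (CommRingCat.ofHom (algebraMap K L))) a := by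
  rw [← Scheme.Hom.comp_apply, gal_fst]

theorem tensorAut_comp_includeLeft (κ : Type u) [Field κ] [Algebra K κ] (σ : L ≃ₐ[K] L) :
    (tensorAut K κ L σ : (κ ⊗[K] L) →+* (κ ⊗[K] L)).comp
      (Algebra.TensorProduct.includeLeftRingHom : κ →+* κ ⊗[K] L) =
      Algebra.TensorProduct.includeLeftRingHom := by
  ext x
  simp

theorem tensorAut_comp_includeRight (κ : Type u) [Field κ] [Algebra K κ] (σ : L ≃ₐ[K] L) :
    (tensorAut K κ L σ : (κ ⊗[K] L) →+* (κ ⊗[K] L)).comp
      (Algebra.TensorProduct.includeRight : L →ₐ[K] κ ⊗[K] L).toRingHom =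
      ((Algebra.TensorProduct.includeRight : L →ₐ[K] κ ⊗[K] L).toRingHom).comp
        (σ : L →ₐ[K] L).toRingHom := by
  ext x
  simp

theorem pullbackSpecIso_inv_gal (κ : Type u) [Field κ] [Algebra K κ] (σ : L ≃ₐ[K] L) :
    (pullbackSpecIso K κ L).inv ≫ gal (Spec.map (CommRingCat.ofHom (algebraMap K κ))) L σ =
      Spec.map (CommRingCat.ofHom (tensorAut K κ L σ : (κ ⊗[K] L) →+* (κ ⊗[K] L))) ≫
        (pullbackSpecIso K κ L).inv := by
  apply pullback.hom_ext
  · rw [Category.assoc, gal_fst, Category.assoc, pullbackSpecIso_inv_fst, ← Spec.map_comp,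
      ← CommRingCat.ofHom_comp, tensorAut_comp_includeLeft]
  · rw [Category.assoc, gal_snd, Category.assoc, pullbackSpecIso_inv_snd, ← Spec.map_comp,
      pullbackSpecIso_inv_snd_assoc, ← Spec.map_comp, ← CommRingCat.ofHom_comp,
      ← CommRingCat.ofHom_comp]
    congr 2

theorem fibMap_gal (y : Y) [Algebra K (Y.residueField y)]
    (hφ : Spec.map (CommRingCat.ofHom (algebraMap K (Y.residueField y))) =
      Y.fromSpecResidueField y ≫ g) (σ : L ≃ₐ[K] L) :
    fibMap g y hφ L ≫ gal g L σ =
      gal (Spec.map (CommRingCat.ofHom (algebraMap K (Y.residueField y)))) L σ ≫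
        fibMap g y hφ L := by
  apply pullback.hom_ext
  · rw [Category.assoc, gal_fst, Category.assoc, fibMap_fst, gal_fst_assoc]
  · rw [Category.assoc, gal_snd, fibMap_snd_assoc, Category.assoc, fibMap_snd, gal_snd]

theorem exists_gal_fibMap_eq [IsGalois K L] (y : Y) [Algebra K (Y.residueField y)]
    (hφ : Spec.map (CommRingCat.ofHom (algebraMap K (Y.residueField y))) =
      Y.fromSpecResidueField y ≫ g)
    (b b' : ↥(pullback (Spec.map (CommRingCat.ofHom (algebraMap K (Y.residueField y))))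
      (Spec.map (CommRingCat.ofHom (algebraMap K L))))) :
    ∃ σ : L ≃ₐ[K] L, gal g L σ (fibMap g y hφ L b) = fibMap g y hφ L b' := by
  let e := pullbackSpecIso K (Y.residueField y) L
  let P : Ideal (Y.residueField y ⊗[K] L) := (e.hom b).asIdeal
  let Q : Ideal (Y.residueField y ⊗[K] L) := (e.hom b').asIdeal
  haveI : P.IsPrime := (e.hom b).isPrime
  haveI : Q.IsPrime := (e.hom b').isPrime
  have hPQ : P.comap (algebraMap (Y.residueField y) (Y.residueField y ⊗[K] L)) =
      Q.comap (algebraMap (Y.residueField y) (Y.residueField y ⊗[K] L)) := by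
    rw [Ideal.eq_bot_of_prime (P.comap _), Ideal.eq_bot_of_prime (Q.comap _)]
  obtain ⟨σ, hσ⟩ := exists_comap_eq K (Y.residueField y) L P Q hPQ
  refine ⟨σ, ?_⟩
  have h1 : Spec.map (CommRingCat.ofHom (tensorAut K (Y.residueField y) L σ :
      (Y.residueField y ⊗[K] L) →+* (Y.residueField y ⊗[K] L))) (e.hom b) = e.hom b' := by
    apply PrimeSpectrum.ext
    exact hσ.symm
  have h2 : gal (Spec.map (CommRingCat.ofHom (algebraMap K (Y.residueField y)))) L σ b = b' := by
    have := congr_arg (fun f => f (e.hom b)) (pullbackSpecIso_inv_gal (K := K) L (Y.residueField y) σ)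
    simp only [Scheme.Hom.comp_apply] at this
    rw [h1] at this
    have hb : e.inv (e.hom b) = b := by
      rw [← Scheme.Hom.comp_apply, Iso.hom_inv_id]; rfl
    have hb' : e.inv (e.hom b') = b' := by
      rw [← Scheme.Hom.comp_apply, Iso.hom_inv_id]; rfl
    rw [hb, hb'] at this
    exact this
  rw [← Scheme.Hom.comp_apply, fibMap_gal, Scheme.Hom.comp_apply, h2]

/-- `Gal(L/K)` acts transitively on the fibres of `Y_L ⟶ Y`. -/
theorem exists_gal_eq [IsGalois K L]
    (a a' : ↥(pullback g (Spec.map (CommRingCat.ofHom (algebraMap K L)))))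
    (h : pullback.fst g (Spec.map (CommRingCat.ofHom (algebraMap K L))) a =
      pullback.fst g (Spec.map (CommRingCat.ofHom (algebraMap K L))) a') :
    ∃ σ : L ≃ₐ[K] L, gal g L σ a = a' := by
  obtain ⟨y, hy⟩ : ∃ y, y = pullback.fst g (Spec.map (CommRingCat.ofHom (algebraMap K L))) a :=
    ⟨_, rfl⟩
  let φ : K →+* Y.residueField y := (Spec.preimage (Y.fromSpecResidueField y ≫ g)).hom
  letI : Algebra K (Y.residueField y) := φ.toAlgebra
  have hφ : Spec.map (CommRingCat.ofHom (algebraMap K (Y.residueField y))) =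
      Y.fromSpecResidueField y ≫ g := Spec.map_preimage _
  have ha : a ∈ Set.range (fibMap g y hφ L) := by rw [range_fibMap]; exact hy.symm
  have ha' : a' ∈ Set.range (fibMap g y hφ L) := by rw [range_fibMap]; exact (hy.trans h).symm
  obtain ⟨b, rfl⟩ := ha
  obtain ⟨b', rfl⟩ := ha'
  exact exists_gal_fibMap_eq g L y hφ b b'

end Scheme

end Groth.Agent.Lib.Helper78.GalTrans
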