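import Mathlib
import Groth.Agent.Lib.Helper70.FinFlatSch

set_option autoImplicit false
set_option linter.style.haveILetI false

universe u

open CategoryTheory CategoryTheory.Limits AlgebraicGeometry

namespace Groth.Agent.Lib.Helper78.ContrISO

/-- Ring core: `A` integrally closed domain with fraction field `K`, `A → B` integral,
`B ↪ C`, `A' ≃ C` compatible, `A' ↪ K` over `A`: then `A → B` is surjective. -/
theorem ring_core {A A' B C K : Type*} [CommRing A] [IsDomain A] [IsIntegrallyClosed A]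
    [CommRing A'] [CommRing B] [CommRing C] [Field K] [Algebra A K] [IsFractionRing A K]
    (φ : A →+* B) (ρ : A →+* A') (ψ : B →+* C) (θ : A' →+* C) (κ : A' →+* K)
    (hcomm : ψ.comp φ = θ.comp ρ) (hκ : κ.comp ρ = algebraMap A K)
    (hφint : φ.IsIntegral) (hψ : Function.Injective ψ) (hθ : Function.Bijective θ)
    (hκinj : Function.Injective κ) : Function.Surjective φ := by
  intro b
  obtain ⟨a', ha'⟩ := hθ.2 (ψ b)
  obtain ⟨q, hq, hqb⟩ := hφint b
  have h1 : Polynomial.eval₂ (θ.comp ρ) (θ a') q = 0 := by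
    rw [ha', ← hcomm, ← Polynomial.hom_eval₂, hqb, map_zero]
  have h2 : Polynomial.eval₂ ρ a' q = 0 := by
    apply hθ.1
    rw [Polynomial.hom_eval₂, h1, map_zero]
  have h3 : IsIntegral A (κ a') := by
    refine ⟨q, hq, ?_⟩
    rw [← hκ, ← Polynomial.hom_eval₂, h2, map_zero]
  obtain ⟨a, ha⟩ := (IsIntegrallyClosed.isIntegral_iff (K := K)).mp h3
  refine ⟨a, hψ ?_⟩
  have h4 : ρ a = a' := by
    apply hκinj
    rw [← ha, ← hκ]
    rfl
  have h5 : ψ (φ a) = θ (ρ a) := by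
    have := congrArg (fun g => g a) hcomm
    simpa using this
  rw [h5, h4, ha']

set_option backward.isDefEq.respectTransparency false in
/-- An affine morphism is an isomorphism as soon as it induces bijections on sections over affine
opens of the target. -/
theorem isIso_of_forall_bijective_app {Z Y : Scheme.{u}} (p : Z ⟶ Y) [IsAffineHom p]
    (h : ∀ U : Y.Opens, IsAffineOpen U → Function.Bijective (p.app U).hom) : IsIso p := by
  have key : MorphismProperty.isomorphisms Scheme p := by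
    rw [HasAffineProperty.eq_targetAffineLocally (P := MorphismProperty.isomorphisms Scheme)
      (Q := fun X _ f _ ↦ IsAffine X ∧ IsIso (f.appTop))]
    intro U
    have hU : IsAffineOpen (p ⁻¹ᵁ U.1) := U.2.preimage p
    refine ⟨hU, ?_⟩
    have h1 : IsIso (p.appLE U.1 (p ⁻¹ᵁ U.1) le_rfl) := by
      rw [Scheme.Hom.appLE_eq_app]
      exact (ConcreteCategory.isIso_iff_bijective _).mpr (h U.1 U.2)
    have h2 := (MorphismProperty.isomorphisms CommRingCat).arrow_mk_iso_iff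
      (arrowResLEAppIso p U.1 (p ⁻¹ᵁ U.1) le_rfl)
    rw [Scheme.Hom.resLE_eq_morphismRestrict] at h2
    exact h2.mpr h1
  exact key

theorem bijective_app_aux {X Y : Scheme.{u}} (f : X ⟶ Y) (W W₁ : Y.Opens) (W₂ : X.Opens)
    (e : W₂ ≤ f ⁻¹ᵁ W₁) (h1 : W₁ = W) (h2 : W₂ = f ⁻¹ᵁ W)
    (h : Function.Bijective (f.appLE W₁ W₂ e).hom) : Function.Bijective (f.app W).hom := by
  subst h1
  subst h2
  rwa [Scheme.Hom.appLE_eq_app] at h

theorem bijective_app_of_isIso_morphismRestrict {X Y : Scheme.{u}} (f : X ⟶ Y) (V W : Y.Opens)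
    (hWV : W ≤ V) [IsIso (f ∣_ V)] : Function.Bijective (f.app W).hom := by
  have h0 : Function.Bijective ((f ∣_ V).app (V.ι ⁻¹ᵁ W)).hom :=
    (ConcreteCategory.isIso_iff_bijective _).mp inferInstance
  rw [morphismRestrict_app'] at h0
  have hW : V.ι ''ᵁ (V.ι ⁻¹ᵁ W) = W := by
    rw [Scheme.Hom.image_preimage_eq_opensRange_inf, Scheme.Opens.opensRange_ι]
    exact inf_eq_right.mpr hWV
  refine bijective_app_aux f W _ _ _ hW ?_ h0
  rw [image_morphismRestrict_preimage, hW]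

theorem app_injective_of_isDominant {X Z : Scheme.{u}} [IsReduced Z] (t : X ⟶ Z) [IsDominant t]
    (W : Z.Opens) : Function.Injective (t.app W).hom := by
  rw [injective_iff_map_eq_zero]
  intro s hs
  rw [← basicOpen_eq_bot_iff]
  by_contra hne
  rw [← TopologicalSpace.Opens.not_nonempty_iff_eq_bot, not_not] at hne
  obtain ⟨z, hz⟩ := hne
  obtain ⟨x, hx⟩ := t.denseRange.exists_mem_open (Z.basicOpen s).isOpen ⟨z, hz⟩
  have h1 : x ∈ t ⁻¹ᵁ (Z.basicOpen s) := hx
  rw [Scheme.preimage_basicOpen] at h1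
  have h2 : (t.app W).hom s = 0 := hs
  erw [h2] at h1
  rw [Scheme.basicOpen_zero] at h1
  exact h1

theorem isIso_of_isFinite_of_factor {X Z Y : Scheme.{u}} [IsIntegral X] [IsIntegral Z]
    [IsIntegral Y] (hnor : ∀ y : Y, IsIntegrallyClosed (Y.presheaf.stalk y)) (t : X ⟶ Z)
    [IsDominant t] (p : Z ⟶ Y) [IsFinite p] (V : Y.Opens) (hV : (V : Set Y).Nonempty)
    (hiso : IsIso ((t ≫ p) ∣_ V)) : IsIso p := by
  apply isIso_of_forall_bijective_app
  intro U hU
  by_cases hne : Nonempty U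
  swap
  · -- empty case
    have hUbot : U = ⊥ := by
      rw [← TopologicalSpace.Opens.not_nonempty_iff_eq_bot]
      intro ⟨y, hy⟩
      exact hne ⟨⟨y, hy⟩⟩
    subst hUbot
    have h2 : Subsingleton Γ(Z, p ⁻¹ᵁ ⊥) := by
      have : p ⁻¹ᵁ ⊥ = ⊥ := by simp
      rw [this]; infer_instance
    exact ⟨Function.injective_of_subsingleton _, fun b => ⟨0, Subsingleton.elim _ _⟩⟩
  · haveI := hne
    obtain ⟨v, hv⟩ := hV
    have hWne : Nonempty (U ⊓ V : Y.Opens) := by
      obtain ⟨⟨y, hy⟩⟩ := hne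
      obtain ⟨w, hw⟩ := nonempty_preirreducible_inter U.isOpen V.isOpen ⟨y, hy⟩ ⟨v, hv⟩
      exact ⟨⟨w, hw⟩⟩
    have hWU : U ⊓ V ≤ U := inf_le_left
    have hWV : U ⊓ V ≤ V := inf_le_right
    have hθ : Function.Bijective ((t ≫ p).app (U ⊓ V)).hom :=
      bijective_app_of_isIso_morphismRestrict (t ≫ p) V (U ⊓ V) hWV
    have hXne : Nonempty ((t ≫ p) ⁻¹ᵁ (U ⊓ V) : X.Opens) := by
      by_contra hcon
      have hbot : (t ≫ p) ⁻¹ᵁ (U ⊓ V) = ⊥ := by
        rw [← TopologicalSpace.Opens.not_nonempty_iff_eq_bot]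
        intro ⟨x, hx⟩
        exact hcon ⟨⟨x, hx⟩⟩
      have h1 : Subsingleton Γ(X, (t ≫ p) ⁻¹ᵁ (U ⊓ V)) := by
        rw [hbot]; infer_instance
      have h2 : Subsingleton Γ(Y, U ⊓ V) := hθ.1.subsingleton
      exact not_subsingleton Γ(Y, U ⊓ V) h2
    haveI : IsIntegrallyClosed Γ(Y, U) :=
      Groth.Agent.Lib.Helper70.FinFlatSch.isIntegrallyClosed_of_isAffineOpen hnor hU
    haveI : IsFractionRing Γ(Y, U) Y.functionField :=
      functionField_isFractionRing_of_isAffineOpen Y U hU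
    have hle : (t ≫ p) ⁻¹ᵁ (U ⊓ V) ≤ t ⁻¹ᵁ (p ⁻¹ᵁ U) := fun x hx => by
      have := hWU hx
      simpa using this
    have hρinj : Function.Injective (Y.presheaf.map (homOfLE hWU).op).hom :=
      map_injective_of_isIntegral Y (homOfLE hWU)
    have hψinj : Function.Injective (t.appLE (p ⁻¹ᵁ U) ((t ≫ p) ⁻¹ᵁ (U ⊓ V)) hle).hom := by
      rw [Scheme.Hom.appLE]
      exact (map_injective_of_isIntegral X (homOfLE hle)).comp (app_injective_of_isDominant t (p ⁻¹ᵁ U))
    have hcomm : (t.appLE (p ⁻¹ᵁ U) ((t ≫ p) ⁻¹ᵁ (U ⊓ V)) hle).hom.comp (p.app U).hom =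
        ((t ≫ p).app (U ⊓ V)).hom.comp (Y.presheaf.map (homOfLE hWU).op).hom := by
      have hc : p.app U ≫ t.appLE (p ⁻¹ᵁ U) ((t ≫ p) ⁻¹ᵁ (U ⊓ V)) hle =
          Y.presheaf.map (homOfLE hWU).op ≫ (t ≫ p).app (U ⊓ V) := by
        have hle' : (t ≫ p) ⁻¹ᵁ (U ⊓ V) ≤ (t ≫ p) ⁻¹ᵁ U := fun x hx => hWU hx
        have h1 : (t ≫ p).appLE U ((t ≫ p) ⁻¹ᵁ (U ⊓ V)) hle' =
            p.app U ≫ t.appLE (p ⁻¹ᵁ U) _ hle := Scheme.Hom.comp_appLE t p U _ _
        rw [← h1, Scheme.Hom.app_eq_appLE (t ≫ p), Scheme.Hom.map_appLE]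
      have := congrArg CommRingCat.Hom.hom hc
      simpa only [CommRingCat.hom_comp] using this
    have hκ : (Y.germToFunctionField (U ⊓ V)).hom.comp (Y.presheaf.map (homOfLE hWU).op).hom =
        algebraMap Γ(Y, U) Y.functionField := by
      have hc : Y.presheaf.map (homOfLE hWU).op ≫ Y.germToFunctionField (U ⊓ V) =
          Y.germToFunctionField U := Y.presheaf.germ_res _ _ _
      have := congrArg CommRingCat.Hom.hom hc
      rw [CommRingCat.hom_comp] at this
      exact this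
    have hsurj := ring_core (K := Y.functionField) (p.app U).hom
      (Y.presheaf.map (homOfLE hWU).op).hom
      (t.appLE (p ⁻¹ᵁ U) ((t ≫ p) ⁻¹ᵁ (U ⊓ V)) hle).hom ((t ≫ p).app (U ⊓ V)).hom
      (Y.germToFunctionField (U ⊓ V)).hom hcomm hκ (p.finite_app U hU).to_isIntegral hψinj hθ
      (Y.germToFunctionField_injective (U ⊓ V))
    refine ⟨?_, hsurj⟩
    have h3 : Function.Injective ((t.appLE (p ⁻¹ᵁ U) ((t ≫ p) ⁻¹ᵁ (U ⊓ V)) hle).hom.comp
        (p.app U).hom) := by
      rw [hcomm]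
      exact hθ.1.comp hρinj
    rw [RingHom.coe_comp] at h3
    exact Function.Injective.of_comp h3

end Groth.Agent.Lib.Helper78.ContrISO
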