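import Mathlib
import Groth.Agent.Lib.Helper78.ContrISO
import Groth.Agent.Lib.Helper45.ContrINT

set_option autoImplicit false
set_option linter.style.haveILetI false

universe u

open CategoryTheory CategoryTheory.Limits AlgebraicGeometry

namespace Groth.Agent.Lib.Helper78.NeronFinSEC

theorem exists_section_of_finite {W P : Scheme.{u}} [IsIntegral W]
    (hnor : ∀ w : W, IsIntegrallyClosed (W.presheaf.stalk w)) (p : P ⟶ W) [IsFinite p]
    (V : W.Opens) (hV : (V : Set W).Nonempty) (σ₀ : V.toScheme ⟶ P) [QuasiCompact σ₀]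
    (hσ₀ : σ₀ ≫ p = V.ι) : ∃ σ : W ⟶ P, σ ≫ p = 𝟙 W ∧ V.ι ≫ σ = σ₀ := by
  obtain ⟨v, hv⟩ := hV
  haveI : Nonempty V := ⟨⟨v, hv⟩⟩
  haveI : IsIntegral V.toScheme := inferInstance
  haveI : IsIntegral σ₀.image := Groth.Agent.Lib.Helper45.ContrINT.isIntegral_image σ₀
  haveI : IsFinite (σ₀.imageι ≫ p) := inferInstance
  have hfac : σ₀.toImage ≫ (σ₀.imageι ≫ p) = V.ι := by
    rw [← Category.assoc, Scheme.Hom.toImage_imageι, hσ₀]
  have hiso : IsIso ((σ₀.toImage ≫ (σ₀.imageι ≫ p)) ∣_ V) := by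
    rw [hfac]
    exact PullbackCone.isIso_fst_of_mono_of_isLimit (isPullback_morphismRestrict V.ι V).isLimit
  haveI : IsIso (σ₀.imageι ≫ p) :=
    Groth.Agent.Lib.Helper78.ContrISO.isIso_of_isFinite_of_factor hnor σ₀.toImage
      (σ₀.imageι ≫ p) V ⟨v, hv⟩ hiso
  refine ⟨inv (σ₀.imageι ≫ p) ≫ σ₀.imageι, ?_, ?_⟩
  · rw [Category.assoc, IsIso.inv_hom_id]
  · rw [← hfac, Category.assoc, IsIso.hom_inv_id_assoc, Scheme.Hom.toImage_imageι]

end Groth.Agent.Lib.Helper78.NeronFinSEC
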