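import Mathlib

/-!
# Coefficient ideals (helper78)

For an `R`-algebra `B` free with basis `bas`, and an ideal `I` of `B`, the *coefficient ideal*
`coeffIdeal bas I` is the ideal of `R` generated by all coefficients of all elements of `I`.
It is the smallest ideal `J` of `R` with `I ≤ J·B`, it commutes with base change along compatible
bases, and it computes "the locus where `I` vanishes" (SGA3 VIII 6.4 in the free case).
-/

set_option autoImplicit false
set_option linter.style.haveILetI false
universe u

namespace Groth.Agent.Lib.Helper78.CoeffIdeal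

open Module

variable {R B : Type*} [CommRing R] [CommRing B] [Algebra R B] {ι : Type*}

/-- membership in an extended ideal in terms of coordinates in a basis. -/
theorem mem_map_algebraMap_iff (bas : Basis ι R B) (J : Ideal R) (z : B) :
    z ∈ J.map (algebraMap R B) ↔ ∀ i, bas.repr z i ∈ J := by
  have h1 : z ∈ J.map (algebraMap R B) ↔ z ∈ (J • ⊤ : Submodule R B) := by
    rw [Ideal.smul_top_eq_map]
    rfl
  rw [h1, ← bas.span_eq, Submodule.mem_ideal_smul_span_iff_exists_sum]
  constructor
  · rintro ⟨a, ha, rfl⟩ i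
    have : (a.sum fun i c => c • bas i) = Finsupp.linearCombination R bas a := rfl
    rw [this, bas.repr_linearCombination]
    exact ha i
  · intro h
    exact ⟨bas.repr z, h, bas.linearCombination_repr z⟩

/-- the ideal generated by all coordinates of all elements of `I`. -/
def coeffIdeal (bas : Basis ι R B) (I : Ideal B) : Ideal R :=
  Ideal.span {r | ∃ z ∈ I, ∃ i, bas.repr z i = r}

theorem coeffIdeal_le_iff (bas : Basis ι R B) (I : Ideal B) (J : Ideal R) :
    coeffIdeal bas I ≤ J ↔ I ≤ J.map (algebraMap R B) := by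
  rw [coeffIdeal, Ideal.span_le]
  constructor
  · intro h z hz
    rw [mem_map_algebraMap_iff bas]
    intro i
    exact h ⟨z, hz, i, rfl⟩
  · rintro h _ ⟨z, hz, i, rfl⟩
    exact (mem_map_algebraMap_iff bas J z).mp (h hz) i

theorem le_map_coeffIdeal (bas : Basis ι R B) (I : Ideal B) :
    I ≤ (coeffIdeal bas I).map (algebraMap R B) :=
  (coeffIdeal_le_iff bas I _).mp le_rfl

section BaseChange

variable {R' B' : Type*} [CommRing R'] [CommRing B'] [Algebra R' B']
  (ρ : R →+* R') (η : B →+* B')
  (hcomm : ∀ r, η (algebraMap R B r) = algebraMap R' B' (ρ r))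
  (bas : Basis ι R B) (bas' : Basis ι R' B') (hb : ∀ i, η (bas i) = bas' i)

include hcomm hb

theorem repr_map (z : B) :
    bas'.repr (η z) = (bas.repr z).mapRange ρ ρ.map_zero := by
  have key : ∀ c : ι →₀ R, η (Finsupp.linearCombination R bas c) =
      Finsupp.linearCombination R' bas' (c.mapRange ρ ρ.map_zero) := by
    intro c
    induction c using Finsupp.induction_linear with
    | zero => simp
    | add c d hc hd =>
      rw [map_add, map_add, hc, hd, Finsupp.mapRange_add (by intro x y; exact map_add ρ x y),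
        map_add]
    | single i r =>
      rw [Finsupp.linearCombination_single, Finsupp.mapRange_single,
        Finsupp.linearCombination_single, Algebra.smul_def, map_mul, hcomm, hb, Algebra.smul_def]
  rw [← bas.linearCombination_repr z, key, bas'.repr_linearCombination,
    bas.linearCombination_repr]

theorem repr_map_apply (z : B) (i : ι) : bas'.repr (η z) i = ρ (bas.repr z i) := by
  rw [repr_map ρ η hcomm bas bas' hb, Finsupp.mapRange_apply]

/-- the vanishing criterion. -/
theorem le_ker_iff (I : Ideal B) :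
    I ≤ RingHom.ker η ↔ coeffIdeal bas I ≤ RingHom.ker ρ := by
  rw [coeffIdeal, Ideal.span_le]
  constructor
  · rintro h _ ⟨z, hz, i, rfl⟩
    have hz0 : η z = 0 := h hz
    change ρ (bas.repr z i) = 0
    rw [← repr_map_apply ρ η hcomm bas bas' hb, hz0, map_zero, Finsupp.zero_apply]
  · intro h z hz
    change η z = 0
    apply bas'.repr.injective
    rw [map_zero]
    ext i
    rw [repr_map_apply ρ η hcomm bas bas' hb, Finsupp.zero_apply]
    exact h ⟨z, hz, i, rfl⟩

/-- coefficient ideals commute with base change. -/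
theorem coeffIdeal_map (I : Ideal B) :
    coeffIdeal bas' (I.map η) = (coeffIdeal bas I).map ρ := by
  apply le_antisymm
  · rw [coeffIdeal_le_iff, Ideal.map_map]
    have e : (algebraMap R' B').comp ρ = η.comp (algebraMap R B) := by
      ext r
      exact (hcomm r).symm
    rw [e, ← Ideal.map_map]
    exact Ideal.map_mono (le_map_coeffIdeal bas I)
  · rw [coeffIdeal, Ideal.map_span, Ideal.span_le]
    rintro _ ⟨_, ⟨z, hz, i, rfl⟩, rfl⟩
    rw [← repr_map_apply ρ η hcomm bas bas' hb]
    exact Ideal.subset_span ⟨η z, Ideal.mem_map_of_mem η hz, i, rfl⟩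

end BaseChange

/-! ## instance-free packaging -/

section Packaged

variable {R B : Type*} [CommRing R] [CommRing B] {ι : Type*}

/-- `B` is free as an `R`-module (via `α`) on the family `v`. -/
def IsFreeOn (α : R →+* B) (v : ι → B) : Prop :=
  letI := α.toAlgebra
  ∃ bas : Basis ι R B, ∀ i, bas i = v i

/-- the smallest ideal `J` of `R` with `I ≤ J·B`. -/
def minIdeal (α : R →+* B) (I : Ideal B) : Ideal R := sInf {J : Ideal R | I ≤ J.map α}

theorem minIdeal_le {α : R →+* B} {I : Ideal B} {J : Ideal R} (h : I ≤ J.map α) :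
    minIdeal α I ≤ J := sInf_le h

theorem minIdeal_eq_coeffIdeal {α : R →+* B} (I : Ideal B) :
    letI := α.toAlgebra
    ∀ bas : Basis ι R B, minIdeal α I = coeffIdeal bas I := by
  letI := α.toAlgebra
  intro bas
  apply le_antisymm
  · exact minIdeal_le (le_map_coeffIdeal bas I)
  · refine le_sInf fun J hJ => ?_
    exact (coeffIdeal_le_iff bas I J).mpr hJ

theorem le_map_minIdeal {α : R →+* B} {v : ι → B} (h : IsFreeOn α v) (I : Ideal B) :
    I ≤ (minIdeal α I).map α := by
  letI := α.toAlgebra
  obtain ⟨bas, -⟩ := h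
  rw [minIdeal_eq_coeffIdeal I bas]
  exact le_map_coeffIdeal bas I

theorem minIdeal_le_iff {α : R →+* B} {v : ι → B} (h : IsFreeOn α v) (I : Ideal B)
    (J : Ideal R) : minIdeal α I ≤ J ↔ I ≤ J.map α :=
  ⟨fun h' => (le_map_minIdeal h I).trans (Ideal.map_mono h'), minIdeal_le⟩

variable {R' B' : Type*} [CommRing R'] [CommRing B']

theorem minIdeal_map {α : R →+* B} {α' : R' →+* B'} {v : ι → B} {v' : ι → B'}
    (h : IsFreeOn α v) (h' : IsFreeOn α' v') (ρ : R →+* R') (η : B →+* B')
    (hcomm : ∀ r, η (α r) = α' (ρ r)) (hv : ∀ i, η (v i) = v' i) (I : Ideal B) :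
    minIdeal α' (I.map η) = (minIdeal α I).map ρ := by
  letI := α.toAlgebra
  letI := α'.toAlgebra
  obtain ⟨bas, hbas⟩ := h
  obtain ⟨bas', hbas'⟩ := h'
  rw [minIdeal_eq_coeffIdeal I bas,
    minIdeal_eq_coeffIdeal (I.map η) bas']
  exact coeffIdeal_map ρ η hcomm bas bas' (fun i => by rw [hbas, hbas', hv]) I

theorem le_ker_iff_minIdeal {α : R →+* B} {α' : R' →+* B'} {v : ι → B} {v' : ι → B'}
    (h : IsFreeOn α v) (h' : IsFreeOn α' v') (ρ : R →+* R') (η : B →+* B')
    (hcomm : ∀ r, η (α r) = α' (ρ r)) (hv : ∀ i, η (v i) = v' i) (I : Ideal B) :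
    I ≤ RingHom.ker η ↔ minIdeal α I ≤ RingHom.ker ρ := by
  letI := α.toAlgebra
  letI := α'.toAlgebra
  obtain ⟨bas, hbas⟩ := h
  obtain ⟨bas', hbas'⟩ := h'
  rw [minIdeal_eq_coeffIdeal I bas]
  exact le_ker_iff ρ η hcomm bas bas' (fun i => by rw [hbas, hbas', hv]) I

end Packaged

end Groth.Agent.Lib.Helper78.CoeffIdeal
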