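import Mathlib
import Groth.Agent.Lib.Helper78.CoeffIdeal

/-!
# Representability of closed conditions over a field (helper78)

SGA3 VIII 6.4 over a field: let `k` be a field, `X`, `Y` arbitrary `k`-schemes and `E` a closed
subscheme of `Y ×_k X`.  Then the subfunctor of `X` of those `x : T ⟶ X` such that
`id × x : Y ×_k T ⟶ Y ×_k X` factors through `E` is represented by a closed subscheme of `X`.

* `le_ker_of_cover`: the inequality `𝓔 ≤ h.ker` of ideal sheaves is local.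
* `isFreeOn_pullback`: sections of `V × U` are free over sections of `U` on a basis of sections
  of `V` (over a field).
* `coeffSheaf`: the ideal sheaf on `X`.
* `le_ker_iff_coeffSheaf_le_ker`: its universal property in terms of kernels.
* `exists_closed_representing`: the statement in `Over (Spec k)`.
-/

set_option autoImplicit false
set_option linter.style.haveILetI false
set_option linter.unusedSectionVars false
universe u
open CategoryTheory CategoryTheory.Limits AlgebraicGeometry Opposite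

namespace Groth.Agent.Lib.Helper78.ClosedCond

open Groth.Agent.Lib.Helper78.CoeffIdeal

set_option backward.isDefEq.respectTransparency.types false


theorem exists_isFreeOn_of_isField {K A : Type u} [CommRing K] [CommRing A] (hK : IsField K)
    (φ : K →+* A) : ∃ (ι : Type u) (e : ι → A), IsFreeOn φ e := by
  letI := φ.toAlgebra
  letI fK : Field K := hK.toField
  haveI : Module.Free K A := Module.Free.of_divisionRing K A
  exact ⟨_, _, Module.Free.chooseBasis K A, fun _ => rfl⟩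

theorem isField_Γ_Spec (k : Type u) [Field k] : IsField Γ(Spec (CommRingCat.of k), ⊤) :=
  (Scheme.ΓSpecIso (CommRingCat.of k)).commRingCatIsoToRingEquiv.toMulEquiv.isField
    (Field.toIsField k)

section Free

variable {P Y X S : Scheme.{u}} {fst : P ⟶ Y} {snd : P ⟶ X} {fY : Y ⟶ S} {fX : X ⟶ S}
  (H : IsPullback fst snd fY fX)

include H

theorem isAffineOpen_inf_preimage {V : Y.Opens} {U : X.Opens} (hS : IsAffineOpen (⊤ : S.Opens))
    (hV : IsAffineOpen V) (hU : IsAffineOpen U) : IsAffineOpen (fst ⁻¹ᵁ V ⊓ snd ⁻¹ᵁ U) := by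
  have : IsAffine (⊤ : S.Opens) := hS
  have : IsAffine V := hV
  have : IsAffine U := hU
  exact .of_isIso (Scheme.Hom.isPullback_resLE H (US := ⊤) (UT := U) (UX := V) le_top le_top
    rfl).isoPullback.hom

theorem isFreeOn_pullback {V : Y.Opens} {U : X.Opens} (hS : IsAffineOpen (⊤ : S.Opens))
    (hV : IsAffineOpen V) (hU : IsAffineOpen U) {ι : Type*} (e : ι → Γ(Y, V))
    (he : IsFreeOn (fY.appLE ⊤ V le_top).hom e) :
    IsFreeOn (snd.appLE U (fst ⁻¹ᵁ V ⊓ snd ⁻¹ᵁ U) inf_le_right).hom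
      (fun i => (fst.appLE V (fst ⁻¹ᵁ V ⊓ snd ⁻¹ᵁ U) inf_le_left).hom (e i)) := by
  have hiso := isIso_pushoutSection_of_isAffineOpen H (US := ⊤) (UT := U) (UX := V)
    (UY := fst ⁻¹ᵁ V ⊓ snd ⁻¹ᵁ U) le_top le_top rfl hS hU hV
  have hpo := (isIso_pushoutSection_iff H (US := ⊤) (UT := U) (UX := V)
    (UY := fst ⁻¹ᵁ V ⊓ snd ⁻¹ᵁ U) le_top le_top rfl).mp hiso
  letI a1 : Algebra Γ(S, ⊤) Γ(Y, V) := (fY.appLE ⊤ V le_top).hom.toAlgebra
  letI a2 : Algebra Γ(S, ⊤) Γ(X, U) := (fX.appLE ⊤ U le_top).hom.toAlgebra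
  letI a3 : Algebra Γ(Y, V) Γ(P, fst ⁻¹ᵁ V ⊓ snd ⁻¹ᵁ U) :=
    (fst.appLE V (fst ⁻¹ᵁ V ⊓ snd ⁻¹ᵁ U) inf_le_left).hom.toAlgebra
  letI a4 : Algebra Γ(X, U) Γ(P, fst ⁻¹ᵁ V ⊓ snd ⁻¹ᵁ U) :=
    (snd.appLE U (fst ⁻¹ᵁ V ⊓ snd ⁻¹ᵁ U) inf_le_right).hom.toAlgebra
  letI a5 : Algebra Γ(S, ⊤) Γ(P, fst ⁻¹ᵁ V ⊓ snd ⁻¹ᵁ U) :=
    ((fY.appLE ⊤ V le_top) ≫ (fst.appLE V (fst ⁻¹ᵁ V ⊓ snd ⁻¹ᵁ U) inf_le_left)).hom.toAlgebra
  haveI t1 : IsScalarTower Γ(S, ⊤) Γ(Y, V) Γ(P, fst ⁻¹ᵁ V ⊓ snd ⁻¹ᵁ U) :=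
    .of_algebraMap_eq' rfl
  haveI t2 : IsScalarTower Γ(S, ⊤) Γ(X, U) Γ(P, fst ⁻¹ᵁ V ⊓ snd ⁻¹ᵁ U) :=
    .of_algebraMap_eq' (congr_arg CommRingCat.Hom.hom hpo.w)
  have hp : Algebra.IsPushout Γ(S, ⊤) Γ(Y, V) Γ(X, U) Γ(P, fst ⁻¹ᵁ V ⊓ snd ⁻¹ᵁ U) :=
    (CommRingCat.isPushout_iff_isPushout).mp hpo
  have hp' := hp.symm
  obtain ⟨b, hb⟩ := he
  exact ⟨hp'.out.basis b, fun i => by rw [IsBaseChange.basis_apply, hb]; rfl⟩

end Free


open Scheme in
/-- `𝓔 ≤ h.ker` can be tested on a cover of the target by affine opens and covers of their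
preimages. -/
theorem le_ker_of_cover {Q P : Scheme.{u}} (h : Q ⟶ P) (𝓔 : P.IdealSheafData) {ι : Type*}
    (W : ι → P.affineOpens) (hW : ⨆ i, (W i).1 = ⊤) {κ : ι → Type*} (W' : ∀ i, κ i → Q.Opens)
    (hle : ∀ i j, W' i j ≤ h ⁻¹ᵁ (W i).1) (hW' : ∀ i, h ⁻¹ᵁ (W i).1 ≤ ⨆ j, W' i j)
    (H : ∀ i j, 𝓔.ideal (W i) ≤ RingHom.ker (h.appLE (W i).1 (W' i j) (hle i j)).hom) :
    𝓔 ≤ h.ker := by
  rw [Scheme.Hom.ker, IdealSheafData.le_ofIdeals_iff]
  intro W₀ z hz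
  rw [RingHom.mem_ker]
  let 𝒩 := {N : Q.Opens // ∃ hN : N ≤ h ⁻¹ᵁ W₀.1, (h.appLE W₀.1 N hN).hom z = 0}
  have hcov : h ⁻¹ᵁ W₀.1 ≤ ⨆ N : 𝒩, N.1 := by
    intro q hq
    have hp : h.base q ∈ W₀.1 := hq
    obtain ⟨i, hi⟩ := TopologicalSpace.Opens.mem_iSup.mp (hW.ge (Set.mem_univ (h.base q)))
    obtain ⟨f, g, hfg, hpf⟩ := exists_basicOpen_le_affine_inter W₀.2 (W i).2 (h.base q) ⟨hp, hi⟩
    have hq' : q ∈ h ⁻¹ᵁ (W i).1 := hi
    obtain ⟨j, hj⟩ := TopologicalSpace.Opens.mem_iSup.mp (hW' i hq')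
    let D : P.affineOpens := ⟨P.basicOpen f, W₀.2.basicOpen f⟩
    have hD0 : D ≤ W₀ := P.basicOpen_le f
    have hDi : D ≤ W i := by
      change P.basicOpen f ≤ (W i).1
      rw [hfg]
      exact P.basicOpen_le g
    let N : Q.Opens := h ⁻¹ᵁ D.1 ⊓ W' i j
    have hN0 : N ≤ h ⁻¹ᵁ W₀.1 := inf_le_left.trans (h.preimage_mono hD0)
    have hND : N ≤ h ⁻¹ᵁ D.1 := inf_le_left
    have hNj : N ≤ W' i j := inf_le_right
    refine TopologicalSpace.Opens.mem_iSup.mpr ⟨⟨N, hN0, ?_⟩, ⟨hpf, hj⟩⟩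
    -- restrict to `D`
    have e1 : h.appLE W₀.1 N hN0 = P.presheaf.map (homOfLE hD0).op ≫ h.appLE D.1 N hND :=
      (Scheme.Hom.map_appLE h hND (homOfLE hD0).op).symm
    rw [e1, CommRingCat.hom_comp, RingHom.comp_apply]
    have hzD : (P.presheaf.map (homOfLE hD0).op).hom z ∈ 𝓔.ideal D :=
      𝓔.ideal_le_comap_ideal hD0 hz
    rw [← 𝓔.map_ideal hDi] at hzD
    have hker : (𝓔.ideal (W i)).map (P.presheaf.map (homOfLE hDi).op).hom ≤
        RingHom.ker (h.appLE D.1 N hND).hom := by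
      rw [Ideal.map_le_iff_le_comap]
      intro y hy
      rw [Ideal.mem_comap, RingHom.mem_ker, ← RingHom.comp_apply, ← CommRingCat.hom_comp,
        Scheme.Hom.map_appLE]
      have e2 : h.appLE (W i).1 N (hND.trans (h.preimage_mono hDi)) =
          h.appLE (W i).1 (W' i j) (hle i j) ≫ Q.presheaf.map (homOfLE hNj).op :=
        (Scheme.Hom.appLE_map h (hle i j) (homOfLE hNj).op).symm
      rw [e2, CommRingCat.hom_comp, RingHom.comp_apply, (RingHom.mem_ker).mp (H i j hy), map_zero]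
    exact hker hzD
  refine TopCat.Sheaf.eq_of_locally_eq' Q.sheaf (fun N : 𝒩 => N.1) (h ⁻¹ᵁ W₀.1)
    (fun N => homOfLE N.2.choose) hcov ((h.app W₀.1).hom z) 0 (fun N => ?_)
  rw [map_zero]
  exact N.2.choose_spec


section Construction

variable {S Y X P : Scheme.{u}} {fY : Y ⟶ S} {fX : X ⟶ S} {fst : P ⟶ Y} {snd : P ⟶ X}
  (H : IsPullback fst snd fY fX) (hS : IsAffineOpen (⊤ : S.Opens)) (hK : IsField Γ(S, ⊤))
  (𝓔 : P.IdealSheafData)

/-- the affine open `V × U` of the product. -/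
abbrev Wopen (V : Y.affineOpens) (U : X.affineOpens) : P.affineOpens :=
  ⟨fst ⁻¹ᵁ V.1 ⊓ snd ⁻¹ᵁ U.1, isAffineOpen_inf_preimage H hS V.2 U.2⟩

/-- the local coefficient ideal. -/
def Jloc (V : Y.affineOpens) (U : X.affineOpens) : Ideal Γ(X, U.1) :=
  minIdeal (snd.appLE U.1 (Wopen H hS V U).1 inf_le_right).hom (𝓔.ideal (Wopen H hS V U))

include hK in
theorem Jloc_map {U U' : X.affineOpens} (hUU' : U' ≤ U) (V : Y.affineOpens) :
    (Jloc H hS 𝓔 V U).map (X.presheaf.map (homOfLE hUU').op).hom = Jloc H hS 𝓔 V U' := by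
  obtain ⟨ι, e, he⟩ := exists_isFreeOn_of_isField hK (fY.appLE ⊤ V.1 le_top).hom
  have hWW : Wopen H hS V U' ≤ Wopen H hS V U :=
    inf_le_inf le_rfl (snd.preimage_mono hUU')
  have h1 := isFreeOn_pullback H hS V.2 U.2 e he
  have h2 := isFreeOn_pullback H hS V.2 U'.2 e he
  have key := minIdeal_map h1 h2 (X.presheaf.map (homOfLE hUU').op).hom
    (P.presheaf.map (homOfLE hWW).op).hom ?_ ?_ (𝓔.ideal (Wopen H hS V U))
  · rw [𝓔.map_ideal hWW] at key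
    exact key.symm
  · intro r
    rw [← RingHom.comp_apply, ← RingHom.comp_apply, ← CommRingCat.hom_comp, ← CommRingCat.hom_comp,
      Scheme.Hom.appLE_map, Scheme.Hom.map_appLE]
  · intro i
    rw [← RingHom.comp_apply, ← CommRingCat.hom_comp, Scheme.Hom.appLE_map]

/-- the ideal sheaf on `X` cutting out the locus over which `𝓔` vanishes. -/
def coeffSheaf : X.IdealSheafData where
  ideal U := ⨆ V, Jloc H hS 𝓔 V U
  map_ideal_basicOpen U f := by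
    rw [Ideal.map_iSup]
    refine iSup_congr fun V => ?_
    exact Jloc_map H hS hK 𝓔 (X.affineBasicOpen_le f) V

section Main

variable {T Q : Scheme.{u}} {fT : T ⟶ S} {fstQ : Q ⟶ Y} {sndQ : Q ⟶ T}
  (HQ : IsPullback fstQ sndQ fY fT) (x : T ⟶ X) (h : Q ⟶ P)
  (h1 : h ≫ fst = fstQ) (h2 : h ≫ snd = sndQ ≫ x)

include hK HQ h1 h2 in
theorem local_iff (V : Y.affineOpens) (U : X.affineOpens) (T' : T.affineOpens)
    (hT' : T'.1 ≤ x ⁻¹ᵁ U.1)
    (hle : fstQ ⁻¹ᵁ V.1 ⊓ sndQ ⁻¹ᵁ T'.1 ≤ h ⁻¹ᵁ (Wopen H hS V U).1) :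
    𝓔.ideal (Wopen H hS V U) ≤
        RingHom.ker (h.appLE (Wopen H hS V U).1 (fstQ ⁻¹ᵁ V.1 ⊓ sndQ ⁻¹ᵁ T'.1) hle).hom ↔
      Jloc H hS 𝓔 V U ≤ RingHom.ker (x.appLE U.1 T'.1 hT').hom := by
  obtain ⟨ι, e, he⟩ := exists_isFreeOn_of_isField hK (fY.appLE ⊤ V.1 le_top).hom
  have f1 := isFreeOn_pullback H hS V.2 U.2 e he
  have f2 := isFreeOn_pullback HQ hS V.2 T'.2 e he
  refine le_ker_iff_minIdeal f1 f2 (x.appLE U.1 T'.1 hT').hom
    (h.appLE (Wopen H hS V U).1 (fstQ ⁻¹ᵁ V.1 ⊓ sndQ ⁻¹ᵁ T'.1) hle).hom ?_ ?_ _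
  · intro r
    rw [← RingHom.comp_apply, ← RingHom.comp_apply, ← CommRingCat.hom_comp, ← CommRingCat.hom_comp,
      Scheme.Hom.appLE_comp_appLE, Scheme.Hom.appLE_comp_appLE]
    congr 3
  · intro i
    rw [← RingHom.comp_apply, ← CommRingCat.hom_comp, Scheme.Hom.appLE_comp_appLE]
    congr 3

theorem ideal_le_ker_appLE {Q P : Scheme.{u}} (h : Q ⟶ P) {𝓔 : P.IdealSheafData}
    (hE : 𝓔 ≤ h.ker) (W : P.affineOpens) (W' : Q.Opens) (hle : W' ≤ h ⁻¹ᵁ W.1) :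
    𝓔.ideal W ≤ RingHom.ker (h.appLE W.1 W' hle).hom := by
  intro z hz
  have hz' : z ∈ RingHom.ker (h.app W.1).hom := h.ideal_ker_le W (hE W hz)
  rw [RingHom.mem_ker] at hz' ⊢
  rw [Scheme.Hom.appLE, CommRingCat.hom_comp, RingHom.comp_apply, hz', map_zero]

include hK HQ h1 h2 in
theorem le_ker_iff_coeffSheaf_le_ker :
    𝓔 ≤ h.ker ↔ coeffSheaf H hS hK 𝓔 ≤ x.ker := by
  have hpre : ∀ (V : Y.affineOpens) (U : X.affineOpens) (T' : T.affineOpens),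
      T'.1 ≤ x ⁻¹ᵁ U.1 → fstQ ⁻¹ᵁ V.1 ⊓ sndQ ⁻¹ᵁ T'.1 ≤ h ⁻¹ᵁ (Wopen H hS V U).1 := by
    intro V U T' hT' q hq
    refine ⟨?_, ?_⟩
    · change (h ≫ fst).base q ∈ V.1
      rw [h1]
      exact hq.1
    · change (h ≫ snd).base q ∈ U.1
      rw [h2]
      exact hT' hq.2
  constructor
  · intro hE
    refine le_ker_of_cover x _ (fun U : X.affineOpens => U) ?_
      (κ := fun U => {T' : T.affineOpens // T'.1 ≤ x ⁻¹ᵁ U.1}) (fun U T' => T'.1.1)
      (fun U T' => T'.2) ?_ ?_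
    · exact iSup_affineOpens_eq_top X
    · intro U t ht
      obtain ⟨_, ⟨T', hT', rfl⟩, htT', hTU⟩ :=
        T.isBasis_affineOpens.exists_subset_of_mem_open ht (x ⁻¹ᵁ U.1).2
      exact TopologicalSpace.Opens.mem_iSup.mpr ⟨⟨⟨T', hT'⟩, hTU⟩, htT'⟩
    · intro U T'
      change (⨆ V, Jloc H hS 𝓔 V U) ≤ _
      refine iSup_le fun V => ?_
      exact (local_iff H hS hK 𝓔 HQ x h h1 h2 V U T'.1 T'.2 (hpre V U T'.1 T'.2)).mp
        (ideal_le_ker_appLE h hE _ _ _)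
  · intro hJ
    refine le_ker_of_cover h _ (fun VU : Y.affineOpens × X.affineOpens => Wopen H hS VU.1 VU.2) ?_
      (κ := fun VU => {T' : T.affineOpens // T'.1 ≤ x ⁻¹ᵁ VU.2.1})
      (fun VU T' => fstQ ⁻¹ᵁ VU.1.1 ⊓ sndQ ⁻¹ᵁ T'.1.1)
      (fun VU T' => hpre VU.1 VU.2 T'.1 T'.2) ?_ ?_
    · refine top_le_iff.mp fun p _ => ?_
      obtain ⟨_, ⟨V, hV, rfl⟩, hpV, -⟩ :=
        Y.isBasis_affineOpens.exists_subset_of_mem_open (Set.mem_univ (fst.base p)) isOpen_univ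
      obtain ⟨_, ⟨U, hU, rfl⟩, hpU, -⟩ :=
        X.isBasis_affineOpens.exists_subset_of_mem_open (Set.mem_univ (snd.base p)) isOpen_univ
      exact TopologicalSpace.Opens.mem_iSup.mpr ⟨(⟨V, hV⟩, ⟨U, hU⟩), ⟨hpV, hpU⟩⟩
    · intro VU q hq
      have hq1 : fstQ.base q ∈ VU.1.1 := by
        have : (h ≫ fst).base q ∈ VU.1.1 := hq.1
        rwa [h1] at this
      have hq2 : sndQ.base q ∈ x ⁻¹ᵁ VU.2.1 := by
        have : (h ≫ snd).base q ∈ VU.2.1 := hq.2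
        rwa [h2] at this
      obtain ⟨_, ⟨T', hT', rfl⟩, htT', hTU⟩ :=
        T.isBasis_affineOpens.exists_subset_of_mem_open hq2 (x ⁻¹ᵁ VU.2.1).2
      exact TopologicalSpace.Opens.mem_iSup.mpr ⟨⟨⟨T', hT'⟩, hTU⟩, ⟨hq1, htT'⟩⟩
    · intro VU T'
      refine (local_iff H hS hK 𝓔 HQ x h h1 h2 VU.1 VU.2 T'.1 T'.2 (hpre _ _ _ T'.2)).mpr ?_
      refine le_trans ?_ (ideal_le_ker_appLE x hJ VU.2 T'.1.1 T'.2)
      exact le_iSup (fun V => Jloc H hS 𝓔 V VU.2) VU.1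

end Main

end Construction


section OverField

open MonoidalCategory CartesianMonoidalCategory

variable (k : Type u) [Field k]

/-- **Closed conditions are representable** (over a field): for a closed subscheme `E` of
`Y × X`, the locus of `x` in `X` with `Y × {x} ⊆ E` is a closed subscheme of `X`. -/
theorem exists_closed_representing (X Y E : Over (Spec (CommRingCat.of k))) (i : E ⟶ Y ⊗ X)
    [IsClosedImmersion i.left] :
    ∃ (Z : Over (Spec (CommRingCat.of k))) (j : Z ⟶ X), IsClosedImmersion j.left ∧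
      ∀ (T : Over (Spec (CommRingCat.of k))) (x : T ⟶ X),
        (∃ z : T ⟶ Z, z ≫ j = x) ↔ ∃ e : Y ⊗ T ⟶ E, e ≫ i = Y ◁ x := by
  have hS : IsAffineOpen (⊤ : (Spec (CommRingCat.of k)).Opens) := isAffineOpen_top _
  have hK := isField_Γ_Spec k
  have H : IsPullback (pullback.fst Y.hom X.hom) (pullback.snd Y.hom X.hom) Y.hom X.hom :=
    IsPullback.of_hasPullback _ _
  let 𝓔 : (pullback Y.hom X.hom).IdealSheafData := i.left.ker
  let 𝓙 := coeffSheaf H hS hK 𝓔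
  let Z : Over (Spec (CommRingCat.of k)) := Over.mk (𝓙.subschemeι ≫ X.hom)
  let j : Z ⟶ X := Over.homMk 𝓙.subschemeι rfl
  have hj : j.left = 𝓙.subschemeι := rfl
  refine ⟨Z, j, (inferInstance : IsClosedImmersion 𝓙.subschemeι), ?_⟩
  intro T x
  have HQ : IsPullback (pullback.fst Y.hom T.hom) (pullback.snd Y.hom T.hom) Y.hom T.hom :=
    IsPullback.of_hasPullback _ _
  have key : 𝓔 ≤ (Y ◁ x).left.ker ↔ 𝓙 ≤ x.left.ker :=
    le_ker_iff_coeffSheaf_le_ker H hS hK 𝓔 HQ x.left (Y ◁ x).left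
      (Over.whiskerLeft_left_fst x) (Over.whiskerLeft_left_snd x)
  constructor
  · rintro ⟨z, hz⟩
    have h1 : 𝓙 ≤ x.left.ker := by
      rw [← hz, Over.comp_left, hj]
      conv_lhs => rw [← 𝓙.ker_subschemeι]
      exact Scheme.Hom.le_ker_comp _ _
    have h2 : i.left.ker ≤ (Y ◁ x).left.ker := key.mpr h1
    refine ⟨Over.homMk (IsClosedImmersion.lift i.left (Y ◁ x).left h2) ?_, ?_⟩
    · rw [← Over.w i, IsClosedImmersion.lift_fac_assoc]
      exact Over.w _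
    · apply Over.OverMorphism.ext
      exact IsClosedImmersion.lift_fac _ _ _
  · rintro ⟨e, he⟩
    have h1 : 𝓔 ≤ (Y ◁ x).left.ker := by
      rw [← he, Over.comp_left]
      exact Scheme.Hom.le_ker_comp _ _
    have h2 := key.mp h1
    have h3 : 𝓙.subschemeι.ker ≤ x.left.ker := by rwa [𝓙.ker_subschemeι]
    refine ⟨Over.homMk (IsClosedImmersion.lift 𝓙.subschemeι x.left h3) ?_, ?_⟩
    · change IsClosedImmersion.lift 𝓙.subschemeι x.left h3 ≫ 𝓙.subschemeι ≫ X.hom = T.hom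
      rw [IsClosedImmersion.lift_fac_assoc]
      exact Over.w x
    · apply Over.OverMorphism.ext
      exact IsClosedImmersion.lift_fac _ _ _

end OverField

end Groth.Agent.Lib.Helper78.ClosedCond
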