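import Mathlib.AlgebraicGeometry.Sites.Fpqc
import Mathlib.AlgebraicGeometry.Morphisms.Flat
import Mathlib.AlgebraicGeometry.PullbackCarrier

/-!
# Single-morphism fpqc coverings and morphisms refined by them (helper78)

`IsFpqc1 q` : the singleton `{q}` is a covering for Mathlib's fpqc precoverage.
`FpqcCov p` : `p` is "covering for the fpqc topology": some fpqc `q : Z ⟶ Y` factors through `p`.
-/

set_option autoImplicit false
set_option linter.style.haveILetI false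
set_option linter.unusedSectionVars false
set_option linter.dupNamespace false
set_option backward.isDefEq.respectTransparency.types false
universe u
open CategoryTheory CategoryTheory.Limits AlgebraicGeometry

namespace Groth.Agent.Lib.Helper78.FpqcCov

/-- the singleton `{q}` is an fpqc covering. -/
def IsFpqc1 {Z Y : Scheme.{u}} (q : Z ⟶ Y) : Prop :=
  Presieve.singleton q ∈ Scheme.fpqcPrecoverage Y

theorem isFpqc1_of_data {Z Y : Scheme.{u}} (q : Z ⟶ Y) (hs : Surjective q) (hf : Flat q)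
    (hqc : ∀ V : Y.Opens, IsAffineOpen V →
      ∃ W : Z.Opens, IsCompact (W : Set Z) ∧ q.base '' (W : Set Z) = (V : Set Y)) :
    IsFpqc1 q := by
  haveI := hs
  let 𝒰 : Scheme.Cover.{u} (Scheme.precoverage @Flat) Y := q.cover (P := @Flat) hf
  haveI : QuasiCompactCover 𝒰.toPreZeroHypercover := by
    constructor
    intro U hU
    obtain ⟨W, hW, hWU⟩ := hqc U hU
    refine ⟨Set.univ, Set.finite_univ, fun _ _ => W, fun _ _ => hW, ?_⟩
    ext y
    simp only [Set.mem_iUnion, Set.mem_univ, exists_const]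
    constructor
    · rintro ⟨_, hy⟩
      rw [← hWU]
      exact hy
    · intro hy
      rw [← hWU] at hy
      exact ⟨default, hy⟩
  have h1 : 𝒰.toPreZeroHypercover.presieve₀ ∈ Scheme.qcPrecoverage Y :=
    Scheme.presieve₀_mem_qcPrecoverage_iff.mpr ‹_›
  have h2 : 𝒰.toPreZeroHypercover.presieve₀ ∈ Scheme.precoverage @Flat Y := 𝒰.mem₀
  have e : 𝒰.toPreZeroHypercover.presieve₀ = Presieve.singleton q :=
    Scheme.Hom.presieve₀_cover q hf
  rw [e] at h1 h2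
  exact ⟨h1, h2⟩

theorem IsFpqc1.surjective {Z Y : Scheme.{u}} {q : Z ⟶ Y} (h : IsFpqc1 q) : Surjective q :=
  ⟨((Scheme.singleton_mem_precoverage_iff (P := @Flat) q).1 h.2).1⟩

theorem IsFpqc1.flat {Z Y : Scheme.{u}} {q : Z ⟶ Y} (h : IsFpqc1 q) : Flat q :=
  ((Scheme.singleton_mem_precoverage_iff (P := @Flat) q).1 h.2).2

theorem IsFpqc1.effectiveEpi {Z Y : Scheme.{u}} {q : Z ⟶ Y} (h : IsFpqc1 q) : EffectiveEpi q := by
  rw [← Sieve.effectiveEpimorphic_singleton,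
    Presieve.EffectiveEpimorphic.iff_forall_isSheafFor_yoneda]
  intro Z
  exact (GrothendieckTopology.Subcanonical.isSheaf_of_isRepresentable _).isSheafFor _
    (Precoverage.generate_mem_toGrothendieck h)

theorem IsFpqc1.epi {Z Y : Scheme.{u}} {q : Z ⟶ Y} (h : IsFpqc1 q) : Epi q := by
  haveI := h.effectiveEpi
  infer_instance

theorem IsFpqc1.of_isPullback {Z Y T P : Scheme.{u}} {q : Z ⟶ Y} (h : IsFpqc1 q) {g : T ⟶ Y}
    {p₁ : P ⟶ T} {p₂ : P ⟶ Z} (sq : IsPullback p₁ p₂ g q) : IsFpqc1 p₁ := by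
  have h' : Presieve.ofArrows (fun _ : PUnit.{1} => Z) (fun _ => q) ∈ Scheme.fpqcPrecoverage Y := by
    rw [Presieve.ofArrows_pUnit]
    exact h
  have := Precoverage.mem_coverings_of_isPullback (J := Scheme.fpqcPrecoverage)
    (fun _ : PUnit.{1} => q) h' g (fun _ => p₁) (fun _ => p₂) (fun _ => sq)
  rw [Presieve.ofArrows_pUnit] at this
  exact this

theorem IsFpqc1.comp {Z₂ Z₁ Y : Scheme.{u}} {q₁ : Z₁ ⟶ Y} {q₂ : Z₂ ⟶ Z₁} (h₁ : IsFpqc1 q₁)
    (h₂ : IsFpqc1 q₂) : IsFpqc1 (q₂ ≫ q₁) := by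
  have h₁' : Presieve.ofArrows (fun _ : PUnit.{1} => Z₁) (fun _ => q₁) ∈
      Scheme.fpqcPrecoverage Y := by
    rw [Presieve.ofArrows_pUnit]
    exact h₁
  have h₂' : ∀ _ : PUnit.{1}, Presieve.ofArrows (fun _ : PUnit.{1} => Z₂) (fun _ => q₂) ∈
      Scheme.fpqcPrecoverage Z₁ := by
    intro _
    rw [Presieve.ofArrows_pUnit]
    exact h₂
  have hcomp := Precoverage.comp_mem_coverings (J := Scheme.fpqcPrecoverage)
    (fun _ : PUnit.{1} => q₁) h₁' (σ := fun _ => PUnit.{1}) (fun _ _ => q₂) h₂'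
  haveI : Unique ((_ : PUnit.{1}) × PUnit.{1}) :=
    ⟨⟨⟨PUnit.unit, PUnit.unit⟩⟩, fun ⟨_, _⟩ => rfl⟩
  have e : (Presieve.ofArrows (fun _ : (_ : PUnit.{1}) × PUnit.{1} => Z₂) fun _ => q₂ ≫ q₁) =
      Presieve.singleton (q₂ ≫ q₁) := Presieve.ofArrows_of_unique _
  rw [e] at hcomp
  exact hcomp

theorem isFpqc1_of_isIso {Z Y : Scheme.{u}} (q : Z ⟶ Y) [IsIso q] : IsFpqc1 q :=
  isFpqc1_of_data q inferInstance inferInstance (fun V hV => by
    refine ⟨q ⁻¹ᵁ V, ?_, ?_⟩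
    · exact (q.homeomorph.isCompact_preimage).2 hV.isCompact
    · exact Set.image_preimage_eq _ q.homeomorph.surjective)

/-- `p` is covering for the fpqc topology: some single fpqc covering factors through it. -/
def FpqcCov {X Y : Scheme.{u}} (p : X ⟶ Y) : Prop :=
  ∃ (Z : Scheme.{u}) (q : Z ⟶ Y) (r : Z ⟶ X), r ≫ p = q ∧ IsFpqc1 q

theorem fpqcCov_of_data {X Y : Scheme.{u}} (p : X ⟶ Y)
    (h : ∃ (Z : Scheme.{u}) (q : Z ⟶ Y) (r : Z ⟶ X), r ≫ p = q ∧ Surjective q ∧ Flat q ∧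
      ∀ V : Y.Opens, IsAffineOpen V →
        ∃ W : Z.Opens, IsCompact (W : Set Z) ∧ q.base '' (W : Set Z) = (V : Set Y)) :
    FpqcCov p := by
  obtain ⟨Z, q, r, h1, h2, h3, h4⟩ := h
  exact ⟨Z, q, r, h1, isFpqc1_of_data q h2 h3 h4⟩

theorem FpqcCov.of_isFpqc1 {X Y : Scheme.{u}} {p : X ⟶ Y} (h : IsFpqc1 p) : FpqcCov p :=
  ⟨X, p, 𝟙 X, Category.id_comp _, h⟩

theorem FpqcCov.epi {X Y : Scheme.{u}} {p : X ⟶ Y} (h : FpqcCov p) : Epi p := by
  obtain ⟨Z, q, r, rfl, hq⟩ := h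
  haveI := hq.epi
  exact epi_of_epi r p

theorem FpqcCov.surjective {X Y : Scheme.{u}} {p : X ⟶ Y} (h : FpqcCov p) : Surjective p := by
  obtain ⟨Z, q, r, rfl, hq⟩ := h
  haveI := hq.surjective
  exact Surjective.of_comp r p

/-- base change of a morphism covering for the fpqc topology. -/
theorem FpqcCov.of_isPullback {X Y T P : Scheme.{u}} {p : X ⟶ Y} (h : FpqcCov p) {g : T ⟶ Y}
    {p₁ : P ⟶ T} {p₂ : P ⟶ X} (sq : IsPullback p₁ p₂ g p) : FpqcCov p₁ := by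
  obtain ⟨Z, q, r, hrq, hq⟩ := h
  refine ⟨pullback g q, pullback.fst g q,
    sq.lift (pullback.fst g q) (pullback.snd g q ≫ r) ?_, sq.lift_fst _ _ _,
    hq.of_isPullback (IsPullback.of_hasPullback g q)⟩
  rw [Category.assoc, hrq, pullback.condition]

/-- composition of morphisms covering for the fpqc topology. -/
theorem FpqcCov.comp {X Y W : Scheme.{u}} {p₁ : X ⟶ Y} {p₂ : Y ⟶ W} (h₁ : FpqcCov p₁)
    (h₂ : FpqcCov p₂) : FpqcCov (p₁ ≫ p₂) := by
  obtain ⟨Z₁, q₁, r₁, hr₁, hq₁⟩ := h₁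
  obtain ⟨Z₂, q₂, r₂, hr₂, hq₂⟩ := h₂
  refine ⟨pullback r₂ q₁, pullback.fst r₂ q₁ ≫ q₂, pullback.snd r₂ q₁ ≫ r₁, ?_,
    hq₂.comp (hq₁.of_isPullback (IsPullback.of_hasPullback r₂ q₁))⟩
  rw [Category.assoc, ← Category.assoc r₁, hr₁, ← pullback.condition_assoc, hr₂]

end Groth.Agent.Lib.Helper78.FpqcCov
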