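import Mathlib
import Groth.Agent.Lib.Helper78.HomogSep

/-!
# Separatedness of homogeneous spaces with a dense separated open (helper78)

SGA3 VI_B: `G/S` locally of finite presentation, universally open on an open `W` containing the
unit section, acting on `X/S` with `G ×_S X → X ×_S X` surjective; if every fibre `X_s` is locally
of finite type and there is an open `U ⊆ X`, separated over `S`, with `U_s` dense in `X_s`, then
`X` is separated over `S`.

Compared with `HomogSep`, the fibres of `G` need not be connected.  The point `p = (h, x₁, x₂)`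
of the fibre of `G × (X × X) → X × X` with `h ∈ W`, `h x₁ ∈ U`, `h x₂ ∈ U` is found by a density
argument: for every `x ∈ X_s` the open set `{h : h x ∈ U}` is dense in `G_{κ(x)}`.  This holds at
a generic point `ξ` of `X_s` (the action map is open on fibres over `s`), and is transported to
any `x = g ξ` by right translation (`σ`).
-/

set_option autoImplicit false
set_option linter.style.haveILetI false
set_option linter.unusedSectionVars false
universe u
open CategoryTheory MonoidalCategory CartesianMonoidalCategory MonObj GrpObj AlgebraicGeometry Limits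

namespace Groth.Agent.Lib.Helper78.HomogDense

section Topology

/-- Variant of the topological core where `π` is only open on an open subset `W'`. -/
theorem mem_of_mem_closure' {P XX : Type*} [TopologicalSpace P] [TopologicalSpace XX]
    (π Θ Θ' : P → XX) (τ : P → P) (D O' : Set XX) (W' : Set P) (hW' : IsOpen W')
    (hπo : ∀ N : Set P, IsOpen N → N ⊆ W' → IsOpen (π '' N)) (hΘc : Continuous Θ)
    (h1 : ∀ p, π p ∈ D → Θ p ∈ D) (h1' : ∀ p, π p ∈ D → Θ' p ∈ D)
    (hτ1 : ∀ p, π (τ p) = Θ p) (hτ2 : ∀ p, Θ' (τ p) = π p)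
    (hloc : closure D ∩ O' ⊆ D)
    (p : P) (hpW : p ∈ W') (hz : π p ∈ closure D) (hpO : Θ p ∈ O') : π p ∈ D := by
  have h2 : p ∈ closure (π ⁻¹' D) := by
    rw [mem_closure_iff]
    intro N hN hpN
    have hopen : IsOpen (π '' (N ∩ W')) := hπo _ (hN.inter hW') Set.inter_subset_right
    have hmem : π p ∈ π '' (N ∩ W') := ⟨p, ⟨hpN, hpW⟩, rfl⟩
    obtain ⟨y, ⟨p', hp', rfl⟩, hyD⟩ := mem_closure_iff.mp hz _ hopen hmem
    exact ⟨p', hp'.1, hyD⟩
  have h3 : p ∈ closure (Θ ⁻¹' D) := closure_mono (fun q hq => h1 q hq) h2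
  have h4 : Θ p ∈ closure D := hΘc.closure_preimage_subset D h3
  have h5 : Θ p ∈ D := hloc ⟨h4, hpO⟩
  have h6 : π (τ p) ∈ D := by rw [hτ1]; exact h5
  have h7 := h1' (τ p) h6
  rwa [hτ2] at h7

end Topology

section SchemeLevel

/-- If `g : G ⟶ S` is universally open on the open `W`, then `G ×_S T ⟶ T` maps opens contained in
the preimage of `W` to opens. -/
theorem isOpen_image_snd_of_subset {G S T : Scheme.{u}} (g : G ⟶ S) (t : T ⟶ S) (W : G.Opens)
    [UniversallyOpen (W.ι ≫ g)] (N : Set ↥(pullback g t)) (hN : IsOpen N)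
    (hNW : N ⊆ (pullback.fst g t) ⁻¹' (W : Set G)) : IsOpen ((pullback.snd g t) '' N) := by
  let j : pullback (W.ι ≫ g) t ⟶ pullback g t :=
    pullback.map (W.ι ≫ g) t g t W.ι (𝟙 T) (𝟙 S) (by simp) (by simp)
  have hjsnd : j ≫ pullback.snd g t = pullback.snd (W.ι ≫ g) t :=
    (pullback.lift_snd _ _ _).trans (Category.comp_id _)
  have hrange : Set.range j = (pullback.fst g t) ⁻¹' (W : Set G) := by
    rw [Scheme.Pullback.range_map]
    simp
  have hopen : IsOpen ((pullback.snd (W.ι ≫ g) t) '' (j ⁻¹' N)) :=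
    (pullback.snd (W.ι ≫ g) t).isOpenMap _ (hN.preimage j.continuous)
  convert hopen using 1
  ext y
  constructor
  · rintro ⟨n, hn, rfl⟩
    obtain ⟨w, rfl⟩ : n ∈ Set.range j := hrange ▸ hNW hn
    refine ⟨w, hn, ?_⟩
    rw [← hjsnd, Scheme.Hom.comp_apply]
  · rintro ⟨w, hw, rfl⟩
    refine ⟨j w, hw, ?_⟩
    rw [← hjsnd, Scheme.Hom.comp_apply]

/-- Fibrewise density pulls back along base change: in a cartesian square, if `T` is dense in the
fibre of `f` over `g y`, then its preimage is dense in the fibre of `snd` over `y`. -/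
theorem fibre_dense_pullback {P X Y Z : Scheme.{u}} {fst : P ⟶ X} {snd : P ⟶ Y} {f : X ⟶ Z}
    {g : Y ⟶ Z} (h : IsPullback fst snd f g) (y : Y) (T : Set X)
    (hT : f ⁻¹' {g y} ⊆ closure (T ∩ f ⁻¹' {g y})) :
    snd ⁻¹' {y} ⊆ closure (fst ⁻¹' T ∩ snd ⁻¹' {y}) := by
  let ψ : snd.fiber y ⟶ f.fiber (g y) :=
    pullback.map _ _ _ _ fst (Spec.map (g.residueFieldMap y)) g h.w.symm (by simp)
  have hψ : IsPullback ψ (snd.fiberToSpecResidueField y) (f.fiberToSpecResidueField (g y))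
      (Spec.map (g.residueFieldMap y)) := isPullback_fiberToSpecResidueField_of_isPullback h y
  haveI : Subsingleton ↥(Spec (Z.residueField (g y))) :=
    inferInstanceAs (Subsingleton (PrimeSpectrum (Z.residueField (g y))))
  have hψo : UniversallyOpen ψ :=
    MorphismProperty.of_isPullback hψ.flip (inferInstance : UniversallyOpen (Spec.map _))
  have hψι : ψ ≫ f.fiberι (g y) = snd.fiberι y ≫ fst := pullback.lift_fst _ _ _
  intro e' he'
  rw [mem_closure_iff]
  intro N' hN' he'N'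
  obtain ⟨w', rfl⟩ : e' ∈ Set.range (snd.fiberι y) := by rw [Scheme.Hom.range_fiberι]; exact he'
  have ho1 : IsOpen (ψ '' ((snd.fiberι y) ⁻¹' N')) :=
    ψ.isOpenMap _ (hN'.preimage (snd.fiberι y).continuous)
  obtain ⟨O, hO, hOeq⟩ := (f.fiberι (g y)).isEmbedding.isOpen_iff.mp ho1
  have hmem : f.fiberι (g y) (ψ w') ∈ O := by
    have : ψ w' ∈ (f.fiberι (g y)) ⁻¹' O := by rw [hOeq]; exact ⟨w', he'N', rfl⟩
    exact this
  have hfib : f.fiberι (g y) (ψ w') ∈ f ⁻¹' {g y} := by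
    rw [← Scheme.Hom.range_fiberι]; exact ⟨_, rfl⟩
  obtain ⟨t, htO, htT, htf⟩ := mem_closure_iff.mp (hT hfib) O hO hmem
  obtain ⟨w, rfl⟩ : t ∈ Set.range (f.fiberι (g y)) := by rw [Scheme.Hom.range_fiberι]; exact htf
  have hw : w ∈ ψ '' ((snd.fiberι y) ⁻¹' N') := by rw [← hOeq]; exact htO
  obtain ⟨w'', hw''N, rfl⟩ := hw
  refine ⟨snd.fiberι y w'', hw''N, ?_, ?_⟩
  · show fst (snd.fiberι y w'') ∈ T
    rw [← Scheme.Hom.comp_apply, ← hψι, Scheme.Hom.comp_apply]
    exact htT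
  · rw [← Scheme.Hom.range_fiberι]; exact ⟨_, rfl⟩

/-- Converse: fibrewise density descends along base change. -/
theorem fibre_dense_of_pullback {P X Y Z : Scheme.{u}} {fst : P ⟶ X} {snd : P ⟶ Y} {f : X ⟶ Z}
    {g : Y ⟶ Z} (h : IsPullback fst snd f g) (y : Y) (T : Set X)
    (hT : snd ⁻¹' {y} ⊆ closure (fst ⁻¹' T ∩ snd ⁻¹' {y})) :
    f ⁻¹' {g y} ⊆ closure (T ∩ f ⁻¹' {g y}) := by
  intro e he
  rw [mem_closure_iff]
  intro N hN heN
  obtain ⟨e₀, he₀1, he₀2⟩ := Scheme.Pullback.exists_preimage_pullback e y he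
  let e' : P := h.isoPullback.inv e₀
  have he'1 : fst e' = e := by
    show fst (h.isoPullback.inv e₀) = e
    rw [← Scheme.Hom.comp_apply, h.isoPullback_inv_fst, he₀1]
  have he'2 : snd e' = y := by
    show snd (h.isoPullback.inv e₀) = y
    rw [← Scheme.Hom.comp_apply, h.isoPullback_inv_snd, he₀2]
  have hmem : e' ∈ fst ⁻¹' N := by show fst e' ∈ N; rw [he'1]; exact heN
  obtain ⟨e'', he''N, he''T, he''y⟩ :=
    mem_closure_iff.mp (hT he'2) _ (hN.preimage fst.continuous) hmem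
  refine ⟨fst e'', he''N, he''T, ?_⟩
  show f (fst e'') = g y
  rw [← Scheme.Hom.comp_apply, h.w, Scheme.Hom.comp_apply]
  exact congrArg g he''y

/-- On fibres over a point `s : S`, the projection `G ×_S T ⟶ T` is an open map. -/
theorem exists_isOpen_image_snd_fibre {G S T : Scheme.{u}} (g : G ⟶ S) (t : T ⟶ S) (s : S)
    (N : Set ↥(pullback g t)) (hN : IsOpen N) :
    ∃ V : Set T, IsOpen V ∧
      (pullback.snd g t) '' (N ∩ (pullback.snd g t) ⁻¹' (t ⁻¹' {s})) = V ∩ t ⁻¹' {s} := by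
  let fs := S.fromSpecResidueField s
  let ιG := pullback.fst g fs
  let tG := pullback.snd g fs
  let ιT := t.fiberι s
  let tT := t.fiberToSpecResidueField s
  have cG : tG ≫ fs = ιG ≫ g := pullback.condition.symm
  have cT : tT ≫ fs = ιT ≫ t := pullback.condition.symm
  let j : pullback tG tT ⟶ pullback g t := pullback.map tG tT g t ιG ιT fs cG cT
  have hj1 : j ≫ pullback.fst g t = pullback.fst tG tT ≫ ιG := pullback.lift_fst _ _ _
  have hj2 : j ≫ pullback.snd g t = pullback.snd tG tT ≫ ιT := pullback.lift_snd _ _ _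
  have hsq : IsPullback j (pullback.snd tG tT) (pullback.snd g t) ιT := by
    have h1 : IsPullback (pullback.fst tG tT) (pullback.snd tG tT) tG tT := .of_hasPullback _ _
    have h2 : IsPullback ιG tG g fs := .of_hasPullback _ _
    have h3 : IsPullback (pullback.fst tG tT ≫ ιG) (pullback.snd tG tT) g (tT ≫ fs) :=
      h1.paste_horiz h2
    rw [cT, ← hj1] at h3
    have h4 : IsPullback (pullback.fst g t) (pullback.snd g t) g t := .of_hasPullback _ _
    exact (IsPullback.of_bot h3.flip hj2.symm h4.flip).flip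
  haveI : Subsingleton ↥(Spec (S.residueField s)) :=
    inferInstanceAs (Subsingleton (PrimeSpectrum (S.residueField s)))
  haveI : UniversallyOpen tG := inferInstance
  haveI : UniversallyOpen (pullback.snd tG tT) := inferInstance
  have hrange : Set.range j = (pullback.snd g t) ⁻¹' (t ⁻¹' {s}) := by
    rw [Helper51.IsPullback.range_fst_eq hsq, Scheme.Hom.range_fiberι]
  have ho : IsOpen ((pullback.snd tG tT) '' (j ⁻¹' N)) :=
    (pullback.snd tG tT).isOpenMap _ (hN.preimage j.continuous)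
  obtain ⟨V, hV, hVeq⟩ := ιT.isEmbedding.isOpen_iff.mp ho
  refine ⟨V, hV, ?_⟩
  ext v
  constructor
  · rintro ⟨n, ⟨hnN, hns⟩, rfl⟩
    obtain ⟨w, rfl⟩ : n ∈ Set.range j := hrange ▸ hns
    have e1 : pullback.snd g t (j w) = ιT (pullback.snd tG tT w) := by
      rw [← Scheme.Hom.comp_apply, hj2, Scheme.Hom.comp_apply]
    refine ⟨?_, hns⟩
    rw [e1]
    have : pullback.snd tG tT w ∈ ιT ⁻¹' V := by rw [hVeq]; exact ⟨w, hnN, rfl⟩
    exact this
  · rintro ⟨hvV, hvs⟩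
    obtain ⟨v', rfl⟩ : v ∈ Set.range ιT := by rw [Scheme.Hom.range_fiberι]; exact hvs
    have : v' ∈ (pullback.snd tG tT) '' (j ⁻¹' N) := by rw [← hVeq]; exact hvV
    obtain ⟨w, hwN, rfl⟩ := this
    have e1 : pullback.snd g t (j w) = ιT (pullback.snd tG tT w) := by
      rw [← Scheme.Hom.comp_apply, hj2, Scheme.Hom.comp_apply]
    refine ⟨j w, ⟨hwN, ?_⟩, e1⟩
    show pullback.snd g t (j w) ∈ t ⁻¹' {s}
    rw [e1]; exact hvs

/-- In a fibre which is locally of finite type over the residue field, there is a point `ξ` that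
is generic in a nonempty open subset of the fibre. -/
theorem exists_generic_in_fibre {T S : Scheme.{u}} (t : T ⟶ S) (s : S)
    [LocallyOfFiniteType (t.fiberToSpecResidueField s)] (hne : (t ⁻¹' {s}).Nonempty) :
    ∃ ξ : T, t ξ = s ∧ ∃ V₀ : Set T, IsOpen V₀ ∧ ξ ∈ V₀ ∧
      ∀ V : Set T, IsOpen V → (V ∩ V₀ ∩ t ⁻¹' {s}).Nonempty → ξ ∈ V := by
  haveI : IsLocallyNoetherian (t.fiber s) :=
    LocallyOfFiniteType.isLocallyNoetherian (t.fiberToSpecResidueField s)
  obtain ⟨y₀, hy₀⟩ := hne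
  obtain ⟨x₀, -⟩ : y₀ ∈ Set.range (t.fiberι s) := by rw [Scheme.Hom.range_fiberι]; exact hy₀
  obtain ⟨V₁, hV₁, hx₀, -⟩ :=
    exists_isAffineOpen_mem_and_subset (x := x₀) (U := (⊤ : (t.fiber s).Opens)) trivial
  haveI : IsNoetherianRing Γ(t.fiber s, V₁) := IsLocallyNoetherian.component_noetherian ⟨V₁, hV₁⟩
  haveI : TopologicalSpace.NoetherianSpace (↥V₁ : Type u) :=
    noetherianSpace_of_isAffineOpen V₁ hV₁
  have hZ := irreducibleComponent_mem_irreducibleComponents (⟨x₀, hx₀⟩ : V₁)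
  obtain ⟨o, ho, hone, hoZ⟩ :=
    TopologicalSpace.NoetherianSpace.exists_isOpen_nonempty_subset_irreducibleComponent _ hZ
  have hoirr : IsIrreducible o := ⟨hone, hZ.1.isPreirreducible.open_subset ho hoZ⟩
  let o' : Set (t.fiber s) := Subtype.val '' o
  have ho' : IsOpen o' := V₁.2.isOpenMap_subtype_val o ho
  have ho'irr : IsIrreducible o' := hoirr.image _ continuous_subtype_val.continuousOn
  let ξ' := ho'irr.genericPoint
  have hξ' : IsGenericPoint ξ' (closure o') := ho'irr.isGenericPoint_genericPoint_closure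
  have hξ'o : ξ' ∈ o' := by
    rw [hξ'.mem_open_set_iff ho']
    obtain ⟨a, ha⟩ := ho'irr.nonempty
    exact ⟨a, subset_closure ha, ha⟩
  obtain ⟨V₀, hV₀, hV₀eq⟩ := (t.fiberι s).isEmbedding.isOpen_iff.mp ho'
  refine ⟨t.fiberι s ξ', ?_, V₀, hV₀, ?_, ?_⟩
  · have : t.fiberι s ξ' ∈ t ⁻¹' {s} := by rw [← Scheme.Hom.range_fiberι]; exact ⟨_, rfl⟩
    exact this
  · have : ξ' ∈ (t.fiberι s) ⁻¹' V₀ := by rw [hV₀eq]; exact hξ'o
    exact this
  · rintro V hV ⟨y, ⟨hyV, hyV₀⟩, hys⟩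
    obtain ⟨y', rfl⟩ : y ∈ Set.range (t.fiberι s) := by rw [Scheme.Hom.range_fiberι]; exact hys
    have hy'o : y' ∈ o' := by rw [← hV₀eq]; exact hyV₀
    have : ξ' ∈ (t.fiberι s) ⁻¹' V := by
      rw [hξ'.mem_open_set_iff (hV.preimage (t.fiberι s).continuous)]
      exact ⟨y', subset_closure hy'o, hyV⟩
    exact this

end SchemeLevel

section Identities

variable {S : Scheme.{u}} {G X : Over S} [GrpObj G] (a : AlgGrp.Action G X)

/-- `(g, x) ↦ (g, g x)`. -/
noncomputable def shear : G ⊗ X ⟶ G ⊗ X := lift (fst G X) a.act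

/-- `(g, x) ↦ (g, g⁻¹ x)`. -/
noncomputable def shearInv : G ⊗ X ⟶ G ⊗ X :=
  lift (fst G X) (lift (fst G X)⁻¹ (snd G X) ≫ a.act)

theorem lift_shear {T : Over S} (g : T ⟶ G) (x : T ⟶ X) :
    lift g x ≫ shear a = lift g (lift g x ≫ a.act) := by
  unfold shear
  rw [comp_lift, lift_fst]

theorem lift_shearInv {T : Over S} (g : T ⟶ G) (x : T ⟶ X) :
    lift g x ≫ shearInv a = lift g (lift g⁻¹ x ≫ a.act) := by
  unfold shearInv
  rw [comp_lift, lift_fst, ← Category.assoc, comp_lift, lift_snd]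
  congr 3
  rw [GrpObj.comp_inv, lift_fst]

theorem shear_snd : shear a ≫ snd G X = a.act := lift_snd _ _

theorem id_eq_lift : 𝟙 (G ⊗ X) = lift (fst G X) (snd G X) := by
  apply CartesianMonoidalCategory.hom_ext
  · rw [lift_fst, Category.id_comp]
  · rw [lift_snd, Category.id_comp]

theorem shear_shearInv : shear a ≫ shearInv a = 𝟙 _ := by
  have h : shear a = lift (fst G X) (lift (fst G X) (snd G X) ≫ a.act) := by
    unfold shear
    rw [← id_eq_lift, Category.id_comp]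
  rw [h, lift_shearInv, ← a.lift_mul_act, inv_mul_cancel, a.lift_one_act, ← id_eq_lift]

theorem shearInv_shear : shearInv a ≫ shear a = 𝟙 _ := by
  unfold shearInv
  rw [lift_shear, ← a.lift_mul_act, mul_inv_cancel, a.lift_one_act, ← id_eq_lift]

/-- `(h, (g, y)) ↦ (h g⁻¹, (g, y))`. -/
noncomputable def σ : G ⊗ (G ⊗ X) ⟶ G ⊗ (G ⊗ X) :=
  lift (fst G (G ⊗ X) * (snd G (G ⊗ X) ≫ fst G X)⁻¹) (snd G (G ⊗ X))

/-- `(h, (g, y)) ↦ (h g, (g, y))`. -/
noncomputable def σInv : G ⊗ (G ⊗ X) ⟶ G ⊗ (G ⊗ X) :=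
  lift (fst G (G ⊗ X) * (snd G (G ⊗ X) ≫ fst G X)) (snd G (G ⊗ X))

theorem σ_snd : σ (G := G) (X := X) ≫ snd G (G ⊗ X) = snd G (G ⊗ X) := lift_snd _ _

theorem σInv_snd : σInv (G := G) (X := X) ≫ snd G (G ⊗ X) = snd G (G ⊗ X) := lift_snd _ _

theorem lift_σ {T : Over S} (h : T ⟶ G) (e : T ⟶ G ⊗ X) :
    lift h e ≫ σ = lift (h * (e ≫ fst G X)⁻¹) e := by
  unfold σ
  rw [comp_lift, lift_snd, MonObj.comp_mul, GrpObj.comp_inv, lift_fst, ← Category.assoc, lift_snd]

theorem lift_σInv {T : Over S} (h : T ⟶ G) (e : T ⟶ G ⊗ X) :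
    lift h e ≫ σInv = lift (h * (e ≫ fst G X)) e := by
  unfold σInv
  rw [comp_lift, lift_snd, MonObj.comp_mul, lift_fst, ← Category.assoc, lift_snd]

theorem id_eq_lift' : 𝟙 (G ⊗ (G ⊗ X)) = lift (fst G (G ⊗ X)) (snd G (G ⊗ X)) := by
  apply CartesianMonoidalCategory.hom_ext
  · rw [lift_fst, Category.id_comp]
  · rw [lift_snd, Category.id_comp]

theorem σ_σInv : σ (G := G) (X := X) ≫ σInv = 𝟙 _ := by
  unfold σ
  rw [lift_σInv, inv_mul_cancel_right, ← id_eq_lift']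

theorem σInv_σ : σInv (G := G) (X := X) ≫ σ = 𝟙 _ := by
  unfold σInv
  rw [lift_σ, mul_inv_cancel_right, ← id_eq_lift']

theorem σ_act : σ ≫ (G ◁ a.act) ≫ a.act = (G ◁ snd G X) ≫ a.act := by
  have h1 : σ (G := G) (X := X) = lift (fst G (G ⊗ X) * (snd G (G ⊗ X) ≫ fst G X)⁻¹)
      (lift (snd G (G ⊗ X) ≫ fst G X) (snd G (G ⊗ X) ≫ snd G X)) := by
    unfold σ
    congr 1
    apply CartesianMonoidalCategory.hom_ext
    · rw [lift_fst]
    · rw [lift_snd]
  have h2 : (G ◁ snd G X) = lift (fst G (G ⊗ X)) (snd G (G ⊗ X) ≫ snd G X) := by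
    apply CartesianMonoidalCategory.hom_ext
    · rw [lift_fst, whiskerLeft_fst]
    · rw [lift_snd, whiskerLeft_snd]
  rw [h1, lift_whiskerLeft_assoc, a.lift_mul_act, ← a.lift_mul_act (g := (snd G (G ⊗ X) ≫ fst G X)⁻¹),
    inv_mul_cancel, a.lift_one_act, h2]

end Identities

section Main

open Groth.Agent.Lib.Helper78.HomogSep

variable {S : Scheme.{u}} {G X : Over S} [GrpObj G] (a : AlgGrp.Action G X)

theorem left_apply_of_comp_eq_id {A B : Over S} {f : A ⟶ B} {g : B ⟶ A} (w : f ≫ g = 𝟙 A)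
    (p : A.left) : g.left (f.left p) = p := by
  rw [left_apply_of_eq w]; rfl

theorem σInv_snd_apply (q : (G ⊗ X).left) (e : (G ⊗ (G ⊗ X)).left)
    (he : (snd G (G ⊗ X)).left e = q) :
    (snd G (G ⊗ X)).left ((σInv (G := G) (X := X)).left e) = q := by
  rw [left_apply_of_eq (σInv_snd (G := G) (X := X))]
  exact he

theorem σ_σInv_apply (e : (G ⊗ (G ⊗ X)).left) :
    (σ (G := G) (X := X)).left ((σInv (G := G) (X := X)).left e) = e := by
  rw [left_apply_of_comp_eq_id (σInv_σ (G := G) (X := X))]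

theorem σ_act_apply (e : (G ⊗ (G ⊗ X)).left) :
    a.act.left ((G ◁ a.act).left ((σ (G := G) (X := X)).left e)) =
      a.act.left ((G ◁ snd G X).left e) := by
  have := left_apply_of_eq (σ_act a) e
  rw [Over.comp_left, Scheme.Hom.comp_apply, Over.comp_left, Scheme.Hom.comp_apply] at this
  exact this

theorem fibre_dense_σ (U : Set X.left) (q : (G ⊗ X).left)
    (h1 : (snd G (G ⊗ X)).left ⁻¹' {q} ⊆ closure ((G ◁ snd G X).left ⁻¹' (a.act.left ⁻¹' U) ∩
      (snd G (G ⊗ X)).left ⁻¹' {q})) :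
    (snd G (G ⊗ X)).left ⁻¹' {q} ⊆ closure ((G ◁ a.act).left ⁻¹' (a.act.left ⁻¹' U) ∩
      (snd G (G ⊗ X)).left ⁻¹' {q}) := by
  intro e he
  rw [mem_closure_iff]
  intro N hN heN
  have he' : (σInv (G := G) (X := X)).left e ∈ (snd G (G ⊗ X)).left ⁻¹' {q} :=
    Set.mem_preimage.mpr (Set.mem_singleton_iff.mpr
      (σInv_snd_apply q e (Set.mem_singleton_iff.mp (Set.mem_preimage.mp he))))
  have hmem : (σInv (G := G) (X := X)).left e ∈ (σ (G := G) (X := X)).left ⁻¹' N := by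
    rw [Set.mem_preimage, σ_σInv_apply]
    exact heN
  obtain ⟨e'', he''N, he''Ω, he''q⟩ :=
    mem_closure_iff.mp (h1 he') _ (hN.preimage (σ (G := G) (X := X)).left.continuous) hmem
  refine ⟨(σ (G := G) (X := X)).left e'', he''N, ?_, ?_⟩
  · rw [Set.mem_preimage, Set.mem_preimage, σ_act_apply a]
    exact he''Ω
  · rw [Set.mem_preimage, Set.mem_singleton_iff, left_apply_of_eq (σ_snd (G := G) (X := X))]
    exact he''q

/-- Transport of fibrewise density along the action: if `{h : h ξ ∈ U}` is dense in the fibre of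
`G × X → X` over `ξ = pr₂ q`, then `{h : h x ∈ U}` is dense in the fibre over `x = act q`. -/
theorem fibre_dense_act (U : Set X.left) (q : (G ⊗ X).left)
    (h : (snd G X).left ⁻¹' {(snd G X).left q} ⊆
      closure (a.act.left ⁻¹' U ∩ (snd G X).left ⁻¹' {(snd G X).left q})) :
    (snd G X).left ⁻¹' {a.act.left q} ⊆
      closure (a.act.left ⁻¹' U ∩ (snd G X).left ⁻¹' {a.act.left q}) := by
  have sq1 : IsPullback (G ◁ snd G X).left (snd G (G ⊗ X)).left (snd G X).left (snd G X).left :=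
    (FpqcQuot.isPullback_whiskerLeft G (snd G X)).map (Over.forget S)
  have sq2 : IsPullback (G ◁ a.act).left (snd G (G ⊗ X)).left (snd G X).left a.act.left :=
    (FpqcQuot.isPullback_whiskerLeft G a.act).map (Over.forget S)
  have h1 := fibre_dense_pullback sq1 q (a.act.left ⁻¹' U) h
  exact fibre_dense_of_pullback sq2 q (a.act.left ⁻¹' U) (fibre_dense_σ a U q h1)

theorem snd_hom_apply (e : (G ⊗ X).left) : X.hom ((snd G X).left e) = (G ⊗ X).hom e := by
  rw [← Scheme.Hom.comp_apply, Over.w]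

theorem act_hom_apply (e : (G ⊗ X).left) : X.hom (a.act.left e) = (G ⊗ X).hom e := by
  rw [← Scheme.Hom.comp_apply, Over.w]

theorem shear_hom_apply (e : (G ⊗ X).left) : (G ⊗ X).hom ((shear a).left e) = (G ⊗ X).hom e := by
  rw [← Scheme.Hom.comp_apply, Over.w]

theorem shearInv_hom_apply (e : (G ⊗ X).left) :
    (G ⊗ X).hom ((shearInv a).left e) = (G ⊗ X).hom e := by
  rw [← Scheme.Hom.comp_apply, Over.w]

theorem snd_shear_apply (e : (G ⊗ X).left) :
    (snd G X).left ((shear a).left e) = a.act.left e := left_apply_of_eq (shear_snd a) e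

/-- The action map is open on fibres over `s`. -/
theorem exists_isOpen_image_act_fibre (s : S) (N : Set (G ⊗ X).left) (hN : IsOpen N) :
    ∃ V : Set X.left, IsOpen V ∧
      a.act.left '' (N ∩ (snd G X).left ⁻¹' (X.hom ⁻¹' {s})) = V ∩ X.hom ⁻¹' {s} := by
  obtain ⟨V, hV, hVeq⟩ := exists_isOpen_image_snd_fibre G.hom X.hom s
    ((shearInv a).left ⁻¹' N) (hN.preimage (shearInv a).left.continuous)
  refine ⟨V, hV, ?_⟩
  have hVeq' : (snd G X).left '' ((shearInv a).left ⁻¹' N ∩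
      (snd G X).left ⁻¹' (X.hom ⁻¹' {s})) = V ∩ X.hom ⁻¹' {s} := hVeq
  rw [← hVeq']
  ext v
  simp only [Set.mem_image, Set.mem_inter_iff, Set.mem_preimage, Set.mem_singleton_iff]
  constructor
  · rintro ⟨n, ⟨hnN, hns⟩, rfl⟩
    refine ⟨(shear a).left n, ⟨?_, ?_⟩, snd_shear_apply a n⟩
    · rw [left_apply_of_comp_eq_id (shear_shearInv a)]
      exact hnN
    · rw [snd_hom_apply, shear_hom_apply, ← snd_hom_apply]
      exact hns
  · rintro ⟨m, ⟨hmN, hms⟩, rfl⟩
    refine ⟨(shearInv a).left m, ⟨hmN, ?_⟩, ?_⟩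
    · rw [snd_hom_apply, shearInv_hom_apply, ← snd_hom_apply]
      exact hms
    · rw [← snd_shear_apply, left_apply_of_comp_eq_id (shearInv_shear a)]

/-- There is a point `ξ` of the fibre `X_s` over which `{h : h ξ ∈ U}` is dense in `G_{κ(ξ)}`. -/
theorem exists_fibre_dense (s : S) [LocallyOfFiniteType (X.hom.fiberToSpecResidueField s)]
    (hne : (X.hom ⁻¹' {s}).Nonempty) (U : Set X.left) (hU : IsOpen U)
    (hUd : X.hom ⁻¹' {s} ⊆ closure (U ∩ X.hom ⁻¹' {s})) :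
    ∃ ξ : X.left, X.hom ξ = s ∧
      (snd G X).left ⁻¹' {ξ} ⊆ closure (a.act.left ⁻¹' U ∩ (snd G X).left ⁻¹' {ξ}) := by
  obtain ⟨ξ, hξs, V₀, hV₀, hξV₀, hgen⟩ := exists_generic_in_fibre X.hom s hne
  refine ⟨ξ, hξs, ?_⟩
  intro e he
  rw [mem_closure_iff]
  intro N hN heN
  have hpe : (snd G X).left e = ξ := Set.mem_singleton_iff.mp (Set.mem_preimage.mp he)
  have hN₂ : IsOpen (N ∩ (snd G X).left ⁻¹' V₀) :=
    hN.inter (hV₀.preimage (snd G X).left.continuous)
  have heN₂ : e ∈ N ∩ (snd G X).left ⁻¹' V₀ :=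
    ⟨heN, Set.mem_preimage.mpr (hpe ▸ hξV₀)⟩
  have hes : e ∈ (snd G X).left ⁻¹' (X.hom ⁻¹' {s}) := by
    rw [Set.mem_preimage, Set.mem_preimage, Set.mem_singleton_iff, hpe]
    exact hξs
  obtain ⟨V₂, hV₂, hV₂eq⟩ := exists_isOpen_image_act_fibre a s _ hN₂
  have hae : a.act.left e ∈ V₂ ∩ X.hom ⁻¹' {s} := by
    rw [← hV₂eq]; exact ⟨e, ⟨heN₂, hes⟩, rfl⟩
  obtain ⟨y, hyV₂, hyU, hys⟩ := mem_closure_iff.mp (hUd hae.2) V₂ hV₂ hae.1
  have hy : y ∈ a.act.left '' ((N ∩ (snd G X).left ⁻¹' V₀) ∩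
      (snd G X).left ⁻¹' (X.hom ⁻¹' {s})) := by
    rw [hV₂eq]; exact ⟨hyV₂, hys⟩
  obtain ⟨e₁, ⟨he₁N₂, he₁s⟩, rfl⟩ := hy
  have hN₁ : IsOpen ((N ∩ (snd G X).left ⁻¹' V₀) ∩ a.act.left ⁻¹' U) :=
    hN₂.inter (hU.preimage a.act.left.continuous)
  obtain ⟨V₁, hV₁, hV₁eq⟩ := exists_isOpen_image_snd_fibre G.hom X.hom s _ hN₁
  have hV₁eq' : (snd G X).left '' (((N ∩ (snd G X).left ⁻¹' V₀) ∩ a.act.left ⁻¹' U) ∩
      (snd G X).left ⁻¹' (X.hom ⁻¹' {s})) = V₁ ∩ X.hom ⁻¹' {s} := hV₁eq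
  have hpe₁ : (snd G X).left e₁ ∈ V₁ ∩ X.hom ⁻¹' {s} := by
    rw [← hV₁eq']; exact ⟨e₁, ⟨⟨he₁N₂, hyU⟩, he₁s⟩, rfl⟩
  have hξV₁ : ξ ∈ V₁ := hgen V₁ hV₁ ⟨(snd G X).left e₁, ⟨hpe₁.1, he₁N₂.2⟩, hpe₁.2⟩
  have hξim : ξ ∈ (snd G X).left '' (((N ∩ (snd G X).left ⁻¹' V₀) ∩ a.act.left ⁻¹' U) ∩
      (snd G X).left ⁻¹' (X.hom ⁻¹' {s})) := by
    rw [hV₁eq']; exact ⟨hξV₁, hξs⟩
  obtain ⟨e₂, ⟨he₂N₁, -⟩, he₂ξ⟩ := hξim
  exact ⟨e₂, he₂N₁.1.1, he₂N₁.2, he₂ξ⟩

/-- Fibrewise density of `{h : h x ∈ U}` at every point `x` of the fibre `X_s`. -/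
theorem fibre_dense_all (hΦ : Surjective (lift a.act (snd G X)).left) (s : S)
    [LocallyOfFiniteType (X.hom.fiberToSpecResidueField s)] (U : Set X.left) (hU : IsOpen U)
    (hUd : X.hom ⁻¹' {s} ⊆ closure (U ∩ X.hom ⁻¹' {s})) (x : X.left) (hx : X.hom x = s) :
    (snd G X).left ⁻¹' {x} ⊆ closure (a.act.left ⁻¹' U ∩ (snd G X).left ⁻¹' {x}) := by
  obtain ⟨ξ, hξs, hξ⟩ := exists_fibre_dense a s ⟨x, hx⟩ U hU hUd
  obtain ⟨w, hw1, hw2⟩ := Scheme.Pullback.exists_preimage_pullback x ξ (hx.trans hξs.symm)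
  obtain ⟨q, hq⟩ := hΦ.surj w
  have hq1 : a.act.left q = x := by
    rw [← left_apply_of_eq (lift_fst a.act (snd G X)) q, hq]; exact hw1
  have hq2 : (snd G X).left q = ξ := by
    rw [← left_apply_of_eq (lift_snd a.act (snd G X)) q, hq]; exact hw2
  have h := fibre_dense_act a U q (by rw [hq2]; exact hξ)
  rwa [hq1] at h

theorem Θ_fst : Θ a ≫ fst X X = (G ◁ fst X X) ≫ a.act := lift_fst _ _

theorem Θ_snd : Θ a ≫ snd X X = (G ◁ snd X X) ≫ a.act := lift_snd _ _

theorem fst_Θ_apply (p : (G ⊗ (X ⊗ X)).left) :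
    (fst X X).left ((Θ a).left p) = a.act.left ((G ◁ fst X X).left p) := by
  have := left_apply_of_eq (Θ_fst a) p
  rw [Over.comp_left, Scheme.Hom.comp_apply] at this
  exact this

theorem snd_Θ_apply (p : (G ⊗ (X ⊗ X)).left) :
    (snd X X).left ((Θ a).left p) = a.act.left ((G ◁ snd X X).left p) := by
  have := left_apply_of_eq (Θ_snd a) p
  rw [Over.comp_left, Scheme.Hom.comp_apply] at this
  exact this

theorem fst_e'_apply (z : (X ⊗ X).left) :
    (fst G (X ⊗ X)).left ((e' G X).left z) = η[G].left ((toUnit (X ⊗ X)).left z) := by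
  have := left_apply_of_eq (lift_fst (toUnit (X ⊗ X) ≫ η[G]) (𝟙 (X ⊗ X))) z
  rw [Over.comp_left, Scheme.Hom.comp_apply] at this
  exact this

/-- **SGA3 VI_B**: separatedness of a homogeneous space with fibrewise dense separated opens. -/
theorem isSeparated_of_dense_separated_open
    (hGo : ∃ W : G.left.Opens, (∀ p : ↥(𝟙_ (Over S)).left, η[G].left.base p ∈ W) ∧
      UniversallyOpen (W.ι ≫ G.hom))
    (hΦ : Surjective (lift a.act (snd G X)).left)
    (hft : ∀ s : S, LocallyOfFiniteType (X.hom.fiberToSpecResidueField s))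
    (hU : ∀ s : S, ∃ U : X.left.Opens, IsSeparated (U.ι ≫ X.hom) ∧
      X.hom.base ⁻¹' {s} ⊆ closure ((U : Set X.left) ∩ X.hom.base ⁻¹' {s})) :
    IsSeparated X.hom := by
  obtain ⟨W, hWe, hWo⟩ := hGo
  refine ⟨IsClosedImmersion.of_isPreimmersion _ ?_⟩
  rw [← δ_left, ← closure_subset_iff_isClosed]
  intro z hz
  obtain ⟨U, hUsep, hUd⟩ := hU (X.hom ((fst X X).left z))
  haveI := hft (X.hom ((fst X X).left z))
  have hx2 : X.hom ((snd X X).left z) = X.hom ((fst X X).left z) := by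
    rw [← Scheme.Hom.comp_apply, Over.w (snd X X), ← Over.w (fst X X), Scheme.Hom.comp_apply]
  have FD1 := fibre_dense_all a hΦ _ U U.2 hUd _ rfl
  have FD2 := fibre_dense_all a hΦ _ U U.2 hUd _ hx2
  have sqB1 : IsPullback (G ◁ fst X X).left (snd G (X ⊗ X)).left (snd G X).left (fst X X).left :=
    (FpqcQuot.isPullback_whiskerLeft G (fst X X)).map (Over.forget S)
  have sqB2 : IsPullback (G ◁ snd X X).left (snd G (X ⊗ X)).left (snd G X).left (snd X X).left :=
    (FpqcQuot.isPullback_whiskerLeft G (snd X X)).map (Over.forget S)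
  have B1 := fibre_dense_pullback sqB1 z (a.act.left ⁻¹' U) FD1
  have B2 := fibre_dense_pullback sqB2 z (a.act.left ⁻¹' U) FD2
  have hezπ : (e' G X).left z ∈ (snd G (X ⊗ X)).left ⁻¹' {z} := by
    rw [Set.mem_preimage, Set.mem_singleton_iff,
      left_apply_of_comp_eq_id (e'_snd (G := G) (X := X))]
  have hW'o : IsOpen ((fst G (X ⊗ X)).left ⁻¹' (W : Set G.left)) :=
    W.2.preimage (fst G (X ⊗ X)).left.continuous
  have hezW : (e' G X).left z ∈ (fst G (X ⊗ X)).left ⁻¹' (W : Set G.left) := by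
    rw [Set.mem_preimage, fst_e'_apply]
    exact hWe _
  obtain ⟨p₁, hp₁W, hp₁Ω, hp₁z⟩ := mem_closure_iff.mp (B1 hezπ) _ hW'o hezW
  have hO₂ : IsOpen ((fst G (X ⊗ X)).left ⁻¹' (W : Set G.left) ∩
      (G ◁ fst X X).left ⁻¹' (a.act.left ⁻¹' U)) :=
    hW'o.inter ((U.2.preimage a.act.left.continuous).preimage (G ◁ fst X X).left.continuous)
  obtain ⟨p, ⟨hpW, hpΩ1⟩, hpΩ2, hpz⟩ := mem_closure_iff.mp (B2 hp₁z) _ hO₂ ⟨hp₁W, hp₁Ω⟩
  have hpz' : (snd G (X ⊗ X)).left p = z := Set.mem_singleton_iff.mp (Set.mem_preimage.mp hpz)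
  have hpb : IsPullback (G ◁ δ X).left (snd G X).left (snd G (X ⊗ X)).left (δ X).left :=
    (FpqcQuot.isPullback_whiskerLeft G (δ X)).map (Over.forget S)
  have hpre : (snd G (X ⊗ X)).left ⁻¹' Set.range (δ X).left = Set.range (G ◁ δ X).left :=
    (Helper51.IsPullback.range_fst_eq hpb).symm
  rw [← hpz']
  refine mem_of_mem_closure' (snd G (X ⊗ X)).left (Θ a).left (Θ' a).left (τ a).left
    (Set.range (δ X).left)
    ((pullback.fst X.hom X.hom) ⁻¹' (U : Set X.left) ∩ (pullback.snd X.hom X.hom) ⁻¹' (U : Set X.left))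
    ((fst G (X ⊗ X)).left ⁻¹' (W : Set G.left)) hW'o ?_ (Θ a).left.continuous
    ?_ ?_ ?_ ?_ ?_ p hpW ?_ ?_
  · intro N hN hNW
    exact isOpen_image_snd_of_subset G.hom (X ⊗ X).hom W N hN hNW
  · intro p' hp'
    have : p' ∈ Set.range (G ◁ δ X).left := hpre ▸ hp'
    obtain ⟨r, rfl⟩ := this
    rw [left_apply_of_eq (whiskerLeft_δ_Θ a), Over.comp_left, Scheme.Hom.comp_apply]
    exact ⟨_, rfl⟩
  · intro p' hp'
    have : p' ∈ Set.range (G ◁ δ X).left := hpre ▸ hp'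
    obtain ⟨r, rfl⟩ := this
    rw [left_apply_of_eq (whiskerLeft_δ_Θ' a), Over.comp_left, Over.comp_left,
      Scheme.Hom.comp_apply, Scheme.Hom.comp_apply]
    exact ⟨_, rfl⟩
  · intro p'
    exact left_apply_of_eq (τ_snd a) p'
  · intro p'
    exact left_apply_of_eq (τ_Θ' a) p'
  · rw [δ_left]
    exact closure_range_diagonal_inter_subset X.hom U
  · rw [hpz']
    exact hz
  · refine ⟨?_, ?_⟩
    · rw [Set.mem_preimage]
      have := fst_Θ_apply a p
      rw [show (fst X X).left = pullback.fst X.hom X.hom from rfl] at this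
      rw [this]
      exact hpΩ1
    · rw [Set.mem_preimage]
      have := snd_Θ_apply a p
      rw [show (snd X X).left = pullback.snd X.hom X.hom from rfl] at this
      rw [this]
      exact hpΩ2

end Main

end Groth.Agent.Lib.Helper78.HomogDense
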