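import Mathlib

/-!
# Transitivity of a compact family of maps on connected components (helper78)

Let `G` be a compact space and `act : G → A → A` a family of continuous self-maps of a space `A`
with continuous orbit maps.  Let `r : A → B` be a continuous, closed, surjective map which is
`act`-invariant and whose fibres are exactly the `act`-orbits.  If `T ⊆ B` is closed and
preconnected, then for every `a₀` with `r a₀ ∈ T`, the connected component of `a₀` in `A` surjects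
onto `T`.  No compactness or local connectedness of `A` is needed (the proof is by Zorn's lemma on
closed "blocks").
-/

set_option autoImplicit false
set_option linter.style.haveILetI false

open Topology Set

namespace Groth.Agent.Lib.Helper78.CompTrans

variable {G A B : Type*} [TopologicalSpace G] [CompactSpace G] [TopologicalSpace A]
  [TopologicalSpace B]

omit [TopologicalSpace B] in
/-- Directed intersections of closed sets hitting the fibre over `b` still hit that fibre. -/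
theorem mem_image_sInter (act : G → A → A) (hcont₂ : ∀ a, Continuous fun g => act g a)
    (r : A → B) (hinv : ∀ (g : G) (a : A), r (act g a) = r a)
    (htr : ∀ a a' : A, r a = r a' → ∃ g : G, act g a = a')
    (S : Set (Set A)) (hSne : S.Nonempty) (hScl : ∀ Z ∈ S, IsClosed Z)
    (hSd : ∀ Z₁ ∈ S, ∀ Z₂ ∈ S, ∃ Z₃ ∈ S, Z₃ ⊆ Z₁ ∩ Z₂) (b : B) (hb : ∀ Z ∈ S, b ∈ r '' Z) :
    b ∈ r '' ⋂₀ S := by
  obtain ⟨Z₀, hZ₀⟩ := hSne
  obtain ⟨ab, -, hab⟩ := hb Z₀ hZ₀
  haveI : Nonempty S := ⟨⟨Z₀, hZ₀⟩⟩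
  have key : (⋂ Z : S, (fun g : G => act g ab) ⁻¹' Z.1).Nonempty := by
    apply IsCompact.nonempty_iInter_of_directed_nonempty_isCompact_isClosed
    · intro Z₁ Z₂
      obtain ⟨Z₃, hZ₃, h3⟩ := hSd Z₁.1 Z₁.2 Z₂.1 Z₂.2
      exact ⟨⟨Z₃, hZ₃⟩, fun g hg => (h3 hg).1, fun g hg => (h3 hg).2⟩
    · intro Z
      obtain ⟨z, hz, hzb⟩ := hb Z.1 Z.2
      obtain ⟨g, hg⟩ := htr ab z (hab.trans hzb.symm)
      exact ⟨g, by simpa [hg] using hz⟩
    · intro Z
      exact ((hScl Z.1 Z.2).preimage (hcont₂ ab)).isCompact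
    · intro Z
      exact (hScl Z.1 Z.2).preimage (hcont₂ ab)
  obtain ⟨g, hg⟩ := key
  refine ⟨act g ab, ?_, by rw [hinv, hab]⟩
  rw [mem_sInter]
  intro Z hZ
  exact mem_iInter.mp hg ⟨Z, hZ⟩

/-- Main theorem. -/
theorem subset_image_connectedComponent (act : G → A → A) (hcont₁ : ∀ g, Continuous (act g))
    (hcont₂ : ∀ a, Continuous fun g => act g a)
    (r : A → B) (hrc : Continuous r) (hrcl : IsClosedMap r) (hrs : Function.Surjective r)
    (hinv : ∀ (g : G) (a : A), r (act g a) = r a)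
    (htr : ∀ a a' : A, r a = r a' → ∃ g : G, act g a = a')
    (T : Set B) (hTcl : IsClosed T) (hTpc : IsPreconnected T) (a₀ : A) (ha₀ : r a₀ ∈ T) :
    T ⊆ r '' connectedComponent a₀ := by
  -- the family of closed blocks
  let 𝓕 : Set (Set A) := {F | IsClosed F ∧ a₀ ∈ F ∧ F ⊆ r ⁻¹' T ∧ T ⊆ r '' F ∧
    ∀ (g : G) (y : A), y ∈ F → act g y ∈ F → ∀ z ∈ F, act g z ∈ F}
  -- (I) the top element
  have htop : r ⁻¹' T ∈ 𝓕 := by
    refine ⟨hTcl.preimage hrc, ha₀, subset_rfl, ?_, ?_⟩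
    · intro b hb
      obtain ⟨a, rfl⟩ := hrs b
      exact ⟨a, hb, rfl⟩
    · intro g y _ _ z hz
      change r (act g z) ∈ T
      rw [hinv]
      exact hz
  -- (II) chains
  have hchain : ∀ c ⊆ 𝓕, IsChain (· ⊆ ·) c → c.Nonempty → ∃ lb ∈ 𝓕, ∀ s ∈ c, lb ⊆ s := by
    intro c hc hch hne
    refine ⟨⋂₀ c, ⟨?_, ?_, ?_, ?_, ?_⟩, fun s hs => sInter_subset_of_mem hs⟩
    · exact isClosed_sInter fun Z hZ => (hc hZ).1
    · exact mem_sInter.mpr fun Z hZ => (hc hZ).2.1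
    · obtain ⟨Z₀, hZ₀⟩ := hne
      exact (sInter_subset_of_mem hZ₀).trans (hc hZ₀).2.2.1
    · intro b hb
      refine mem_image_sInter act hcont₂ r hinv htr c hne (fun Z hZ => (hc hZ).1) ?_ b
        (fun Z hZ => (hc hZ).2.2.2.1 hb)
      intro Z₁ h1 Z₂ h2
      rcases hch.total h1 h2 with h | h
      · exact ⟨Z₁, h1, subset_inter subset_rfl h⟩
      · exact ⟨Z₂, h2, subset_inter h subset_rfl⟩
    · intro g y hy hgy z hz
      rw [mem_sInter] at hy hgy hz ⊢
      intro Z hZ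
      exact (hc hZ).2.2.2.2 g y (hy Z hZ) (hgy Z hZ) z (hz Z hZ)
  obtain ⟨F, -, hFmin⟩ := zorn_superset_nonempty 𝓕 hchain _ htop
  obtain ⟨hFcl, ha₀F, hFT, hTF, hblock⟩ := hFmin.prop
  -- (III) the relative quasi-component of `a₀` in `F`
  let 𝒵 : Set (Set A) := {Z | Z ⊆ F ∧ IsClosed Z ∧ IsClosed (F \ Z) ∧ a₀ ∈ Z}
  have hF𝒵 : F ∈ 𝒵 := ⟨subset_rfl, hFcl, by simp, ha₀F⟩
  -- (III.1) every member of `𝒵` surjects onto `T`
  have hZsurj : ∀ Z ∈ 𝒵, T ⊆ r '' Z := by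
    rintro Z ⟨hZF, hZcl, hZcl', ha₀Z⟩
    let W : Set A := F ∩ ⋂ g : {g : G // act g a₀ ∈ F}, (act g.1) ⁻¹' (F \ Z)
    have hWcl : IsClosed W :=
      hFcl.inter (isClosed_iInter fun g => hZcl'.preimage (hcont₁ g.1))
    have hcov : T ⊆ r '' Z ∪ r '' W := by
      intro b hb
      obtain ⟨y, hy, rfl⟩ := hTF hb
      by_cases hyW : y ∈ W
      · exact Or.inr ⟨y, hyW, rfl⟩
      · left
        have : ∃ g : G, act g a₀ ∈ F ∧ act g y ∈ Z := by
          by_contra hcon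
          push Not at hcon
          apply hyW
          refine ⟨hy, mem_iInter.mpr fun g => ?_⟩
          exact ⟨hblock g.1 a₀ ha₀F g.2 y hy, hcon g.1 g.2⟩
        obtain ⟨g, -, hgy⟩ := this
        exact ⟨act g y, hgy, hinv g y⟩
    have hdisj : ∀ b, b ∈ r '' Z → b ∈ r '' W → False := by
      rintro _ ⟨z, hz, rfl⟩ ⟨w, hw, hwz⟩
      obtain ⟨g, hg⟩ := htr w z hwz
      have hgF : act g a₀ ∈ F := hblock g w hw.1 (hg ▸ hZF hz) a₀ ha₀F
      have := mem_iInter.mp hw.2 ⟨g, hgF⟩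
      exact this.2 (hg ▸ hz)
    have h1 : (T ∩ r '' Z).Nonempty := ⟨r a₀, ha₀, a₀, ha₀Z, rfl⟩
    intro b hb
    rcases hcov hb with h | h
    · exact h
    · exfalso
      obtain ⟨b', -, hb'1, hb'2⟩ := isPreconnected_closed_iff.mp hTpc _ _ (hrcl _ hZcl)
        (hrcl _ hWcl) hcov h1 ⟨b, hb, h⟩
      exact hdisj b' hb'1 hb'2
  -- (III.3) the quasi-component is again a block
  have hF' : ⋂₀ 𝒵 ∈ 𝓕 := by
    have hsub : ⋂₀ 𝒵 ⊆ F := sInter_subset_of_mem hF𝒵
    refine ⟨isClosed_sInter fun Z hZ => hZ.2.1, mem_sInter.mpr fun Z hZ => hZ.2.2.2,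
      hsub.trans hFT, ?_, ?_⟩
    · intro b hb
      refine mem_image_sInter act hcont₂ r hinv htr 𝒵 ⟨F, hF𝒵⟩ (fun Z hZ => hZ.2.1) ?_ b
        (fun Z hZ => hZsurj Z hZ hb)
      rintro Z₁ ⟨h1a, h1b, h1c, h1d⟩ Z₂ ⟨h2a, h2b, h2c, h2d⟩
      refine ⟨Z₁ ∩ Z₂, ⟨inter_subset_left.trans h1a, h1b.inter h2b, ?_, h1d, h2d⟩, subset_rfl⟩
      rw [sdiff_inter]
      exact h1c.union h2c
    · intro g y hy hgy z hz
      rw [mem_sInter] at hy hgy hz ⊢
      rintro Z ⟨hZF, hZcl, hZcl', ha₀Z⟩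
      have hgF : ∀ x ∈ F, act g x ∈ F := hblock g y (hy F hF𝒵) (hgy F hF𝒵)
      let Z' : Set A := F ∩ (act g) ⁻¹' Z
      have hZ'cl : IsClosed Z' := hFcl.inter (hZcl.preimage (hcont₁ g))
      have hdiff : F \ Z' = F ∩ (act g) ⁻¹' (F \ Z) := by
        ext x
        simp only [Z', mem_sdiff, mem_inter_iff, mem_preimage, not_and]
        constructor
        · rintro ⟨hx, hx'⟩
          exact ⟨hx, hgF x hx, hx' hx⟩
        · rintro ⟨hx, -, hx'⟩
          exact ⟨hx, fun _ => hx'⟩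
      have hZ'cl' : IsClosed (F \ Z') := by
        rw [hdiff]
        exact hFcl.inter (hZcl'.preimage (hcont₁ g))
      have ha₀Z' : a₀ ∈ Z' := by
        by_contra hcon
        have hmem : F \ Z' ∈ 𝒵 := by
          refine ⟨sdiff_subset, hZ'cl', ?_, ha₀F, hcon⟩
          rw [sdiff_sdiff_cancel_left inter_subset_left]
          exact hZ'cl
        have h1 := hy _ hmem
        exact h1.2 ⟨h1.1, hgy Z ⟨hZF, hZcl, hZcl', ha₀Z⟩⟩
      have hZ'mem : Z' ∈ 𝒵 := ⟨inter_subset_left, hZ'cl, hZ'cl', ha₀Z'⟩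
      exact (hz Z' hZ'mem).2
  -- (IV) minimality
  have hFeq : F ⊆ ⋂₀ 𝒵 := hFmin.le_of_le hF' (sInter_subset_of_mem hF𝒵)
  -- (V) `F` is preconnected
  have hFpc : IsPreconnected F := by
    rw [isPreconnected_closed_iff]
    intro t t' ht ht' hcov hne hne'
    by_contra hcon
    rw [not_nonempty_iff_eq_empty] at hcon
    have hd1 : F \ (F ∩ t) = F ∩ t' := by
      ext x
      simp only [mem_sdiff, mem_inter_iff, not_and]
      constructor
      · rintro ⟨hx, hx'⟩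
        exact ⟨hx, (hcov hx).resolve_left (hx' hx)⟩
      · rintro ⟨hx, hx'⟩
        refine ⟨hx, fun _ hxt => ?_⟩
        have : x ∈ F ∩ (t ∩ t') := ⟨hx, hxt, hx'⟩
        rw [hcon] at this
        exact this
    have hd2 : F \ (F ∩ t') = F ∩ t := by
      ext x
      simp only [mem_sdiff, mem_inter_iff, not_and]
      constructor
      · rintro ⟨hx, hx'⟩
        exact ⟨hx, (hcov hx).resolve_right (hx' hx)⟩
      · rintro ⟨hx, hx'⟩
        refine ⟨hx, fun _ hxt => ?_⟩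
        have : x ∈ F ∩ (t ∩ t') := ⟨hx, hx', hxt⟩
        rw [hcon] at this
        exact this
    rcases hcov ha₀F with h | h
    · have hmem : F ∩ t ∈ 𝒵 := ⟨inter_subset_left, hFcl.inter ht, by rw [hd1]; exact hFcl.inter ht',
        ha₀F, h⟩
      obtain ⟨x, hx, hxt'⟩ := hne'
      have : x ∈ F ∩ (t ∩ t') := ⟨hx, (mem_sInter.mp (hFeq hx) _ hmem).2, hxt'⟩
      rw [hcon] at this
      exact this
    · have hmem : F ∩ t' ∈ 𝒵 := ⟨inter_subset_left, hFcl.inter ht', by rw [hd2]; exact hFcl.inter ht,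
        ha₀F, h⟩
      obtain ⟨x, hx, hxt⟩ := hne
      have : x ∈ F ∩ (t ∩ t') := ⟨hx, hxt, (mem_sInter.mp (hFeq hx) _ hmem).2⟩
      rw [hcon] at this
      exact this
  -- (VI) conclusion
  exact hTF.trans (image_mono (hFpc.subset_connectedComponent ha₀F))

end Groth.Agent.Lib.Helper78.CompTrans
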