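import Mathlib
import Groth.Prelude.Def_AlgGrp
import Groth.Agent.Lib.Helper78.HomogSep

/-!
# Group schemes with connected fibres are quasi-compact over the base (helper78)

SGA3 VI_B 5.5: if `G/S` is a group scheme all of whose fibres are connected, then `G → S` is
quasi-compact.  Locally on `S` choose an affine open `U` of `G` containing the unit section; since
the fibres of `G ×_S G → G` are irreducible, every `g` is of the form `h⁻¹ · (h g)` with `h⁻¹ ∈ U`
and `h g ∈ U`, i.e. `G = m(U ×_S U)` is the image of an affine scheme.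
-/

set_option autoImplicit false
set_option linter.style.haveILetI false
universe u
open CategoryTheory MonoidalCategory CartesianMonoidalCategory MonObj GrpObj AlgebraicGeometry Limits

namespace Groth.Agent.Lib.Helper78.ConnQC

open Groth.Agent.Lib.Helper78.HomogSep

variable {S : Scheme.{u}}

/-- `ψ (h, g) = (h⁻¹, h g)`. -/
noncomputable def ψ (G : Over S) [GrpObj G] : G ⊗ G ⟶ G ⊗ G := lift (fst G G ≫ ι[G]) μ[G]

theorem ψ_mul (G : Over S) [GrpObj G] : ψ G ≫ μ[G] = snd G G := by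
  have h1 : μ[G] = fst G G * snd G G := by
    rw [Hom.mul_def, lift_fst_snd, Category.id_comp]
  have h2 : ψ G ≫ μ[G] = (fst G G)⁻¹ * (fst G G * snd G G) := by
    rw [Hom.mul_def (fst G G)⁻¹, Hom.inv_def, ← h1]
    rfl
  rw [h2, inv_mul_cancel_left]

theorem ψ_fst (G : Over S) [GrpObj G] : ψ G ≫ fst G G = fst G G ≫ ι[G] := lift_fst _ _

theorem ψ_snd (G : Over S) [GrpObj G] : ψ G ≫ snd G G = μ[G] := lift_snd _ _

/-- the point `(e, g)` -/
noncomputable def p₁ (G : Over S) [GrpObj G] : G ⟶ G ⊗ G := lift (toUnit G ≫ η[G]) (𝟙 G)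

/-- the point `(g⁻¹, g)` -/
noncomputable def p₂ (G : Over S) [GrpObj G] : G ⟶ G ⊗ G := lift ι[G] (𝟙 G)

theorem p₁_snd (G : Over S) [GrpObj G] : p₁ G ≫ snd G G = 𝟙 G := lift_snd _ _
theorem p₂_snd (G : Over S) [GrpObj G] : p₂ G ≫ snd G G = 𝟙 G := lift_snd _ _

theorem p₁_fst_inv (G : Over S) [GrpObj G] : p₁ G ≫ fst G G ≫ ι[G] = toUnit G ≫ η[G] := by
  rw [p₁, lift_fst_assoc, Category.assoc, GrpObj.one_inv]

theorem p₂_mul (G : Over S) [GrpObj G] : p₂ G ≫ μ[G] = toUnit G ≫ η[G] := GrpObj.left_inv G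

theorem unit_hom_apply (G : Over S) [GrpObj G] (g : G.left) :
    (toUnit G ≫ η[G]).left g = η[G].left (G.hom g) := by
  rw [Over.comp_left, Scheme.Hom.comp_apply]
  congr 1

theorem hom_unit_apply (G : Over S) [GrpObj G] (t : S) : G.hom (η[G].left t) = t := by
  have : η[G].left ≫ G.hom = 𝟙 S := Over.w η[G]
  rw [← Scheme.Hom.comp_apply, this]
  rfl

theorem hom_mul_apply (G : Over S) [GrpObj G] (q : (G ⊗ G).left) :
    G.hom (μ[G].left q) = G.hom ((snd G G).left q) := by
  rw [← Scheme.Hom.comp_apply, ← Scheme.Hom.comp_apply, Over.w, Over.w]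

/-- local quasi-compactness of `G → S` around `s`. -/
theorem exists_isCompact_preimage (G : Over S) [GrpObj G]
    (hconn : ∀ s : S, _root_.IsConnected (G.hom.base ⁻¹' {s})) (s : S) (W : S.Opens) (hs : s ∈ W) :
    ∃ V : S.Opens, s ∈ V ∧ V ≤ W ∧ IsCompact (G.hom ⁻¹' (V : Set S)) := by
  -- affine opens
  obtain ⟨V₀, hV₀, hsV₀, hV₀W⟩ := exists_isAffineOpen_mem_and_subset (x := s) (U := W) hs
  have hes : η[G].left s ∈ G.hom ⁻¹ᵁ V₀ := by
    show G.hom (η[G].left s) ∈ V₀
    rw [hom_unit_apply]; exact hsV₀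
  obtain ⟨U, hU, heU, hUV₀⟩ := exists_isAffineOpen_mem_and_subset (x := η[G].left s)
    (U := G.hom ⁻¹ᵁ V₀) hes
  -- basic open of `V₀` inside `e⁻¹ U`
  let E : S.Opens := η[G].left ⁻¹ᵁ U
  have hsE : s ∈ E := heU
  obtain ⟨r, hrE, hsr⟩ := hV₀.exists_basicOpen_le (V := E) ⟨s, hsE⟩ hsV₀
  let V : S.Opens := S.basicOpen r
  have hVV₀ : V ≤ V₀ := S.basicOpen_le r
  have hV : IsAffineOpen V := hV₀.basicOpen r
  -- the affine open `U' = U ∩ G.hom⁻¹ V`
  have hUle : U ≤ G.hom ⁻¹ᵁ V₀ := hUV₀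
  let r' : Γ(G.left, U) := G.left.presheaf.map (homOfLE hUle).op (G.hom.app V₀ r)
  let U' : G.left.Opens := G.left.basicOpen r'
  have hU' : IsAffineOpen U' := hU.basicOpen r'
  have hU'eq : U' = U ⊓ G.hom ⁻¹ᵁ V := by
    show G.left.basicOpen r' = _
    rw [Scheme.basicOpen_res, Scheme.preimage_basicOpen]
  refine ⟨V, hsr, hVV₀.trans hV₀W, ?_⟩
  have hU'V : ∀ x ∈ U', G.hom x ∈ V := by
    intro x hx
    rw [hU'eq] at hx
    exact hx.2
  have heV : ∀ t ∈ V, η[G].left t ∈ U' := by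
    intro t ht
    rw [hU'eq]
    refine ⟨hrE ht, ?_⟩
    show G.hom (η[G].left t) ∈ V
    rw [hom_unit_apply]; exact ht
  -- the compact set `A`
  haveI : IsAffine U' := hU'
  haveI : IsAffine V := hV
  have hrange : Set.range (U'.ι ≫ G.hom) ⊆ Set.range V.ι := by
    rintro _ ⟨x, rfl⟩
    rw [Scheme.Opens.range_ι]
    rw [Scheme.Hom.comp_apply]
    exact hU'V _ x.2
  let ρ : (U' : Scheme) ⟶ V := IsOpenImmersion.lift V.ι (U'.ι ≫ G.hom) hrange
  have hρ : ρ ≫ V.ι = U'.ι ≫ G.hom := IsOpenImmersion.lift_fac _ _ _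
  let j : pullback ρ ρ ⟶ pullback G.hom G.hom :=
    pullback.map ρ ρ G.hom G.hom U'.ι U'.ι V.ι hρ hρ
  have hj : Set.range j = pullback.fst G.hom G.hom ⁻¹' (U' : Set G.left) ∩
      pullback.snd G.hom G.hom ⁻¹' (U' : Set G.left) := by
    rw [Scheme.Pullback.range_map, Scheme.Opens.range_ι]
  have hA : IsCompact (Set.range j) := isCompact_range j.continuous
  have himg : G.hom ⁻¹' (V : Set S) = μ[G].left '' Set.range j := by
    ext g
    constructor
    · intro hg
      have hgV : G.hom g ∈ V := hg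
      have hirr := isIrreducible_preimage_snd G hconn G.hom g
      have hO1 : IsOpen ((fst G G ≫ ι[G]).left ⁻¹' (U' : Set G.left)) :=
        U'.2.preimage (fst G G ≫ ι[G]).left.continuous
      have hO2 : IsOpen (μ[G].left ⁻¹' (U' : Set G.left)) :=
        U'.2.preimage μ[G].left.continuous
      have hne1 : ((snd G G).left ⁻¹' {g} ∩ (fst G G ≫ ι[G]).left ⁻¹' (U' : Set G.left)).Nonempty := by
        refine ⟨(p₁ G).left g, ?_, ?_⟩
        · show (snd G G).left ((p₁ G).left g) = g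
          rw [left_apply_of_eq (p₁_snd G)]; rfl
        · show (fst G G ≫ ι[G]).left ((p₁ G).left g) ∈ U'
          rw [left_apply_of_eq (p₁_fst_inv G), unit_hom_apply]
          exact heV _ hgV
      have hne2 : ((snd G G).left ⁻¹' {g} ∩ μ[G].left ⁻¹' (U' : Set G.left)).Nonempty := by
        refine ⟨(p₂ G).left g, ?_, ?_⟩
        · show (snd G G).left ((p₂ G).left g) = g
          rw [left_apply_of_eq (p₂_snd G)]; rfl
        · show μ[G].left ((p₂ G).left g) ∈ U'
          rw [left_apply_of_eq (p₂_mul G), unit_hom_apply]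
          exact heV _ hgV
      obtain ⟨q, hqF, hq1, hq2⟩ := hirr.isPreirreducible _ _ hO1 hO2 hne1 hne2
      have hqg : (snd G G).left q = g := hqF
      refine ⟨(ψ G).left q, ?_, ?_⟩
      · rw [hj]
        constructor
        · show (fst G G).left ((ψ G).left q) ∈ U'
          rw [left_apply_of_eq (ψ_fst G)]
          exact hq1
        · show (snd G G).left ((ψ G).left q) ∈ U'
          rw [left_apply_of_eq (ψ_snd G)]
          exact hq2
      · rw [left_apply_of_eq (ψ_mul G)]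
        exact hqg
    · rintro ⟨a, ha, rfl⟩
      rw [hj] at ha
      show G.hom (μ[G].left a) ∈ V
      rw [hom_mul_apply]
      exact hU'V _ ha.2
  rw [himg]
  exact hA.image μ[G].left.continuous

/-- **SGA3 VI_B 5.5**: a group scheme with connected fibres is quasi-compact over the base. -/
theorem quasiCompact_of_connected_fibres (G : Over S) [GrpObj G]
    (hconn : ∀ s : S, _root_.IsConnected (G.hom.base ⁻¹' {s})) : QuasiCompact G.hom := by
  rw [quasiCompact_iff]
  intro K hKo hKc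
  choose! V hsV hVK hVc using fun s (hs : s ∈ K) =>
    exists_isCompact_preimage G hconn s ⟨K, hKo⟩ hs
  obtain ⟨t, htK, htfin, hcov⟩ := hKc.elim_finite_subcover_image (b := K) (c := fun s => (V s : Set S))
    (fun s _ => (V s).2) (fun s hs => Set.mem_biUnion hs (hsV s hs))
  have : G.hom ⁻¹' K = ⋃ s ∈ t, G.hom ⁻¹' (V s : Set S) := by
    ext g
    simp only [Set.mem_preimage, Set.mem_iUnion, exists_prop]
    constructor
    · intro hg
      obtain ⟨s, hst, hgs⟩ := Set.mem_iUnion₂.mp (hcov hg)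
      exact ⟨s, hst, hgs⟩
    · rintro ⟨s, hst, hgs⟩
      exact hVK s (htK hst) hgs
  rw [this]
  exact htfin.isCompact_biUnion fun s hs => hVc s (htK hs)

end Groth.Agent.Lib.Helper78.ConnQC
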