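import Mathlib

set_option autoImplicit false
universe u
open CategoryTheory CategoryTheory.Limits AlgebraicGeometry

namespace Groth.Agent.Lib.Helper78.EqStable

/-- If `f g : A ⟶ X` are morphisms of schemes such that every open of `X` has `g`-preimage
contained in its `f`-preimage, then the equalizer of `f` and `g` is a closed subscheme of `A`. -/
theorem isClosedImmersion_equalizer_ι_of_stable {A X : Scheme.{u}} (f g : A ⟶ X)
    (h : ∀ U : X.Opens, g ⁻¹ᵁ U ≤ f ⁻¹ᵁ U) : IsClosedImmersion (equalizer.ι f g) := by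
  refine IsZariskiLocalAtTarget.of_iSup_eq_top (P := @IsClosedImmersion)
    (fun U : X.affineOpens => g ⁻¹ᵁ U.1) ?_ fun U => ?_
  · rw [← Scheme.Hom.preimage_iSup, iSup_affineOpens_eq_top, Scheme.Hom.preimage_top]
  · set V : A.Opens := g ⁻¹ᵁ U.1 with hV
    set ι := equalizer.ι f g with hι
    let f'' : V.toScheme ⟶ U.1.toScheme := f.resLE U.1 V (h U.1)
    let g'' : V.toScheme ⟶ U.1.toScheme := g.resLE U.1 V le_rfl
    have hf'' : f'' ≫ U.1.ι = V.ι ≫ f := Scheme.Hom.resLE_comp_ι _ _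
    have hg'' : g'' ≫ U.1.ι = V.ι ≫ g := Scheme.Hom.resLE_comp_ι _ _
    have hpb := isPullback_morphismRestrict ι V
    have w1 : (ι ∣_ V) ≫ f'' = (ι ∣_ V) ≫ g'' := by
      rw [← cancel_mono U.1.ι, Category.assoc, Category.assoc, hf'', hg'',
        morphismRestrict_ι_assoc, morphismRestrict_ι_assoc, hι, equalizer.condition]
    have w2 : (equalizer.ι f'' g'' ≫ V.ι) ≫ f = (equalizer.ι f'' g'' ≫ V.ι) ≫ g := by
      rw [Category.assoc, Category.assoc, ← hf'', ← hg'', equalizer.condition_assoc]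
    let φ : (ι ⁻¹ᵁ V).toScheme ⟶ equalizer f'' g'' := equalizer.lift (ι ∣_ V) w1
    let ψ : equalizer f'' g'' ⟶ (ι ⁻¹ᵁ V).toScheme :=
      hpb.lift (equalizer.ι f'' g'') (equalizer.lift (equalizer.ι f'' g'' ≫ V.ι) w2)
        (by rw [equalizer.lift_ι])
    have hφ : φ ≫ equalizer.ι f'' g'' = ι ∣_ V := equalizer.lift_ι _ _
    have hψ : ψ ≫ (ι ∣_ V) = equalizer.ι f'' g'' := hpb.lift_fst _ _ _
    have : Mono (ι ∣_ V) := by
      have : Mono ι := by rw [hι]; infer_instance
      exact MorphismProperty.of_isPullback (P := MorphismProperty.monomorphisms _) hpb.flip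
        (MorphismProperty.monomorphisms.infer_property ι)
    have : IsIso φ := by
      refine ⟨⟨ψ, ?_, ?_⟩⟩
      · rw [← cancel_mono (ι ∣_ V), Category.assoc, hψ, hφ, Category.id_comp]
      · rw [← cancel_mono (equalizer.ι f'' g''), Category.assoc, hφ, hψ, Category.id_comp]
    rw [← hφ]
    infer_instance

end Groth.Agent.Lib.Helper78.EqStable
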