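import Mathlib
import Groth.Agent.Lib.Helper78.GalTrans
import Groth.Agent.Lib.Helper78.CompTrans
import Groth.Agent.Lib.Helper51.GeomConn

/-!
# Connected components under base field extension (helper78)

* `continuous_gal_apply`: the orbit maps of `Gal(L/K)` on `Y_L` are continuous.
* `connectedComponent_subset_image_gal`: for `L/K` Galois, connected components of `Y_L` surject onto
  connected components of `Y` (arbitrary `Y`, via `CompTrans.subset_image_connectedComponent`).
* `image_connectedComponent_pullback_fst`: the same for an arbitrary field extension.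
-/

set_option autoImplicit false
set_option linter.style.haveILetI false
universe u
open TensorProduct

namespace Groth.Agent.Lib.Helper78.GalConn

open Groth.Agent.Lib.Helper78.GalTrans

section Algebra

variable (K : Type*) [Field K] (R : Type*) [CommRing R] [Algebra K R]
  (L : Type*) [Field L] [Algebra K L]

/-- The orbit maps of `Gal(L/K)` on `R ⊗[K] L` are locally constant. -/
theorem isOpen_setOf_tensorAut_mem [Algebra.IsIntegral K L] (s : R ⊗[K] L) (S : Set (R ⊗[K] L)) :
    IsOpen {σ : L ≃ₐ[K] L | tensorAut K R L σ s ∈ S} := by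
  letI := tensorAction K R L
  rw [isOpen_iff_forall_mem_open]
  intro σ₀ hσ₀
  refine ⟨(fun x => σ₀⁻¹ * x) ⁻¹' (MulAction.stabilizer (L ≃ₐ[K] L) s : Set (L ≃ₐ[K] L)), ?_,
    (isOpen_stabilizer K R L s).preimage (continuous_const_mul _), ?_⟩
  · intro σ hσ
    simp only [Set.mem_preimage, SetLike.mem_coe, MulAction.mem_stabilizer_iff] at hσ
    have h1 : σ • s = σ₀ • s := by
      conv_rhs => rw [← hσ, ← mul_smul, mul_inv_cancel_left]
    change tensorAut K R L σ s ∈ S
    rw [← smul_def, h1, smul_def]
    exact hσ₀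
  · simp

/-- The orbit maps of `Gal(L/K)` on `Spec (R ⊗[K] L)` are continuous. -/
theorem continuous_comap_tensorAut [Algebra.IsIntegral K L] (P : PrimeSpectrum (R ⊗[K] L)) :
    Continuous fun σ : L ≃ₐ[K] L =>
      PrimeSpectrum.comap (tensorAut K R L σ : (R ⊗[K] L) →+* (R ⊗[K] L)) P := by
  rw [PrimeSpectrum.isTopologicalBasis_basic_opens.continuous_iff]
  rintro _ ⟨s, rfl⟩
  have : (fun σ : L ≃ₐ[K] L =>
      PrimeSpectrum.comap (tensorAut K R L σ : (R ⊗[K] L) →+* (R ⊗[K] L)) P) ⁻¹'
        (PrimeSpectrum.basicOpen s : Set (PrimeSpectrum (R ⊗[K] L))) =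
      {σ : L ≃ₐ[K] L | tensorAut K R L σ s ∈ (P.asIdeal : Set (R ⊗[K] L))ᶜ} := by
    ext σ
    simp only [Set.mem_preimage, SetLike.mem_coe, PrimeSpectrum.mem_basicOpen, Set.mem_ofPred_eq,
      Set.mem_compl_iff]
    rfl
  rw [this]
  exact isOpen_setOf_tensorAut_mem K R L s _

end Algebra

section Scheme

open CategoryTheory CategoryTheory.Limits AlgebraicGeometry Groth.Agent.Lib.Helper51

variable {K : Type u} [Field K] {Y : Scheme.{u}} (g : Y ⟶ Spec (CommRingCat.of K))
  (L : Type u) [Field L] [Algebra K L]

/-- The orbit maps of `Gal(L/K)` on `Y_L` are continuous. -/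
theorem continuous_gal_apply [Algebra.IsIntegral K L]
    (a : ↥(pullback g (Spec.map (CommRingCat.ofHom (algebraMap K L))))) :
    Continuous fun σ : L ≃ₐ[K] L => gal g L σ a := by
  obtain ⟨y, hy⟩ : ∃ y, y = pullback.fst g (Spec.map (CommRingCat.ofHom (algebraMap K L))) a :=
    ⟨_, rfl⟩
  let φ : K →+* Y.residueField y := (Spec.preimage (Y.fromSpecResidueField y ≫ g)).hom
  letI : Algebra K (Y.residueField y) := φ.toAlgebra
  have hφ : Spec.map (CommRingCat.ofHom (algebraMap K (Y.residueField y))) =
      Y.fromSpecResidueField y ≫ g := Spec.map_preimage _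
  have ha : a ∈ Set.range (fibMap g y hφ L) := by rw [range_fibMap]; exact hy.symm
  obtain ⟨b, rfl⟩ := ha
  let e := pullbackSpecIso K (Y.residueField y) L
  have key : ∀ σ : L ≃ₐ[K] L, gal g L σ (fibMap g y hφ L b) =
      fibMap g y hφ L (e.inv (Spec.map (CommRingCat.ofHom (tensorAut K (Y.residueField y) L σ :
        (Y.residueField y ⊗[K] L) →+* (Y.residueField y ⊗[K] L))) (e.hom b))) := by
    intro σ
    rw [← Scheme.Hom.comp_apply, fibMap_gal, Scheme.Hom.comp_apply]
    congr 1
    have := congr_arg (fun f => f (e.hom b)) (pullbackSpecIso_inv_gal (K := K) L (Y.residueField y) σ)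
    simp only [Scheme.Hom.comp_apply] at this
    have hb : e.inv (e.hom b) = b := by
      rw [← Scheme.Hom.comp_apply, Iso.hom_inv_id]; rfl
    rw [hb] at this
    exact this
  have hc : Continuous fun σ : L ≃ₐ[K] L =>
      fibMap g y hφ L (e.inv (Spec.map (CommRingCat.ofHom (tensorAut K (Y.residueField y) L σ :
        (Y.residueField y ⊗[K] L) →+* (Y.residueField y ⊗[K] L))) (e.hom b))) :=
    (fibMap g y hφ L).continuous.comp (e.inv.continuous.comp
      (continuous_comap_tensorAut K (Y.residueField y) L (e.hom b)))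
  exact (funext key) ▸ hc

/-- **Galois case**: every connected component of `Y_L` surjects onto a connected component of
`Y`, for `L/K` Galois (possibly infinite). -/
theorem connectedComponent_subset_image_gal [IsGalois K L]
    (a₀ : ↥(pullback g (Spec.map (CommRingCat.ofHom (algebraMap K L))))) :
    connectedComponent (pullback.fst g (Spec.map (CommRingCat.ofHom (algebraMap K L))) a₀) ⊆
      (pullback.fst g (Spec.map (CommRingCat.ofHom (algebraMap K L)))) ''
        connectedComponent a₀ := by
  refine CompTrans.subset_image_connectedComponent (G := L ≃ₐ[K] L)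
    (fun σ a => gal g L σ a) (fun σ => (gal g L σ).continuous) (continuous_gal_apply g L)
    (pullback.fst g (Spec.map (CommRingCat.ofHom (algebraMap K L))))
    (pullback.fst g (Spec.map (CommRingCat.ofHom (algebraMap K L)))).continuous
    (isClosedMap_pullback_fst_of_isIntegral g L)
    (surjective_pullback_fst_field g L).surj
    (fun σ a => fst_gal_apply g L σ a)
    (fun a a' h => exists_gal_eq g L a a' h)
    _ isClosed_connectedComponent isPreconnected_connectedComponent a₀ mem_connectedComponent

/-- Variant of helper51's `exists_common_point_aux` recording compatibility with the projections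
to `X`. -/
theorem exists_common_point_compat {K Ω : Type u} [Field K] [Field Ω]
    {X S : Scheme.{u}} (f : X ⟶ S) (gK : Spec (CommRingCat.of K) ⟶ S) (gΩ : Spec (CommRingCat.of Ω) ⟶ S)
    (z : ↥(pullback f gK)) (x' : ↥(pullback f gΩ))
    (h : pullback.fst f gK z = pullback.fst f gΩ x') :
    ∃ (E : Type u) (_ : Field E) (_ : Algebra Ω E)
      (a : pullback (pullback.snd f gΩ) (Spec.map (CommRingCat.ofHom (algebraMap Ω E))) ⟶
        pullback f gK)
      (t : ↥(pullback (pullback.snd f gΩ) (Spec.map (CommRingCat.ofHom (algebraMap Ω E))))),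
      a ≫ pullback.fst f gK =
        pullback.fst (pullback.snd f gΩ) (Spec.map (CommRingCat.ofHom (algebraMap Ω E))) ≫
          pullback.fst f gΩ ∧ a t = z ∧
      (pullback.fst (pullback.snd f gΩ) (Spec.map (CommRingCat.ofHom (algebraMap Ω E)))) t = x' := by
  obtain ⟨p, hp1, hp2⟩ := Scheme.Pullback.exists_preimage_pullback
    (f := pullback.fst f gK) (g := pullback.fst f gΩ) z x' h
  let P := pullback (pullback.fst f gK) (pullback.fst f gΩ)
  let E := P.residueField p
  let ι : Spec E ⟶ P := P.fromSpecResidueField p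
  let uK : Spec E ⟶ pullback f gK := ι ≫ pullback.fst _ _
  let uΩ : Spec E ⟶ pullback f gΩ := ι ≫ pullback.snd _ _
  obtain ⟨β', hβ'⟩ := Spec.map_surjective (uΩ ≫ pullback.snd f gΩ)
  obtain ⟨α', hα'⟩ := Spec.map_surjective (uK ≫ pullback.snd f gK)
  letI algΩE : Algebra Ω E := β'.hom.toAlgebra
  have hβ : Spec.map (CommRingCat.ofHom (algebraMap Ω E)) = uΩ ≫ pullback.snd f gΩ := hβ'
  let sβ := Spec.map (CommRingCat.ofHom (algebraMap Ω E))
  let sα : Spec E ⟶ Spec (CommRingCat.of K) := Spec.map α'
  have hcomp : sβ ≫ gΩ = sα ≫ gK := by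
    simp only [sβ, sα]
    rw [hβ, hα']
    simp only [uΩ, uK, Category.assoc]
    rw [← pullback.condition, ← pullback.condition, ← Category.assoc ι, ← Category.assoc ι,
      Category.assoc, Category.assoc]
    congr 1
    rw [← Category.assoc, ← Category.assoc, pullback.condition]
  let Y := pullback (pullback.snd f gΩ) sβ
  let b : Y ⟶ pullback f gΩ := pullback.fst _ _
  let s : Y ⟶ Spec (CommRingCat.of E) := pullback.snd _ _
  have s1 : IsPullback b s (pullback.snd f gΩ) sβ := IsPullback.of_hasPullback _ _
  have hW : IsPullback (pullback.fst f gΩ) (pullback.snd f gΩ) f gΩ := IsPullback.of_hasPullback _ _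
  have big := s1.paste_horiz hW
  rw [hcomp] at big
  have sq : IsPullback (pullback.fst f gK) (pullback.snd f gK) f gK := IsPullback.of_hasPullback _ _
  let a : Y ⟶ pullback f gK :=
    sq.lift (b ≫ pullback.fst f gΩ) (s ≫ sα) (by have := big.w; simp only [Category.assoc] at this ⊢; exact this)
  have hl1 : a ≫ pullback.fst f gK = b ≫ pullback.fst f gΩ := sq.lift_fst _ _ _
  have hl2 : a ≫ pullback.snd f gK = s ≫ sα := sq.lift_snd _ _ _
  -- the section
  let sec : Spec E ⟶ Y := pullback.lift uΩ (𝟙 _) (by rw [Category.id_comp]; exact hβ.symm)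
  have hsec1 : sec ≫ b = uΩ := pullback.lift_fst _ _ _
  have hsec2 : sec ≫ s = 𝟙 _ := pullback.lift_snd _ _ _
  have hsec3 : sec ≫ a = uK := by
    apply pullback.hom_ext
    · rw [Category.assoc, hl1, ← Category.assoc, hsec1]
      simp only [uΩ, uK, Category.assoc]
      rw [pullback.condition]
    · rw [Category.assoc, hl2, ← Category.assoc, hsec2, Category.id_comp]
      exact hα'
  let pt : Spec E := IsLocalRing.closedPoint E
  refine ⟨E, inferInstance, algΩE, a, sec pt, hl1, ?_, ?_⟩
  · rw [← Scheme.Hom.comp_apply, hsec3]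
    simp only [uK, Scheme.Hom.comp_apply]
    rw [show ι pt = p from P.fromSpecResidueField_apply p pt]
    exact hp1
  · have : (pullback.fst (pullback.snd f gΩ) (Spec.map (CommRingCat.ofHom (algebraMap Ω E)))) (sec pt) =
        (sec ≫ b) pt := by
      rw [Scheme.Hom.comp_apply]
    rw [this, hsec1]
    simp only [uΩ, Scheme.Hom.comp_apply]
    rw [show ι pt = p from P.fromSpecResidueField_apply p pt]
    exact hp2

/-- Transfer of connected components from `Y_Ω` (`Ω` separably closed) to `Y_L`. -/
theorem exists_mem_connectedComponent_of_isSepClosed {L' Ω : Type u} [Field L'] [Field Ω]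
    [IsSepClosed Ω]
    (gL : Spec (CommRingCat.of L') ⟶ Spec (CommRingCat.of K))
    (gΩ : Spec (CommRingCat.of Ω) ⟶ Spec (CommRingCat.of K))
    (a₀ : ↥(pullback g gL)) (xΩ : ↥(pullback g gΩ))
    (hx : pullback.fst g gL a₀ = pullback.fst g gΩ xΩ)
    (yΩ : ↥(pullback g gΩ)) (hyΩ : yΩ ∈ connectedComponent xΩ) :
    ∃ y ∈ connectedComponent a₀, pullback.fst g gL y = pullback.fst g gΩ yΩ := by
  obtain ⟨E, _, _, a, tp, hcompat, htp1, htp2⟩ := exists_common_point_compat g gL gΩ a₀ xΩ hx
  have sq : IsPullback
      (pullback.fst (pullback.snd g gΩ) (Spec.map (CommRingCat.ofHom (algebraMap Ω E))))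
      (pullback.snd (pullback.snd g gΩ) (Spec.map (CommRingCat.ofHom (algebraMap Ω E))))
      (pullback.snd g gΩ) (Spec.map (CommRingCat.ofHom (algebraMap Ω E))) :=
    IsPullback.of_hasPullback _ _
  haveI : GeometricallyConnected (Spec.map (CommRingCat.ofHom (algebraMap Ω E))) :=
    geometricallyConnected_specMap_of_isSepClosed Ω E
  have hb1 : GeometricallyConnected
      (pullback.fst (pullback.snd g gΩ) (Spec.map (CommRingCat.ofHom (algebraMap Ω E)))) :=
    MorphismProperty.of_isPullback (P := @GeometricallyConnected) sq.flip inferInstance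
  have hb2 : UniversallyOpen
      (pullback.fst (pullback.snd g gΩ) (Spec.map (CommRingCat.ofHom (algebraMap Ω E)))) :=
    MorphismProperty.of_isPullback (P := @UniversallyOpen) sq.flip inferInstance
  have hW : _root_.IsConnected
      ((pullback.fst (pullback.snd g gΩ) (Spec.map (CommRingCat.ofHom (algebraMap Ω E)))) ⁻¹'
        connectedComponent xΩ) :=
    isConnected_preimage_of_isOpenMap (Scheme.Hom.continuous _) (Scheme.Hom.isOpenMap _)
      (fun y => Scheme.Hom.isConnected_preimage_singleton _ y) isConnected_connectedComponent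
  obtain ⟨yE, hyE⟩ := (surjective_pullback_fst_field (pullback.snd g gΩ) E).surj yΩ
  have himg : a '' ((pullback.fst (pullback.snd g gΩ)
      (Spec.map (CommRingCat.ofHom (algebraMap Ω E)))) ⁻¹' connectedComponent xΩ) ⊆
      connectedComponent a₀ := by
    refine (hW.image a a.continuous.continuousOn).isPreconnected.subset_connectedComponent ?_
    refine ⟨tp, ?_, htp1⟩
    rw [Set.mem_preimage, htp2]
    exact mem_connectedComponent
  refine ⟨a yE, himg ⟨yE, ?_, rfl⟩, ?_⟩
  · rw [Set.mem_preimage, hyE]
    exact hyΩ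
  · have := congrArg (fun φ : _ ⟶ Y => φ yE) hcompat
    simp only [Scheme.Hom.comp_apply] at this
    rw [this, hyE]

/-- **General case**: for an arbitrary field extension `L/K`, the image in `Y` of a connected
component of `Y_L` is a connected component of `Y`. -/
theorem image_connectedComponent_pullback_fst {L' : Type u} [Field L']
    (gL : Spec (CommRingCat.of L') ⟶ Spec (CommRingCat.of K)) (a₀ : ↥(pullback g gL)) :
    (pullback.fst g gL) '' connectedComponent a₀ = connectedComponent (pullback.fst g gL a₀) := by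
  apply Set.Subset.antisymm
  · exact (pullback.fst g gL).continuous.image_connectedComponent_subset a₀
  · intro t ht
    obtain ⟨xΩ, hxΩ⟩ := (surjective_pullback_fst_field g (SeparableClosure K)).surj
      (pullback.fst g gL a₀)
    have h1 := connectedComponent_subset_image_gal g (SeparableClosure K) xΩ
    rw [hxΩ] at h1
    obtain ⟨yΩ, hyΩ, hyt⟩ := h1 ht
    obtain ⟨y, hy, hyy⟩ := exists_mem_connectedComponent_of_isSepClosed g gL
      (Spec.map (CommRingCat.ofHom (algebraMap K (SeparableClosure K)))) a₀ xΩ hxΩ.symm yΩ hyΩ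
    exact ⟨y, hy, hyy.trans hyt⟩

end Scheme

end Groth.Agent.Lib.Helper78.GalConn
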