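import Mathlib
import Groth.Prelude.Def_MoreMor
import Groth.Agent.Lib.Helper78.ConsMor
import Groth.Agent.Lib.Helper78.ConsOne
import Groth.Agent.Lib.Helper78.GeomRed
import Groth.Agent.Lib.Helper78.GeomRedCons
import Groth.Agent.Lib.Helper50.TopConn
import Groth.Agent.Lib.Helper50.DvrSpec
import Groth.Agent.Lib.Helper19.GC.SectionComponents
import Groth.Agent.S2075

/-!
# Section components are a neighbourhood of `X_y⁰` (EGA IV 15.6.5)

For `f : X ⟶ Y` flat of finite presentation with a section `s` and a point `y` with geometrically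
reduced fibre, every generization of a point of the connected component `X_y⁰` of `s y` in the fibre
lies in `X⁰ = MoreMor.sectionComponents f s`.

* ring level: idempotents of `B[1/π]` lift to `B` when `π` is a nonzerodivisor with `B/π` reduced;
* DVR core `core_dvr`;
* Noetherian case `mem_sectionComponents_of_specializes_noeth` (DVR through a specialization);
* Noetherian model of a flat family with a section `exists_noeth_model_section_flat`;
* affine case `mem_sectionComponents_of_specializes_affine`.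
-/

set_option autoImplicit false
set_option linter.style.haveILetI false
universe u
open TensorProduct

namespace Groth.Agent.Lib.Helper78.SecCompNbhd

/-! ### part A1 -/
/-- idempotents of `B[1/π]` come from `B` when `π` is a nonzerodivisor and `B/π` is reduced -/
theorem exists_idempotent_of_away {B : Type u} [CommRing B] (π : B) (hπ : π ∈ nonZeroDivisors B)
    (hred : IsReduced (B ⧸ Ideal.span {π})) (Bπ : Type u) [CommRing Bπ] [Algebra B Bπ]
    [IsLocalization.Away π Bπ] (e : Bπ) (he : IsIdempotentElem e) :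
    ∃ b : B, algebraMap B Bπ b = e ∧ IsIdempotentElem b := by
  have hinj : Function.Injective (algebraMap B Bπ) :=
    IsLocalization.injective Bπ (Submonoid.powers_le.2 hπ)
  have hunit : IsUnit (algebraMap B Bπ π) := IsLocalization.Away.algebraMap_isUnit π
  have key : ∀ n : ℕ, ∀ b : B, e * algebraMap B Bπ π ^ n = algebraMap B Bπ b →
      ∃ b' : B, algebraMap B Bπ b' = e := by
    intro n
    induction n with
    | zero =>
      intro b hb
      exact ⟨b, by rw [← hb, pow_zero, mul_one]⟩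
    | succ n ih =>
      intro b hb
      -- `b ^ 2 = π ^ (n+1) * b`
      have h1 : b * b = π ^ (n + 1) * b := by
        apply hinj
        rw [map_mul, map_mul, map_pow, ← hb]
        calc e * algebraMap B Bπ π ^ (n + 1) * (e * algebraMap B Bπ π ^ (n + 1))
            = (e * e) * algebraMap B Bπ π ^ (n + 1) * algebraMap B Bπ π ^ (n + 1) := by ring
          _ = e * algebraMap B Bπ π ^ (n + 1) * algebraMap B Bπ π ^ (n + 1) := by rw [he.eq]
          _ = algebraMap B Bπ π ^ (n + 1) * (e * algebraMap B Bπ π ^ (n + 1)) := by ring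
      have h2 : Ideal.Quotient.mk (Ideal.span {π}) b = 0 := by
        have h3 : Ideal.Quotient.mk (Ideal.span {π}) b * Ideal.Quotient.mk (Ideal.span {π}) b = 0 := by
          rw [← map_mul, h1, Ideal.Quotient.eq_zero_iff_mem, pow_succ]
          exact Ideal.mul_mem_right _ _ (Ideal.mul_mem_left _ _ (Ideal.subset_span rfl))
        have h4 : IsNilpotent (Ideal.Quotient.mk (Ideal.span {π}) b) := ⟨2, by rw [pow_two, h3]⟩
        exact h4.eq_zero
      rw [Ideal.Quotient.eq_zero_iff_mem, Ideal.mem_span_singleton] at h2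
      obtain ⟨b', rfl⟩ := h2
      apply ih b'
      apply hunit.mul_right_cancel
      rw [mul_assoc, ← pow_succ, hb, map_mul, mul_comm]
  obtain ⟨⟨b, ⟨_, n, rfl⟩⟩, hb⟩ := IsLocalization.surj (Submonoid.powers π) e
  obtain ⟨b', hb'⟩ := key n b (by rw [← hb, map_pow])
  refine ⟨b', hb', ?_⟩
  apply hinj
  rw [map_mul, hb', he.eq]

/-! ### part A2 -/
/-- two complementary open pieces of `D(π)` have disjoint closures when `π` is a nonzerodivisor and
`B/π` is reduced -/
theorem disjoint_closure_of_basicOpen {B : Type u} [CommRing B] (π : B) (hπ : π ∈ nonZeroDivisors B)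
    (hred : IsReduced (B ⧸ Ideal.span {π})) (U₁ U₂ : Set (PrimeSpectrum B)) (h1 : IsOpen U₁)
    (h2 : IsOpen U₂) (hU : U₁ ∪ U₂ = PrimeSpectrum.basicOpen π) (hd : Disjoint U₁ U₂) :
    Disjoint (closure U₁) (closure U₂) := by
  let Bπ := Localization.Away π
  let c : PrimeSpectrum Bπ → PrimeSpectrum B := PrimeSpectrum.comap (algebraMap B Bπ)
  have hc : Topology.IsOpenEmbedding c := PrimeSpectrum.localization_away_isOpenEmbedding Bπ π
  have hrange : Set.range c = PrimeSpectrum.basicOpen π :=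
    PrimeSpectrum.localization_away_comap_range Bπ π
  have hV1 : IsClopen (c ⁻¹' U₁) := by
    refine ⟨?_, h1.preimage hc.continuous⟩
    have : c ⁻¹' U₁ = (c ⁻¹' U₂)ᶜ := by
      ext q
      constructor
      · intro hq1 hq2
        exact Set.disjoint_left.1 hd hq1 hq2
      · intro hq2
        have hq : c q ∈ U₁ ∪ U₂ := by
          rw [hU, ← hrange]
          exact ⟨q, rfl⟩
        rcases hq with hq | hq
        · exact hq
        · exact absurd hq hq2
    rw [this]
    exact (h2.preimage hc.continuous).isClosed_compl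
  obtain ⟨e, he, hVe⟩ := PrimeSpectrum.isClopen_iff.1 hV1
  obtain ⟨b, hbe, hb⟩ := exists_idempotent_of_away π hπ hred Bπ e he
  have hpre : c ⁻¹' U₁ = c ⁻¹' (PrimeSpectrum.basicOpen b : Set (PrimeSpectrum B)) := by
    rw [hVe, ← hbe]
    rfl
  have hsub1 : U₁ ⊆ (PrimeSpectrum.basicOpen b : Set (PrimeSpectrum B)) := by
    intro p hp
    have hp' : p ∈ Set.range c := by
      rw [hrange, ← hU]
      exact Or.inl hp
    obtain ⟨q, rfl⟩ := hp'
    have : q ∈ c ⁻¹' U₁ := hp
    rw [hpre] at this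
    exact this
  have hsub2 : U₂ ⊆ (PrimeSpectrum.basicOpen b : Set (PrimeSpectrum B))ᶜ := by
    intro p hp hpb
    have hp' : p ∈ Set.range c := by
      rw [hrange, ← hU]
      exact Or.inr hp
    obtain ⟨q, rfl⟩ := hp'
    have : q ∈ c ⁻¹' U₁ := by
      rw [hpre]
      exact hpb
    exact Set.disjoint_left.1 hd this hp
  have hclopen : IsClopen (PrimeSpectrum.basicOpen b : Set (PrimeSpectrum B)) :=
    PrimeSpectrum.isClopen_iff.2 ⟨b, hb, rfl⟩
  have hc1 : closure U₁ ⊆ (PrimeSpectrum.basicOpen b : Set (PrimeSpectrum B)) :=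
    closure_minimal hsub1 hclopen.1
  have hc2 : closure U₂ ⊆ (PrimeSpectrum.basicOpen b : Set (PrimeSpectrum B))ᶜ :=
    closure_minimal hsub2 hclopen.2.isClosed_compl
  exact Set.disjoint_left.2 fun p hp1 hp2 => hc2 hp2 (hc1 hp1)

section Sch
open AlgebraicGeometry CategoryTheory Limits
open Groth.Agent.Lib.Helper78.ConsPair Groth.Agent.Lib.Helper78.ConsMor Groth.Agent.Lib.Helper50

/-! ### part B1 -/
/-- the two points of the spectrum of a discrete valuation ring -/
theorem dvr_eq_or_eq {R : Type u} [CommRing R] [IsDomain R] [IsDiscreteValuationRing R]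
    (q : PrimeSpectrum R) : q = ⟨⊥, Ideal.isPrime_bot⟩ ∨ q = IsLocalRing.closedPoint R := by
  by_cases h : q.asIdeal = ⊥
  · left
    exact PrimeSpectrum.ext h
  · right
    apply PrimeSpectrum.ext
    haveI : q.asIdeal.IsMaximal := Ring.DimensionLEOne.maximalOfPrime h q.2
    exact IsLocalRing.eq_maximalIdeal inferInstance

/-- the fibre over the generic point of a DVR is the non-vanishing locus of a uniformizer -/
theorem dvr_comap_eq_generic_iff {R : Type u} [CommRing R] [IsDomain R] [IsDiscreteValuationRing R]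
    {ϖ : R} (hϖ : Irreducible ϖ) (q : PrimeSpectrum R) :
    q = ⟨⊥, Ideal.isPrime_bot⟩ ↔ ϖ ∉ q.asIdeal := by
  constructor
  · rintro rfl h
    exact hϖ.ne_zero (by simpa using h)
  · intro h
    rcases dvr_eq_or_eq q with h1 | h1
    · exact h1
    · exfalso
      apply h
      rw [h1]
      show ϖ ∈ IsLocalRing.maximalIdeal R
      rw [hϖ.maximalIdeal_eq]
      exact Ideal.subset_span rfl

/-! ### part B2 -/
/-- reducedness of the special fibre, read on an affine chart -/
theorem isReduced_chart_quotient {R : Type u} [CommRing R] [IsLocalRing R]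
    {X : Scheme.{u}} (f : X ⟶ Spec (CommRingCat.of R))
    (hred : IsReduced (pullback f (Spec.map (CommRingCat.ofHom
      (algebraMap R (IsLocalRing.ResidueField R))))))
    {B : CommRingCat.{u}} (j : Spec B ⟶ X) [IsOpenImmersion j]
    (φ : CommRingCat.of R ⟶ B) (hφ : Spec.map φ = j ≫ f) :
    _root_.IsReduced (B ⧸ (IsLocalRing.maximalIdeal R).map φ.hom) := by
  let z := Spec.map (CommRingCat.ofHom (algebraMap R (IsLocalRing.ResidueField R)))
  haveI : IsReduced (pullback j (pullback.fst f z)) :=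
    isReduced_of_isOpenImmersion (pullback.snd j (pullback.fst f z))
  haveI : IsReduced (pullback (j ≫ f) z) :=
    isReduced_of_isOpenImmersion (pullbackRightPullbackFstIso f z j).inv
  letI : Algebra R B := φ.hom.toAlgebra
  have hφ' : CommRingCat.ofHom (algebraMap R B) = φ := rfl
  have h1 : IsReduced (pullback (Spec.map (CommRingCat.ofHom (algebraMap R B))) z) := by
    rw [hφ', hφ]
    infer_instance
  haveI : IsReduced (Spec (.of (B ⊗[R] IsLocalRing.ResidueField R))) :=
    isReduced_of_isOpenImmersion (pullbackSpecIso R B (IsLocalRing.ResidueField R)).inv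
  have h2 : _root_.IsReduced (B ⊗[R] IsLocalRing.ResidueField R) :=
    (affine_isReduced_iff (.of (B ⊗[R] IsLocalRing.ResidueField R))).1 inferInstance
  let e := Algebra.TensorProduct.quotIdealMapEquivTensorQuot B (IsLocalRing.maximalIdeal R)
  haveI h3 : _root_.IsReduced (B ⊗[R] (R ⧸ IsLocalRing.maximalIdeal R)) := h2
  exact isReduced_of_injective e.toRingEquiv.toRingHom e.injective

/-! ### part B3 -/
/-- over a DVR, for a flat family with reduced special fibre, two complementary open pieces of the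
generic fibre have disjoint closures -/
theorem disjoint_closure_of_generic_fibre {R : Type u} [CommRing R] [IsDomain R]
    [IsDiscreteValuationRing R] {X : Scheme.{u}} (f : X ⟶ Spec (CommRingCat.of R)) [Flat f]
    (hred : IsReduced (pullback f (Spec.map (CommRingCat.ofHom
      (algebraMap R (IsLocalRing.ResidueField R))))))
    (η : Spec (CommRingCat.of R)) (hη : η = (⟨⊥, Ideal.isPrime_bot⟩ : PrimeSpectrum R))
    (U₁ U₂ : Set X) (h1 : IsOpen U₁) (h2 : IsOpen U₂) (hU : U₁ ∪ U₂ = f ⁻¹' {η})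
    (hd : Disjoint U₁ U₂) : Disjoint (closure U₁) (closure U₂) := by
  rw [Set.disjoint_left]
  intro x hx1 hx2
  obtain ⟨_, ⟨W, hW : IsAffineOpen W, rfl⟩, hxW, -⟩ :=
    X.isBasis_affineOpens.exists_subset_of_mem_open (Set.mem_univ x) isOpen_univ
  obtain ⟨ϖ, hϖ⟩ := IsDiscreteValuationRing.exists_irreducible R
  let j := hW.fromSpec
  let φ : CommRingCat.of R ⟶ Γ(X, W) := Spec.preimage (j ≫ f)
  have hφ : Spec.map φ = j ≫ f := Spec.map_preimage _
  have hflat : φ.hom.Flat := by
    have : Flat (Spec.map φ) := by rw [hφ]; infer_instance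
    exact (HasRingHomProperty.Spec_iff (P := @Flat)).1 this
  have hredB := isReduced_chart_quotient f hred j φ hφ
  have hmap : (IsLocalRing.maximalIdeal R).map φ.hom = Ideal.span {φ.hom ϖ} := by
    rw [hϖ.maximalIdeal_eq, Ideal.map_span, Set.image_singleton]
  rw [hmap] at hredB
  have hnzd : φ.hom ϖ ∈ nonZeroDivisors Γ(X, W) := by
    letI : Algebra R Γ(X, W) := φ.hom.toAlgebra
    haveI : Module.Flat R Γ(X, W) := hflat
    have hreg : IsSMulRegular Γ(X, W) ϖ :=
      Module.Flat.isSMulRegular_of_nonZeroDivisors (mem_nonZeroDivisors_of_ne_zero hϖ.ne_zero)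
    rw [mem_nonZeroDivisors_iff_right]
    intro b hb
    apply hreg
    show ϖ • b = ϖ • 0
    rw [smul_zero, Algebra.smul_def, mul_comm]
    exact hb
  obtain ⟨x', rfl⟩ : x ∈ Set.range j := by
    rw [hW.range_fromSpec]
    exact hxW
  have hpre : ∀ U : Set X, j ⁻¹' closure U = closure (j ⁻¹' U) := fun U =>
    j.isOpenEmbedding.isOpenMap.preimage_closure_eq_closure_preimage j.continuous U
  have hx1' : x' ∈ closure (j ⁻¹' U₁) := by rw [← hpre]; exact hx1
  have hx2' : x' ∈ closure (j ⁻¹' U₂) := by rw [← hpre]; exact hx2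
  have hU' : (j ⁻¹' U₁) ∪ (j ⁻¹' U₂) =
      (PrimeSpectrum.basicOpen (φ.hom ϖ) : Set (PrimeSpectrum Γ(X, W))) := by
    rw [← Set.preimage_union, hU]
    ext q
    show f (j q) = η ↔ _
    rw [← Scheme.Hom.comp_apply, ← hφ, hη]
    show PrimeSpectrum.comap φ.hom q = _ ↔ _
    rw [dvr_comap_eq_generic_iff hϖ]
    rfl
  have hd' : Disjoint (j ⁻¹' U₁) (j ⁻¹' U₂) := hd.preimage _
  have key := disjoint_closure_of_basicOpen (φ.hom ϖ) hnzd hredB (j ⁻¹' U₁) (j ⁻¹' U₂)
    (h1.preimage j.continuous) (h2.preimage j.continuous) hU' hd'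
  exact Set.disjoint_left.1 key hx1' hx2'

/-! ### part B4 -/
/-- **DVR core**: over a DVR, for a flat family of finite type with reduced special fibre and two
sections `s`, `t`: if `t` meets the component of `s` in the special fibre, it does so in the
generic fibre. -/
theorem core_dvr {R : Type u} [CommRing R] [IsDomain R] [IsDiscreteValuationRing R]
    {X : Scheme.{u}} (f : X ⟶ Spec (CommRingCat.of R)) [Flat f] [LocallyOfFiniteType f]
    [QuasiCompact f] (s t : Spec (CommRingCat.of R) ⟶ X) (hs : s ≫ f = 𝟙 _) (ht : t ≫ f = 𝟙 _)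
    (hred : IsReduced (pullback f (Spec.map (CommRingCat.ofHom
      (algebraMap R (IsLocalRing.ResidueField R))))))
    (η y₀ : Spec (CommRingCat.of R)) (hη : η = (⟨⊥, Ideal.isPrime_bot⟩ : PrimeSpectrum R))
    (h0 : t y₀ ∈ connectedComponentIn (f ⁻¹' {y₀}) (s y₀)) :
    t η ∈ connectedComponentIn (f ⁻¹' {η}) (s η) := by
  obtain ⟨ϖ, hϖ⟩ := IsDiscreteValuationRing.exists_irreducible R
  have hfs : ∀ y, f (s y) = y := fun y => by
    rw [← Scheme.Hom.comp_apply, hs]; rfl
  have hft : ∀ y, f (t y) = y := fun y => by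
    rw [← Scheme.Hom.comp_apply, ht]; rfl
  -- the generic point is open
  have hηopen : IsOpen ({η} : Set (Spec (CommRingCat.of R))) := by
    have : ({η} : Set (Spec (CommRingCat.of R))) =
        (PrimeSpectrum.basicOpen ϖ : Set (PrimeSpectrum R)) := by
      ext q
      rw [Set.mem_singleton_iff, hη]
      exact dvr_comap_eq_generic_iff hϖ q
    rw [this]
    exact (PrimeSpectrum.basicOpen ϖ).2
  have hF : IsOpen (f ⁻¹' {η}) := hηopen.preimage f.continuous
  -- Noetherian-ness
  haveI : IsNoetherian X := Groth.Agent.Lib.Helper78.ConsOne.isNoetherian_of_finiteType f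
  haveI : TopologicalSpace.NoetherianSpace ↥(f ⁻¹' {η}) := inferInstance
  have hsF : s η ∈ f ⁻¹' {η} := hfs η
  -- the two open pieces
  let C : Set ↥(f ⁻¹' {η}) := connectedComponent (⟨s η, hsF⟩ : ↥(f ⁻¹' {η}))
  have hCopen : IsOpen C := Groth.Agent.Lib.Helper50.isOpen_connectedComponent_of_noetherianSpace _
  have hCclosed : IsClosed C := isClosed_connectedComponent
  have hU1eq : connectedComponentIn (f ⁻¹' {η}) (s η) = Subtype.val '' C :=
    connectedComponentIn_eq_image hsF
  set U₁ : Set X := Subtype.val '' C with hU₁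
  set U₂ : Set X := Subtype.val '' Cᶜ with hU₂
  have h1 : IsOpen U₁ := hF.isOpenEmbedding_subtypeVal.isOpenMap _ hCopen
  have h2 : IsOpen U₂ := hF.isOpenEmbedding_subtypeVal.isOpenMap _ hCclosed.isOpen_compl
  have hU : U₁ ∪ U₂ = f ⁻¹' {η} := by
    rw [hU₁, hU₂, ← Set.image_union, Set.union_compl_self, Set.image_univ, Subtype.range_coe]
  have hd : Disjoint U₁ U₂ := by
    rw [hU₁, hU₂]
    exact (Set.disjoint_image_iff Subtype.val_injective).2 disjoint_compl_right
  have hdisj := disjoint_closure_of_generic_fibre f hred η hη U₁ U₂ h1 h2 hU hd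
  -- the closures cover
  have hcover : closure U₁ ∪ closure U₂ = Set.univ := by
    rw [← closure_union, hU]
    apply Set.eq_univ_of_forall
    intro x
    have hspec : η ⤳ f x := by
      rw [hη]
      show (⟨⊥, Ideal.isPrime_bot⟩ : PrimeSpectrum R) ⤳ (show PrimeSpectrum R from f x)
      rw [← PrimeSpectrum.le_iff_specializes]
      exact bot_le
    obtain ⟨x', hx'x, hx'⟩ := Flat.generalizingMap f hspec
    exact hx'x.mem_closed isClosed_closure (subset_closure hx')
  have hA1 : IsClopen (closure U₁) := by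
    refine ⟨isClosed_closure, ?_⟩
    have : closure U₁ = (closure U₂)ᶜ := by
      ext x
      constructor
      · intro hx1 hx2
        exact Set.disjoint_left.1 hdisj hx1 hx2
      · intro hx2
        have hx : x ∈ closure U₁ ∪ closure U₂ := by rw [hcover]; trivial
        rcases hx with hx | hx
        · exact hx
        · exact absurd hx hx2
    rw [this]
    exact isClosed_closure.isOpen_compl
  -- sections are connected
  have hsrange : Set.range s ⊆ closure U₁ :=
    (isPreconnected_range s.continuous).subset_isClopen hA1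
      ⟨s η, ⟨η, rfl⟩, subset_closure ⟨⟨s η, hsF⟩, mem_connectedComponent, rfl⟩⟩
  have hsy₀ : s y₀ ∈ closure U₁ := hsrange ⟨y₀, rfl⟩
  have hC₀ : connectedComponentIn (f ⁻¹' {y₀}) (s y₀) ⊆ closure U₁ :=
    isPreconnected_connectedComponentIn.subset_isClopen hA1
      ⟨s y₀, mem_connectedComponentIn (hfs y₀), hsy₀⟩
  have hty₀ : t y₀ ∈ closure U₁ := hC₀ h0
  have htrange : Set.range t ⊆ closure U₁ :=
    (isPreconnected_range t.continuous).subset_isClopen hA1 ⟨t y₀, ⟨y₀, rfl⟩, hty₀⟩
  have htη : t η ∈ closure U₁ := htrange ⟨η, rfl⟩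
  have htF : t η ∈ U₁ ∪ U₂ := by rw [hU]; exact hft η
  rw [hU1eq]
  rcases htF with h | h
  · exact h
  · exact absurd (subset_closure h) (fun h' => Set.disjoint_left.1 hdisj htη h')

/-! ### part C1 -/
/-- a DVR through a proper specialization in a locally Noetherian scheme -/
theorem exists_dvr_of_specializes {X : Scheme.{u}} [IsLocallyNoetherian X] (x x' : X)
    (hsp : x' ⤳ x) (hne : x ≠ x') :
    ∃ (R : Type u) (_ : CommRing R) (_ : IsDomain R) (_ : IsDiscreteValuationRing R)
      (a : Spec (CommRingCat.of R) ⟶ X) (y₀ η : Spec (CommRingCat.of R)),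
      y₀ = IsLocalRing.closedPoint R ∧ η = (⟨⊥, Ideal.isPrime_bot⟩ : PrimeSpectrum R) ∧
      a y₀ = x ∧ a η = x' := by
  obtain ⟨A, h, hA, hcl, hgen⟩ :=
    Groth.Agent.Lib.Helper50.exists_dvr_through_specialization (𝟙 X) x' x hsp hne
  let pt : ↥(Spec (X.residueField x')) :=
    (show PrimeSpectrum (X.residueField x') from IsLocalRing.closedPoint _)
  refine ⟨A, inferInstance, inferInstance, hA, h, (show PrimeSpectrum A from IsLocalRing.closedPoint A),
    Spec.map (CommRingCat.ofHom A.subtype) pt, rfl, ?_, hcl, ?_⟩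
  · apply PrimeSpectrum.ext
    show Ideal.comap A.subtype (show PrimeSpectrum (X.residueField x') from pt).asIdeal = ⊥
    rw [Ideal.eq_bot_of_prime (show PrimeSpectrum (X.residueField x') from pt).asIdeal]
    ext r
    rw [Ideal.mem_bot, Ideal.mem_comap, Ideal.mem_bot]
    constructor
    · intro hr
      exact Subtype.ext hr
    · rintro rfl
      exact map_zero _
  · rw [← Scheme.Hom.comp_apply, hgen, Category.comp_id]
    exact Scheme.fromSpecResidueField_apply x' _

/-! ### part C2 -/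
/-- membership in the section components, unfolded -/
theorem mem_sectionComponents_iff {X Y : Scheme.{u}} (f : X ⟶ Y) (s : Y ⟶ X) (x : X) (y : Y)
    (hxy : f x = y) :
    x ∈ MoreMor.sectionComponents f s ↔ x ∈ connectedComponentIn (f ⁻¹' {y}) (s y) := by
  subst hxy
  rfl

/-- section components commute with base change. -/
theorem sectionComponents_baseChange {X Y X' Y' : Scheme.{u}} (f : X ⟶ Y)
    (s : Y ⟶ X) (hs : s ≫ f = 𝟙 Y)
    (f' : X' ⟶ Y') (g' : X' ⟶ X) (g : Y' ⟶ Y) (hc : IsPullback g' f' f g)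
    (s' : Y' ⟶ X') (hs' : s' ≫ f' = 𝟙 Y') (hs'g : s' ≫ g' = g ≫ s) :
    MoreMor.sectionComponents f' s' = g' ⁻¹' MoreMor.sectionComponents f s := by
  ext x'
  exact Groth.Agent.Lib.Helper19.mem_connectedComponentIn_fibre_baseChange f s hs f' g' g hc s'
    hs' hs'g x'

/-! ### part C3 -/
/-- **Noetherian case**: generizations of points of `X_y⁰` stay in `X⁰`. -/
theorem mem_sectionComponents_of_specializes_noeth {X T : Scheme.{u}} [IsLocallyNoetherian T]
    (f : X ⟶ T) [Flat f] [LocallyOfFiniteType f] [QuasiCompact f] (s : T ⟶ X)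
    (hs : s ≫ f = 𝟙 T) (y : T) (hy : GeometricallyReduced (f.fiberToSpecResidueField y))
    (x x' : X) (hx : x ∈ connectedComponentIn (f ⁻¹' {y}) (s y)) (hsp : x' ⤳ x) :
    x' ∈ MoreMor.sectionComponents f s := by
  have hfx : f x = y := (connectedComponentIn_subset (f ⁻¹' {y}) (s y)) hx
  by_cases hne : x = x'
  · rw [← hne, mem_sectionComponents_iff f s x y hfx]
    exact hx
  haveI : IsLocallyNoetherian X := LocallyOfFiniteType.isLocallyNoetherian f
  obtain ⟨R, _, _, _, a, y₀, η, hy₀, hη, hcl, hgen⟩ := exists_dvr_of_specializes x x' hsp hne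
  -- the base change to `Spec R`
  let g₂ : Spec (CommRingCat.of R) ⟶ T := a ≫ f
  let f₂ : pullback f g₂ ⟶ Spec (CommRingCat.of R) := pullback.snd f g₂
  let g₂' : pullback f g₂ ⟶ X := pullback.fst f g₂
  have hc : IsPullback g₂' f₂ f g₂ := IsPullback.of_hasPullback f g₂
  let s₂ : Spec (CommRingCat.of R) ⟶ pullback f g₂ :=
    pullback.lift (g₂ ≫ s) (𝟙 _) (by rw [Category.assoc, hs, Category.comp_id, Category.id_comp])
  let t : Spec (CommRingCat.of R) ⟶ pullback f g₂ :=
    pullback.lift a (𝟙 _) (by rw [Category.id_comp])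
  have hs₂ : s₂ ≫ f₂ = 𝟙 _ := pullback.lift_snd _ _ _
  have ht : t ≫ f₂ = 𝟙 _ := pullback.lift_snd _ _ _
  have hs₂g : s₂ ≫ g₂' = g₂ ≫ s := pullback.lift_fst _ _ _
  have htg : t ≫ g₂' = a := pullback.lift_fst _ _ _
  have hbc := sectionComponents_baseChange f s hs f₂ g₂' g₂ hc s₂ hs₂ hs₂g
  have hft : ∀ w, f₂ (t w) = w := fun w => by
    rw [← Scheme.Hom.comp_apply, ht]; rfl
  have hgt : ∀ w, g₂' (t w) = a w := fun w => by
    rw [← Scheme.Hom.comp_apply, htg]
  -- reducedness of the special fibre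
  let z := Spec.map (CommRingCat.ofHom (algebraMap R (IsLocalRing.ResidueField R)))
  have hred : IsReduced (pullback f₂ z) := by
    have hGR := (Groth.Agent.Lib.Helper78.GeomRed.geometricallyReduced_fiber_iff f y).1 hy
    have h1 : IsReduced (pullback f (z ≫ g₂)) := by
      apply hGR (IsLocalRing.ResidueField R) (z ≫ g₂)
      intro w
      have hw : z w = IsLocalRing.closedPoint R := by
        apply PrimeSpectrum.ext
        show Ideal.comap (algebraMap R (IsLocalRing.ResidueField R))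
          (show PrimeSpectrum (IsLocalRing.ResidueField R) from w).asIdeal = _
        rw [Ideal.eq_bot_of_prime (show PrimeSpectrum (IsLocalRing.ResidueField R) from w).asIdeal]
        show RingHom.ker (IsLocalRing.residue R) = IsLocalRing.maximalIdeal R
        exact IsLocalRing.ker_residue
      rw [Scheme.Hom.comp_apply, hw, ← hy₀]
      show f (a y₀) = y
      rw [hcl, hfx]
    exact isReduced_of_isOpenImmersion (pullbackLeftPullbackSndIso f g₂ z).hom
  -- apply the DVR core
  have h0 : t y₀ ∈ connectedComponentIn (f₂ ⁻¹' {y₀}) (s₂ y₀) := by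
    rw [← mem_sectionComponents_iff f₂ s₂ (t y₀) y₀ (hft y₀), hbc]
    show g₂' (t y₀) ∈ MoreMor.sectionComponents f s
    rw [hgt, hcl, mem_sectionComponents_iff f s x y hfx]
    exact hx
  have key := core_dvr f₂ s₂ t hs₂ ht hred η y₀ hη h0
  rw [← mem_sectionComponents_iff f₂ s₂ (t η) η (hft η), hbc] at key
  have key' : g₂' (t η) ∈ MoreMor.sectionComponents f s := key
  rw [hgt, hgen] at key'
  exact key'

/-! ### part D1 -/
/-- Noetherian approximation of a morphism of families over an affine base, keeping track of the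
stage of the diagram of finitely generated subrings. -/
theorem exists_noeth_model_mor_stage {X Y S : Scheme.{u}} [IsAffine S] (f : X ⟶ Y) (g : Y ⟶ S)
    [LocallyOfFinitePresentation g] [QuasiCompact g] [QuasiSeparated g]
    [LocallyOfFinitePresentation (f ≫ g)] [QuasiCompact (f ≫ g)] [QuasiSeparated (f ≫ g)] :
    ∃ (l : (FGSubZ Γ(S, ⊤))ᵒᵖ) (X₀ Y₀ : Scheme.{u}) (f₀ : X₀ ⟶ Y₀)
      (g₀ : Y₀ ⟶ (fgSpecDiagramZ Γ(S, ⊤)).obj l) (eX : X ⟶ X₀) (eY : Y ⟶ Y₀),
      LocallyOfFinitePresentation g₀ ∧ QuasiCompact g₀ ∧ QuasiSeparated g₀ ∧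
      LocallyOfFinitePresentation (f₀ ≫ g₀) ∧ QuasiCompact (f₀ ≫ g₀) ∧ QuasiSeparated (f₀ ≫ g₀) ∧
      IsPullback eY (g ≫ S.isoSpec.hom) g₀ ((fgSpecConeZ Γ(S, ⊤)).π.app l) ∧
      IsPullback eX f f₀ eY := by
  let B : Type u := Γ(S, ⊤)
  let D := fgSpecDiagramZ B
  let c := fgSpecConeZ B
  have hc : IsLimit c := isLimitFgSpecConeZ B
  let e : S ≅ c.pt := S.isoSpec
  haveI : ∀ i, CompactSpace (D.obj i) := fun i => inferInstance
  haveI : ∀ i, QuasiSeparatedSpace (D.obj i) := fun i => inferInstance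
  obtain ⟨i, Yi, yi, gY, h1, h2, h3, hY⟩ := Groth.Agent.S0591.result D c hc Y (g ≫ e.hom)
  obtain ⟨j, Xj, xj, gX, h4, h5, h6, hX⟩ := Groth.Agent.S0591.result D c hc X ((f ≫ g) ≫ e.hom)
  obtain ⟨k, φ, ψ, -⟩ : ∃ (k : _) (φ : k ⟶ i) (ψ : k ⟶ j), True :=
    ⟨IsCofiltered.min i j, IsCofiltered.minToLeft i j, IsCofiltered.minToRight i j, trivial⟩
  have hY' := isPullback_stage_change D c φ hY
  have hX' := isPullback_stage_change D c ψ hX
  haveI : CompactSpace ↥(pullback xj (D.map ψ)) :=
    QuasiCompact.compactSpace_of_compactSpace (pullback.snd xj (D.map ψ))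
  haveI : QuasiSeparatedSpace ↥(pullback xj (D.map ψ)) :=
    quasiSeparatedSpace_of_quasiSeparated (pullback.snd xj (D.map ψ))
  haveI : CompactSpace ↥(pullback yi (D.map φ)) :=
    QuasiCompact.compactSpace_of_compactSpace (pullback.snd yi (D.map φ))
  haveI : QuasiSeparatedSpace ↥(pullback yi (D.map φ)) :=
    quasiSeparatedSpace_of_quasiSeparated (pullback.snd yi (D.map φ))
  obtain ⟨l, χ, fl, sX, sY, e1, e2, e3, e4, e5, e6⟩ :=
    Groth.Agent.S9218.result D c hc k (pullback.snd xj (D.map ψ)) (pullback.snd yi (D.map φ))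
      _ _ hX' _ _ hY' f (by rw [Category.assoc])
  have hX'' := isPullback_stage_change' D c χ sX e2 e3 hX'
  have hY'' := isPullback_stage_change' D c χ sY e4 e5 hY'
  have pX : IsPullback sX f fl sY := by
    refine (IsPullback.of_right (h₁₁ := f) (h₁₂ := g ≫ e.hom) (h₂₁ := fl)
      (h₂₂ := pullback.snd (pullback.snd yi (D.map φ)) (D.map χ)) (v₁₁ := sX) (v₁₂ := sY)
      (v₁₃ := c.π.app l) ?_ e6.symm hY''.flip).flip
    rw [e1, ← Category.assoc]
    exact hX''.flip
  have i1 : LocallyOfFinitePresentation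
      (fl ≫ pullback.snd (pullback.snd yi (D.map φ)) (D.map χ)) := by
    rw [e1]; infer_instance
  have i2 : QuasiCompact (fl ≫ pullback.snd (pullback.snd yi (D.map φ)) (D.map χ)) := by
    rw [e1]; infer_instance
  have i3 : QuasiSeparated (fl ≫ pullback.snd (pullback.snd yi (D.map φ)) (D.map χ)) := by
    rw [e1]; infer_instance
  exact ⟨l, _, _, fl, pullback.snd (pullback.snd yi (D.map φ)) (D.map χ),
    sX, sY, inferInstance, inferInstance, inferInstance, i1, i2, i3, hY'', pX⟩

/-! ### part D2 -/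
/-- **Noetherian model of a flat family with a section**: over an affine base, a flat morphism of
finite presentation with a section is the base change of a flat morphism of finite type with a
section over a Noetherian scheme. -/
theorem exists_noeth_model_section_flat {X Y : Scheme.{u}} [IsAffine Y] (f : X ⟶ Y) (s : Y ⟶ X)
    (hs : s ≫ f = 𝟙 Y) [LocallyOfFinitePresentation f] [QuasiCompact f] [QuasiSeparated f]
    [Flat f] :
    ∃ (T X₁ : Scheme.{u}) (f₁ : X₁ ⟶ T) (s₁ : T ⟶ X₁) (g : Y ⟶ T) (g' : X ⟶ X₁),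
      IsNoetherian T ∧ s₁ ≫ f₁ = 𝟙 T ∧ Flat f₁ ∧ LocallyOfFiniteType f₁ ∧ QuasiCompact f₁ ∧
      IsPullback g' f f₁ g ∧ s ≫ g' = g ≫ s₁ := by
  haveI : LocallyOfFinitePresentation (s ≫ f) := by rw [hs]; infer_instance
  haveI : QuasiCompact (s ≫ f) := by rw [hs]; infer_instance
  haveI : QuasiSeparated (s ≫ f) := by rw [hs]; infer_instance
  obtain ⟨l, T₀, X₀, s₀, p₀, eT, eX, hp1, hp2, hp3, hp4, hp5, hp6, hY, hX⟩ :=
    exists_noeth_model_mor_stage s f
  let D := fgSpecDiagramZ Γ(Y, ⊤)
  let c := fgSpecConeZ Γ(Y, ⊤)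
  have hc : IsLimit c := isLimitFgSpecConeZ Γ(Y, ⊤)
  let e : Y ≅ c.pt := Y.isoSpec
  -- the diagonal trick
  let f₁ : pullback p₀ (s₀ ≫ p₀) ⟶ T₀ := pullback.snd p₀ (s₀ ≫ p₀)
  let s₁ : T₀ ⟶ pullback p₀ (s₀ ≫ p₀) := pullback.lift s₀ (𝟙 T₀) (by rw [Category.id_comp])
  have hs₁ : s₁ ≫ f₁ = 𝟙 T₀ := pullback.lift_snd _ _ _
  have hY0 : IsPullback eX (f ≫ e.hom) p₀ (c.π.app l) := hY
  have hY' : IsPullback eT e.hom (s₀ ≫ p₀) (c.π.app l) := by
    have := hX.paste_vert hY0
    rwa [← Category.assoc, hs, Category.id_comp] at this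
  have hY1 : IsPullback eX f p₀ (e.hom ≫ c.π.app l) := by
    have sq : IsPullback (𝟙 X) f (f ≫ e.hom) e.hom :=
      IsPullback.of_horiz_isIso ⟨by rw [Category.id_comp]⟩
    have := sq.paste_horiz hY0
    rwa [Category.id_comp] at this
  have hh : eX ≫ p₀ = f ≫ eT ≫ s₀ ≫ p₀ := by
    rw [hY1.w, hY'.w]
  let g' : X ⟶ pullback p₀ (s₀ ≫ p₀) := pullback.lift eX (f ≫ eT) (by
    rw [hh, Category.assoc])
  have hg'1 : g' ≫ pullback.fst p₀ (s₀ ≫ p₀) = eX := pullback.lift_fst _ _ _
  have hg'2 : g' ≫ f₁ = f ≫ eT := pullback.lift_snd _ _ _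
  have hpb : IsPullback g' f f₁ eT := by
    refine IsPullback.of_right (h₁₂ := pullback.fst p₀ (s₀ ≫ p₀)) (h₂₂ := s₀ ≫ p₀)
      (v₁₃ := p₀) ?_ hg'2 (IsPullback.of_hasPullback p₀ (s₀ ≫ p₀))
    rw [hg'1, hY'.w]
    exact hY1
  have hsg : s ≫ g' = eT ≫ s₁ := by
    apply pullback.hom_ext
    · rw [Category.assoc, hg'1, Category.assoc, pullback.lift_fst]
      exact hX.w.symm
    · rw [Category.assoc, Category.assoc]
      show s ≫ g' ≫ f₁ = eT ≫ s₁ ≫ f₁
      rw [hg'2, hs₁, ← Category.assoc, hs, Category.id_comp, Category.comp_id]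
  -- descend flatness
  haveI : CompactSpace ↥(D.obj l) := inferInstance
  haveI : QuasiSeparatedSpace ↥(D.obj l) := inferInstance
  haveI : CompactSpace ↥T₀ := QuasiCompact.compactSpace_of_compactSpace (s₀ ≫ p₀)
  haveI : QuasiSeparatedSpace ↥T₀ := quasiSeparatedSpace_of_quasiSeparated (s₀ ≫ p₀)
  haveI : LocallyOfFinitePresentation p₀ := hp1
  haveI : QuasiCompact p₀ := hp2
  haveI : QuasiSeparated p₀ := hp3
  haveI : CompactSpace ↥(pullback p₀ (s₀ ≫ p₀)) := QuasiCompact.compactSpace_of_compactSpace f₁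
  haveI : QuasiSeparatedSpace ↥(pullback p₀ (s₀ ≫ p₀)) :=
    quasiSeparatedSpace_of_quasiSeparated f₁
  haveI : LocallyOfFinitePresentation f₁ := inferInstanceAs
    (LocallyOfFinitePresentation (pullback.snd p₀ (s₀ ≫ p₀)))
  obtain ⟨i, φ, Xi, Yi, fi, gi, pY, pX, hYi, hXi, hflat⟩ :=
    Groth.Agent.S2075.result D c hc l f₁ (s₀ ≫ p₀) f e.hom eT g' hY' hpb
  -- the model at stage `i`
  haveI : LocallyOfFiniteType gi :=
    MorphismProperty.of_isPullback (P := @LocallyOfFiniteType) hYi inferInstance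
  haveI : QuasiCompact gi :=
    MorphismProperty.of_isPullback (P := @QuasiCompact) hYi inferInstance
  haveI : IsNoetherian Yi := Groth.Agent.Lib.Helper78.ConsOne.isNoetherian_of_finiteType gi
  have hfi1 : LocallyOfFiniteType fi :=
    MorphismProperty.of_isPullback (P := @LocallyOfFiniteType) hXi inferInstance
  have hfi2 : QuasiCompact fi :=
    MorphismProperty.of_isPullback (P := @QuasiCompact) hXi inferInstance
  let si : Yi ⟶ Xi := hXi.lift (pY ≫ s₁) (𝟙 Yi) (by
    rw [Category.assoc, hs₁, Category.comp_id, Category.id_comp])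
  have hsi : si ≫ fi = 𝟙 Yi := hXi.lift_snd _ _ _
  have hsi' : si ≫ pX = pY ≫ s₁ := hXi.lift_fst _ _ _
  let gY : Y ⟶ Yi := hYi.lift eT (e.hom ≫ c.π.app i) (by
    rw [hY'.w, Category.assoc, c.w])
  have hgY1 : gY ≫ pY = eT := hYi.lift_fst _ _ _
  let gX : X ⟶ Xi := hXi.lift g' (f ≫ gY) (by
    rw [Category.assoc, hgY1]
    exact hpb.w)
  have hgX1 : gX ≫ pX = g' := hXi.lift_fst _ _ _
  have hgX2 : gX ≫ fi = f ≫ gY := hXi.lift_snd _ _ _
  have hfinal : IsPullback gX f fi gY := by
    refine IsPullback.of_right (h₁₂ := pX) (h₂₂ := pY) (v₁₃ := f₁) ?_ hgX2 hXi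
    rw [hgX1, hgY1]
    exact hpb
  refine ⟨Yi, Xi, fi, si, gY, gX, inferInstance, hsi, hflat, hfi1, hfi2, hfinal, ?_⟩
  apply hXi.hom_ext
  · rw [Category.assoc, hgX1, Category.assoc, hsi', ← Category.assoc, hgY1]
    exact hsg
  · rw [Category.assoc, hgX2, ← Category.assoc, hs, Category.id_comp, Category.assoc, hsi,
      Category.comp_id]

/-! ### part E1 -/
/-- geometric reducedness of a fibre is invariant under base change -/
theorem geometricallyReduced_fiber_iff_of_isPullback {X Y X' Y' : Scheme.{u}} {f : X ⟶ Y}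
    {f' : X' ⟶ Y'} {g' : X' ⟶ X} {g : Y' ⟶ Y} (hc : IsPullback g' f' f g) (y' : Y') :
    GeometricallyReduced (f.fiberToSpecResidueField (g y')) ↔
      GeometricallyReduced (f'.fiberToSpecResidueField y') := by
  have hΦ := isPullback_fiberToSpecResidueField_of_isPullback hc y'
  haveI : Subsingleton ↥(Spec (Y.residueField (g y'))) :=
    (inferInstance : Subsingleton (PrimeSpectrum (Y.residueField (g y'))))
  exact Groth.Agent.Lib.Helper78.GeomRedCons.geometricallyReduced_iff_of_isPullback hΦ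

/-- **Affine base**: generizations of points of `X_y⁰` stay in `X⁰`. -/
theorem mem_sectionComponents_of_specializes_affine {X Y : Scheme.{u}} [IsAffine Y]
    (f : X ⟶ Y) (s : Y ⟶ X) (hs : s ≫ f = 𝟙 Y)
    [LocallyOfFinitePresentation f] [QuasiCompact f] [QuasiSeparated f] [Flat f] (y : Y)
    (hy : GeometricallyReduced (f.fiberToSpecResidueField y))
    (x x' : X) (hx : x ∈ connectedComponentIn (f ⁻¹' {y}) (s y)) (hsp : x' ⤳ x) :
    x' ∈ MoreMor.sectionComponents f s := by
  obtain ⟨T, X₁, f₁, s₁, g, g', hN, hs₁, hflat, hft, hqc, hpb, hsg⟩ :=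
    exists_noeth_model_section_flat f s hs
  have hbc := sectionComponents_baseChange f₁ s₁ hs₁ f g' g hpb s hs hsg
  have hfx : f x = y := (connectedComponentIn_subset (f ⁻¹' {y}) (s y)) hx
  have hfg : f₁ (g' x) = g y := by
    rw [← Scheme.Hom.comp_apply, hpb.w, Scheme.Hom.comp_apply, hfx]
  have hx₁ : g' x ∈ connectedComponentIn (f₁ ⁻¹' {g y}) (s₁ (g y)) := by
    rw [← mem_sectionComponents_iff f₁ s₁ (g' x) (g y) hfg]
    show x ∈ g' ⁻¹' MoreMor.sectionComponents f₁ s₁
    rw [← hbc, mem_sectionComponents_iff f s x y hfx]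
    exact hx
  have hy₁ : GeometricallyReduced (f₁.fiberToSpecResidueField (g y)) :=
    (geometricallyReduced_fiber_iff_of_isPullback hpb y).2 hy
  have key := mem_sectionComponents_of_specializes_noeth f₁ s₁ hs₁ (g y) hy₁ (g' x) (g' x') hx₁
    (hsp.map g'.continuous)
  rw [hbc]
  exact key

end Sch

end Groth.Agent.Lib.Helper78.SecCompNbhd
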