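import Mathlib
import Groth.Agent.Lib.Helper50.TopConn

/-!
# Exhausting the connected component of a fibre by quasi-compact opens

* `exists_finite_connectedComponentIn`: a point of the connected component of `z₀` in `F` lies in
  the connected component of `z₀` in the trace of `F` on a finite union of members of an open cover,
  provided the traces of `F` on the members have open connected components;
* `noetherianSpace_inter_fibre`: the trace of a fibre of a morphism locally of finite type on an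
  affine open lying over an affine open is a Noetherian space;
* `exists_open_preconnected_piece`.
-/

set_option autoImplicit false
set_option linter.style.haveILetI false
universe u

namespace Groth.Agent.Lib.Helper78.SecCompOpen

/-! ### part T1 -/
/-- Exhaustion of a connected component by finitely many members of an open cover whose traces
have open connected components. -/
theorem exists_finite_connectedComponentIn {X : Type*} [TopologicalSpace X] (F : Set X) (z₀ : X)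
    (hz₀ : z₀ ∈ F) (𝒲 : Set (Set X)) (hcov : F ⊆ ⋃₀ 𝒲)
    (hloc : ∀ W ∈ 𝒲, ∀ z ∈ W ∩ F, ∃ (A O : Set X), IsOpen O ∧ A = O ∩ F ∧ A ⊆ W ∧ z ∈ A ∧
      IsPreconnected A)
    (x : X) (hx : x ∈ connectedComponentIn F z₀) :
    ∃ 𝒲' : Set (Set X), 𝒲'.Finite ∧ 𝒲' ⊆ 𝒲 ∧ x ∈ connectedComponentIn ((⋃₀ 𝒲') ∩ F) z₀ := by
  classical
  let C : Set X := {z | ∃ 𝒲' : Set (Set X), 𝒲'.Finite ∧ 𝒲' ⊆ 𝒲 ∧
    z ∈ connectedComponentIn ((⋃₀ 𝒲') ∩ F) z₀}
  -- extension step
  have hext : ∀ W ∈ 𝒲, ∀ A : Set X, A ⊆ W → A ⊆ F → IsPreconnected A → (A ∩ C).Nonempty →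
      A ⊆ C := by
    intro W hW A hAW hAF hA ⟨a, haA, 𝒲', hfin, hsub, ha⟩
    intro z hz
    refine ⟨insert W 𝒲', hfin.insert W, Set.insert_subset hW hsub, ?_⟩
    have hmono : (⋃₀ 𝒲') ∩ F ⊆ (⋃₀ (insert W 𝒲')) ∩ F :=
      Set.inter_subset_inter_left _ (Set.sUnion_mono (Set.subset_insert W 𝒲'))
    have hz₀mem : z₀ ∈ (⋃₀ 𝒲') ∩ F := by
      by_contra hcon
      rw [connectedComponentIn_eq_empty hcon] at ha
      exact ha
    have hpre : IsPreconnected (A ∪ connectedComponentIn ((⋃₀ 𝒲') ∩ F) z₀) :=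
      hA.union a haA ha isPreconnected_connectedComponentIn
    have hsubset : A ∪ connectedComponentIn ((⋃₀ 𝒲') ∩ F) z₀ ⊆ (⋃₀ (insert W 𝒲')) ∩ F := by
      apply Set.union_subset
      · intro w hw
        exact ⟨⟨W, Set.mem_insert W 𝒲', hAW hw⟩, hAF hw⟩
      · exact (connectedComponentIn_subset _ _).trans hmono
    exact hpre.subset_connectedComponentIn (Or.inr (mem_connectedComponentIn hz₀mem)) hsubset
      (Or.inl hz)
  -- `z₀ ∈ C`
  have hz₀C : z₀ ∈ C := by
    obtain ⟨W₀, hW₀, hz₀W⟩ := hcov hz₀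
    refine ⟨{W₀}, Set.finite_singleton W₀, Set.singleton_subset_iff.2 hW₀, ?_⟩
    apply mem_connectedComponentIn
    exact ⟨⟨W₀, rfl, hz₀W⟩, hz₀⟩
  -- the two opens
  let u : Set X := ⋃₀ {O | IsOpen O ∧ O ∩ F ⊆ C}
  let v : Set X := ⋃₀ {O | IsOpen O ∧ O ∩ F ⊆ Cᶜ}
  have hu : IsOpen u := isOpen_sUnion fun O hO => hO.1
  have hv : IsOpen v := isOpen_sUnion fun O hO => hO.1
  have huv : F ⊆ u ∪ v := by
    intro z hz
    obtain ⟨W, hW, hzW⟩ := hcov hz
    obtain ⟨A, O, hO, hAO, hAW, hzA, hA⟩ := hloc W hW z ⟨hzW, hz⟩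
    have hAF : A ⊆ F := by rw [hAO]; exact Set.inter_subset_right
    have hzO : z ∈ O := by
      have : z ∈ O ∩ F := by rw [← hAO]; exact hzA
      exact this.1
    by_cases hne : (A ∩ C).Nonempty
    · left
      refine ⟨O, ⟨hO, ?_⟩, hzO⟩
      rw [← hAO]
      exact hext W hW A hAW hAF hA hne
    · right
      refine ⟨O, ⟨hO, ?_⟩, hzO⟩
      rw [← hAO]
      intro w hw hwC
      exact hne ⟨w, hw, hwC⟩
  have hP : IsPreconnected (connectedComponentIn F z₀) := isPreconnected_connectedComponentIn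
  have hPF : connectedComponentIn F z₀ ⊆ F := connectedComponentIn_subset F z₀
  have hz₀u : z₀ ∈ u := by
    rcases huv hz₀ with h | h
    · exact h
    · obtain ⟨O, ⟨-, hOC⟩, hzO⟩ := h
      exact absurd hz₀C (hOC ⟨hzO, hz₀⟩)
  have hPu : connectedComponentIn F z₀ ⊆ u := by
    by_contra hcon
    obtain ⟨w, hwP, hwu⟩ := Set.not_subset.1 hcon
    have hwv : w ∈ v := by
      rcases huv (hPF hwP) with h | h
      · exact absurd h hwu
      · exact h
    obtain ⟨z, hzP, hzu, hzv⟩ := hP u v hu hv (hPF.trans huv)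
      ⟨z₀, mem_connectedComponentIn hz₀, hz₀u⟩ ⟨w, hwP, hwv⟩
    obtain ⟨O₁, ⟨-, hO₁⟩, hz1⟩ := hzu
    obtain ⟨O₂, ⟨-, hO₂⟩, hz2⟩ := hzv
    exact hO₂ ⟨hz2, hPF hzP⟩ (hO₁ ⟨hz1, hPF hzP⟩)
  obtain ⟨O, ⟨-, hOC⟩, hxO⟩ := hPu hx
  exact hOC ⟨hxO, hPF hx⟩

section Sch
open AlgebraicGeometry CategoryTheory Limits

/-! ### part S1 -/
/-- the trace of a fibre on an affine open lying over an affine open is a Noetherian space -/
theorem noetherianSpace_inter_fibre {X S : Scheme.{u}} (f : X ⟶ S) [LocallyOfFiniteType f]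
    {V₀ : S.Opens} (hV₀ : IsAffineOpen V₀) {W : X.Opens} (hW : IsAffineOpen W)
    (hWV : W ≤ f ⁻¹ᵁ V₀) (y : S) (hy : y ∈ V₀) :
    TopologicalSpace.NoetherianSpace ↥((W : Set X) ∩ f ⁻¹' {y}) := by
  haveI : IsAffine (W : Scheme.{u}) := hW
  haveI : IsAffine (V₀ : Scheme.{u}) := hV₀
  let g : (W : Scheme.{u}) ⟶ (V₀ : Scheme.{u}) := f.resLE V₀ W hWV
  haveI : LocallyOfFiniteType g := inferInstanceAs (LocallyOfFiniteType (f.resLE V₀ W hWV))
  haveI : QuasiCompact g := inferInstance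
  let y₀ : (V₀ : Scheme.{u}) := ⟨y, hy⟩
  haveI : LocallyOfFiniteType (g.fiberToSpecResidueField y₀) :=
    MorphismProperty.of_isPullback (P := @LocallyOfFiniteType)
      (IsPullback.of_hasPullback g ((V₀ : Scheme.{u}).fromSpecResidueField y₀)) inferInstance
  haveI : QuasiCompact (g.fiberToSpecResidueField y₀) :=
    MorphismProperty.of_isPullback (P := @QuasiCompact)
      (IsPullback.of_hasPullback g ((V₀ : Scheme.{u}).fromSpecResidueField y₀)) inferInstance
  haveI : CompactSpace ↥(g.fiber y₀) :=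
    QuasiCompact.compactSpace_of_compactSpace (g.fiberToSpecResidueField y₀)
  haveI : IsLocallyNoetherian (g.fiber y₀) :=
    LocallyOfFiniteType.isLocallyNoetherian (g.fiberToSpecResidueField y₀)
  haveI : IsNoetherian (g.fiber y₀) := {}
  haveI : TopologicalSpace.NoetherianSpace ↥(g.fiber y₀) := inferInstance
  have hg : ∀ w, f (Scheme.Opens.ι W w) = Scheme.Opens.ι V₀ (g w) := fun w => by
    rw [← Scheme.Hom.comp_apply, ← Scheme.Hom.comp_apply, Scheme.Hom.resLE_comp_ι]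
  have hmem : ∀ t : ↥(g.fiber y₀),
      Scheme.Opens.ι W (g.fiberι y₀ t) ∈ (W : Set X) ∩ f ⁻¹' {y} := by
    intro t
    refine ⟨(g.fiberι y₀ t).2, ?_⟩
    show f (Scheme.Opens.ι W (g.fiberι y₀ t)) = y
    have ht : g.fiberι y₀ t ∈ g ⁻¹' {y₀} := by
      rw [← Scheme.Hom.range_fiberι]
      exact ⟨t, rfl⟩
    rw [hg, ht]
    rfl
  let φ : ↥(g.fiber y₀) → ↥((W : Set X) ∩ f ⁻¹' {y}) := fun t => ⟨_, hmem t⟩
  have hφc : Continuous φ :=
    ((Scheme.Opens.ι W).continuous.comp (g.fiberι y₀).continuous).subtype_mk _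
  have hφs : Function.Surjective φ := by
    rintro ⟨z, hzW, hzy⟩
    let w : (W : Scheme.{u}) := ⟨z, hzW⟩
    have hw : w ∈ g ⁻¹' {y₀} := by
      show g w = y₀
      apply (Scheme.Opens.ι V₀).isOpenEmbedding.injective
      rw [← hg]
      exact hzy
    rw [← Scheme.Hom.range_fiberι] at hw
    obtain ⟨t, ht⟩ := hw
    refine ⟨t, Subtype.ext ?_⟩
    show Scheme.Opens.ι W (g.fiberι y₀ t) = z
    rw [ht]
    rfl
  exact TopologicalSpace.noetherianSpace_of_surjective φ hφc hφs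

/-- local structure of the fibre: connected open pieces inside affine opens -/
theorem exists_open_preconnected_piece {X : Type*} [TopologicalSpace X] (F W : Set X)
    (hW : IsOpen W) [TopologicalSpace.NoetherianSpace ↥(W ∩ F)] (z : X) (hz : z ∈ W ∩ F) :
    ∃ (A O : Set X), IsOpen O ∧ A = O ∩ F ∧ A ⊆ W ∧ z ∈ A ∧ IsPreconnected A := by
  let K : Set ↥(W ∩ F) := connectedComponent (⟨z, hz⟩ : ↥(W ∩ F))
  have hKopen : IsOpen K :=
    Groth.Agent.Lib.Helper50.isOpen_connectedComponent_of_noetherianSpace _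
  obtain ⟨O₁, hO₁, hO₁K⟩ := isOpen_induced_iff.1 hKopen
  refine ⟨Subtype.val '' K, O₁ ∩ W, hO₁.inter hW, ?_, ?_, ?_, ?_⟩
  · ext w
    constructor
    · rintro ⟨⟨w', hw'⟩, hwK, rfl⟩
      have : (⟨w', hw'⟩ : ↥(W ∩ F)) ∈ Subtype.val ⁻¹' O₁ := by rw [hO₁K]; exact hwK
      exact ⟨⟨this, hw'.1⟩, hw'.2⟩
    · rintro ⟨⟨hwO, hwW⟩, hwF⟩
      refine ⟨⟨w, hwW, hwF⟩, ?_, rfl⟩
      have : (⟨w, hwW, hwF⟩ : ↥(W ∩ F)) ∈ Subtype.val ⁻¹' O₁ := hwO
      rw [hO₁K] at this
      exact this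
  · rintro _ ⟨⟨w', hw'⟩, -, rfl⟩
    exact hw'.1
  · exact ⟨⟨z, hz⟩, mem_connectedComponent, rfl⟩
  · exact isPreconnected_connectedComponent.image _ continuous_subtype_val.continuousOn

end Sch

end Groth.Agent.Lib.Helper78.SecCompOpen
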