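/-
Helper library (helper78): lifting points of connected components of fibres along base change
(via `GalConn.image_connectedComponent_pullback_fst`), and openness of the union of the fibre
components meeting the image of a morphism `e : S' ⟶ X` over a universally open `S' ⟶ S`
(`f` smooth, qcqs).
-/
import Mathlib
import Groth.Agent.S15351
import Groth.Agent.Lib.Helper78.GalConn
import Groth.Agent.Lib.Helper78.SecCompNbhd

set_option autoImplicit false
set_option linter.style.haveILetI false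
universe u
open TensorProduct

namespace Groth.Agent.Lib.Helper78.FibreCompLift
section Sch
open AlgebraicGeometry CategoryTheory Limits
open Groth.Agent.Lib.Helper78.SecCompNbhd

/-! ### part L1 -/
/-- **lifting points of a fibre component along a base change**: for a cartesian square and a point
`x₀'` of the fibre of `f'` over `y'`, every point of the connected component of `g' x₀'` in the
fibre of `f` over `g y'` is the image of a point of the connected component of `x₀'`. -/
theorem exists_mem_connectedComponentIn_fibre_of_isPullback {X Y X' Y' : Scheme.{u}} (f : X ⟶ Y)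
    (f' : X' ⟶ Y') (g' : X' ⟶ X) (g : Y' ⟶ Y) (hc : IsPullback g' f' f g) (y' : Y') (x₀' : X')
    (hx₀' : f' x₀' = y') (x : X) (hx : x ∈ connectedComponentIn (f ⁻¹' {g y'}) (g' x₀')) :
    ∃ x' ∈ connectedComponentIn (f' ⁻¹' {y'}) x₀', g' x' = x := by
  have hfg : ∀ z : X', f (g' z) = g (f' z) := fun z => by
    rw [← Scheme.Hom.comp_apply, hc.w, Scheme.Hom.comp_apply]
  set ιy := f.fiberι (g y') with hιy
  set ιy' := f'.fiberι y' with hιy'
  set Φ : f'.fiber y' ⟶ f.fiber (g y') :=
    pullback.map _ _ _ _ g' (Spec.map (g.residueFieldMap y')) g hc.w.symm (by simp) with hΦd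
  have hΦ : IsPullback Φ (f'.fiberToSpecResidueField y') (f.fiberToSpecResidueField (g y'))
      (Spec.map (g.residueFieldMap y')) :=
    isPullback_fiberToSpecResidueField_of_isPullback hc y'
  have hΦι : Φ ≫ ιy = ιy' ≫ g' := by
    rw [hΦd, hιy, hιy']
    exact pullback.lift_fst _ _ _
  have hιΦ : ∀ w, ιy (Φ w) = g' (ιy' w) := fun w => by
    rw [← Scheme.Hom.comp_apply, hΦι, Scheme.Hom.comp_apply]
  have hrι' : Set.range ιy' = f' ⁻¹' {y'} := f'.range_fiberι y'
  have hrι : Set.range ιy = f ⁻¹' {g y'} := f.range_fiberι (g y')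
  have hinj : Function.Injective ιy := (f.fiberι (g y')).isEmbedding.injective
  obtain ⟨w₀', hw₀'⟩ : x₀' ∈ Set.range ιy' := by rw [hrι']; exact hx₀'
  have hgx₀ : g' x₀' ∈ f ⁻¹' {g y'} := by
    show f (g' x₀') = g y'
    rw [hfg, hx₀']
  have hxf : x ∈ f ⁻¹' {g y'} := connectedComponentIn_subset (f ⁻¹' {g y'}) (g' x₀') hx
  obtain ⟨w, hw⟩ : x ∈ Set.range ιy := by rw [hrι]; exact hxf
  -- `w` lies in the component of `Φ w₀'`
  have hB : _root_.IsPreconnected (ιy ⁻¹' connectedComponentIn (f ⁻¹' {g y'}) (g' x₀')) := by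
    rw [← (f.fiberι (g y')).isEmbedding.isInducing.isPreconnected_image,
      Set.image_preimage_eq_of_subset]
    · exact isPreconnected_connectedComponentIn
    · rw [hrι]; exact connectedComponentIn_subset _ _
  have hB' := hB.subset_connectedComponent (x := Φ w₀') (by
    rw [Set.mem_preimage, hιΦ, hw₀']; exact mem_connectedComponentIn hgx₀)
  have hwc : w ∈ connectedComponent (Φ w₀') := by
    apply hB'
    rw [Set.mem_preimage, hw]
    exact hx
  -- transport the field-extension statement along the iso with the pullback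
  let φ := hΦ.isoPullback
  have hφfst : φ.hom ≫ pullback.fst (f.fiberToSpecResidueField (g y'))
      (Spec.map (g.residueFieldMap y')) = Φ := hΦ.isoPullback_hom_fst
  have himg := Groth.Agent.Lib.Helper78.GalConn.image_connectedComponent_pullback_fst
    (K := Y.residueField (g y')) (L' := Y'.residueField y')
    (f.fiberToSpecResidueField (g y')) (Spec.map (g.residueFieldMap y')) (φ.hom w₀')
  have hfstφ : ∀ a, pullback.fst (f.fiberToSpecResidueField (g y'))
      (Spec.map (g.residueFieldMap y')) (φ.hom a) = Φ a := fun a => by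
    rw [← Scheme.Hom.comp_apply, hφfst]
  rw [hfstφ] at himg
  rw [← himg] at hwc
  obtain ⟨b, hb, hbw⟩ := hwc
  have hinvb : φ.inv b ∈ connectedComponent w₀' := by
    have h1 := φ.inv.continuous.image_connectedComponent_subset (φ.hom w₀') ⟨b, hb, rfl⟩
    have h2 : φ.inv (φ.hom w₀') = w₀' := by
      rw [← Scheme.Hom.comp_apply, Iso.hom_inv_id]; rfl
    rw [h2] at h1
    exact h1
  have hΦinvb : Φ (φ.inv b) = w := by
    rw [← hfstφ, ← Scheme.Hom.comp_apply φ.inv φ.hom, Iso.inv_hom_id]
    exact hbw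
  refine ⟨ιy' (φ.inv b), ?_, ?_⟩
  · have hpre : _root_.IsPreconnected (ιy' '' connectedComponent w₀') :=
      isPreconnected_connectedComponent.image _ ιy'.continuous.continuousOn
    refine hpre.subset_connectedComponentIn ⟨w₀', mem_connectedComponent, hw₀'⟩ ?_
      ⟨φ.inv b, hinvb, rfl⟩
    rw [← hrι']
    rintro _ ⟨a, -, rfl⟩
    exact ⟨a, rfl⟩
  · rw [← hιΦ, hΦinvb, hw]

/-! ### part L2 -/
/-- the union of the fibre components meeting the image of `e` -/
def compsMeeting {S S' X : Scheme.{u}} (f : X ⟶ S) (g : S' ⟶ S) (e : S' ⟶ X) : Set X :=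
  {x | ∃ s' : S', g s' = f x ∧ x ∈ connectedComponentIn (f ⁻¹' {f x}) (e s')}

/-- for `f` smooth qcqs and `g` universally open, the union of the fibre components meeting the
image of `e : S' ⟶ X` is open. -/
theorem isOpen_compsMeeting {S S' X : Scheme.{u}} (f : X ⟶ S)
    [Smooth f] [QuasiCompact f] [QuasiSeparated f] (g : S' ⟶ S) [UniversallyOpen g] (e : S' ⟶ X)
    (he : e ≫ f = g) : IsOpen (compsMeeting f g e) := by
  rw [isOpen_iff_forall_mem_open]
  rintro x ⟨s', hs', hx⟩
  obtain ⟨_, ⟨V, hV : IsAffineOpen V, rfl⟩, hs'V, -⟩ :=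
    S'.isBasis_affineOpens.exists_subset_of_mem_open (Set.mem_univ s') isOpen_univ
  haveI : IsAffine (V : Scheme.{u}) := hV
  let g₁ : (V : Scheme.{u}) ⟶ S := Scheme.Opens.ι V ≫ g
  let e₁ : (V : Scheme.{u}) ⟶ X := Scheme.Opens.ι V ≫ e
  have he₁ : e₁ ≫ f = g₁ := by rw [Category.assoc, he]
  haveI : UniversallyOpen g₁ := inferInstance
  let f' : pullback f g₁ ⟶ (V : Scheme.{u}) := pullback.snd f g₁
  let p : pullback f g₁ ⟶ X := pullback.fst f g₁
  have hc : IsPullback p f' f g₁ := IsPullback.of_hasPullback f g₁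
  let e' : (V : Scheme.{u}) ⟶ pullback f g₁ :=
    pullback.lift e₁ (𝟙 _) (by rw [Category.id_comp, he₁])
  have he' : e' ≫ f' = 𝟙 _ := pullback.lift_snd _ _ _
  have he'p : e' ≫ p = e₁ := pullback.lift_fst _ _ _
  have hf'e' : ∀ v, f' (e' v) = v := fun v => by
    rw [← Scheme.Hom.comp_apply, he']; rfl
  have hpe' : ∀ v, p (e' v) = e (Scheme.Opens.ι V v) := fun v => by
    rw [← Scheme.Hom.comp_apply, he'p, Scheme.Hom.comp_apply]
  have hfp : ∀ z, f (p z) = g (Scheme.Opens.ι V (f' z)) := fun z => by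
    rw [← Scheme.Hom.comp_apply, hc.w, Scheme.Hom.comp_apply, Scheme.Hom.comp_apply]
  haveI : Smooth f' := inferInstance
  haveI : QuasiCompact f' := inferInstance
  haveI : QuasiSeparated f' := inferInstance
  haveI : QuasiSeparatedSpace ↥(pullback f g₁) := quasiSeparatedSpace_of_quasiSeparated f'
  have hopen : IsOpen (MoreMor.sectionComponents f' e') := Groth.Agent.S15351.result f' e' he'
  haveI : UniversallyOpen p := inferInstance
  refine ⟨p '' MoreMor.sectionComponents f' e', ?_, p.isOpenMap _ hopen, ?_⟩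
  · rintro _ ⟨x', hx', rfl⟩
    have hx'' : x' ∈ connectedComponentIn (f' ⁻¹' {f' x'}) (e' (f' x')) := hx'
    refine ⟨Scheme.Opens.ι V (f' x'), (hfp x').symm, ?_⟩
    have hpre : _root_.IsPreconnected
        (p '' connectedComponentIn (f' ⁻¹' {f' x'}) (e' (f' x'))) :=
      isPreconnected_connectedComponentIn.image _ p.continuous.continuousOn
    have hsub : p '' connectedComponentIn (f' ⁻¹' {f' x'}) (e' (f' x')) ⊆ f ⁻¹' {f (p x')} := by
      rintro _ ⟨z, hz, rfl⟩
      have hz' : f' z = f' x' := connectedComponentIn_subset (f' ⁻¹' {f' x'}) (e' (f' x')) hz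
      show f (p z) = f (p x')
      rw [hfp, hfp, hz']
    have hmem : e (Scheme.Opens.ι V (f' x')) ∈ p '' connectedComponentIn (f' ⁻¹' {f' x'}) (e' (f' x')) :=
      ⟨e' (f' x'), mem_connectedComponentIn (hf'e' _), hpe' _⟩
    exact hpre.subset_connectedComponentIn hmem hsub ⟨x', hx'', rfl⟩
  · let v : (V : Scheme.{u}) := ⟨s', hs'V⟩
    have hιv : Scheme.Opens.ι V v = s' := rfl
    have hgv : g₁ v = f x := by
      show (Scheme.Opens.ι V ≫ g) v = f x
      rw [Scheme.Hom.comp_apply, hιv, hs']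
    have hx₁ : x ∈ connectedComponentIn (f ⁻¹' {g₁ v}) (p (e' v)) := by
      rw [hgv, hpe', hιv]
      exact hx
    obtain ⟨x', hx', hpx'⟩ := exists_mem_connectedComponentIn_fibre_of_isPullback f f' p g₁ hc v
      (e' v) (hf'e' v) x hx₁
    have hf'x' : f' x' = v := connectedComponentIn_subset (f' ⁻¹' {v}) (e' v) hx'
    exact ⟨x', (mem_sectionComponents_iff f' e' x' v hf'x').2 hx', hpx'⟩

/-- the fibres of `compsMeeting` -/
theorem compsMeeting_inter_fibre {S S' X : Scheme.{u}} (f : X ⟶ S) (g : S' ⟶ S) (e : S' ⟶ X)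
    (he : e ≫ f = g) (s : S) :
    compsMeeting f g e ∩ f ⁻¹' {s} =
      ⋃ x ∈ Set.range e ∩ f ⁻¹' {s}, connectedComponentIn (f ⁻¹' {s}) x := by
  have hfe : ∀ s', f (e s') = g s' := fun s' => by
    rw [← Scheme.Hom.comp_apply, he]
  ext x
  simp only [Set.mem_iUnion, exists_prop]
  constructor
  · rintro ⟨⟨s', hs', hx⟩, hfx⟩
    have hfx' : f x = s := hfx
    refine ⟨e s', ⟨⟨s', rfl⟩, ?_⟩, ?_⟩
    · show f (e s') = s
      rw [hfe, hs', hfx']
    · rw [← hfx']; exact hx
  · rintro ⟨x₀, ⟨⟨s', rfl⟩, hfx₀⟩, hx⟩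
    have hfx₀' : f (e s') = s := hfx₀
    have hfx : f x = s := connectedComponentIn_subset (f ⁻¹' {s}) (e s') hx
    refine ⟨⟨s', ?_, ?_⟩, hfx⟩
    · rw [← hfe, hfx₀', hfx]
    · rw [hfx]; exact hx

end Sch
end Groth.Agent.Lib.Helper78.FibreCompLift
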