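import Groth.Prelude.Def_Frob
import Groth.Prelude.Def_Flat
import Mathlib.AlgebraicGeometry.Morphisms.Integral
import Mathlib.AlgebraicGeometry.ResidueField
import Mathlib.RingTheory.RingHom.PurelyInseparable
import Mathlib.AlgebraicGeometry.Morphisms.UniversallyInjective
import Mathlib.AlgebraicGeometry.Morphisms.UniversallyClosed
import Mathlib.AlgebraicGeometry.PullbackCarrier
import Mathlib.FieldTheory.PurelyInseparable.Basic

set_option autoImplicit false
universe u
open CategoryTheory CategoryTheory.Limits AlgebraicGeometry

namespace Groth.Agent.Lib.Helper78.Frob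

theorem isUnivHomeo_of {X Y : Scheme.{u}} (f : X ⟶ Y) [IsIntegralHom f] [UniversallyInjective f]
    [Surjective f] : FlatMor.IsUnivHomeo f := by
  intro X' Y' i₁ i₂ f' hpb
  have h1 : IsIntegralHom f' := MorphismProperty.of_isPullback hpb.flip inferInstance
  have h2 : UniversallyInjective f' := MorphismProperty.of_isPullback hpb.flip inferInstance
  have h3 : Surjective f' := MorphismProperty.of_isPullback hpb.flip inferInstance
  exact isHomeomorph_iff_continuous_isClosedMap_bijective.2
    ⟨f'.continuous, f'.isClosedMap, f'.injective, f'.surjective⟩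

section FrobA

variable (p : ℕ) [Fact p.Prime] (X : Scheme.{u}) [FrobSch.IsCharP X p]

theorem stalkMap_frob (x : X) (t : X.presheaf.stalk x) :
    (FrobSch.frob X p).stalkMap x t = t ^ p := by
  obtain ⟨U, hxU, s, rfl⟩ := X.presheaf.exists_germ_eq (x := x) t
  have h := Scheme.Hom.germ_stalkMap_apply (FrobSch.frob X p) U x hxU s
  rw [FrobSch.frob_app] at h
  rw [← map_pow]
  exact h

theorem residueFieldMap_frob (x : X) (a : X.residueField x) :
    (FrobSch.frob X p).residueFieldMap x a = a ^ p := by
  obtain ⟨t, rfl⟩ := X.residue_surjective x a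
  have h := congrArg (fun φ => φ.hom t) (Scheme.residue_residueFieldMap (FrobSch.frob X p) x)
  simp only [CommRingCat.hom_comp, RingHom.comp_apply] at h
  rw [← map_pow, ← stalkMap_frob]
  exact h

theorem natCast_residueField_eq_zero (x : X) : (p : X.residueField x) = 0 := by
  have h := FrobSch.natCast_eq_zero_app X p ⊤
  have := congrArg (X.Γevaluation x).hom h
  simpa using this

end FrobA

section Frob2

variable (p : ℕ) [Fact p.Prime] (X : Scheme.{u}) [FrobSch.IsCharP X p]

theorem isPurelyInseparable_frob (x : X) :
    ((FrobSch.frob X p).residueFieldMap x).hom.IsPurelyInseparable := by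
  letI : Algebra (X.residueField ((FrobSch.frob X p) x)) (X.residueField x) :=
    ((FrobSch.frob X p).residueFieldMap x).hom.toAlgebra
  change IsPurelyInseparable (X.residueField ((FrobSch.frob X p) x)) (X.residueField x)
  haveI : CharP (X.residueField ((FrobSch.frob X p) x)) p :=
    (CharP.charP_iff_prime_eq_zero Fact.out).2 (natCast_residueField_eq_zero p X x)
  haveI : ExpChar (X.residueField ((FrobSch.frob X p) x)) p := ExpChar.prime Fact.out
  rw [isPurelyInseparable_iff_pow_mem _ p]
  intro a
  refine ⟨1, a, ?_⟩
  rw [pow_one]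
  exact residueFieldMap_frob p X x a

instance isAffineHom_frob : IsAffineHom (FrobSch.frob X p) where
  isAffine_preimage U hU := hU

instance isIntegralHom_frob : IsIntegralHom (FrobSch.frob X p) where
  isIntegral_app U hU := by
    intro s
    have hs : ∃ s' : Γ(X, U), (FrobSch.frob X p).app U s' = s ^ p := ⟨s, rfl⟩
    obtain ⟨s', hs'⟩ := hs
    refine ⟨Polynomial.X ^ p - Polynomial.C s', Polynomial.monic_X_pow_sub_C s'
      (Fact.out : p.Prime).ne_zero, ?_⟩
    rw [Polynomial.eval₂_sub, Polynomial.eval₂_pow, Polynomial.eval₂_X, Polynomial.eval₂_C]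
    change s ^ p - (FrobSch.frob X p).app U s' = 0
    rw [hs', sub_self]

instance surjective_frob : Surjective (FrobSch.frob X p) := ⟨fun x => ⟨x, rfl⟩⟩

instance universallyInjective_frob : UniversallyInjective (FrobSch.frob X p) := by
  have h := (tfae_universallyInjective (FrobSch.frob X p)).out 0 2
  exact h.2 ⟨fun x y h => h, isPurelyInseparable_frob p X⟩


end Frob2

end Groth.Agent.Lib.Helper78.Frob
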