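import Mathlib
import Groth.Prelude
import Groth.Agent.S1334
import Groth.Agent.S1335
import Groth.Agent.S1338
import Groth.Agent.S1339
import Groth.Agent.Lib.Helper78.GeomCountConn
import Groth.Agent.Lib.Helper78.GeomRedApprox

/-!
# Noetherian approximation preserving geometric irreducibility / connectedness of the fibres

`exists_approx_of_constructible`: a finitely presented morphism of affine schemes satisfying a
pointwise fibre condition `N` which is invariant under base change and constructible over affine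
bases descends, with the condition, to a base of finite type over `ℤ`.  The conditions
`nGeomIrredComp = 1`, `nGeomConnComp = 1` are equivalent to geometric irreducibility,
connectedness of the fibres.
-/

set_option autoImplicit false
set_option linter.style.haveILetI false
universe u
open TensorProduct

namespace Groth.Agent.Lib.Helper78.GeomCountApprox

open Groth.Agent.Lib.Helper78.GeomIrr Groth.Agent.Lib.Helper78.GeomConn
  Groth.Agent.Lib.Helper78.GeomCount Groth.Agent.Lib.Helper78.GeomCountConn

/-! ### part M1 -/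
theorem irreducibleSpace_of_encard_eq_one {T : Type*} [TopologicalSpace T]
    (h : (irreducibleComponents T).encard = 1) : IrreducibleSpace T := by
  obtain ⟨C, hC⟩ := Set.encard_eq_one.1 h
  have hCmem : C ∈ irreducibleComponents T := by
    rw [hC]
    exact Set.mem_singleton _
  have huniv : C = Set.univ := by
    apply Set.eq_univ_of_forall
    intro x
    have h1 := irreducibleComponent_mem_irreducibleComponents x
    rw [hC, Set.mem_singleton_iff] at h1
    rw [← h1]
    exact mem_irreducibleComponent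
  have hirr : IsIrreducible (Set.univ : Set T) := huniv ▸ hCmem.1
  exact (irreducibleSpace_def T).2 hirr

theorem encard_eq_one_of_irreducibleSpace {T : Type*} [TopologicalSpace T] [IrreducibleSpace T] :
    (irreducibleComponents T).encard = 1 := by
  rw [irreducibleComponents_eq_singleton, Set.encard_singleton]

theorem connectedSpace_of_card_eq_one {T : Type*} [TopologicalSpace T]
    (h : ENat.card (ConnectedComponents T) = 1) : ConnectedSpace T := by
  obtain ⟨hU⟩ := ENat.card_eq_one_iff_unique.1 h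
  have hne : Nonempty T := ConnectedComponents.nonempty_iff_nonempty.1 ⟨hU.default⟩
  obtain ⟨x⟩ := hne
  have huniv : connectedComponent x = Set.univ := by
    apply Set.eq_univ_of_forall
    intro y
    have : (ConnectedComponents.mk y : ConnectedComponents T) = ConnectedComponents.mk x :=
      (hU.uniq _).trans (hU.uniq _).symm
    exact ConnectedComponents.coe_eq_coe'.1 this
  have : PreconnectedSpace T := ⟨by rw [← huniv]; exact isPreconnected_connectedComponent⟩
  exact { toNonempty := ⟨x⟩ }

theorem card_eq_one_of_connectedSpace {T : Type*} [TopologicalSpace T] [ConnectedSpace T] :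
    ENat.card (ConnectedComponents T) = 1 := by
  rw [ENat.card_eq_one_iff_unique]
  obtain ⟨x⟩ : Nonempty T := inferInstance
  exact ⟨{ default := ConnectedComponents.mk x, uniq := fun a => Subsingleton.elim _ _ }⟩

section Sch

open AlgebraicGeometry CategoryTheory Limits

theorem nGeomIrredComp_eq_one_of_geometricallyIrreducible {X Y : Scheme.{u}} (f : X ⟶ Y) (y : Y)
    [h : GeometricallyIrreducible (f.fiberToSpecResidueField y)] :
    MoreMor.nGeomIrredComp f y = 1 := by
  have : IrreducibleSpace ↥(MoreMor.geomFiber f y) :=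
    h.geometrically_irreducibleSpace _ _ _ (IsPullback.of_hasPullback _ _)
  exact encard_eq_one_of_irreducibleSpace

theorem nGeomConnComp_eq_one_of_geometricallyConnected {X Y : Scheme.{u}} (f : X ⟶ Y) (y : Y)
    [h : GeometricallyConnected (f.fiberToSpecResidueField y)] :
    MoreMor.nGeomConnComp f y = 1 := by
  have : ConnectedSpace ↥(MoreMor.geomFiber f y) :=
    h.geometrically_connectedSpace _ _ _ (IsPullback.of_hasPullback _ _)
  exact card_eq_one_of_connectedSpace

/-- a field-valued point of the spectrum of a field is surjective -/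
theorem surjective_of_field {K : Type u} [Field K] {T : Scheme.{u}} [Nonempty T]
    (z : T ⟶ Spec (CommRingCat.of K)) : Surjective z := by
  refine ⟨fun a => ?_⟩
  obtain ⟨b⟩ : Nonempty T := inferInstance
  have : Subsingleton (Spec (CommRingCat.of K)) :=
    inferInstanceAs (Subsingleton (PrimeSpectrum K))
  exact ⟨b, Subsingleton.elim _ _⟩

theorem geometricallyIrreducible_of_forall_nGeomIrredComp_eq_one {X Y : Scheme.{u}} (g : X ⟶ Y)
    (H : ∀ y, MoreMor.nGeomIrredComp g y = 1) : GeometricallyIrreducible g := by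
  refine ⟨fun K _ y Z fst snd hpb => ?_⟩
  obtain ⟨pt⟩ : Nonempty (Spec (CommRingCat.of K)) :=
    inferInstanceAs (Nonempty (PrimeSpectrum K))
  have h1 : MoreMor.nGeomIrredComp snd pt = 1 := by
    rw [Groth.Agent.S1334.result g snd fst y hpb pt]
    exact H _
  have hr : pt ∈ Set.range (isAffineOpen_top (Spec (CommRingCat.of K))).fromSpec := by
    rw [(isAffineOpen_top _).range_fromSpec]
    trivial
  obtain ⟨q, hq⟩ := hr
  obtain ⟨K'', _, _, -, hcount⟩ := nGeomIrredComp_eq_encard snd
    (isAffineOpen_top (Spec (CommRingCat.of K))) q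
  rw [hq, h1] at hcount
  have hirr := irreducibleSpace_of_encard_eq_one hcount.symm
  have hs := surjective_of_field (K := K) (Spec.map (CommRingCat.ofHom (algebraMap
    Γ(Spec (CommRingCat.of K), ⊤) K'')) ≫ (isAffineOpen_top (Spec (CommRingCat.of K))).fromSpec)
  have h2 : Surjective (pullback.fst snd (Spec.map (CommRingCat.ofHom (algebraMap
      Γ(Spec (CommRingCat.of K), ⊤) K'')) ≫
      (isAffineOpen_top (Spec (CommRingCat.of K))).fromSpec)) :=
    MorphismProperty.of_isPullback (P := @Surjective) (IsPullback.of_hasPullback snd _).flip hs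
  have h3 := ((irreducibleSpace_def _).1 hirr).image _
    (pullback.fst snd (Spec.map (CommRingCat.ofHom (algebraMap
      Γ(Spec (CommRingCat.of K), ⊤) K'')) ≫
      (isAffineOpen_top (Spec (CommRingCat.of K))).fromSpec)).continuous.continuousOn
  rw [Set.top_eq_univ, Set.image_univ, Set.range_eq_univ.2 h2.surj] at h3
  exact (irreducibleSpace_def _).2 h3

theorem geometricallyConnected_of_forall_nGeomConnComp_eq_one {X Y : Scheme.{u}} (g : X ⟶ Y)
    (H : ∀ y, MoreMor.nGeomConnComp g y = 1) : GeometricallyConnected g := by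
  refine ⟨fun K _ y Z fst snd hpb => ?_⟩
  obtain ⟨pt⟩ : Nonempty (Spec (CommRingCat.of K)) :=
    inferInstanceAs (Nonempty (PrimeSpectrum K))
  have h1 : MoreMor.nGeomConnComp snd pt = 1 := by
    rw [Groth.Agent.S1335.result g snd fst y hpb pt]
    exact H _
  have hr : pt ∈ Set.range (isAffineOpen_top (Spec (CommRingCat.of K))).fromSpec := by
    rw [(isAffineOpen_top _).range_fromSpec]
    trivial
  obtain ⟨q, hq⟩ := hr
  obtain ⟨K'', _, _, -, hcount⟩ := nGeomConnComp_eq_card snd
    (isAffineOpen_top (Spec (CommRingCat.of K))) q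
  rw [hq, h1] at hcount
  have hconn := connectedSpace_of_card_eq_one hcount.symm
  have hs := surjective_of_field (K := K) (Spec.map (CommRingCat.ofHom (algebraMap
    Γ(Spec (CommRingCat.of K), ⊤) K'')) ≫ (isAffineOpen_top (Spec (CommRingCat.of K))).fromSpec)
  have h2 : Surjective (pullback.fst snd (Spec.map (CommRingCat.ofHom (algebraMap
      Γ(Spec (CommRingCat.of K), ⊤) K'')) ≫
      (isAffineOpen_top (Spec (CommRingCat.of K))).fromSpec)) :=
    MorphismProperty.of_isPullback (P := @Surjective) (IsPullback.of_hasPullback snd _).flip hs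
  exact h2.surj.connectedSpace (pullback.fst snd _).continuous

end Sch

section Sch2

open AlgebraicGeometry CategoryTheory Limits Topology
open Groth.Agent.Lib.Helper78.GeomRedApprox

/-! ### part M2 -/
/-- **Noetherian approximation preserving a pointwise fibre condition** which is compatible with
base change and constructible over affine bases, for spectra. -/
theorem exists_approx_Spec_of_constructible
    (N : ∀ ⦃X Y : Scheme.{u}⦄, (X ⟶ Y) → Y → Prop)
    (hbc : ∀ ⦃X Y X' Y' : Scheme.{u}⦄ (f : X ⟶ Y) (f' : X' ⟶ Y') (g' : X' ⟶ X) (g : Y' ⟶ Y),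
      IsPullback g' f' f g → ∀ y' : Y', N f' y' ↔ N f (g y'))
    (hcons : ∀ ⦃X S : Scheme.{u}⦄ [IsAffine S] (g : X ⟶ S) [LocallyOfFinitePresentation g]
      [QuasiCompact g] [QuasiSeparated g], IsConstructible {s : S | N g s})
    {A B : Type u} [CommRing A] [CommRing B] [Algebra A B]
    [Algebra.FinitePresentation A B]
    (h : ∀ q, N (Spec.map (CommRingCat.ofHom (algebraMap A B))) q) :
    ∃ (X₀ S₀ : Scheme.{u}) (f₀ : X₀ ⟶ S₀) (g : Spec (CommRingCat.of A) ⟶ S₀)
      (g' : Spec (CommRingCat.of B) ⟶ X₀), IsAffine X₀ ∧ IsAffine S₀ ∧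
      IsPullback g' (Spec.map (CommRingCat.ofHom (algebraMap A B))) f₀ g ∧
      Algebra.FiniteType ℤ Γ(S₀, ⊤) ∧ LocallyOfFiniteType f₀ ∧ ∀ y, N f₀ y := by
  classical
  let P := Algebra.Presentation.ofFinitePresentation A B
  let e₀ : A ⊗[P.Core] P.ModelOfHasCoeffs P.Core ≃ₐ[A] B := P.tensorModelOfHasCoeffsEquiv P.Core
  have sq0 := isPullback_of_algEquiv e₀
  set x₀ := Spec.map (CommRingCat.ofHom ((e₀ : A ⊗[P.Core] P.ModelOfHasCoeffs P.Core →+* B).comp
        (Algebra.TensorProduct.includeRight :
          P.ModelOfHasCoeffs P.Core →ₐ[P.Core] A ⊗[P.Core] P.ModelOfHasCoeffs P.Core).toRingHom))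
    with hx₀
  set f₀' := Spec.map (CommRingCat.ofHom (algebraMap P.Core (P.ModelOfHasCoeffs P.Core))) with hf₀'
  set s₀ := Spec.map (CommRingCat.ofHom (algebraMap P.Core A)) with hs₀
  haveI : LocallyOfFinitePresentation f₀' := by
    rw [hf₀', HasRingHomProperty.Spec_iff (P := @LocallyOfFinitePresentation)]
    exact (RingHom.finitePresentation_algebraMap).2 inferInstance
  -- the constructible locus
  have hE : IsConstructible {s : Spec (CommRingCat.of P.Core) | N f₀' s} := hcons f₀'
  have hloc : ∀ q : Spec (CommRingCat.of A), N f₀' (s₀ q) := by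
    intro q
    exact (hbc f₀' _ x₀ s₀ sq0 q).1 (h q)
  obtain ⟨F, hF⟩ := exists_finset_forall_comap_mem (A₀ := P.Core) (A := A)
    {s : PrimeSpectrum P.Core | N f₀' s} hE (fun q => hloc q)
  -- the enlarged finitely generated subalgebra
  set A₁ : Subalgebra P.Core A := Algebra.adjoin P.Core (F : Set A) with hA₁
  set ι₁ := Spec.map (CommRingCat.ofHom (algebraMap P.Core A₁)) with hι₁
  set g := Spec.map (CommRingCat.ofHom (algebraMap A₁ A)) with hg
  have hgι : g ≫ ι₁ = s₀ := by
    rw [hg, hι₁, hs₀, ← Spec.map_comp, ← CommRingCat.ofHom_comp,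
      ← IsScalarTower.algebraMap_eq P.Core A₁ A]
  have w : x₀ ≫ f₀' = (Spec.map (CommRingCat.ofHom (algebraMap A B)) ≫ g) ≫ ι₁ := by
    rw [Category.assoc, hgι]
    exact sq0.w
  refine ⟨pullback f₀' ι₁, Spec (CommRingCat.of A₁), pullback.snd f₀' ι₁, g,
    pullback.lift x₀ (Spec.map (CommRingCat.ofHom (algebraMap A B)) ≫ g) w, inferInstance,
    inferInstance, ?_, ?_, inferInstance, ?_⟩
  · refine IsPullback.of_right ?_ (pullback.lift_snd _ _ w) (IsPullback.of_hasPullback f₀' ι₁)
    rw [pullback.lift_fst, hgι]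
    exact sq0
  · haveI : Algebra.FiniteType P.Core A₁ :=
      (Subalgebra.fg_iff_finiteType A₁).1 (Subalgebra.fg_adjoin_finset F)
    haveI : Algebra.FiniteType ℤ A₁ := Algebra.FiniteType.trans (S := P.Core) inferInstance inferInstance
    exact Algebra.FiniteType.equiv (inferInstance : Algebra.FiniteType ℤ A₁)
      (Scheme.ΓSpecIso (CommRingCat.of A₁)).symm.commRingCatIsoToRingEquiv.toIntAlgEquiv
  · intro y
    exact (hbc f₀' (pullback.snd f₀' ι₁) (pullback.fst f₀' ι₁) ι₁
      (IsPullback.of_hasPullback f₀' ι₁) y).2 (hF y)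

/-- **Noetherian approximation preserving a pointwise fibre condition**, affine schemes. -/
theorem exists_approx_of_constructible
    (N : ∀ ⦃X Y : Scheme.{u}⦄, (X ⟶ Y) → Y → Prop)
    (hbc : ∀ ⦃X Y X' Y' : Scheme.{u}⦄ (f : X ⟶ Y) (f' : X' ⟶ Y') (g' : X' ⟶ X) (g : Y' ⟶ Y),
      IsPullback g' f' f g → ∀ y' : Y', N f' y' ↔ N f (g y'))
    (hcons : ∀ ⦃X S : Scheme.{u}⦄ [IsAffine S] (g : X ⟶ S) [LocallyOfFinitePresentation g]
      [QuasiCompact g] [QuasiSeparated g], IsConstructible {s : S | N g s})
    {X S : Scheme.{u}} (f : X ⟶ S) [IsAffine X] [IsAffine S]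
    [LocallyOfFinitePresentation f] (h : ∀ s, N f s) :
    ∃ (X₀ S₀ : Scheme.{u}) (f₀ : X₀ ⟶ S₀) (g : S ⟶ S₀) (g' : X ⟶ X₀), IsAffine X₀ ∧ IsAffine S₀ ∧
      IsPullback g' f f₀ g ∧ Algebra.FiniteType ℤ Γ(S₀, ⊤) ∧ LocallyOfFiniteType f₀ ∧
      ∀ y, N f₀ y := by
  letI : Algebra Γ(S, ⊤) Γ(X, ⊤) := f.appTop.hom.toAlgebra
  haveI : Algebra.FinitePresentation Γ(S, ⊤) Γ(X, ⊤) :=
    (HasRingHomProperty.iff_of_isAffine (P := @LocallyOfFinitePresentation)).1 inferInstance
  have hnat : X.isoSpec.hom ≫ Spec.map f.appTop = f ≫ S.isoSpec.hom :=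
    Scheme.isoSpec_hom_naturality f
  have sq : IsPullback X.isoSpec.hom f (Spec.map f.appTop) S.isoSpec.hom :=
    IsPullback.of_horiz_isIso ⟨hnat⟩
  have sq' : IsPullback X.isoSpec.inv (Spec.map f.appTop) f S.isoSpec.inv :=
    IsPullback.of_horiz_isIso ⟨by
      rw [← cancel_mono S.isoSpec.hom, Category.assoc, Category.assoc, Iso.inv_hom_id,
        Category.comp_id, ← hnat, Iso.inv_hom_id_assoc]⟩
  have hN : ∀ q, N (Spec.map f.appTop) q := fun q =>
    (hbc f (Spec.map f.appTop) X.isoSpec.inv S.isoSpec.inv sq' q).2 (h _)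
  obtain ⟨X₀, S₀, f₀, g, g', h1, h2, h3, h4, h5, h6⟩ :=
    exists_approx_Spec_of_constructible N hbc hcons (A := Γ(S, ⊤)) (B := Γ(X, ⊤)) hN
  exact ⟨X₀, S₀, f₀, S.isoSpec.hom ≫ g, X.isoSpec.hom ≫ g', h1, h2, sq.paste_horiz h3, h4, h5, h6⟩

end Sch2

end Groth.Agent.Lib.Helper78.GeomCountApprox
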