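import Groth.Prelude.Def_RedSub
import Mathlib.AlgebraicGeometry.Sites.Fpqc

/-!
# fppf quotients of group schemes: descent of morphisms (helper78)
-/

set_option autoImplicit false
set_option linter.style.haveILetI false
set_option linter.unusedSectionVars false
universe u
open CategoryTheory CategoryTheory.Limits AlgebraicGeometry MonoidalCategory
open MonObj GrpObj CartesianMonoidalCategory

namespace Groth.Agent.Lib.Helper78.GrpQuot

variable {S : Scheme.{u}} {H G Q : Over S} [GrpObj H] [GrpObj G]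

/-- right translation by a point of `H` does not change the image in the quotient. -/
theorem mul_comp_q (i : H ⟶ G) (q : G ⟶ Q) (hq : RedSub.IsQuotient i q)
    {Z : Over S} (g : Z ⟶ G) (h : Z ⟶ H) : (g * (h ≫ i)) ≫ q = g ≫ q := by
  have hw := hq.2.2.2.w
  have := congr_arg (fun φ => lift g h ≫ φ) hw
  simp only [lift_fst_assoc, Category.assoc] at this
  rw [this, lift_whiskerLeft_assoc, Hom.mul_def, Category.assoc]

/-- kernel pair description of the quotient map. -/
theorem exists_of_comp_eq (i : H ⟶ G) (q : G ⟶ Q) (hq : RedSub.IsQuotient i q)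
    {Z : Over S} (g₁ g₂ : Z ⟶ G) (h : g₁ ≫ q = g₂ ≫ q) :
    ∃ h' : Z ⟶ H, g₂ = g₁ * (h' ≫ i) := by
  obtain ⟨z, hz1, hz2⟩ := hq.2.2.2.exists_lift g₁ g₂ h
  refine ⟨z ≫ snd G H, ?_⟩
  have hz : z = lift g₁ (z ≫ snd G H) := by
    apply CartesianMonoidalCategory.hom_ext
    · rw [lift_fst, hz1]
    · rw [lift_snd]
  rw [← hz2, Hom.mul_def]
  conv_lhs => rw [hz]
  rw [lift_whiskerLeft_assoc]

theorem effectiveEpi_q_left (i : H ⟶ G) (q : G ⟶ Q) (hq : RedSub.IsQuotient i q) :
    EffectiveEpi q.left := by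
  haveI := hq.1
  haveI := hq.2.1
  haveI := hq.2.2.1
  infer_instance

theorem epi_q (i : H ⟶ G) (q : G ⟶ Q) (hq : RedSub.IsQuotient i q) : Epi q := by
  haveI := effectiveEpi_q_left i q hq
  haveI : Epi q.left := inferInstance
  exact (Over.forget S).epi_of_epi_map ‹Epi q.left›

/-- descent of morphisms along the quotient map. -/
theorem exists_desc (i : H ⟶ G) (q : G ⟶ Q) (hq : RedSub.IsQuotient i q) {K : Over S}
    (f : G ⟶ K)
    (hf : ∀ (Z : Over S) (g : Z ⟶ G) (h : Z ⟶ H), (g * (h ≫ i)) ≫ f = g ≫ f) :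
    ∃ g : Q ⟶ K, q ≫ g = f := by
  haveI := effectiveEpi_q_left i q hq
  have key : ∀ {Z : Scheme.{u}} (g₁ g₂ : Z ⟶ G.left), g₁ ≫ q.left = g₂ ≫ q.left →
      g₁ ≫ f.left = g₂ ≫ f.left := by
    intro Z g₁ g₂ h12
    let Z' : Over S := Over.mk (g₁ ≫ G.hom)
    let g₁' : Z' ⟶ G := Over.homMk g₁ rfl
    have hg₂ : g₂ ≫ G.hom = g₁ ≫ G.hom := by
      calc g₂ ≫ G.hom = g₂ ≫ q.left ≫ Q.hom := by rw [Over.w q]
        _ = g₁ ≫ q.left ≫ Q.hom := by rw [← Category.assoc, ← h12, Category.assoc]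
        _ = g₁ ≫ G.hom := by rw [Over.w q]
    let g₂' : Z' ⟶ G := Over.homMk g₂ hg₂
    have h12' : g₁' ≫ q = g₂' ≫ q := by ext1; exact h12
    obtain ⟨h', hh'⟩ := exists_of_comp_eq i q hq g₁' g₂' h12'
    have := hf Z' g₁' h'
    rw [← hh'] at this
    exact (congr_arg Over.Hom.left this).symm
  let g' : Q.left ⟶ K.left := EffectiveEpi.desc q.left f.left key
  have hg' : q.left ≫ g' = f.left := EffectiveEpi.fac q.left f.left key
  refine ⟨Over.homMk g' ?_, ?_⟩
  · haveI : Epi q.left := inferInstance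
    rw [← cancel_epi q.left, ← Category.assoc, hg', Over.w f, Over.w q]
  · ext1
    exact hg'

/-- the tensor square of an fppf morphism over `S` is fppf on underlying schemes. -/
theorem fppf_tensorHom_left {A B A' B' : Over S} (a : A ⟶ A') (b : B ⟶ B')
    (ha : Surjective a.left ∧ Flat a.left ∧ LocallyOfFinitePresentation a.left)
    (hb : Surjective b.left ∧ Flat b.left ∧ LocallyOfFinitePresentation b.left) :
    Surjective (a ⊗ₘ b).left ∧ Flat (a ⊗ₘ b).left ∧
      LocallyOfFinitePresentation (a ⊗ₘ b).left := by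
  rw [Over.tensorHom_left]
  haveI : MorphismProperty.IsStableUnderComposition @Surjective.{u} :=
    (inferInstance : MorphismProperty.IsMultiplicative @Surjective.{u}).toIsStableUnderComposition
  exact ⟨MorphismProperty.pullbackMap (P := @Surjective.{u}) ha.1 hb.1 (Over.w a).symm (Over.w b).symm,
    MorphismProperty.pullbackMap (P := @Flat) ha.2.1 hb.2.1 (Over.w a).symm (Over.w b).symm,
    MorphismProperty.pullbackMap (P := @LocallyOfFinitePresentation) ha.2.2 hb.2.2
      (Over.w a).symm (Over.w b).symm⟩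

theorem epi_of_fppf_left {A B : Over S} (a : A ⟶ B)
    (ha : Surjective a.left ∧ Flat a.left ∧ LocallyOfFinitePresentation a.left) : Epi a := by
  haveI := ha.1
  haveI := ha.2.1
  haveI : Epi a.left := Flat.epi_of_flat_of_surjective _
  exact (Over.forget S).epi_of_epi_map ‹Epi a.left›

theorem epi_tensorHom_q (i : H ⟶ G) (q : G ⟶ Q) (hq : RedSub.IsQuotient i q) :
    Epi (q ⊗ₘ q) :=
  epi_of_fppf_left _ (fppf_tensorHom_left q q ⟨hq.1, hq.2.1, hq.2.2.1⟩ ⟨hq.1, hq.2.1, hq.2.2.1⟩)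

end Groth.Agent.Lib.Helper78.GrpQuot
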