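import Groth.Agent.Lib.Helper78.GrpQuot

/-!
# fppf quotients of group schemes: the group structure on the quotient (helper78)
-/

set_option autoImplicit false
set_option linter.style.haveILetI false
set_option linter.unusedSectionVars false
universe u
open CategoryTheory CategoryTheory.Limits AlgebraicGeometry MonoidalCategory
open MonObj GrpObj CartesianMonoidalCategory

namespace Groth.Agent.Lib.Helper78.GrpQuot

variable {S : Scheme.{u}}

/-- descent of morphisms along an fppf morphism over `S`. -/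
theorem exists_desc_of_fppf {A B K : Over S} (p : A ⟶ B)
    (hp : Surjective p.left ∧ Flat p.left ∧ LocallyOfFinitePresentation p.left) (f : A ⟶ K)
    (hf : ∀ (Z : Over S) (g₁ g₂ : Z ⟶ A), g₁ ≫ p = g₂ ≫ p → g₁ ≫ f = g₂ ≫ f) :
    ∃ g : B ⟶ K, p ≫ g = f := by
  haveI := hp.1
  haveI := hp.2.1
  haveI := hp.2.2
  haveI : EffectiveEpi p.left := inferInstance
  have key : ∀ {Z : Scheme.{u}} (g₁ g₂ : Z ⟶ A.left), g₁ ≫ p.left = g₂ ≫ p.left →
      g₁ ≫ f.left = g₂ ≫ f.left := by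
    intro Z g₁ g₂ h12
    let Z' : Over S := Over.mk (g₁ ≫ A.hom)
    let g₁' : Z' ⟶ A := Over.homMk g₁ rfl
    have hg₂ : g₂ ≫ A.hom = g₁ ≫ A.hom := by
      calc g₂ ≫ A.hom = g₂ ≫ p.left ≫ B.hom := by rw [Over.w p]
        _ = g₁ ≫ p.left ≫ B.hom := by rw [← Category.assoc, ← h12, Category.assoc]
        _ = g₁ ≫ A.hom := by rw [Over.w p]
    let g₂' : Z' ⟶ A := Over.homMk g₂ hg₂
    have h12' : g₁' ≫ p = g₂' ≫ p := by ext1; exact h12
    exact congr_arg Over.Hom.left (hf Z' g₁' g₂' h12')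
  let g' : B.left ⟶ K.left := EffectiveEpi.desc p.left f.left key
  have hg' : p.left ≫ g' = f.left := EffectiveEpi.fac p.left f.left key
  refine ⟨Over.homMk g' ?_, ?_⟩
  · haveI : Epi p.left := inferInstance
    rw [← cancel_epi p.left, ← Category.assoc, hg', Over.w f, Over.w p]
  · ext1
    exact hg'

variable {H G Q : Over S} [GrpObj H] [GrpObj G]

theorem fppf_q (i : H ⟶ G) (q : G ⟶ Q) (hq : RedSub.IsQuotient i q) :
    Surjective q.left ∧ Flat q.left ∧ LocallyOfFinitePresentation q.left :=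
  ⟨hq.1, hq.2.1, hq.2.2.1⟩

theorem exists_mul (i : H ⟶ G) [IsMonHom i] (hn : AlgGrp.IsNormalHom i)
    (q : G ⟶ Q) (hq : RedSub.IsQuotient i q) :
    ∃ m : Q ⊗ Q ⟶ Q, (q ⊗ₘ q) ≫ m = μ[G] ≫ q := by
  refine exists_desc_of_fppf (q ⊗ₘ q)
    (fppf_tensorHom_left q q (fppf_q i q hq) (fppf_q i q hq)) (μ[G] ≫ q) ?_
  intro Z g₁ g₂ h12
  have ha : (g₁ ≫ fst G G) ≫ q = (g₂ ≫ fst G G) ≫ q := by
    have := congr_arg (fun φ => φ ≫ fst Q Q) h12
    simpa only [Category.assoc, tensorHom_fst] using this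
  have hb : (g₁ ≫ snd G G) ≫ q = (g₂ ≫ snd G G) ≫ q := by
    have := congr_arg (fun φ => φ ≫ snd Q Q) h12
    simpa only [Category.assoc, tensorHom_snd] using this
  obtain ⟨h, hh⟩ := exists_of_comp_eq i q hq _ _ ha
  obtain ⟨h', hh'⟩ := exists_of_comp_eq i q hq _ _ hb
  obtain ⟨n', hn'⟩ := hn Z (g₁ ≫ snd G G)⁻¹ h
  have e1 : ∀ g : Z ⟶ G ⊗ G, g ≫ μ[G] = (g ≫ fst G G) * (g ≫ snd G G) := fun g => by
    have hg : g = lift (g ≫ fst G G) (g ≫ snd G G) := by
      apply CartesianMonoidalCategory.hom_ext <;> simp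
    conv_lhs => rw [hg]
    rfl
  rw [← Category.assoc, ← Category.assoc, e1 g₁, e1 g₂, hh, hh']
  set a := g₁ ≫ fst G G
  set b := g₁ ≫ snd G G
  have e2 : a * (h ≫ i) * (b * (h' ≫ i)) = (a * b) * ((n' * h') ≫ i) := by
    rw [MonObj.mul_comp, ← hn']
    group
  rw [e2, mul_comp_q i q hq]

theorem exists_inv (i : H ⟶ G) [IsMonHom i] (hn : AlgGrp.IsNormalHom i)
    (q : G ⟶ Q) (hq : RedSub.IsQuotient i q) :
    ∃ v : Q ⟶ Q, q ≫ v = ι[G] ≫ q := by
  refine exists_desc i q hq (ι[G] ≫ q) ?_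
  intro Z g h
  obtain ⟨n', hn'⟩ := hn Z g h⁻¹
  rw [← Category.assoc, ← Category.assoc, ← Hom.inv_def, ← Hom.inv_def]
  have e : (g * (h ≫ i))⁻¹ = g⁻¹ * (n' ≫ i) := by
    rw [← hn', GrpObj.inv_comp]
    group
  rw [e, mul_comp_q i q hq]

theorem epi_q_whiskerRight (i : H ⟶ G) (q : G ⟶ Q) (hq : RedSub.IsQuotient i q) (A : Over S) :
    Epi (q ▷ A) := by
  have : q ▷ A = q ⊗ₘ 𝟙 A := by simp
  rw [this]
  refine epi_of_fppf_left _ (fppf_tensorHom_left q (𝟙 A) (fppf_q i q hq) ⟨?_, ?_, ?_⟩)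
  all_goals simp only [Over.id_left]; infer_instance

theorem epi_q_whiskerLeft (i : H ⟶ G) (q : G ⟶ Q) (hq : RedSub.IsQuotient i q) (A : Over S) :
    Epi (A ◁ q) := by
  have : A ◁ q = 𝟙 A ⊗ₘ q := by simp
  rw [this]
  refine epi_of_fppf_left _ (fppf_tensorHom_left (𝟙 A) q ⟨?_, ?_, ?_⟩ (fppf_q i q hq))
  all_goals simp only [Over.id_left]; infer_instance

theorem epi_q3 (i : H ⟶ G) (q : G ⟶ Q) (hq : RedSub.IsQuotient i q) :
    Epi ((q ⊗ₘ q) ⊗ₘ q) :=
  epi_of_fppf_left _ (fppf_tensorHom_left (q ⊗ₘ q) q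
    (fppf_tensorHom_left q q (fppf_q i q hq) (fppf_q i q hq)) (fppf_q i q hq))

/-- the group structure on the quotient by a normal subgroup. -/
theorem exists_grpObj (i : H ⟶ G) [IsMonHom i] (hn : AlgGrp.IsNormalHom i)
    (q : G ⟶ Q) (hq : RedSub.IsQuotient i q) :
    ∃ s : GrpObj Q, @IsMonHom (Over S) _ _ G Q _ s.toMonObj q := by
  obtain ⟨m, hm⟩ := exists_mul i hn q hq
  obtain ⟨v, hv⟩ := exists_inv i hn q hq
  haveI := epi_q i q hq
  haveI := epi_tensorHom_q i q hq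
  haveI := epi_q3 i q hq
  haveI := epi_q_whiskerRight i q hq
  haveI := epi_q_whiskerLeft i q hq
  let sM : MonObj Q :=
    { one := η[G] ≫ q
      mul := m
      one_mul := by
        rw [← cancel_epi (𝟙_ (Over S) ◁ q)]
        have : (𝟙_ (Over S) ◁ q) ≫ ((η[G] ≫ q) ▷ Q) = (η[G] ▷ G) ≫ (q ⊗ₘ q) := by
          rw [tensorHom_def, ← comp_whiskerRight_assoc, whisker_exchange]
        rw [← Category.assoc, this, Category.assoc, hm, ← Category.assoc, MonObj.one_mul]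
        simp
      mul_one := by
        rw [← cancel_epi (q ▷ 𝟙_ (Over S))]
        have : (q ▷ 𝟙_ (Over S)) ≫ (Q ◁ (η[G] ≫ q)) = (G ◁ η[G]) ≫ (q ⊗ₘ q) := by
          rw [tensorHom_def', ← whiskerLeft_comp_assoc, ← whisker_exchange]
        rw [← Category.assoc, this, Category.assoc, hm, ← Category.assoc, MonObj.mul_one]
        simp
      mul_assoc := by
        rw [← cancel_epi ((q ⊗ₘ q) ⊗ₘ q)]
        have h1 : ((q ⊗ₘ q) ⊗ₘ q) ≫ (m ▷ Q) = (μ[G] ▷ G) ≫ (q ⊗ₘ q) := by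
          rw [← tensorHom_id, ← tensorHom_id, tensorHom_comp_tensorHom, tensorHom_comp_tensorHom,
            hm, Category.comp_id, Category.id_comp]
        have h2 : ((q ⊗ₘ q) ⊗ₘ q) ≫ (α_ Q Q Q).hom ≫ (Q ◁ m) =
            (α_ G G G).hom ≫ (G ◁ μ[G]) ≫ (q ⊗ₘ q) := by
          rw [← Category.assoc, associator_naturality, Category.assoc, ← id_tensorHom,
            ← id_tensorHom, tensorHom_comp_tensorHom, tensorHom_comp_tensorHom, hm,
            Category.comp_id, Category.id_comp]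
        have h2' := h2 =≫ m
        simp only [Category.assoc] at h2'
        rw [reassoc_of% h1, hm, h2', hm, MonObj.mul_assoc_assoc] }
  let sG : GrpObj Q :=
    { sM with
      inv := v
      left_inv := by
        rw [← cancel_epi q]
        change q ≫ lift v (𝟙 Q) ≫ m = q ≫ toUnit Q ≫ η[G] ≫ q
        have e : q ≫ lift v (𝟙 Q) = lift ι[G] (𝟙 G) ≫ (q ⊗ₘ q) := by
          apply CartesianMonoidalCategory.hom_ext <;> simp [hv]
        rw [reassoc_of% e, hm, GrpObj.left_inv_assoc, ← Category.assoc q, toUnit_unique (q ≫ toUnit Q) (toUnit G)]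
      right_inv := by
        rw [← cancel_epi q]
        change q ≫ lift (𝟙 Q) v ≫ m = q ≫ toUnit Q ≫ η[G] ≫ q
        have e : q ≫ lift (𝟙 Q) v = lift (𝟙 G) ι[G] ≫ (q ⊗ₘ q) := by
          apply CartesianMonoidalCategory.hom_ext <;> simp [hv]
        rw [reassoc_of% e, hm, GrpObj.right_inv_assoc, ← Category.assoc q, toUnit_unique (q ≫ toUnit Q) (toUnit G)] }
  refine ⟨sG, ?_⟩
  exact @IsMonHom.mk (Over S) _ _ G Q _ sG.toMonObj q rfl hm.symm

theorem grpObj_unique (i : H ⟶ G) (q : G ⟶ Q) (hq : RedSub.IsQuotient i q)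
    (s₁ s₂ : GrpObj Q) (h₁ : @IsMonHom (Over S) _ _ G Q _ s₁.toMonObj q)
    (h₂ : @IsMonHom (Over S) _ _ G Q _ s₂.toMonObj q) : s₁ = s₂ := by
  haveI := epi_tensorHom_q i q hq
  apply GrpObj.ext
  apply MonObj.ext
  rw [← cancel_epi (q ⊗ₘ q)]
  exact ((@IsMonHom.mul_hom (Over S) _ _ G Q _ s₁.toMonObj q h₁).symm).trans
    (@IsMonHom.mul_hom (Over S) _ _ G Q _ s₂.toMonObj q h₂)

theorem existsUnique_grpObj (i : H ⟶ G) [IsMonHom i] (hn : AlgGrp.IsNormalHom i)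
    (q : G ⟶ Q) (hq : RedSub.IsQuotient i q) :
    ∃! s : GrpObj Q, @IsMonHom (Over S) _ _ G Q _ s.toMonObj q := by
  obtain ⟨s, hs⟩ := exists_grpObj i hn q hq
  exact ⟨s, hs, fun s' hs' => grpObj_unique i q hq s' s hs' hs⟩

end Groth.Agent.Lib.Helper78.GrpQuot
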