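import Mathlib
import Groth.Agent.Lib.Helper78.FinLocus
import Groth.Agent.S1124
import Groth.Agent.S3426
import Groth.Agent.S9193

/-!
# The locus of immersive fibre maps (EGA IV 9.6.1 (iv)) — helper78

For `X ⟶ Y ⟶ S` of finite presentation, the set of `s ∈ S` over which the fibre map
`X_s ⟶ Y_s` is an immersion is locally constructible.  Ind-constructibility comes from descent of
quasi-compact immersions (S1124) and the limit statement S9193; for the other half, with
`Z = f(X)` and `U` the complement of the closure of `closure Z \ Z`, an immersive fibre map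
restricts to a finite one over `U`, which reduces to the finite locus (`FinLocus`), the
monomorphism locus (S3426) and the locus of locally closed fibre traces (`FibClosure`).
-/

set_option autoImplicit false
set_option linter.style.haveILetI false
open CategoryTheory AlgebraicGeometry CategoryTheory.Limits Topology
universe u

namespace Groth.Agent.Lib.Helper78.ImmLocus

open Groth.Agent.Lib.Helper78.FibClosure Groth.Agent.Lib.Helper78.FibClosureMor
  Groth.Agent.Lib.Helper78.GeomPair Groth.Agent.Lib.Helper78.FibreCons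
  Groth.Agent.Lib.Helper78.ConsMor Groth.Agent.Lib.Helper78.GeomMor
  Groth.Agent.Lib.Helper78.ConsOne Groth.Agent.Lib.Helper78.FinLocus

/-! ### part 1 -/

/-- quasi-compact immersions -/
abbrev QImm : MorphismProperty Scheme.{u} := @IsImmersion ⊓ @QuasiCompact

theorem bc_qImm : BC QImm.{u} :=
  haveI : QImm.{u}.IsStableUnderBaseChange := MorphismProperty.IsStableUnderBaseChange.inf
  BC.of_isStableUnderBaseChange _

theorem fpqcDescends_qImm : FpqcDescends QImm.{u} :=
  haveI := Groth.Agent.S1124.result.{u}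
  FpqcDescends.of_descendsAlong _

theorem descends_qImm : Descends QImm.{u} := by
  intro I _ _ D c hc _ i₀ _ _ X₀ Y₀ f₀ g₀ _ _ _ _ _ _ X Y f g qY qX hY hX hf
  have : IsImmersion f := hf.1
  have : CompactSpace ↥Y₀ := QuasiCompact.compactSpace_of_compactSpace g₀
  have : QuasiSeparatedSpace ↥Y₀ := quasiSeparatedSpace_of_quasiSeparated g₀
  have : CompactSpace ↥X₀ := QuasiCompact.compactSpace_of_compactSpace (f₀ ≫ g₀)
  have : QuasiSeparatedSpace ↥X₀ := quasiSeparatedSpace_of_quasiSeparated (f₀ ≫ g₀)
  have : LocallyOfFiniteType f₀ := locallyOfFiniteType_of_comp f₀ g₀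
  obtain ⟨i, φ, Xi, Yi, fi, gi, pY, pX, h1, h2, h3⟩ :=
    Groth.Agent.S9193.result D c hc i₀ f₀ g₀ f g qY qX hY hX
  refine ⟨i, φ, Xi, Yi, fi, gi, pY, pX, h1, h2, h3, ?_⟩
  haveI : QuasiCompact (fi ≫ gi) :=
    MorphismProperty.of_isPullback (P := @QuasiCompact) (h2.paste_vert h1) inferInstance
  haveI : QuasiSeparated gi :=
    MorphismProperty.of_isPullback (P := @QuasiSeparated) h1 inferInstance
  exact QuasiCompact.of_comp fi gi

theorem isFieldStableMor_qImm : ConsProp.IsFieldStableMor (PM QImm.{u}) :=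
  isFieldStableMor_PM bc_qImm fpqcDescends_qImm

theorem isIndConsMor_qImm : ConsProp.IsIndConsMor (PM QImm.{u}) :=
  isIndConsMor_PM bc_qImm fpqcDescends_qImm descends_qImm

/-- the generic point lies in every nonempty open -/
theorem genericPoint_mem_of_isOpen {S : Scheme.{u}} [IsIntegral S] {V : Set S} (hV : IsOpen V)
    (hne : V.Nonempty) : genericPoint S ∈ V := by
  rw [(genericPoint_spec S).mem_open_set_iff hV]
  simpa using hne

/-- the trace of a constructible set `Z` on the generic fibre, if locally closed there, lies in the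
open complement of the closure of the border of `Z` -/
theorem trace_subset_compl_closure_border {Y S : Scheme.{u}} (g : Y ⟶ S) [IsIntegral S]
    [IsNoetherian S] [LocallyOfFiniteType g] [QuasiCompact g] {Z : Set Y} (hZ : IsConstructible Z)
    (hlc : IsLocallyClosed (Subtype.val ⁻¹' Z : Set ↥(g.base ⁻¹' {genericPoint S}))) :
    Z ∩ g.base ⁻¹' {genericPoint S} ⊆ (closure (closure Z \ Z))ᶜ := by
  haveI : IsNoetherian Y := noetherianSpace_of_finiteType g
  have hcl : IsConstructible (closure Z) :=
    (ConsNoeth.isConstructible_of_isOpen_noeth isClosed_closure.isOpen_compl).of_compl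
  obtain ⟨V₁, hV₁, hne₁, h₁⟩ := closureGood_of_isConstructible g hZ
  obtain ⟨V₂, hV₂, hne₂, h₂⟩ := closureGood_of_isConstructible g (hcl.sdiff hZ)
  have hη₁ := genericPoint_mem_of_isOpen hV₁ hne₁
  have hη₂ := genericPoint_mem_of_isOpen hV₂ hne₂
  set R := g.base ⁻¹' {genericPoint S} with hR
  -- the border is closed in the generic fibre
  have hB : IsClosed (Subtype.val ⁻¹' (closure Z \ Z) : Set ↥R) := by
    rw [isLocallyClosed_iff_isClosed_closure_diff] at hlc
    have : closure (Subtype.val ⁻¹' Z : Set ↥R) \ (Subtype.val ⁻¹' Z) =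
        Subtype.val ⁻¹' (closure Z \ Z) := by
      rw [IsInducing.subtypeVal.closure_eq_preimage_closure_image, Subtype.image_preimage_coe,
        ← Set.preimage_sdiff]
      ext ⟨x, hx⟩
      simp only [Set.mem_preimage, Set.mem_sdiff]
      constructor
      · rintro ⟨h1, h2⟩
        exact ⟨closure_mono Set.inter_subset_right h1, h2⟩
      · rintro ⟨h1, h2⟩
        refine ⟨?_, h2⟩
        rw [Set.inter_comm]
        exact h₁ _ hη₁ ⟨h1, hx⟩
    rwa [this] at hlc
  rw [subtype_isClosed_iff] at hB
  rintro y ⟨hyZ, hyR⟩ hy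
  have h3 : y ∈ closure ((closure Z \ Z) ∩ R) := h₂ _ hη₂ ⟨hy, hyR⟩
  exact (hB ⟨h3, hyR⟩).2 hyZ

/-! ### part 2 -/

theorem quasiCompact_fiberMap {X Y S : Scheme.{u}} (f : X ⟶ Y) (g : Y ⟶ S)
    [QuasiCompact (f ≫ g)] [QuasiSeparated g] (s : S) :
    QuasiCompact (MoreMor.fiberMap f g s) := by
  haveI : QuasiCompact (MoreMor.fiberMap f g s ≫ g.fiberToSpecResidueField s) := by
    rw [fiberMap_toSpec]; infer_instance
  haveI : QuasiSeparated (g.fiberToSpecResidueField s) :=
    MorphismProperty.of_isPullback (P := @QuasiSeparated)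
      (IsPullback.of_hasPullback g (S.fromSpecResidueField s)) inferInstance
  exact QuasiCompact.of_comp _ (g.fiberToSpecResidueField s)

/-- if `f(X) ∩ U` is closed in `U`, every immersive fibre map restricts to a finite fibre map
over `U` -/
theorem locusMor_qImm_subset_isFinite_restrict {X Y S : Scheme.{u}} (f : X ⟶ Y) (g : Y ⟶ S)
    (U : Y.Opens) (hU : closure (Set.range f.base) ∩ U ⊆ Set.range f.base) :
    ConsProp.locusMor (PM QImm.{u}) f g ⊆
      ConsProp.locusMor (PM @IsFinite) (f ∣_ U) (U.ι ≫ g) := by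
  intro s hs
  have h1 : QImm (MoreMor.fiberMap (f ∣_ U) (U.ι ≫ g) s) :=
    locusMor_subset_restrict bc_qImm f g U hs
  haveI : IsImmersion (MoreMor.fiberMap (f ∣_ U) (U.ι ≫ g) s) := h1.1
  show IsFinite (MoreMor.fiberMap (f ∣_ U) (U.ι ≫ g) s)
  have hr : Set.range (f ∣_ U).base = U.ι.base ⁻¹' closure (Set.range f.base) := by
    rw [range_of_isPullback (isPullback_morphismRestrict f U).flip]
    ext y
    constructor
    · intro hy
      exact subset_closure hy
    · intro hy
      refine hU ⟨hy, ?_⟩
      have h3 : U.ι.base y ∈ Set.range U.ι.base := ⟨y, rfl⟩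
      rw [Scheme.Opens.range_ι] at h3
      exact h3
  have hc : IsClosed (Set.range (MoreMor.fiberMap (f ∣_ U) (U.ι ≫ g) s).base) := by
    rw [range_fiberMap, hr]
    exact (isClosed_closure.preimage U.ι.continuous).preimage
      ((U.ι ≫ g).fiberι s).continuous
  haveI : IsClosedImmersion (MoreMor.fiberMap (f ∣_ U) (U.ι ≫ g) s) :=
    IsClosedImmersion.of_isPreimmersion _ hc
  infer_instance

/-- if the fibre of `X` over `s` lies over `U`, the fibre map is a monomorphism and its restriction
over `U` is finite, then the fibre map is an immersion -/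
theorem isImmersion_fiberMap_of_restrict {X Y S : Scheme.{u}} (f : X ⟶ Y) (g : Y ⟶ S)
    (U : Y.Opens) (s : S) (hU : Set.range f.base ∩ g.base ⁻¹' {s} ⊆ U)
    [Mono (MoreMor.fiberMap f g s)] [IsFinite (MoreMor.fiberMap (f ∣_ U) (U.ι ≫ g) s)] :
    IsImmersion (MoreMor.fiberMap f g s) := by
  obtain ⟨n, hn⟩ := exists_isPullback_fiberMap_restrict f g U s
  haveI : IsOpenImmersion (MoreMor.fiberMap U.ι g s) :=
    MorphismProperty.of_isPullback (P := @IsOpenImmersion) (isPullback_fiberMap U.ι g s)
      inferInstance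
  haveI : IsOpenImmersion n :=
    MorphismProperty.of_isPullback (P := @IsOpenImmersion) hn.flip inferInstance
  haveI : Surjective n := by
    rw [surjective_iff, ← Set.range_eq_univ, range_fst_of_isPullback hn, range_fiberMap,
      Set.eq_univ_iff_forall]
    intro x
    show (g.fiberι s).base ((MoreMor.fiberMap f g s).base x) ∈ Set.range U.ι.base
    rw [← Scheme.Hom.comp_apply, fiberMap_fiberι, Scheme.Opens.range_ι, Scheme.Hom.comp_apply]
    refine hU ⟨⟨_, rfl⟩, ?_⟩
    show g.base (f.base (((f ≫ g).fiberι s).base x)) = s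
    rw [← Scheme.Hom.comp_apply]
    have h2 : ((f ≫ g).fiberι s).base x ∈ Set.range ((f ≫ g).fiberι s).base := ⟨_, rfl⟩
    rw [(f ≫ g).range_fiberι s] at h2
    exact h2
  haveI : IsIso n := (isIso_iff_isOpenImmersion_and_surjective n).mpr ⟨inferInstance, inferInstance⟩
  haveI : Mono (MoreMor.fiberMap (f ∣_ U) (U.ι ≫ g) s) :=
    MorphismProperty.of_isPullback (P := MorphismProperty.monomorphisms Scheme.{u}) hn
      (MorphismProperty.monomorphisms.infer_property _)
  haveI : IsClosedImmersion (MoreMor.fiberMap (f ∣_ U) (U.ι ≫ g) s) :=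
    (IsClosedImmersion.iff_isFinite_and_mono _).mpr ⟨inferInstance, inferInstance⟩
  have e : MoreMor.fiberMap f g s =
      inv n ≫ MoreMor.fiberMap (f ∣_ U) (U.ι ≫ g) s ≫ MoreMor.fiberMap U.ι g s := by
    rw [IsIso.eq_inv_comp]
    exact hn.w
  rw [e]
  infer_instance

/-! ### part 3 -/

theorem isLocallyClosed_preimage_iff_subtype {F W : Type*} [TopologicalSpace F]
    [TopologicalSpace W] {m : F → W} (hm : IsEmbedding m) {R : Set W} (hR : Set.range m = R)
    (A : Set W) :
    IsLocallyClosed (m ⁻¹' A) ↔ IsLocallyClosed (Subtype.val ⁻¹' A : Set ↥R) := by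
  subst hR
  have e : m ⁻¹' A = hm.toHomeomorph ⁻¹' (Subtype.val ⁻¹' A : Set ↥(Set.range m)) := rfl
  constructor
  · intro h
    have h2 : (Subtype.val ⁻¹' A : Set ↥(Set.range m)) = hm.toHomeomorph.symm ⁻¹' (m ⁻¹' A) := by
      rw [e, ← Set.preimage_comp]
      simp
    rw [h2]
    exact h.preimage hm.toHomeomorph.symm.continuous
  · intro h
    rw [e]
    exact h.preimage hm.toHomeomorph.continuous

/-- the range of an immersive fibre map is locally closed in the topological fibre -/
theorem locusMor_qImm_subset_lc {X Y S : Scheme.{u}} (f : X ⟶ Y) (g : Y ⟶ S) :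
    ConsProp.locusMor (PM QImm.{u}) f g ⊆
      fibLocus ΦLC g (Set.range f.base) (Set.range f.base) := by
  intro s hs
  haveI : IsImmersion (MoreMor.fiberMap f g s) := hs.1
  have h1 := (MoreMor.fiberMap f g s).isLocallyClosed_range
  rw [range_fiberMap] at h1
  exact (isLocallyClosed_preimage_iff_subtype (g.fiberι s).isEmbedding (g.range_fiberι s) _).mp h1

theorem locusMor_qImm_subset_mono {X Y S : Scheme.{u}} (f : X ⟶ Y) (g : Y ⟶ S) :
    ConsProp.locusMor (PM QImm.{u}) f g ⊆ {s : S | Mono (MoreMor.fiberMap f g s)} := by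
  intro s hs
  haveI : IsImmersion (MoreMor.fiberMap f g s) := hs.1
  show Mono (MoreMor.fiberMap f g s)
  infer_instance

theorem interior_compl_of_subset {S : Scheme.{u}} [IsIntegral S] {E C : Set S}
    (hC : IsConstructible C) (hEC : E ⊆ C) (hη : genericPoint S ∉ C) :
    (interior Eᶜ).Nonempty := by
  have h1 : (interior Cᶜ).Nonempty :=
    interior_nonempty_of_genericPoint_mem
      (Groth.Agent.Lib.Helper36.isIndConstructible_of_isLocallyConstructible
        hC.compl.isLocallyConstructible) hη
  exact h1.mono (interior_mono (Set.compl_subset_compl.mpr hEC))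

/-- the second half of the dichotomy for immersions -/
theorem interior_compl_qImm {X Y S : Scheme.{u}} (f : X ⟶ Y) (g : Y ⟶ S)
    [IsIntegral S] [IsNoetherian S]
    [LocallyOfFiniteType g] [QuasiCompact g] [LocallyOfFiniteType (f ≫ g)]
    [QuasiCompact (f ≫ g)]
    (hη : genericPoint S ∉ ConsProp.locusMor (PM QImm.{u}) f g) :
    (interior (ConsProp.locusMor (PM QImm.{u}) f g)ᶜ).Nonempty := by
  haveI : IsNoetherian Y := noetherianSpace_of_finiteType g
  haveI : IsNoetherian X := noetherianSpace_of_finiteType (f ≫ g)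
  haveI : QuasiSeparated g := QuasiSeparated.of_quasiSeparatedSpace g
  haveI : QuasiSeparated (f ≫ g) := QuasiSeparated.of_quasiSeparatedSpace (f ≫ g)
  have hM : IsLocallyConstructible {s : S | Mono (MoreMor.fiberMap f g s)} :=
    Groth.Agent.S3426.result f g
  haveI : LocallyOfFiniteType f := locallyOfFiniteType_of_comp f g
  haveI : QuasiCompact f := QuasiCompact.of_comp f g
  have hZ : IsConstructible (Set.range f.base) := by
    rw [← Set.image_univ]
    exact f.isConstructible_image IsConstructible.univ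
  have hL : IsConstructible (fibLocus ΦLC g (Set.range f.base) (Set.range f.base)) :=
    isConstructible_fibLocus_noeth isFibInvariant_lc hasDichotomy_lc g hZ hZ
  by_cases hηM : genericPoint S ∈ {s : S | Mono (MoreMor.fiberMap f g s)}
  swap
  · exact interior_compl_of_subset hM.isConstructible (locusMor_qImm_subset_mono f g) hηM
  by_cases hηL : genericPoint S ∈ fibLocus ΦLC g (Set.range f.base) (Set.range f.base)
  swap
  · exact interior_compl_of_subset hL (locusMor_qImm_subset_lc f g) hηL
  -- the main case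
  set Z := Set.range f.base with hZdef
  let U : Y.Opens := ⟨(closure (closure Z \ Z))ᶜ, isClosed_closure.isOpen_compl⟩
  have h1 : Z ∩ g.base ⁻¹' {genericPoint S} ⊆ U :=
    trace_subset_compl_closure_border g hZ hηL
  have h2 : closure Z ∩ U ⊆ Z := by
    rintro y ⟨hy1, hy2⟩
    by_contra hy
    exact hy2 (subset_closure ⟨hy1, hy⟩)
  have h3 := locusMor_qImm_subset_isFinite_restrict f g U h2
  have e : (f ∣_ U) ≫ U.ι ≫ g = (f ⁻¹ᵁ U).ι ≫ f ≫ g := by
    rw [← Category.assoc, morphismRestrict_ι, Category.assoc]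
  haveI : QuasiCompact (U.ι ≫ g) := inferInstance
  haveI : LocallyOfFiniteType ((f ∣_ U) ≫ U.ι ≫ g) := by rw [e]; infer_instance
  haveI : QuasiCompact ((f ∣_ U) ≫ U.ι ≫ g) := by rw [e]; infer_instance
  have hη' : genericPoint S ∉ ConsProp.locusMor (PM @IsFinite) (f ∣_ U) (U.ι ≫ g) := by
    intro hfin
    haveI : IsFinite (MoreMor.fiberMap (f ∣_ U) (U.ι ≫ g) (genericPoint S)) := hfin
    haveI : Mono (MoreMor.fiberMap f g (genericPoint S)) := hηM
    exact hη ⟨isImmersion_fiberMap_of_restrict f g U _ h1, quasiCompact_fiberMap f g _⟩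
  exact (interior_compl_isFinite (f ∣_ U) (U.ι ≫ g) hη').mono
    (interior_mono (Set.compl_subset_compl.mpr h3))

/-- **EGA IV 9.6.1 (iv): being a (quasi-compact) immersion is a constructible property of
morphisms.** -/
theorem isConsMor_qImm : ConsProp.IsConsMor (PM QImm.{u}) := by
  refine ⟨isFieldStableMor_qImm, ?_⟩
  intro X Y S f g _ _ _ _ _ _
  by_cases hη : genericPoint S ∈ ConsProp.locusMor (PM QImm.{u}) f g
  · left
    exact isIndConsMor_qImm.2 f g hη
  · right
    exact interior_compl_qImm f g hη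

theorem isLocallyConstructible_setOf_isImmersion {X Y S : Scheme.{u}} (f : X ⟶ Y) (g : Y ⟶ S)
    [LocallyOfFinitePresentation g] [QuasiCompact g] [QuasiSeparated g]
    [LocallyOfFinitePresentation (f ≫ g)] [QuasiCompact (f ≫ g)] [QuasiSeparated (f ≫ g)] :
    IsLocallyConstructible {s : S | IsImmersion (MoreMor.fiberMap f g s)} := by
  have h := isLocallyConstructible_locusMor isConsMor_qImm f g
  convert h using 1
  ext s
  exact ⟨fun h => ⟨h, quasiCompact_fiberMap f g s⟩, fun h => h.1⟩

end Groth.Agent.Lib.Helper78.ImmLocus
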