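import Groth.Prelude.Def_LiftSq

/-!
# 2-categorical lifting squares: stability under composition (helper78)

Generic lemmas about `LiftSq.LiftsUniquely`.
-/

set_option autoImplicit false

universe v₆ u₆ v₅ u₅ v₄ u₄ v₃ u₃ v₂ u₂ v u

open CategoryTheory

namespace Groth.Agent.Lib.Helper78.LiftSqLib

variable {C : Type u} [Category.{v} C]
  {𝒜 : BasedCategory.{v₂, u₂} C} {ℬ : BasedCategory.{v₃, u₃} C}
  {𝒳 : BasedCategory.{v₄, u₄} C} {𝒴 : BasedCategory.{v₅, u₅} C} {𝒵 : BasedCategory.{v₆, u₆} C}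

/-- component of a 2-morphism -/
abbrev app {F G : 𝒳 ⥤ᵇ 𝒴} (α : F ⟶ G) (x : 𝒳.obj) : F.obj x ⟶ G.obj x := α.toNatTrans.app x

theorem ext_app {F G : 𝒳 ⥤ᵇ 𝒴} {α β : F ⟶ G} (h : ∀ x, app α x = app β x) : α = β := by
  apply BasedNatTrans.homCategory.ext; ext x; exact h x

@[simp] theorem app_comp {F G H : 𝒳 ⥤ᵇ 𝒴} (α : F ⟶ G) (β : G ⟶ H) (x : 𝒳.obj) :
    app (α ≫ β) x = app α x ≫ app β x := rfl

@[simp] theorem app_id (F : 𝒳 ⥤ᵇ 𝒴) (x : 𝒳.obj) : app (𝟙 F) x = 𝟙 (F.obj x) := rfl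

@[simp] theorem app_whiskerLeft (F : 𝒜 ⥤ᵇ ℬ) {G H : ℬ ⥤ᵇ 𝒳} (α : G ⟶ H) (x : 𝒜.obj) :
    app (BasedCategory.whiskerLeft F α) x = app α (F.obj x) := rfl

@[simp] theorem app_whiskerRight {F G : 𝒜 ⥤ᵇ ℬ} (α : F ⟶ G) (H : ℬ ⥤ᵇ 𝒳) (x : 𝒜.obj) :
    app (BasedCategory.whiskerRight α H) x = H.map (app α x) := rfl

@[reassoc (attr := simp)] theorem hom_inv_app {F G : 𝒳 ⥤ᵇ 𝒴} (e : F ≅ G) (x : 𝒳.obj) :
    app e.hom x ≫ app e.inv x = 𝟙 _ := by
  rw [← app_comp, e.hom_inv_id, app_id]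

@[reassoc (attr := simp)] theorem inv_hom_app {F G : 𝒳 ⥤ᵇ 𝒴} (e : F ≅ G) (x : 𝒳.obj) :
    app e.inv x ≫ app e.hom x = 𝟙 _ := by
  rw [← app_comp, e.inv_hom_id, app_id]

@[reassoc] theorem app_naturality {F G : 𝒳 ⥤ᵇ 𝒴} (α : F ⟶ G) {x y : 𝒳.obj} (m : x ⟶ y) :
    F.map m ≫ app α y = app α x ≫ G.map m := α.toNatTrans.naturality m

/-- right whiskering of a 2-isomorphism -/
@[simps] def wRIso {F G : 𝒜 ⥤ᵇ ℬ} (e : F ≅ G) (H : ℬ ⥤ᵇ 𝒳) :
    BasedFunctor.comp F H ≅ BasedFunctor.comp G H where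
  hom := BasedCategory.whiskerRight e.hom H
  inv := BasedCategory.whiskerRight e.inv H
  hom_inv_id := by rw [← LiftSq.whiskerRight_comp', e.hom_inv_id, LiftSq.whiskerRight_id']
  inv_hom_id := by rw [← LiftSq.whiskerRight_comp', e.inv_hom_id, LiftSq.whiskerRight_id']

/-- left whiskering of a 2-isomorphism -/
@[simps] def wLIso (F : 𝒜 ⥤ᵇ ℬ) {G H : ℬ ⥤ᵇ 𝒳} (e : G ≅ H) :
    BasedFunctor.comp F G ≅ BasedFunctor.comp F H where
  hom := BasedCategory.whiskerLeft F e.hom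
  inv := BasedCategory.whiskerLeft F e.inv
  hom_inv_id := by rw [← LiftSq.whiskerLeft_comp', e.hom_inv_id, LiftSq.whiskerLeft_id']
  inv_hom_id := by rw [← LiftSq.whiskerLeft_comp', e.inv_hom_id, LiftSq.whiskerLeft_id']

theorem eq_of_comp_id {D : Type*} [Category D] {X Y : D} {a : X ⟶ Y} {b : Y ⟶ X} {c : X ⟶ Y}
    (h1 : a ≫ b = 𝟙 X) (h2 : b ≫ c = 𝟙 Y) : c = a := by
  calc c = (a ≫ b) ≫ c := by rw [h1, Category.id_comp]
    _ = a := by rw [Category.assoc, h2, Category.comp_id]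

section Comp

variable {j : 𝒜 ⥤ᵇ ℬ} {f : 𝒳 ⥤ᵇ 𝒴} {g : 𝒴 ⥤ᵇ 𝒵}

/-- the `g`-square induced by a square against `f ⋙ g` -/
abbrev sqG (sq : LiftSq.Sq j (BasedFunctor.comp f g)) : LiftSq.Sq j g where
  top := BasedFunctor.comp sq.top f
  bot := sq.bot
  iso := sq.iso

/-- a lift of `sq` induces a lift of `sqG sq` -/
def liftG {sq : LiftSq.Sq j (BasedFunctor.comp f g)} (d : sq.Lift) : (sqG sq).Lift where
  fn := BasedFunctor.comp d.fn f
  isoTop := wRIso d.isoTop f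
  isoBot := d.isoBot
  w := by
    apply ext_app; intro a
    exact congr_arg (fun α => app α a) d.w

/-- a morphism of lifts of `sq` induces a morphism of lifts of `sqG sq` -/
def homG {sq : LiftSq.Sq j (BasedFunctor.comp f g)} {d d' : sq.Lift} (ζ : d ⟶ d') :
    liftG d ⟶ liftG d' where
  hom := BasedCategory.whiskerRight ζ.hom f
  w_top := by
    apply ext_app; intro a
    have := congr_arg (fun α => f.map (app α a)) ζ.w_top
    exact (f.map_comp _ _).symm.trans this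
  w_bot := by
    apply ext_app; intro a
    exact congr_arg (fun α => app α a) ζ.w_bot

/-- the `f`-square with top `sq.top` and bottom `l ⋙ f` for a lift `l` of `sqG sq`. -/
abbrev sqF {sq : LiftSq.Sq j (BasedFunctor.comp f g)} (l : (sqG sq).Lift) : LiftSq.Sq j f where
  top := sq.top
  bot := l.fn
  iso := l.isoTop

theorem lifts_comp (hf : LiftSq.Lifts j f) (hg : LiftSq.Lifts j g) :
    LiftSq.Lifts j (BasedFunctor.comp f g) := by
  intro sq
  obtain ⟨l1⟩ := hg (sqG sq)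
  obtain ⟨l2⟩ := hf (sqF l1)
  refine ⟨⟨l2.fn, l2.isoTop, l1.isoBot ≪≫ wRIso l2.isoBot g, ?_⟩⟩
  apply ext_app; intro a
  have h1 : app l1.isoBot.hom (j.obj a) ≫ g.map (app l1.isoTop.hom a) = app sq.iso.hom a :=
    congr_arg (fun α => app α a) l1.w
  have h2 : g.map (app l2.isoBot.hom (j.obj a) ≫ f.map (app l2.isoTop.hom a)) =
      g.map (app l1.isoTop.hom a) :=
    congr_arg (fun α => g.map (app α a)) l2.w
  show (app l1.isoBot.hom (j.obj a) ≫ g.map (app l2.isoBot.hom (j.obj a))) ≫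
    g.map (f.map (app l2.isoTop.hom a)) = app sq.iso.hom a
  exact (Category.assoc _ _ _).trans
    ((congr_arg (app l1.isoBot.hom (j.obj a) ≫ ·) ((g.map_comp _ _).symm.trans h2)).trans h1)

theorem liftsUnique_comp (hf : LiftSq.LiftsUnique j f) (hg : LiftSq.LiftsUnique j g) :
    LiftSq.LiftsUnique j (BasedFunctor.comp f g) := by
  intro sq d d'
  obtain ⟨u1⟩ := hg (sqG sq) (liftG d) (liftG d')
  obtain ⟨u2⟩ := hg (sqG sq) (liftG d') (liftG d)
  obtain ⟨u3⟩ := hg (sqG sq) (liftG d') (liftG d')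
  obtain ⟨u4⟩ := hg (sqG sq) (liftG d) (liftG d)
  let θ : liftG d ⟶ liftG d' := u1.default
  let θ' : liftG d' ⟶ liftG d := u2.default
  have h1 : θ'.hom ≫ θ.hom = 𝟙 _ :=
    congr_arg LiftSq.Sq.Lift.Hom.hom ((u3.uniq (θ' ≫ θ)).trans (u3.uniq (𝟙 _)).symm)
  have h2 : θ.hom ≫ θ'.hom = 𝟙 _ :=
    congr_arg LiftSq.Sq.Lift.Hom.hom ((u4.uniq (θ ≫ θ')).trans (u4.uniq (𝟙 _)).symm)
  let θiso : BasedFunctor.comp d.fn f ≅ BasedFunctor.comp d'.fn f := ⟨θ.hom, θ'.hom, h2, h1⟩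
  let e' : (sqF (liftG d')).Lift :=
    { fn := d'.fn
      isoTop := d'.isoTop
      isoBot := Iso.refl _
      w := by
        apply ext_app; intro a
        exact Category.id_comp _ }
  let e : (sqF (liftG d')).Lift :=
    { fn := d.fn
      isoTop := d.isoTop
      isoBot := θiso.symm
      w := θ'.w_top }
  obtain ⟨u5⟩ := hf (sqF (liftG d')) e e'
  let η : e ⟶ e' := u5.default
  have hη : BasedCategory.whiskerRight η.hom f = θ.hom := by
    have hb : θ'.hom ≫ BasedCategory.whiskerRight η.hom f = 𝟙 _ := η.w_bot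
    exact eq_of_comp_id h2 hb
  let ζ : d ⟶ d' :=
    { hom := η.hom
      w_top := η.w_top
      w_bot := by
        have hb : d.isoBot.hom ≫ BasedCategory.whiskerRight θ.hom g = d'.isoBot.hom := θ.w_bot
        rw [← hη] at hb
        apply ext_app; intro a
        exact congr_arg (fun α => app α a) hb }
  refine ⟨⟨⟨ζ⟩, fun ζ' => ?_⟩⟩
  have hζ' : BasedCategory.whiskerRight ζ'.hom f = θ.hom :=
    congr_arg LiftSq.Sq.Lift.Hom.hom (u1.uniq (homG ζ'))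
  let η' : e ⟶ e' :=
    { hom := ζ'.hom
      w_top := ζ'.w_top
      w_bot := by
        show θ'.hom ≫ BasedCategory.whiskerRight ζ'.hom f = 𝟙 _
        exact (congr_arg (θ'.hom ≫ ·) hζ').trans h1 }
  apply LiftSq.Sq.Lift.hom_ext
  have h5 : η'.hom = η.hom := congr_arg LiftSq.Sq.Lift.Hom.hom (u5.uniq η')
  exact h5

theorem liftsUniquely_comp (hf : LiftSq.LiftsUniquely j f) (hg : LiftSq.LiftsUniquely j g) :
    LiftSq.LiftsUniquely j (BasedFunctor.comp f g) := fun sq =>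
  ⟨lifts_comp (fun s => (hf s).1) (fun s => (hg s).1) sq,
    liftsUnique_comp (fun s => (hf s).2) (fun s => (hg s).2) sq⟩

end Comp

end Groth.Agent.Lib.Helper78.LiftSqLib
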