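import Groth.Agent.Lib.Helper78.LiftSq
import Groth.Prelude.Def_FibCat2

/-!
# 2-categorical lifting squares: stability under base change along `FibCat.fpFst` (helper78)
-/

set_option autoImplicit false
set_option backward.isDefEq.respectTransparency false
set_option backward.isDefEq.respectTransparency.types false

universe v₆ u₆ v₅ u₅ v₄ u₄ v₃ u₃ v₂ u₂ v u

open CategoryTheory CategoryTheory.Limits

namespace Groth.Agent.Lib.Helper78.LiftSqLib

open FibCat

variable {C : Type u} [Category.{v} C]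
  {𝒳 : BasedCategory.{v₂, u₂} C} {𝒴 : BasedCategory.{v₃, u₃} C} {𝒮 : BasedCategory.{v₄, u₄} C}
  {𝒲 : BasedCategory.{v₅, u₅} C}

section Fp

variable (F : 𝒳 ⥤ᵇ 𝒮) (G : 𝒴 ⥤ᵇ 𝒮)

theorem fpIso_hom_app (x : (fp F G).obj) : app (fpIso F G).hom x = x.obj.iso.hom := rfl

theorem fpLift_fst (a : 𝒲 ⥤ᵇ 𝒳) (b : 𝒲 ⥤ᵇ 𝒴)
    (e : BasedFunctor.comp a F ≅ BasedFunctor.comp b G) :
    BasedFunctor.comp (fpLift a b e) (fpFst F G) = a := rfl

theorem fpLift_snd (a : 𝒲 ⥤ᵇ 𝒳) (b : 𝒲 ⥤ᵇ 𝒴)
    (e : BasedFunctor.comp a F ≅ BasedFunctor.comp b G) :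
    BasedFunctor.comp (fpLift a b e) (fpSnd F G) = b := rfl

variable {F G}

/-- 2-morphisms into the 2-fibre product from compatible pairs. -/
def fpHomMk {A B : 𝒲 ⥤ᵇ fp F G}
    (α₁ : BasedFunctor.comp A (fpFst F G) ⟶ BasedFunctor.comp B (fpFst F G))
    (α₂ : BasedFunctor.comp A (fpSnd F G) ⟶ BasedFunctor.comp B (fpSnd F G))
    (h : BasedCategory.whiskerRight α₁ F ≫ BasedCategory.whiskerLeft B (fpIso F G).hom =
      BasedCategory.whiskerLeft A (fpIso F G).hom ≫ BasedCategory.whiskerRight α₂ G) : A ⟶ B where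
  toNatTrans :=
    { app := fun w => ObjectProperty.homMk
        { fst := app α₁ w
          snd := app α₂ w
          w := congr_arg (fun α => app α w) h }
      naturality := fun w w' m => by
        apply ObjectProperty.hom_ext; apply CategoricalPullback.hom_ext
        · exact α₁.toNatTrans.naturality m
        · exact α₂.toNatTrans.naturality m }
  isHomLift' := fun w => by
    have inst : 𝒳.p.IsHomLift (𝟙 (𝒲.p.obj w)) (app α₁ w) := α₁.isHomLift' w
    exact IsHomLift.of_fac _ _ _ (IsHomLift.domain_eq 𝒳.p (𝟙 (𝒲.p.obj w)) (app α₁ w))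
      (IsHomLift.codomain_eq 𝒳.p (𝟙 (𝒲.p.obj w)) (app α₁ w))
      (IsHomLift.fac 𝒳.p (𝟙 (𝒲.p.obj w)) (app α₁ w))

theorem fpHomMk_fst {A B : 𝒲 ⥤ᵇ fp F G}
    (α₁ : BasedFunctor.comp A (fpFst F G) ⟶ BasedFunctor.comp B (fpFst F G))
    (α₂ : BasedFunctor.comp A (fpSnd F G) ⟶ BasedFunctor.comp B (fpSnd F G)) (h) :
    BasedCategory.whiskerRight (fpHomMk α₁ α₂ h) (fpFst F G) = α₁ := by
  apply ext_app; intro w; rfl

theorem fpHomMk_snd {A B : 𝒲 ⥤ᵇ fp F G}
    (α₁ : BasedFunctor.comp A (fpFst F G) ⟶ BasedFunctor.comp B (fpFst F G))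
    (α₂ : BasedFunctor.comp A (fpSnd F G) ⟶ BasedFunctor.comp B (fpSnd F G)) (h) :
    BasedCategory.whiskerRight (fpHomMk α₁ α₂ h) (fpSnd F G) = α₂ := by
  apply ext_app; intro w; rfl

theorem fpHom_ext {A B : 𝒲 ⥤ᵇ fp F G} {α β : A ⟶ B}
    (h1 : BasedCategory.whiskerRight α (fpFst F G) = BasedCategory.whiskerRight β (fpFst F G))
    (h2 : BasedCategory.whiskerRight α (fpSnd F G) = BasedCategory.whiskerRight β (fpSnd F G)) :
    α = β := by
  apply ext_app; intro w
  apply ObjectProperty.hom_ext; apply CategoricalPullback.hom_ext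
  · exact congr_arg (fun γ => app γ w) h1
  · exact congr_arg (fun γ => app γ w) h2

/-- compatibility of a 2-morphism into the fibre product with `fpIso`. -/
theorem fpIso_compat {A B : 𝒲 ⥤ᵇ fp F G} (α : A ⟶ B) :
    BasedCategory.whiskerRight (BasedCategory.whiskerRight α (fpFst F G)) F ≫
        BasedCategory.whiskerLeft B (fpIso F G).hom =
      BasedCategory.whiskerLeft A (fpIso F G).hom ≫
        BasedCategory.whiskerRight (BasedCategory.whiskerRight α (fpSnd F G)) G := by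
  apply ext_app; intro w
  exact (app α w).hom.w

theorem comm_inv {D : Type*} [Category D] {X X' Y Y' : D} {a : X ⟶ X'} {a' : X' ⟶ X}
    {b : X ⟶ Y} {b' : X' ⟶ Y'} {c : Y ⟶ Y'} {c' : Y' ⟶ Y}
    (ha : a' ≫ a = 𝟙 _) (hc : c ≫ c' = 𝟙 _) (h : a ≫ b' = b ≫ c) : a' ≫ b = b' ≫ c' := by
  calc a' ≫ b = a' ≫ b ≫ c ≫ c' := by rw [hc, Category.comp_id]
    _ = a' ≫ (a ≫ b') ≫ c' := by rw [h, Category.assoc]
    _ = b' ≫ c' := by rw [Category.assoc, ← Category.assoc, ha, Category.id_comp]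

/-- 2-isomorphisms into the 2-fibre product from compatible pairs of 2-isomorphisms. -/
def fpIsoMk {A B : 𝒲 ⥤ᵇ fp F G}
    (e₁ : BasedFunctor.comp A (fpFst F G) ≅ BasedFunctor.comp B (fpFst F G))
    (e₂ : BasedFunctor.comp A (fpSnd F G) ≅ BasedFunctor.comp B (fpSnd F G))
    (h : BasedCategory.whiskerRight e₁.hom F ≫ BasedCategory.whiskerLeft B (fpIso F G).hom =
      BasedCategory.whiskerLeft A (fpIso F G).hom ≫ BasedCategory.whiskerRight e₂.hom G) : A ≅ B where
  hom := fpHomMk e₁.hom e₂.hom h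
  inv := fpHomMk e₁.inv e₂.inv (by
    refine comm_inv (a := BasedCategory.whiskerRight e₁.hom F)
      (c := BasedCategory.whiskerRight e₂.hom G) ?_ ?_ h
    · rw [← LiftSq.whiskerRight_comp', e₁.inv_hom_id, LiftSq.whiskerRight_id']
    · rw [← LiftSq.whiskerRight_comp', e₂.hom_inv_id, LiftSq.whiskerRight_id'])
  hom_inv_id := by
    apply fpHom_ext
    · rw [LiftSq.whiskerRight_comp', fpHomMk_fst, fpHomMk_fst, e₁.hom_inv_id,
        LiftSq.whiskerRight_id']
    · rw [LiftSq.whiskerRight_comp', fpHomMk_snd, fpHomMk_snd, e₂.hom_inv_id,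
        LiftSq.whiskerRight_id']
  inv_hom_id := by
    apply fpHom_ext
    · rw [LiftSq.whiskerRight_comp', fpHomMk_fst, fpHomMk_fst, e₁.inv_hom_id,
        LiftSq.whiskerRight_id']
    · rw [LiftSq.whiskerRight_comp', fpHomMk_snd, fpHomMk_snd, e₂.inv_hom_id,
        LiftSq.whiskerRight_id']

end Fp

section BaseChange

variable {𝒜 : BasedCategory.{v₅, u₅} C} {ℬ : BasedCategory.{v₆, u₆} C}
  {j : 𝒜 ⥤ᵇ ℬ} (y : 𝒮 ⥤ᵇ 𝒴) (f : 𝒳 ⥤ᵇ 𝒴)

/-- the square against `f` induced by a square against `fpFst y f`. -/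
abbrev sqBC (sq : LiftSq.Sq j (fpFst y f)) : LiftSq.Sq j f where
  top := BasedFunctor.comp sq.top (fpSnd y f)
  bot := BasedFunctor.comp sq.bot y
  iso := wRIso sq.iso y ≪≫ wLIso sq.top (fpIso y f)

/-- a lift of `sq` induces a lift of `sqBC y f sq`. -/
def liftBC {sq : LiftSq.Sq j (fpFst y f)} (d : sq.Lift) : (sqBC y f sq).Lift where
  fn := BasedFunctor.comp d.fn (fpSnd y f)
  isoTop := wRIso d.isoTop (fpSnd y f)
  isoBot := wRIso d.isoBot y ≪≫ wLIso d.fn (fpIso y f)
  w := by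
    apply ext_app; intro a
    have h1 : app d.isoBot.hom (j.obj a) ≫ (app d.isoTop.hom a).hom.fst = app sq.iso.hom a :=
      congr_arg (fun α => app α a) d.w
    have h2 : y.map (app d.isoTop.hom a).hom.fst ≫ (sq.top.obj a).obj.iso.hom =
        (d.fn.obj (j.obj a)).obj.iso.hom ≫ f.map (app d.isoTop.hom a).hom.snd :=
      (app d.isoTop.hom a).hom.w
    show (y.map (app d.isoBot.hom (j.obj a)) ≫ (d.fn.obj (j.obj a)).obj.iso.hom) ≫
        f.map (app d.isoTop.hom a).hom.snd =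
      y.map (app sq.iso.hom a) ≫ (sq.top.obj a).obj.iso.hom
    rw [Category.assoc, ← h2, ← h1, Functor.map_comp, Category.assoc]

theorem lifts_fpFst (hf : LiftSq.Lifts j f) : LiftSq.Lifts j (fpFst y f) := by
  intro sq
  obtain ⟨l⟩ := hf (sqBC y f sq)
  let fn : ℬ ⥤ᵇ fp y f := fpLift sq.bot l.fn l.isoBot
  let isoTop : BasedFunctor.comp j fn ≅ sq.top :=
    fpIsoMk (A := BasedFunctor.comp j fn) (B := sq.top) sq.iso l.isoTop (by
      apply ext_app; intro a
      exact (congr_arg (fun α => app α a) l.w).symm)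
  refine ⟨⟨fn, isoTop, Iso.refl _, ?_⟩⟩
  apply ext_app; intro a
  exact Category.id_comp _

/-- a morphism of lifts of `sq` induces a morphism of lifts of `sqBC y f sq`. -/
def homBC {sq : LiftSq.Sq j (fpFst y f)} {d d' : sq.Lift} (ζ : d ⟶ d') :
    liftBC y f d ⟶ liftBC y f d' where
  hom := BasedCategory.whiskerRight ζ.hom (fpSnd y f)
  w_top := by
    apply ext_app; intro a
    have := congr_arg (fun α => (fpSnd y f).map (app α a)) ζ.w_top
    exact ((fpSnd y f).map_comp _ _).symm.trans this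
  w_bot := by
    apply ext_app; intro b
    have h1 : app d.isoBot.hom b ≫ (app ζ.hom b).hom.fst = app d'.isoBot.hom b :=
      congr_arg (fun α => app α b) ζ.w_bot
    have h2 : y.map (app ζ.hom b).hom.fst ≫ (d'.fn.obj b).obj.iso.hom =
        (d.fn.obj b).obj.iso.hom ≫ f.map (app ζ.hom b).hom.snd := (app ζ.hom b).hom.w
    show (y.map (app d.isoBot.hom b) ≫ (d.fn.obj b).obj.iso.hom) ≫ f.map (app ζ.hom b).hom.snd =
      y.map (app d'.isoBot.hom b) ≫ (d'.fn.obj b).obj.iso.hom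
    rw [Category.assoc, ← h2, ← h1, Functor.map_comp, Category.assoc]

theorem liftsUnique_fpFst (hf : LiftSq.LiftsUnique j f) : LiftSq.LiftsUnique j (fpFst y f) := by
  intro sq d d'
  obtain ⟨u⟩ := hf (sqBC y f sq) (liftBC y f d) (liftBC y f d')
  let θ : liftBC y f d ⟶ liftBC y f d' := u.default
  let α₁ : BasedFunctor.comp d.fn (fpFst y f) ⟶ BasedFunctor.comp d'.fn (fpFst y f) :=
    d.isoBot.inv ≫ d'.isoBot.hom
  have hcompat : BasedCategory.whiskerRight α₁ y ≫ BasedCategory.whiskerLeft d'.fn (fpIso y f).hom =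
      BasedCategory.whiskerLeft d.fn (fpIso y f).hom ≫ BasedCategory.whiskerRight θ.hom f := by
    apply ext_app; intro b
    have hb : (y.map (app d.isoBot.hom b) ≫ (d.fn.obj b).obj.iso.hom) ≫ f.map (app θ.hom b) =
        y.map (app d'.isoBot.hom b) ≫ (d'.fn.obj b).obj.iso.hom :=
      congr_arg (fun α => app α b) θ.w_bot
    show y.map (app d.isoBot.inv b ≫ app d'.isoBot.hom b) ≫ (d'.fn.obj b).obj.iso.hom =
      (d.fn.obj b).obj.iso.hom ≫ f.map (app θ.hom b)
    rw [Functor.map_comp, Category.assoc, ← hb, Category.assoc, ← Category.assoc,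
      ← Functor.map_comp, inv_hom_app, Functor.map_id, Category.id_comp]
  let ζhom : d.fn ⟶ d'.fn := fpHomMk α₁ θ.hom hcompat
  let ζ : d ⟶ d' :=
    { hom := ζhom
      w_top := by
        apply fpHom_ext
        · apply ext_app; intro a
          have h1 : app d.isoBot.hom (j.obj a) ≫ (app d.isoTop.hom a).hom.fst = app sq.iso.hom a :=
            congr_arg (fun α => app α a) d.w
          have h2 : app d'.isoBot.hom (j.obj a) ≫ (app d'.isoTop.hom a).hom.fst =
              app sq.iso.hom a := congr_arg (fun α => app α a) d'.w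
          show (app d.isoBot.inv (j.obj a) ≫ app d'.isoBot.hom (j.obj a)) ≫
            (app d'.isoTop.hom a).hom.fst = (app d.isoTop.hom a).hom.fst
          rw [Category.assoc, h2, ← h1, ← Category.assoc, inv_hom_app, Category.id_comp]
        · apply ext_app; intro a
          exact congr_arg (fun α => app α a) θ.w_top
      w_bot := by
        show d.isoBot.hom ≫ BasedCategory.whiskerRight (fpHomMk α₁ θ.hom hcompat) (fpFst y f) = _
        rw [fpHomMk_fst, Iso.hom_inv_id_assoc] }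
  refine ⟨⟨⟨ζ⟩, fun ζ' => ?_⟩⟩
  apply LiftSq.Sq.Lift.hom_ext
  apply fpHom_ext
  · have h1 : d.isoBot.hom ≫ BasedCategory.whiskerRight ζ'.hom (fpFst y f) = d'.isoBot.hom :=
      ζ'.w_bot
    have h3 : BasedCategory.whiskerRight ζ'.hom (fpFst y f) = α₁ := by
      show _ = d.isoBot.inv ≫ d'.isoBot.hom
      rw [← h1, Iso.inv_hom_id_assoc]
    exact h3.trans (fpHomMk_fst α₁ θ.hom hcompat).symm
  · have h2 : BasedCategory.whiskerRight ζ'.hom (fpSnd y f) = θ.hom :=
      congr_arg LiftSq.Sq.Lift.Hom.hom (u.uniq (homBC y f ζ'))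
    exact h2.trans (fpHomMk_snd α₁ θ.hom hcompat).symm

theorem liftsUniquely_fpFst (hf : LiftSq.LiftsUniquely j f) :
    LiftSq.LiftsUniquely j (fpFst y f) := fun sq =>
  ⟨lifts_fpFst y f (fun s => (hf s).1) sq, liftsUnique_fpFst y f (fun s => (hf s).2) sq⟩

end BaseChange

end Groth.Agent.Lib.Helper78.LiftSqLib
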