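import Mathlib
import Groth.Agent.Lib.Helper46.LimLocStage

/-!
# Global descent of source-local properties to a finite stage (helper78)

EGA IV 17.7.8 (ii), global form: in the `StageSetup` framework of helper50 (a cofiltered limit
`S = lim S_i` with affine transition maps, `f₀ : X₀ ⟶ Y₀` over a stage and `f : X ⟶ Y` its base
change to `S`), if `X₀` is quasi-compact and `P` is a source-local property stable under base change
for which the *local* descent statement holds (helper46's `LimLoc.exists_nhd_stage`), then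
`P f` implies `P f_j` for some stage `j`.

* `exists_app_of_local`: the abstract version (`τ : F ⟶ E` cartesian, `F` with compact objects).
* `global_iff_stage_of_local`: the assembly in the format of the `Unram17` statements.
-/

set_option autoImplicit false
set_option linter.style.haveILetI false
universe u
open CategoryTheory Limits AlgebraicGeometry

namespace Groth.Agent.Lib.Helper78.LimGlobal

set_option backward.isDefEq.respectTransparency.types false

/-- base change of `P (V.ι ≫ g)` along a cartesian square. -/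
theorem restrict_of_isPullback {P : MorphismProperty Scheme.{u}} [P.IsStableUnderBaseChange]
    {X' X Y' Y : Scheme.{u}} {r : X' ⟶ X} {f' : X' ⟶ Y'} {f : X ⟶ Y} {s : Y' ⟶ Y}
    (h : IsPullback r f' f s) (V : X.Opens) (hV : P (V.ι ≫ f)) : P ((r ⁻¹ᵁ V).ι ≫ f') := by
  have h3 := (isPullback_morphismRestrict r V).paste_vert h
  exact MorphismProperty.of_isPullback (P := P) h3 hV

theorem exists_app_of_local {J : Type u} [SmallCategory J] [IsCofiltered J]
    {F E : J ⥤ Scheme.{u}} (τ : F ⟶ E)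
    [∀ (i j : J) (f : i ⟶ j), IsAffineHom (F.map f)] [∀ j, CompactSpace (F.obj j)]
    (cF : Cone F) (hcF : IsLimit cF)
    (hcart : ∀ {j k : J} (φ : k ⟶ j), IsPullback (F.map φ) (τ.app k) (τ.app j) (E.map φ))
    (P : MorphismProperty Scheme.{u}) [IsZariskiLocalAtSource P] [P.IsStableUnderBaseChange]
    (Hloc : ∀ x : cF.pt, ∃ (j : J) (V : (F.obj j).Opens), (cF.π.app j).base x ∈ V ∧
      P (V.ι ≫ τ.app j)) :
    ∃ j, P (τ.app j) := by
  classical
  haveI : ∀ {i j : J} (f : i ⟶ j), IsAffineHom (F.map f) := fun f => inferInstance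
  haveI : CompactSpace cF.pt := Scheme.compactSpace_of_isLimit F cF hcF
  choose jx Vx hxV hPV using Hloc
  -- finite subcover
  obtain ⟨t, ht⟩ := isCompact_univ.elim_finite_subcover
    (fun x : cF.pt => ((cF.π.app (jx x) ⁻¹ᵁ Vx x : cF.pt.Opens) : Set cF.pt))
    (fun x => (cF.π.app (jx x) ⁻¹ᵁ Vx x).isOpen)
    (fun x _ => Set.mem_iUnion.mpr ⟨x, hxV x⟩)
  -- a common stage
  obtain ⟨j, hj⟩ := IsCofiltered.inf_objs_exists (t.image jx)
  have φ : ∀ x : t, j ⟶ jx x.1 := fun x => (hj (Finset.mem_image_of_mem jx x.2)).some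
  let V : (F.obj j).Opens := ⨆ x : t, F.map (φ x) ⁻¹ᵁ Vx x.1
  have hVtop : cF.π.app j ⁻¹ᵁ V = ⊤ := by
    refine top_le_iff.mp fun y _ => ?_
    obtain ⟨x, hx⟩ := Set.mem_iUnion.mp (ht (Set.mem_univ y))
    obtain ⟨hxt, hyx⟩ := Set.mem_iUnion.mp hx
    have hyx' : (cF.π.app (jx x)).base y ∈ Vx x := hyx
    change (cF.π.app j).base y ∈ V
    refine TopologicalSpace.Opens.mem_iSup.mpr ⟨⟨x, hxt⟩, ?_⟩
    change (F.map (φ ⟨x, hxt⟩)).base ((cF.π.app j).base y) ∈ Vx x
    rw [← Scheme.Hom.comp_apply, cF.w]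
    exact hyx'
  obtain ⟨j', ψ, hψ⟩ := exists_map_eq_top F cF hcF V hVtop
  refine ⟨j', ?_⟩
  refine IsZariskiLocalAtSource.of_iSup_eq_top (fun x : t => F.map (ψ ≫ φ x) ⁻¹ᵁ Vx x.1) ?_ ?_
  · refine top_le_iff.mp fun y _ => ?_
    have hy : (F.map ψ).base y ∈ V := by
      have : y ∈ F.map ψ ⁻¹ᵁ V := by rw [hψ]; trivial
      exact this
    obtain ⟨x, hx⟩ := TopologicalSpace.Opens.mem_iSup.mp hy
    refine TopologicalSpace.Opens.mem_iSup.mpr ⟨x, ?_⟩
    change (F.map (ψ ≫ φ x)).base y ∈ Vx x.1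
    rw [F.map_comp, Scheme.Hom.comp_apply]
    exact hx
  · intro x
    exact restrict_of_isPullback (hcart (ψ ≫ φ x)) (Vx x.1) (hPV x.1)

section Stage

open Groth.Agent.Lib.Helper50 Groth.Agent.Lib.Helper50.StageSetup

variable {I : Type u} [SmallCategory I] [IsCofiltered I]
    (D : I ⥤ Scheme.{u}) (c : Limits.Cone D) (hc : Limits.IsLimit c)
    [∀ (i j : I) (f : i ⟶ j), IsAffineHom (D.map f)] (i₀ : I)
    {X₀ Y₀ : Scheme.{u}} (f₀ : X₀ ⟶ Y₀) (g₀ : Y₀ ⟶ D.obj i₀)
    {X Y : Scheme.{u}} (f : X ⟶ Y) (g : Y ⟶ c.pt) (qY : Y ⟶ Y₀) (qX : X ⟶ X₀)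
    (hY : IsPullback qY g g₀ (c.π.app i₀)) (hX : IsPullback qX f f₀ qY)

include hc in
/-- The global statement, from a local descent statement `H`. -/
theorem global_iff_stage_of_local (P : MorphismProperty Scheme.{u}) [IsZariskiLocalAtSource P]
    [P.IsStableUnderBaseChange] [CompactSpace X₀]
    (H : P f → ∀ x : X, ∃ (j : Over i₀) (V : ((F D i₀ f₀ g₀).obj j).Opens),
        ((cF D c i₀ f₀ g₀ f g qY qX hY hX).π.app j).base x ∈ V ∧
          P (V.ι ≫ (τ D i₀ f₀ g₀).app j)) :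
    P f ↔
      ∃ (j : I) (φ : j ⟶ i₀) (Xj Yj : Scheme.{u}) (fj : Xj ⟶ Yj) (gj : Yj ⟶ D.obj j) (pY : Yj ⟶ Y₀)
        (pX : Xj ⟶ X₀), IsPullback pY gj g₀ (D.map φ) ∧ IsPullback pX fj f₀ pY ∧ P fj := by
  constructor
  · intro hPf
    haveI : ∀ j, CompactSpace ((F D i₀ f₀ g₀).obj j) := compactSpace_F D i₀ f₀ g₀
    exact exists_stage D i₀ f₀ g₀ P
      (exists_app_of_local (τ D i₀ f₀ g₀) (cF D c i₀ f₀ g₀ f g qY qX hY hX)
        (hcF D c hc i₀ f₀ g₀ f g qY qX hY hX) (fun φ => isPullback_τ D i₀ f₀ g₀ φ) P (H hPf))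
  · rintro ⟨j, φ, Xj, Yj, fj, gj, pY, pX, h1, h2, hP⟩
    -- `f` is a base change of `fj`
    let rY : Y ⟶ Yj := h1.lift qY (g ≫ c.π.app j) (by rw [hY.w, Category.assoc, c.w])
    have hrY1 : rY ≫ pY = qY := h1.lift_fst _ _ _
    let rX : X ⟶ Xj := h2.lift qX (f ≫ rY) (by rw [Category.assoc, hrY1, hX.w])
    have e1 : rX ≫ pX = qX := h2.lift_fst _ _ _
    have hcomm : rX ≫ fj = f ≫ rY := h2.lift_snd _ _ _
    have hsq : IsPullback rX f fj rY := by
      refine IsPullback.of_right (h₁₂ := pX) (h₂₂ := pY) (v₁₃ := f₀) ?_ hcomm h2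
      rw [e1, hrY1]
      exact hX
    exact MorphismProperty.of_isPullback (P := P) hsq hP

end Stage

end Groth.Agent.Lib.Helper78.LimGlobal
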