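import Mathlib
import Groth.Agent.Lib.Helper78.Transporter

/-!
# The normal core of a closed subgroup scheme over a field (helper78)

`normalCore_closed`: for a closed subgroup scheme `Γ` of a group scheme `G` over a field, the
subfunctor `⋂_g g⁻¹ Γ g` of `G` is represented by a closed subgroup scheme of `G`.
-/

set_option autoImplicit false
set_option linter.style.haveILetI false
universe u
open CategoryTheory CategoryTheory.Limits MonoidalCategory CartesianMonoidalCategory MonObj GrpObj AlgebraicGeometry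

namespace Groth.Agent.Lib.Helper78.NormalCore

open Groth.Agent.Lib.Helper78.Transporter

set_option backward.isDefEq.respectTransparency.types false

/-- the normal core `⋂_g g⁻¹ Γ g` of a closed subgroup scheme over a field is a closed subgroup
scheme. -/
theorem normalCore_closed (k : Type u) [Field k] (G Γ : Over (Spec (CommRingCat.of k))) [GrpObj G]
    [GrpObj Γ] (i : Γ ⟶ G) [IsMonHom i] [IsClosedImmersion i.left] :
    ∃ (T : Over (Spec (CommRingCat.of k))) (_ : GrpObj T) (t : T ⟶ G), IsClosedImmersion t.left ∧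
      IsMonHom t ∧ Mono t ∧
      ∀ (S' : Over (Spec (CommRingCat.of k))) (w : S' ⟶ G), (∃ z : S' ⟶ T, z ≫ t = w) ↔
        ∀ (S'' : Over (Spec (CommRingCat.of k))) (s : S'' ⟶ S') (g : S'' ⟶ G),
          ∃ n' : S'' ⟶ Γ, g * (s ≫ w) * g⁻¹ = n' ≫ i := by
  obtain ⟨T, t, ht, huniv⟩ := transp_closed k G G Γ G i (fst G G * snd G G * (fst G G)⁻¹)
  haveI : Mono t := Over.mono_of_mono_left t
  let Pr : ∀ {S' : Over (Spec (CommRingCat.of k))}, (S' ⟶ G) → Prop := fun {S'} w =>
    ∀ (S'' : Over (Spec (CommRingCat.of k))) (s : S'' ⟶ S') (g : S'' ⟶ G),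
      ∃ n' : S'' ⟶ Γ, g * (s ≫ w) * g⁻¹ = n' ≫ i
  have hPr : ∀ {S' : Over (Spec (CommRingCat.of k))} (w : S' ⟶ G),
      (∃ z : S' ⟶ T, z ≫ t = w) ↔ Pr w := by
    intro S' w
    rw [huniv S' w]
    have e1 : (G ◁ w) ≫ (fst G G * snd G G * (fst G G)⁻¹) =
        fst G S' * (snd G S' ≫ w) * (fst G S')⁻¹ := by
      rw [MonObj.comp_mul, MonObj.comp_mul, GrpObj.comp_inv, whiskerLeft_snd, whiskerLeft_fst]
    rw [e1]
    constructor
    · rintro ⟨x', hx'⟩ S'' s g
      refine ⟨lift g s ≫ x', ?_⟩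
      have := congr_arg (fun m => lift g s ≫ m) hx'
      simp only [MonObj.comp_mul, GrpObj.comp_inv, lift_fst, lift_snd_assoc] at this
      rw [this, Category.assoc]
    · intro hc
      exact hc (G ⊗ S') (snd G S') (fst G S')
  have P1 : Pr (η : 𝟙_ _ ⟶ G) := by
    intro X' s g
    have e : s ≫ (η : 𝟙_ _ ⟶ G) = 1 := by
      rw [Hom.one_def, toUnit_unique s (toUnit X')]
    rw [e]
    refine ⟨1, ?_⟩
    rw [MonObj.one_comp]
    group
  have P2 : ∀ {S' : Over (Spec (CommRingCat.of k))} (g₁ g₂ : S' ⟶ G), Pr g₁ → Pr g₂ →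
      Pr (g₁ * g₂) := by
    intro S' g₁ g₂ hg₁ hg₂ X' s g
    obtain ⟨a, ha⟩ := hg₁ X' s g
    obtain ⟨b, hb⟩ := hg₂ X' s g
    refine ⟨a * b, ?_⟩
    rw [MonObj.comp_mul, MonObj.mul_comp, ← ha, ← hb]
    group
  have P3 : ∀ {S' : Over (Spec (CommRingCat.of k))} (w : S' ⟶ G), Pr w → Pr w⁻¹ := by
    intro S' w hw X' s g
    obtain ⟨a, ha⟩ := hw X' s g
    refine ⟨a⁻¹, ?_⟩
    rw [GrpObj.comp_inv, GrpObj.inv_comp, ← ha]
    group
  obtain ⟨str, hstr⟩ := exists_grpObj_of_pred t (fun {S'} w => Pr w) hPr P1 P2 P3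
  exact ⟨T, str, t, ht, hstr, inferInstance, fun S' w => hPr w⟩

end Groth.Agent.Lib.Helper78.NormalCore
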