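import Mathlib
import Groth.Agent.Lib.Helper78.FibreCons
import Groth.Agent.Lib.Helper78.ConsOne

/-!
# Radicial morphisms: constructible property (helper78)
-/

set_option autoImplicit false
set_option linter.style.haveILetI false
open CategoryTheory AlgebraicGeometry CategoryTheory.Limits Topology
universe u

namespace Groth.Agent.Lib.Helper78.RadCons

open Groth.Agent.Lib.Helper78.FibreCons Groth.Agent.Lib.Helper78.ConsOne
  Groth.Agent.Lib.Helper78.ConsMor Groth.Agent.Lib.Helper78.GeomPair
  Groth.Agent.Lib.Helper78.ConsPair

/-- a base change `f'` of `f` along `p` is radicial iff the points of `X ×_Y X` over `p(Y')` lie on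
the diagonal -/
theorem universallyInjective_iff_of_isPullback {X' Y' X Y : Scheme.{u}} {q : X' ⟶ X}
    {f' : X' ⟶ Y'} {f : X ⟶ Y} {p : Y' ⟶ Y} (hP : IsPullback q f' f p) :
    UniversallyInjective f' ↔
      ∀ w : ↥(pullback f f), (pullback.fst f f ≫ f).base w ∈ Set.range p.base →
        w ∈ Set.range (pullback.diagonal f).base := by
  have hD := isPullback_diagonal hP
  rw [UniversallyInjective.iff_diagonal]
  constructor
  · intro ⟨hs⟩ w hw
    obtain ⟨w', rfl⟩ := exists_point_over (pullback.fst f f ≫ f) p w hw
    let F := pullback.fst (pullback.fst f f ≫ f) p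
    let G := pullback.snd (pullback.fst f f ≫ f) p
    have c1 : (F ≫ pullback.fst f f) ≫ f = G ≫ p := by
      rw [Category.assoc]; exact pullback.condition
    have c2 : (F ≫ pullback.snd f f) ≫ f = G ≫ p := by
      rw [Category.assoc, ← pullback.condition]; exact pullback.condition
    let a₁ := hP.lift (F ≫ pullback.fst f f) G c1
    let a₂ := hP.lift (F ≫ pullback.snd f f) G c2
    have c3 : a₁ ≫ f' = a₂ ≫ f' := by
      rw [hP.lift_snd, hP.lift_snd]
    have hn : pullback.lift a₁ a₂ c3 ≫ pullback.map f' f' f f q q p hP.w.symm hP.w.symm = F := by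
      apply pullback.hom_ext
      · rw [Category.assoc, pullback.lift_fst, pullback.lift_fst_assoc, hP.lift_fst]
      · rw [Category.assoc, pullback.lift_snd, pullback.lift_snd_assoc, hP.lift_fst]
    obtain ⟨x', hx'⟩ := hs ((pullback.lift a₁ a₂ c3).base w')
    refine ⟨q.base x', ?_⟩
    rw [← Scheme.Hom.comp_apply, hD.w, Scheme.Hom.comp_apply]
    erw [hx']
    rw [← Scheme.Hom.comp_apply, hn]
  · intro hw
    refine ⟨fun z => ?_⟩
    have h1 : (pullback.fst f f ≫ f).base ((pullback.map f' f' f f q q p
        hP.w.symm hP.w.symm).base z) ∈ Set.range p.base := by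
      have e : pullback.map f' f' f f q q p hP.w.symm hP.w.symm ≫ pullback.fst f f ≫ f =
          (pullback.fst f' f' ≫ f') ≫ p := by
        rw [pullback.lift_fst_assoc, Category.assoc, Category.assoc, hP.w]
      rw [← Scheme.Hom.comp_apply, e, Scheme.Hom.comp_apply]
      exact ⟨_, rfl⟩
    obtain ⟨x, hx⟩ := hw _ h1
    obtain ⟨p', -, hp⟩ := Scheme.exists_preimage_of_isPullback hD x z hx
    exact ⟨p', hp⟩

/-- radiciality descends along surjective base change -/
theorem universallyInjective_iff_of_isPullback_of_surjective {X' Y' X Y : Scheme.{u}}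
    {q : X' ⟶ X} {f' : X' ⟶ Y'} {f : X ⟶ Y} {p : Y' ⟶ Y} (hP : IsPullback q f' f p)
    (hp : Function.Surjective p.base) : UniversallyInjective f ↔ UniversallyInjective f' := by
  rw [universallyInjective_iff_of_isPullback hP, UniversallyInjective.iff_diagonal]
  constructor
  · intro ⟨hs⟩ w _
    exact hs w
  · intro h
    exact ⟨fun w => h w (hp _)⟩

/-- base change of a surjection onto a one-point scheme -/
theorem surjective_of_isPullback_subsingleton {Y Y' T T' : Scheme.{u}} {g : Y ⟶ T}
    {g' : Y' ⟶ T'} {e : Y' ⟶ Y} {h : T' ⟶ T} [Subsingleton ↥T] [Nonempty ↥T']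
    (sq : IsPullback e g' g h) : Function.Surjective e.base := by
  intro y
  obtain ⟨t'⟩ : Nonempty ↥T' := inferInstance
  obtain ⟨y', hy', -⟩ := Scheme.exists_preimage_of_isPullback sq y t' (Subsingleton.elim _ _)
  exact ⟨y', hy'⟩

theorem isCons_universallyInjective :
    ConsProp.IsCons (fun (Y T : Scheme.{u}) (g : Y ⟶ T) => UniversallyInjective g) := by
  refine ⟨?_, ?_⟩
  · intro Y Y' T T' g g' e h _ _ _ _ _ _ sq
    have hs : Function.Surjective h.base := by
      intro t
      obtain ⟨t'⟩ : Nonempty ↥T' := inferInstance
      exact ⟨t', Subsingleton.elim _ _⟩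
    exact universallyInjective_iff_of_isPullback_of_surjective sq hs
  · intro X S u _ _ _ _
    haveI : IsNoetherian X := isNoetherian_of_finiteType u
    have e : ConsProp.locus (fun (Y T : Scheme.{u}) (g : Y ⟶ T) => UniversallyInjective g) u =
        {s : S | ∀ w : ↥(pullback u u), (pullback.fst u u ≫ u).base w = s →
          w ∈ Set.range (pullback.diagonal u).base} := by
      ext s
      have h1 := universallyInjective_iff_of_isPullback
        (IsPullback.of_hasPullback u (S.fromSpecResidueField s))
      rw [Scheme.range_fromSpecResidueField] at h1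
      exact h1
    have e2 : pullback.diagonal u ≫ pullback.fst u u ≫ u = u := by
      rw [pullback.diagonal_fst_assoc]
    have : LocallyOfFinitePresentation (pullback.diagonal u ≫ pullback.fst u u ≫ u) := by
      rw [e2]; infer_instance
    have : QuasiCompact (pullback.diagonal u ≫ pullback.fst u u ≫ u) := by
      rw [e2]; infer_instance
    have hE := isLocallyConstructible_setOf_fibre_subset_range (pullback.diagonal u)
      (pullback.fst u u ≫ u)
    rw [e]
    by_cases hη : genericPoint S ∈ {s : S | ∀ w : ↥(pullback u u),
        (pullback.fst u u ≫ u).base w = s → w ∈ Set.range (pullback.diagonal u).base}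
    · left
      exact interior_nonempty_of_genericPoint_mem
        (Groth.Agent.Lib.Helper36.isIndConstructible_of_isLocallyConstructible hE) hη
    · right
      exact interior_nonempty_of_genericPoint_mem
        (Groth.Agent.Lib.Helper36.isIndConstructible_of_isLocallyConstructible
          (isLocallyConstructible_compl hE)) hη

theorem isConsMor_universallyInjective :
    ConsProp.IsConsMor (fun (X Y T : Scheme.{u}) (f : X ⟶ Y) (_ : Y ⟶ T) =>
      UniversallyInjective f) := by
  refine ⟨?_, ?_⟩
  · intro X X' Y Y' T T' f g f' g' eX eY h _ _ _ _ _ _ _ _ hY hX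
    exact universallyInjective_iff_of_isPullback_of_surjective hX
      (surjective_of_isPullback_subsingleton hY)
  · intro X Y S f g _ _ _ _ _ _
    haveI : IsNoetherian Y := isNoetherian_of_finiteType g
    haveI : IsNoetherian X := isNoetherian_of_finiteType (f ≫ g)
    have e : ConsProp.locusMor (fun (X Y T : Scheme.{u}) (f : X ⟶ Y) (_ : Y ⟶ T) =>
        UniversallyInjective f) f g =
        {s : S | ∀ w : ↥(pullback f f), (pullback.fst f f ≫ f ≫ g).base w = s →
          w ∈ Set.range (pullback.diagonal f).base} := by
      ext s
      have h1 := universallyInjective_iff_of_isPullback (isPullback_fiberMap f g s)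
      rw [Scheme.Hom.range_fiberι] at h1
      exact h1
    have hE := isLocallyConstructible_setOf_fibre_subset_range_diagonal f g
    rw [e]
    by_cases hη : genericPoint S ∈ {s : S | ∀ w : ↥(pullback f f),
        (pullback.fst f f ≫ f ≫ g).base w = s → w ∈ Set.range (pullback.diagonal f).base}
    · left
      exact interior_nonempty_of_genericPoint_mem
        (Groth.Agent.Lib.Helper36.isIndConstructible_of_isLocallyConstructible hE) hη
    · right
      exact interior_nonempty_of_genericPoint_mem
        (Groth.Agent.Lib.Helper36.isIndConstructible_of_isLocallyConstructible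
          (isLocallyConstructible_compl hE)) hη

end Groth.Agent.Lib.Helper78.RadCons
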