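/-
Helper library (helper78): EGA IV 15.6.4 — section components `X⁰` are a neighbourhood of `X_y⁰`
when `f` is universally open and the fibre is geometrically reduced at the points of `X_y⁰`
(locally Noetherian base, `f` locally of finite type).
-/
import Mathlib
import Groth.Prelude
import Groth.Agent.S1326
import Groth.Agent.S3403
import Groth.Agent.Lib.Helper36.ProCons
import Groth.Agent.Lib.Helper50.TopConn
import Groth.Agent.Lib.Helper78.ConsOne
import Groth.Agent.Lib.Helper78.SecCompNbhd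
import Groth.Agent.Lib.Helper78.SecCompOpen

set_option autoImplicit false
set_option linter.style.haveILetI false
universe u
open TensorProduct

namespace Groth.Agent.Lib.Helper78.SecCompUO

/-! ### part G1 -/
/-- a finite product of elements outside a prime, each killing one generator modulo `J`, kills the
whole span modulo `J` -/
theorem exists_notMem_forall_mul_mem {B : Type u} [CommRing B] (p : Ideal B) [hp : p.IsPrime]
    (I J : Ideal B) (hI : I.FG) (h : ∀ c ∈ I, ∃ u : B, u ∉ p ∧ u * c ∈ J) :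
    ∃ b : B, b ∉ p ∧ ∀ c ∈ I, b * c ∈ J := by
  classical
  obtain ⟨s, rfl⟩ := hI
  have h' : ∀ c : B, ∃ u : B, c ∈ s → u ∉ p ∧ u * c ∈ J := by
    intro c
    by_cases hc : c ∈ s
    · obtain ⟨u, hu⟩ := h c (Ideal.subset_span hc)
      exact ⟨u, fun _ => hu⟩
    · exact ⟨0, fun h => absurd h hc⟩
  choose u hu using h'
  refine ⟨∏ c ∈ s, u c, ?_, ?_⟩
  · intro hmem
    obtain ⟨c, hc, hcp⟩ := (hp.prod_mem_iff).1 hmem
    exact (hu c hc).1 hcp
  · intro c hc
    refine Submodule.span_induction (p := fun c _ => (∏ c ∈ s, u c) * c ∈ J) ?_ ?_ ?_ ?_ hc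
    · intro c hc
      have hc' : c ∈ s := hc
      rw [← Finset.mul_prod_erase s u hc', mul_comm (u c), mul_assoc]
      exact J.mul_mem_left _ (hu c hc').2
    · rw [mul_zero]; exact J.zero_mem
    · intro x y _ _ hx hy
      rw [mul_add]; exact J.add_mem hx hy
    · intro a x _ hx
      rw [smul_eq_mul, mul_left_comm]
      exact J.mul_mem_left _ hx

/-- the ideal of `π`-power torsion -/
def torsionIdeal {B : Type u} [CommRing B] (π : B) : Ideal B where
  carrier := {t | ∃ n : ℕ, π ^ n * t = 0}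
  add_mem' := by
    rintro a b ⟨n, hn⟩ ⟨m, hm⟩
    refine ⟨n + m, ?_⟩
    have h1 : π ^ (n + m) * a = π ^ m * (π ^ n * a) := by rw [pow_add]; ring
    have h2 : π ^ (n + m) * b = π ^ n * (π ^ m * b) := by rw [pow_add]; ring
    rw [mul_add, h1, h2, hn, hm, mul_zero, mul_zero, add_zero]
  zero_mem' := ⟨0, by simp⟩
  smul_mem' := by
    rintro c t ⟨n, hn⟩
    refine ⟨n, ?_⟩
    rw [smul_eq_mul, mul_left_comm, hn, mul_zero]

theorem mem_torsionIdeal {B : Type u} [CommRing B] (π t : B) :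
    t ∈ torsionIdeal π ↔ ∃ n : ℕ, π ^ n * t = 0 := Iff.rfl

/-! ### part G2 -/
/-- the `π`-power torsion dies near `p` -/
theorem exists_notMem_forall_torsion_mul_eq_zero {B : Type u} [CommRing B] [IsNoetherianRing B]
    (π : B) (p : Ideal B) [hp : p.IsPrime] (hπp : π ∈ p)
    (hclos : ∀ q : Ideal B, q.IsPrime → q ≤ p → ∀ t : B, (∃ n : ℕ, π ^ n * t = 0) → t ∈ q)
    (hred : ∀ c : B, (∃ n : ℕ, c ^ n ∈ Ideal.span {π}) →
      ∃ u : B, u ∉ p ∧ u * c ∈ Ideal.span {π}) :
    ∃ b : B, b ∉ p ∧ ∀ t : B, (∃ n : ℕ, π ^ n * t = 0) → b * t = 0 := by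
  let A := Localization.AtPrime p
  let T := torsionIdeal π
  -- every torsion element is, up to a unit at `p`, `π` times a torsion element
  have hstep : ∀ t ∈ T, ∃ v : B, v ∉ p ∧ ∃ c ∈ T, v * t = π * c := by
    rintro t ⟨n, hn⟩
    have hnil : IsNilpotent (algebraMap B A t) := by
      rw [nilpotent_iff_mem_prime]
      intro J hJ
      have hq : (J.comap (algebraMap B A)).IsPrime := Ideal.comap_isPrime _ _
      have hqp : J.comap (algebraMap B A) ≤ p := by
        intro x hx
        by_contra hxp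
        have hu : IsUnit (algebraMap B A x) :=
          IsLocalization.map_units A (⟨x, hxp⟩ : p.primeCompl)
        exact hJ.ne_top (Ideal.eq_top_of_isUnit_mem _ hx hu)
      exact hclos _ hq hqp t ⟨n, hn⟩
    obtain ⟨m, hm⟩ := hnil
    rw [← map_pow, IsLocalization.map_eq_zero_iff p.primeCompl] at hm
    obtain ⟨⟨u, hu⟩, hum⟩ := hm
    have hum' : u * t ^ m = 0 := hum
    have hpow : (u * t) ^ m ∈ Ideal.span {π} := by
      rcases Nat.eq_zero_or_pos m with rfl | hpos
      · rw [pow_zero, mul_one] at hum'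
        exact absurd (hum' ▸ p.zero_mem) hu
      · have : (u * t) ^ m = u ^ (m - 1) * (u * t ^ m) := by
          rw [mul_pow, ← mul_assoc, ← pow_succ, Nat.sub_add_cancel hpos]
        rw [this, hum', mul_zero]
        exact Ideal.zero_mem _
    obtain ⟨u', hu', hmem⟩ := hred (u * t) ⟨m, hpow⟩
    rw [Ideal.mem_span_singleton'] at hmem
    obtain ⟨c, hc⟩ := hmem
    refine ⟨u' * u, fun h => (hp.mem_or_mem h).elim hu' hu, c, ⟨n + 1, ?_⟩, ?_⟩
    · calc π ^ (n + 1) * c = π ^ n * (c * π) := by rw [pow_succ]; ring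
        _ = π ^ n * (u' * (u * t)) := by rw [hc]
        _ = u' * u * (π ^ n * t) := by ring
        _ = 0 := by rw [hn, mul_zero]
    · rw [mul_assoc, ← hc, mul_comm]
  -- Nakayama in the local ring
  have hTA : T.map (algebraMap B A) = ⊥ := by
    have hfg : (T.map (algebraMap B A)).FG := Ideal.FG.map (IsNoetherian.noetherian T) _
    apply Submodule.eq_bot_of_le_smul_of_le_jacobson_bot (Ideal.span {algebraMap B A π}) _ hfg
    · rw [Ideal.map_le_iff_le_comap]
      intro t ht
      obtain ⟨v, hv, c, hc, hvt⟩ := hstep t ht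
      rw [Ideal.mem_comap]
      have hu : IsUnit (algebraMap B A v) := IsLocalization.map_units A (⟨v, hv⟩ : p.primeCompl)
      obtain ⟨w, hw⟩ := hu.exists_left_inv
      have : algebraMap B A t = algebraMap B A π * (w * algebraMap B A c) := by
        calc algebraMap B A t = (w * algebraMap B A v) * algebraMap B A t := by rw [hw, one_mul]
          _ = w * algebraMap B A (v * t) := by rw [map_mul]; ring
          _ = algebraMap B A π * (w * algebraMap B A c) := by rw [hvt, map_mul]; ring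
      rw [this, ← smul_eq_mul]
      refine Submodule.smul_mem_smul (Ideal.subset_span rfl) ?_
      exact Ideal.mul_mem_left _ _ (Ideal.mem_map_of_mem _ hc)
    · rw [IsLocalRing.jacobson_eq_maximalIdeal ⊥ bot_ne_top, Ideal.span_le,
        Set.singleton_subset_iff]
      show algebraMap B A π ∈ IsLocalRing.maximalIdeal A
      rw [← IsLocalization.AtPrime.to_map_mem_maximal_iff A p] at hπp
      exact hπp
  have hkill : ∀ t ∈ T, ∃ w : B, w ∉ p ∧ w * t ∈ (⊥ : Ideal B) := by
    intro t ht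
    have h0 : algebraMap B A t = 0 := by
      have : algebraMap B A t ∈ T.map (algebraMap B A) := Ideal.mem_map_of_mem _ ht
      rw [hTA] at this
      exact this
    rw [IsLocalization.map_eq_zero_iff p.primeCompl] at h0
    obtain ⟨⟨w, hw⟩, hwt⟩ := h0
    exact ⟨w, hw, hwt⟩
  obtain ⟨b, hb, hbT⟩ := exists_notMem_forall_mul_mem p T ⊥ (IsNoetherian.noetherian T) hkill
  exact ⟨b, hb, fun t ht => hbT t ht⟩

/-! ### part G3 -/
/-- **good localization**: near a prime `p ∋ π` of a Noetherian ring at which `B/π` is reduced and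
all of whose generizations lie in the closure of `D(π)`, the element `π` is a nonzerodivisor and
`B/π` is reduced. -/
theorem exists_good_away {B : Type u} [CommRing B] [IsNoetherianRing B]
    (π : B) (p : Ideal B) [hp : p.IsPrime] (hπp : π ∈ p)
    (hclos : ∀ q : Ideal B, q.IsPrime → q ≤ p → ∀ t : B, (∃ n : ℕ, π ^ n * t = 0) → t ∈ q)
    (hred : ∀ c : B, (∃ n : ℕ, c ^ n ∈ Ideal.span {π}) →
      ∃ u : B, u ∉ p ∧ u * c ∈ Ideal.span {π}) :
    ∃ b : B, b ∉ p ∧
      algebraMap B (Localization.Away b) π ∈ nonZeroDivisors (Localization.Away b) ∧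
      IsReduced (Localization.Away b ⧸ Ideal.span {algebraMap B (Localization.Away b) π}) := by
  obtain ⟨b₂, hb₂, hkill⟩ := exists_notMem_forall_torsion_mul_eq_zero π p hπp hclos hred
  obtain ⟨b₁, hb₁, hrad⟩ := exists_notMem_forall_mul_mem p (Ideal.span {π}).radical
    (Ideal.span {π}) (IsNoetherian.noetherian _) (fun c hc => hred c hc)
  refine ⟨b₁ * b₂, fun h => (hp.mem_or_mem h).elim hb₁ hb₂, ?_, ?_⟩
  · -- nonzerodivisor
    set b := b₁ * b₂ with hb
    let L := Localization.Away b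
    rw [mem_nonZeroDivisors_iff_right]
    intro x hx
    obtain ⟨⟨a, ⟨_, k, rfl⟩⟩, hxa⟩ := IsLocalization.surj (Submonoid.powers b) x
    have hxa' : x * algebraMap B L (b ^ k) = algebraMap B L a := hxa
    have h1 : algebraMap B L (a * π) = 0 := by
      rw [map_mul, ← hxa', mul_right_comm, hx, zero_mul]
    rw [IsLocalization.map_eq_zero_iff (Submonoid.powers b)] at h1
    obtain ⟨⟨_, m, rfl⟩, hm⟩ := h1
    have hm' : b ^ m * (a * π) = 0 := hm
    have h2 : b₂ * (b ^ m * a) = 0 := hkill _ ⟨1, by rw [pow_one]; rw [← hm']; ring⟩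
    have h3 : algebraMap B L a = 0 := by
      rw [IsLocalization.map_eq_zero_iff (Submonoid.powers b)]
      refine ⟨⟨b ^ (m + 1), m + 1, rfl⟩, ?_⟩
      show b ^ (m + 1) * a = 0
      calc b ^ (m + 1) * a = b₁ * (b₂ * (b ^ m * a)) := by rw [pow_succ, hb]; ring
        _ = 0 := by rw [h2, mul_zero]
    have hunit : IsUnit (algebraMap B L (b ^ k)) :=
      IsLocalization.map_units L (⟨b ^ k, k, rfl⟩ : Submonoid.powers b)
    rw [h3] at hxa'
    exact hunit.mul_left_eq_zero.1 hxa'
  · -- reducedness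
    set b := b₁ * b₂ with hb
    let L := Localization.Away b
    rw [← Ideal.isRadical_iff_quotient_reduced]
    intro x hx
    obtain ⟨n, hn⟩ := hx
    obtain ⟨⟨a, ⟨_, k, rfl⟩⟩, hxa⟩ := IsLocalization.surj (Submonoid.powers b) x
    have hxa' : x * algebraMap B L (b ^ k) = algebraMap B L a := hxa
    have hunit : ∀ j : ℕ, IsUnit (algebraMap B L (b ^ j)) := fun j =>
      IsLocalization.map_units L (⟨b ^ j, j, rfl⟩ : Submonoid.powers b)
    -- `(ι a)^n ∈ (ι π)`
    have h1 : algebraMap B L (a ^ n) ∈ Ideal.span {algebraMap B L π} := by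
      rw [map_pow, ← hxa', mul_pow]
      exact Ideal.mul_mem_right _ _ hn
    rw [Ideal.mem_span_singleton'] at h1
    obtain ⟨y, hy⟩ := h1
    obtain ⟨⟨d, ⟨_, l, rfl⟩⟩, hyd⟩ := IsLocalization.surj (Submonoid.powers b) y
    have hyd' : y * algebraMap B L (b ^ l) = algebraMap B L d := hyd
    have h2 : algebraMap B L (a ^ n * b ^ l) = algebraMap B L (d * π) := by
      rw [map_mul, map_mul, ← hy, ← hyd']
      ring
    rw [IsLocalization.eq_iff_exists (Submonoid.powers b)] at h2
    obtain ⟨⟨_, m, rfl⟩, hm⟩ := h2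
    have hm' : b ^ m * (a ^ n * b ^ l) = b ^ m * (d * π) := hm
    -- `c = b^(m+l) a` has `c^n ∈ (π)`
    have h3 : (b ^ (m + l) * a) ^ (n + 1) ∈ Ideal.span {π} := by
      have : (b ^ (m + l) * a) ^ (n + 1) =
          (b ^ ((m + l) * n) * a) * (b ^ m * (a ^ n * b ^ l)) := by
        ring
      rw [this, hm']
      rw [Ideal.mem_span_singleton']
      exact ⟨b ^ ((m + l) * n) * a * (b ^ m * d), by ring⟩
    have h4 : b₁ * (b ^ (m + l) * a) ∈ Ideal.span {π} := hrad _ ⟨n + 1, h3⟩
    have h5 : algebraMap B L (b₁ * (b ^ (m + l) * a)) ∈ Ideal.span {algebraMap B L π} := by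
      rw [Ideal.mem_span_singleton'] at h4 ⊢
      obtain ⟨e, he⟩ := h4
      exact ⟨algebraMap B L e, by rw [← map_mul, he]⟩
    -- `ι b₁` is a unit
    have hb₁unit : IsUnit (algebraMap B L b₁) := by
      have : IsUnit (algebraMap B L b₁ * algebraMap B L b₂) := by
        rw [← map_mul, ← hb]
        have := hunit 1
        rwa [pow_one] at this
      exact isUnit_of_mul_isUnit_left this
    have h6 : algebraMap B L a ∈ Ideal.span {algebraMap B L π} := by
      rw [map_mul, map_mul] at h5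
      have h7 := (Ideal.unit_mul_mem_iff_mem _ hb₁unit).1 h5
      exact (Ideal.unit_mul_mem_iff_mem _ (hunit (m + l))).1 h7
    rw [← hxa'] at h6
    exact (Ideal.mul_unit_mem_iff_mem _ (hunit k)).1 h6

section Sch
open AlgebraicGeometry CategoryTheory Limits
open Groth.Agent.Lib.Helper78.SecCompNbhd Groth.Agent.Lib.Helper78.SecCompOpen

/-! ### part H1 -/
/-- a good affine chart at a point of a scheme over a ring `R` with a distinguished element `ϖ`:
`ϖ` is a nonzerodivisor on the chart and the chart modulo `ϖ` is reduced -/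
def HasGoodChart {R : Type u} [CommRing R] {X : Scheme.{u}} (f : X ⟶ Spec (CommRingCat.of R))
    (ϖ : R) (x : X) : Prop :=
  ∃ (B : CommRingCat.{u}) (j : Spec B ⟶ X) (_ : IsOpenImmersion j) (φ : CommRingCat.of R ⟶ B),
    x ∈ Set.range j ∧ Spec.map φ = j ≫ f ∧ φ.hom ϖ ∈ nonZeroDivisors B ∧
      _root_.IsReduced (B ⧸ Ideal.span {φ.hom ϖ})

/-- the fibre over the generic point of a DVR, read on a chart -/
theorem preimage_generic_eq_basicOpen {R : Type u} [CommRing R] [IsDomain R]
    [IsDiscreteValuationRing R] {X : Scheme.{u}} (f : X ⟶ Spec (CommRingCat.of R))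
    {ϖ : R} (hϖ : Irreducible ϖ) (η : Spec (CommRingCat.of R))
    (hη : η = (⟨⊥, Ideal.isPrime_bot⟩ : PrimeSpectrum R))
    {B : CommRingCat.{u}} (j : Spec B ⟶ X) (φ : CommRingCat.of R ⟶ B)
    (hφ : Spec.map φ = j ≫ f) :
    j ⁻¹' (f ⁻¹' {η}) = (PrimeSpectrum.basicOpen (φ.hom ϖ) : Set (PrimeSpectrum B)) := by
  ext q
  show f (j q) = η ↔ _
  rw [← Scheme.Hom.comp_apply, ← hφ, hη]
  show PrimeSpectrum.comap φ.hom q = _ ↔ _
  rw [dvr_comap_eq_generic_iff hϖ]
  rfl

/-- **DVR core, chart version** -/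
theorem core_dvr' {R : Type u} [CommRing R] [IsDomain R] [IsDiscreteValuationRing R]
    {X : Scheme.{u}} (f : X ⟶ Spec (CommRingCat.of R)) [LocallyOfFiniteType f]
    [QuasiCompact f] (s t : Spec (CommRingCat.of R) ⟶ X) (hs : s ≫ f = 𝟙 _) (ht : t ≫ f = 𝟙 _)
    {ϖ : R} (hϖ : Irreducible ϖ) (hchart : ∀ x : X, HasGoodChart f ϖ x)
    (η y₀ : Spec (CommRingCat.of R)) (hη : η = (⟨⊥, Ideal.isPrime_bot⟩ : PrimeSpectrum R))
    (h0 : t y₀ ∈ connectedComponentIn (f ⁻¹' {y₀}) (s y₀)) :
    t η ∈ connectedComponentIn (f ⁻¹' {η}) (s η) := by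
  have hfs : ∀ y, f (s y) = y := fun y => by
    rw [← Scheme.Hom.comp_apply, hs]; rfl
  have hft : ∀ y, f (t y) = y := fun y => by
    rw [← Scheme.Hom.comp_apply, ht]; rfl
  have hηopen : IsOpen ({η} : Set (Spec (CommRingCat.of R))) := by
    have : ({η} : Set (Spec (CommRingCat.of R))) =
        (PrimeSpectrum.basicOpen ϖ : Set (PrimeSpectrum R)) := by
      ext q
      rw [Set.mem_singleton_iff, hη]
      exact dvr_comap_eq_generic_iff hϖ q
    rw [this]
    exact (PrimeSpectrum.basicOpen ϖ).2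
  have hF : IsOpen (f ⁻¹' {η}) := hηopen.preimage f.continuous
  haveI : IsNoetherian X := Groth.Agent.Lib.Helper78.ConsOne.isNoetherian_of_finiteType f
  haveI : TopologicalSpace.NoetherianSpace ↥(f ⁻¹' {η}) := inferInstance
  have hsF : s η ∈ f ⁻¹' {η} := hfs η
  let C : Set ↥(f ⁻¹' {η}) := connectedComponent (⟨s η, hsF⟩ : ↥(f ⁻¹' {η}))
  have hCopen : IsOpen C := Groth.Agent.Lib.Helper50.isOpen_connectedComponent_of_noetherianSpace _
  have hCclosed : IsClosed C := isClosed_connectedComponent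
  have hU1eq : connectedComponentIn (f ⁻¹' {η}) (s η) = Subtype.val '' C :=
    connectedComponentIn_eq_image hsF
  set U₁ : Set X := Subtype.val '' C with hU₁
  set U₂ : Set X := Subtype.val '' Cᶜ with hU₂
  have h1 : IsOpen U₁ := hF.isOpenEmbedding_subtypeVal.isOpenMap _ hCopen
  have h2 : IsOpen U₂ := hF.isOpenEmbedding_subtypeVal.isOpenMap _ hCclosed.isOpen_compl
  have hU : U₁ ∪ U₂ = f ⁻¹' {η} := by
    rw [hU₁, hU₂, ← Set.image_union, Set.union_compl_self, Set.image_univ, Subtype.range_coe]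
  have hd : Disjoint U₁ U₂ := by
    rw [hU₁, hU₂]
    exact (Set.disjoint_image_iff Subtype.val_injective).2 disjoint_compl_right
  -- disjointness of closures via good charts
  have hdisj : Disjoint (closure U₁) (closure U₂) := by
    rw [Set.disjoint_left]
    intro x hx1 hx2
    obtain ⟨B, j, _, φ, hxj, hφ, hnzd, hredB⟩ := hchart x
    obtain ⟨x', rfl⟩ := hxj
    have hpre : ∀ U : Set X, j ⁻¹' closure U = closure (j ⁻¹' U) := fun U =>
      j.isOpenEmbedding.isOpenMap.preimage_closure_eq_closure_preimage j.continuous U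
    have hx1' : x' ∈ closure (j ⁻¹' U₁) := by rw [← hpre]; exact hx1
    have hx2' : x' ∈ closure (j ⁻¹' U₂) := by rw [← hpre]; exact hx2
    have hU' : (j ⁻¹' U₁) ∪ (j ⁻¹' U₂) =
        (PrimeSpectrum.basicOpen (φ.hom ϖ) : Set (PrimeSpectrum B)) := by
      rw [← Set.preimage_union, hU]
      exact preimage_generic_eq_basicOpen f hϖ η hη j φ hφ
    have key := disjoint_closure_of_basicOpen (φ.hom ϖ) hnzd hredB (j ⁻¹' U₁) (j ⁻¹' U₂)
      (h1.preimage j.continuous) (h2.preimage j.continuous) hU' (hd.preimage _)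
    exact Set.disjoint_left.1 key hx1' hx2'
  -- the closures cover
  have hcover : closure U₁ ∪ closure U₂ = Set.univ := by
    rw [← closure_union, hU]
    apply Set.eq_univ_of_forall
    intro x
    obtain ⟨B, j, _, φ, hxj, hφ, hnzd, hredB⟩ := hchart x
    obtain ⟨x', rfl⟩ := hxj
    obtain ⟨q, hq, hqx⟩ := Ideal.exists_minimalPrimes_le
      (I := (⊥ : Ideal B)) (J := (show PrimeSpectrum B from x').asIdeal) bot_le
    haveI : q.IsPrime := hq.1.1
    let qq : Spec B := (⟨q, inferInstance⟩ : PrimeSpectrum B)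
    have hqη : qq ∈ j ⁻¹' (f ⁻¹' {η}) := by
      rw [preimage_generic_eq_basicOpen f hϖ η hη j φ hφ]
      show φ.hom ϖ ∉ q
      intro hmem
      exact _root_.notMem_nonZeroDivisors_of_mem_mem_minimalPrimes hmem hq hnzd
    have hspec : qq ⤳ x' := by
      show (⟨q, inferInstance⟩ : PrimeSpectrum B) ⤳ (show PrimeSpectrum B from x')
      rw [← PrimeSpectrum.le_iff_specializes]
      exact hqx
    exact (hspec.map j.continuous).mem_closed isClosed_closure (subset_closure hqη)
  have hA1 : IsClopen (closure U₁) := by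
    refine ⟨isClosed_closure, ?_⟩
    have : closure U₁ = (closure U₂)ᶜ := by
      ext x
      constructor
      · intro hx1 hx2
        exact Set.disjoint_left.1 hdisj hx1 hx2
      · intro hx2
        have hx : x ∈ closure U₁ ∪ closure U₂ := by rw [hcover]; trivial
        rcases hx with hx | hx
        · exact hx
        · exact absurd hx hx2
    rw [this]
    exact isClosed_closure.isOpen_compl
  have hsrange : Set.range s ⊆ closure U₁ :=
    (isPreconnected_range s.continuous).subset_isClopen hA1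
      ⟨s η, ⟨η, rfl⟩, subset_closure ⟨⟨s η, hsF⟩, mem_connectedComponent, rfl⟩⟩
  have hsy₀ : s y₀ ∈ closure U₁ := hsrange ⟨y₀, rfl⟩
  have hC₀ : connectedComponentIn (f ⁻¹' {y₀}) (s y₀) ⊆ closure U₁ :=
    isPreconnected_connectedComponentIn.subset_isClopen hA1
      ⟨s y₀, mem_connectedComponentIn (hfs y₀), hsy₀⟩
  have hty₀ : t y₀ ∈ closure U₁ := hC₀ h0
  have htrange : Set.range t ⊆ closure U₁ :=
    (isPreconnected_range t.continuous).subset_isClopen hA1 ⟨t y₀, ⟨y₀, rfl⟩, hty₀⟩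
  have htη : t η ∈ closure U₁ := htrange ⟨η, rfl⟩
  have htF : t η ∈ U₁ ∪ U₂ := by rw [hU]; exact hft η
  rw [hU1eq]
  rcases htF with h | h
  · exact h
  · exact absurd (subset_closure h) (fun h' => Set.disjoint_left.1 hdisj htη h')

/-! ### part H2a -/
/-- reducedness of the special fibre at a point, read elementwise on an affine chart -/
theorem chart_reduced_elementwise {R : Type u} [CommRing R] [IsLocalRing R]
    {X : Scheme.{u}} (f : X ⟶ Spec (CommRingCat.of R))
    {B : CommRingCat.{u}} (j : Spec B ⟶ X) [IsOpenImmersion j]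
    (φ : CommRingCat.of R ⟶ B) (hφ : Spec.map φ = j ≫ f) (p : PrimeSpectrum B)
    (hp : (IsLocalRing.maximalIdeal R).map φ.hom ≤ p.asIdeal)
    (Hred : ∀ w' : ↥(pullback f (Spec.map (CommRingCat.ofHom
        (algebraMap R (IsLocalRing.ResidueField R))))),
      pullback.fst f (Spec.map (CommRingCat.ofHom
        (algebraMap R (IsLocalRing.ResidueField R)))) w' = j p →
      _root_.IsReduced ((pullback f (Spec.map (CommRingCat.ofHom
        (algebraMap R (IsLocalRing.ResidueField R))))).presheaf.stalk w'))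
    (c : B) (hc : ∃ n : ℕ, c ^ n ∈ (IsLocalRing.maximalIdeal R).map φ.hom) :
    ∃ u : B, u ∉ p.asIdeal ∧ u * c ∈ (IsLocalRing.maximalIdeal R).map φ.hom := by
  let k := IsLocalRing.ResidueField R
  let z := Spec.map (CommRingCat.ofHom (algebraMap R k))
  letI : Algebra R B := φ.hom.toAlgebra
  have hφ' : CommRingCat.ofHom (algebraMap R B) = φ := rfl
  let I : Ideal B := (IsLocalRing.maximalIdeal R).map (algebraMap R B)
  have hI : I = (IsLocalRing.maximalIdeal R).map φ.hom := rfl
  let A := B ⊗[R] k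
  let e : (B ⧸ I) ≃ₐ[B] B ⊗[R] (R ⧸ IsLocalRing.maximalIdeal R) :=
    Algebra.TensorProduct.quotIdealMapEquivTensorQuot B (IsLocalRing.maximalIdeal R)
  let incl : B →+* A := Algebra.TensorProduct.includeLeftRingHom
  have hincl : ∀ b : B, incl b = e (Ideal.Quotient.mk I b) := fun b => rfl
  have hker : ∀ b : B, incl b = 0 ↔ b ∈ I := by
    intro b
    have h1 : e (Ideal.Quotient.mk I b) = 0 ↔ Ideal.Quotient.mk I b = 0 :=
      map_eq_zero_iff e e.injective
    rw [← Ideal.Quotient.eq_zero_iff_mem, ← h1]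
    exact Iff.rfl
  have hsurj : Function.Surjective incl := by
    intro a
    obtain ⟨q, rfl⟩ := e.surjective a
    obtain ⟨b, rfl⟩ := Ideal.Quotient.mk_surjective q
    exact ⟨b, rfl⟩
  -- the prime of `A` above `p`
  have hIp : I ≤ p.asIdeal := hp
  have hker' : RingHom.ker incl ≤ p.asIdeal := by
    intro b hb
    exact hIp ((hker b).1 hb)
  haveI hpA : (p.asIdeal.map incl).IsPrime := Ideal.map_isPrime_of_surjective hsurj hker'
  have hcomap : (p.asIdeal.map incl).comap incl = p.asIdeal := by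
    rw [Ideal.comap_map_of_surjective incl hsurj, sup_eq_left]
    exact hker'
  let pA : Spec (CommRingCat.of A) := (⟨p.asIdeal.map incl, hpA⟩ : PrimeSpectrum A)
  -- the open immersion `Spec A ⟶ pullback f z`
  let σ := pullbackSpecIso R B k
  let θ : Spec (CommRingCat.of A) ⟶ pullback f z :=
    σ.inv ≫ (pullback.congrHom (show Spec.map (CommRingCat.ofHom (algebraMap R B)) = j ≫ f from
      (congrArg Spec.map hφ').trans hφ) rfl).hom ≫
      (pullbackRightPullbackFstIso f z j).inv ≫ pullback.snd j (pullback.fst f z)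
  haveI : IsOpenImmersion θ := inferInstance
  have hθ : θ ≫ pullback.fst f z = Spec.map (CommRingCat.ofHom incl) ≫ j := by
    simp only [θ, Category.assoc]
    rw [pullbackRightPullbackFstIso_inv_snd_fst, ← Category.assoc (pullback.congrHom _ _).hom,
      pullback.congrHom_hom, pullback.lift_fst, Category.comp_id, ← Category.assoc,
      pullbackSpecIso_inv_fst]
  have hfst : pullback.fst f z (θ pA) = j p := by
    rw [← Scheme.Hom.comp_apply, hθ, Scheme.Hom.comp_apply]
    congr 1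
    apply PrimeSpectrum.ext
    exact hcomap
  have hredw := Hred (θ pA) hfst
  -- transport along the open immersion
  have hredA : _root_.IsReduced ((Spec (CommRingCat.of A)).presheaf.stalk pA) := by
    haveI := hredw
    exact isReduced_of_injective (inv (θ.stalkMap pA)).hom
      ((ConcreteCategory.bijective_of_isIso (inv (θ.stalkMap pA))).1)
  -- elementwise
  obtain ⟨n, hn⟩ := hc
  have hn0 : (incl c) ^ n = 0 := by
    rw [← map_pow, hker]
    exact hn
  letI : Algebra A ((Spec (CommRingCat.of A)).presheaf.stalk pA) :=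
    StructureSheaf.stalkAlgebra (R := A) pA
  haveI hloc : IsLocalization.AtPrime ((Spec (CommRingCat.of A)).presheaf.stalk pA)
      (p.asIdeal.map incl) :=
    StructureSheaf.IsLocalization.to_stalk (R := A) pA
  have h0 : algebraMap A ((Spec (CommRingCat.of A)).presheaf.stalk pA) (incl c) = 0 := by
    apply IsReduced.eq_zero
    exact ⟨n, by rw [← map_pow, hn0, map_zero]⟩
  rw [IsLocalization.map_eq_zero_iff (p.asIdeal.map incl).primeCompl] at h0
  obtain ⟨⟨a, ha⟩, hac⟩ := h0
  obtain ⟨u, rfl⟩ := hsurj a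
  refine ⟨u, ?_, ?_⟩
  · intro hu
    exact ha (Ideal.mem_map_of_mem incl hu)
  · rw [← hI, ← hker, map_mul]
    exact hac

/-! ### part H2b -/
/-- points with good charts form an open set -/
theorem isOpen_setOf_hasGoodChart {R : Type u} [CommRing R] {X : Scheme.{u}}
    (f : X ⟶ Spec (CommRingCat.of R)) (ϖ : R) : IsOpen {x : X | HasGoodChart f ϖ x} := by
  rw [isOpen_iff_forall_mem_open]
  intro x hx
  obtain ⟨B, j, hj, φ, hxj, hφ, hnzd, hred⟩ := hx
  refine ⟨Set.range j, ?_, j.isOpenEmbedding.isOpen_range, hxj⟩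
  rintro _ ⟨x', rfl⟩
  exact ⟨B, j, hj, φ, ⟨x', rfl⟩, hφ, hnzd, hred⟩

/-- construction of a good chart at a point of the special fibre at which the morphism is
"open towards the generic fibre" and the special fibre is geometrically reduced -/
theorem hasGoodChart_of_component {R : Type u} [CommRing R] [IsDomain R]
    [IsDiscreteValuationRing R]
    {X : Scheme.{u}} (f : X ⟶ Spec (CommRingCat.of R)) [LocallyOfFiniteType f] [QuasiCompact f]
    {ϖ : R} (hϖ : Irreducible ϖ)
    (η y₀ : Spec (CommRingCat.of R)) (hη : η = (⟨⊥, Ideal.isPrime_bot⟩ : PrimeSpectrum R))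
    (hy₀ : y₀ = IsLocalRing.closedPoint R)
    (C₀ : Set X) (hC₀sub : C₀ ⊆ f ⁻¹' {y₀})
    (hC₀gen : ∀ w ∈ C₀, ∀ w' : X, w' ⤳ w → f w' = y₀ → w' ∈ C₀)
    (Hopen : ∀ w ∈ C₀, w ∈ closure (f ⁻¹' {η}))
    (w : X) (hw : w ∈ C₀)
    (Hred : ∀ w' : ↥(pullback f (Spec.map (CommRingCat.ofHom
        (algebraMap R (IsLocalRing.ResidueField R))))),
      pullback.fst f (Spec.map (CommRingCat.ofHom
        (algebraMap R (IsLocalRing.ResidueField R)))) w' = w →
      _root_.IsReduced ((pullback f (Spec.map (CommRingCat.ofHom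
        (algebraMap R (IsLocalRing.ResidueField R))))).presheaf.stalk w')) :
    HasGoodChart f ϖ w := by
  haveI : IsNoetherian X := Groth.Agent.Lib.Helper78.ConsOne.isNoetherian_of_finiteType f
  obtain ⟨_, ⟨W, hW : IsAffineOpen W, rfl⟩, hwW, -⟩ :=
    X.isBasis_affineOpens.exists_subset_of_mem_open (Set.mem_univ w) isOpen_univ
  let B : CommRingCat.{u} := Γ(X, W)
  haveI : IsNoetherianRing B := IsLocallyNoetherian.component_noetherian ⟨W, hW⟩
  let j : Spec B ⟶ X := hW.fromSpec
  haveI : IsOpenImmersion j := inferInstance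
  let φ : CommRingCat.of R ⟶ B := Spec.preimage (j ≫ f)
  have hφ : Spec.map φ = j ≫ f := Spec.map_preimage _
  have hwr : w ∈ Set.range j := by rw [hW.range_fromSpec]; exact hwW
  obtain ⟨p, hp⟩ := hwr
  let pp : PrimeSpectrum B := p
  set π : B := φ.hom ϖ with hπ
  have hgenfib := preimage_generic_eq_basicOpen f hϖ η hη j φ hφ
  -- the special fibre on the chart
  have hfib : ∀ q : Spec B, f (j q) = y₀ ↔ π ∈ (show PrimeSpectrum B from q).asIdeal := by
    intro q
    have hcomap' : f (j q) = (Spec.map φ) q := by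
      rw [← Scheme.Hom.comp_apply, ← hφ]
    have hcomap : f (j q) = PrimeSpectrum.comap φ.hom (show PrimeSpectrum B from q) := hcomap'
    constructor
    · intro h
      have h1 : (PrimeSpectrum.comap φ.hom q).asIdeal = IsLocalRing.maximalIdeal R := by
        rw [← hcomap, h, hy₀]; rfl
      have h2 : ϖ ∈ (PrimeSpectrum.comap φ.hom q).asIdeal := by
        rw [h1, hϖ.maximalIdeal_eq]
        exact Ideal.mem_span_singleton_self ϖ
      exact h2
    · intro h
      rcases dvr_eq_or_eq (PrimeSpectrum.comap φ.hom q) with h1 | h1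
      · exfalso
        rw [dvr_comap_eq_generic_iff hϖ] at h1
        exact h1 h
      · rw [hcomap, h1, hy₀]
  have hπp : π ∈ pp.asIdeal := (hfib p).1 (by rw [hp]; exact hC₀sub hw)
  have hgen : ∀ q : PrimeSpectrum B, π ∉ q.asIdeal → ∀ t : B, (∃ n : ℕ, π ^ n * t = 0) →
      t ∈ q.asIdeal := by
    rintro q hq t ⟨n, hn⟩
    have h0 : π ^ n * t ∈ q.asIdeal := by rw [hn]; exact zero_mem _
    rcases q.2.mem_or_mem h0 with h | h
    · exact absurd (q.2.mem_of_pow_mem n h) hq
    · exact h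
  have hclos : ∀ q : Ideal B, q.IsPrime → q ≤ pp.asIdeal →
      ∀ t : B, (∃ n : ℕ, π ^ n * t = 0) → t ∈ q := by
    intro q hq hqp t ht
    let qq : Spec B := (⟨q, hq⟩ : PrimeSpectrum B)
    by_cases hπq : π ∈ q
    · have hspec : j qq ⤳ w := by
        rw [← hp]
        apply Specializes.map _ j.continuous
        show (⟨q, hq⟩ : PrimeSpectrum B) ⤳ pp
        rw [← PrimeSpectrum.le_iff_specializes]
        exact hqp
      have hqC : j qq ∈ C₀ := hC₀gen w hw _ hspec ((hfib qq).2 hπq)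
      have hcl := Hopen _ hqC
      have hcl' : (⟨q, hq⟩ : PrimeSpectrum B) ∈ closure (j ⁻¹' (f ⁻¹' {η})) := by
        rw [← j.isOpenEmbedding.isOpenMap.preimage_closure_eq_closure_preimage j.continuous]
        exact hcl
      rw [hgenfib] at hcl'
      have hsub : (PrimeSpectrum.basicOpen π : Set (PrimeSpectrum B)) ⊆
          PrimeSpectrum.zeroLocus {t} := by
        intro q' hq'
        rw [PrimeSpectrum.mem_zeroLocus, Set.singleton_subset_iff]
        exact hgen q' hq' t ht
      have h3 := closure_minimal hsub (PrimeSpectrum.isClosed_zeroLocus _) hcl'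
      rw [PrimeSpectrum.mem_zeroLocus, Set.singleton_subset_iff] at h3
      exact h3
    · exact hgen ⟨q, hq⟩ hπq t ht
  have hmap : (IsLocalRing.maximalIdeal R).map φ.hom = Ideal.span {π} := by
    rw [hϖ.maximalIdeal_eq, Ideal.map_span, Set.image_singleton]
  have hred : ∀ c : B, (∃ n : ℕ, c ^ n ∈ Ideal.span {π}) →
      ∃ u : B, u ∉ pp.asIdeal ∧ u * c ∈ Ideal.span {π} := by
    intro c hc
    rw [← hmap] at hc ⊢
    exact chart_reduced_elementwise f j φ hφ pp
      (by rw [hmap, Ideal.span_singleton_le_iff_mem]; exact hπp)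
      (fun w' hw' => Hred w' (hw'.trans hp)) c hc
  obtain ⟨b, hb, hnzd, hredb⟩ := exists_good_away π pp.asIdeal hπp hclos hred
  let L : CommRingCat.{u} := CommRingCat.of (Localization.Away b)
  let ι : Spec L ⟶ Spec B := Spec.map (CommRingCat.ofHom (algebraMap B (Localization.Away b)))
  haveI : IsOpenImmersion ι := inferInstance
  refine ⟨L, ι ≫ j, inferInstance,
    φ ≫ CommRingCat.ofHom (algebraMap B (Localization.Away b)), ?_, ?_, hnzd, hredb⟩
  · have hmem : pp ∈ Set.range ι := by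
      show pp ∈ Set.range (PrimeSpectrum.comap (algebraMap B (Localization.Away b)))
      rw [PrimeSpectrum.localization_away_comap_range (Localization.Away b) b]
      exact hb
    obtain ⟨p', hp'⟩ := hmem
    exact ⟨p', by rw [Scheme.Hom.comp_apply, hp', hp]⟩
  · rw [Spec.map_comp, Category.assoc, ← hφ]

/-! ### part H2c -/
/-- **DVR core, pointwise version**: over a DVR, if at every point of the component `C₀` of `s y₀`
in the special fibre the scheme is in the closure of the generic fibre and the special fibre is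
geometrically reduced there, then a section `t` meeting `C₀` meets the component of `s η` in the
generic fibre. -/
theorem core_dvr_open {R : Type u} [CommRing R] [IsDomain R] [IsDiscreteValuationRing R]
    {X : Scheme.{u}} (f : X ⟶ Spec (CommRingCat.of R)) [LocallyOfFiniteType f]
    [QuasiCompact f] (s t : Spec (CommRingCat.of R) ⟶ X) (hs : s ≫ f = 𝟙 _) (ht : t ≫ f = 𝟙 _)
    (η y₀ : Spec (CommRingCat.of R)) (hη : η = (⟨⊥, Ideal.isPrime_bot⟩ : PrimeSpectrum R))
    (hy₀ : y₀ = IsLocalRing.closedPoint R)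
    (h0 : t y₀ ∈ connectedComponentIn (f ⁻¹' {y₀}) (s y₀))
    (Hopen : ∀ w ∈ connectedComponentIn (f ⁻¹' {y₀}) (s y₀), w ∈ closure (f ⁻¹' {η}))
    (Hred : ∀ w ∈ connectedComponentIn (f ⁻¹' {y₀}) (s y₀),
      ∀ w' : ↥(pullback f (Spec.map (CommRingCat.ofHom
        (algebraMap R (IsLocalRing.ResidueField R))))),
      pullback.fst f (Spec.map (CommRingCat.ofHom
        (algebraMap R (IsLocalRing.ResidueField R)))) w' = w →
      _root_.IsReduced ((pullback f (Spec.map (CommRingCat.ofHom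
        (algebraMap R (IsLocalRing.ResidueField R))))).presheaf.stalk w')) :
    t η ∈ connectedComponentIn (f ⁻¹' {η}) (s η) := by
  obtain ⟨ϖ, hϖ⟩ := IsDiscreteValuationRing.exists_irreducible R
  haveI : IsNoetherian X := Groth.Agent.Lib.Helper78.ConsOne.isNoetherian_of_finiteType f
  have hfs : ∀ y, f (s y) = y := fun y => by
    rw [← Scheme.Hom.comp_apply, hs]; rfl
  have hft : ∀ y, f (t y) = y := fun y => by
    rw [← Scheme.Hom.comp_apply, ht]; rfl
  set C₀ : Set X := connectedComponentIn (f ⁻¹' {y₀}) (s y₀) with hC₀def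
  have hC₀sub : C₀ ⊆ f ⁻¹' {y₀} := connectedComponentIn_subset _ _
  have hsF : s y₀ ∈ f ⁻¹' {y₀} := hfs y₀
  have hsC₀ : s y₀ ∈ C₀ := mem_connectedComponentIn hsF
  -- stability of `C₀` under generization inside the fibre
  have hC₀gen : ∀ w ∈ C₀, ∀ w' : X, w' ⤳ w → f w' = y₀ → w' ∈ C₀ := by
    intro w hw w' hspec hw'
    haveI : TopologicalSpace.NoetherianSpace ↥(f ⁻¹' {y₀}) := inferInstance
    have hCeq : C₀ = Subtype.val '' connectedComponent (⟨s y₀, hsF⟩ : ↥(f ⁻¹' {y₀})) :=
      connectedComponentIn_eq_image hsF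
    have hCopen : IsOpen (connectedComponent (⟨s y₀, hsF⟩ : ↥(f ⁻¹' {y₀}))) :=
      Groth.Agent.Lib.Helper50.isOpen_connectedComponent_of_noetherianSpace _
    rw [hCeq] at hw ⊢
    obtain ⟨⟨w1, hw1⟩, hwC, rfl⟩ := hw
    have hspec' : (⟨w', hw'⟩ : ↥(f ⁻¹' {y₀})) ⤳ ⟨w1, hw1⟩ := by
      rw [subtype_specializes_iff]
      exact hspec
    exact ⟨⟨w', hw'⟩, hspec'.mem_open hCopen hwC, rfl⟩
  have hgood : ∀ w ∈ C₀, HasGoodChart f ϖ w := fun w hw =>
    hasGoodChart_of_component f hϖ η y₀ hη hy₀ C₀ hC₀sub hC₀gen Hopen w hw (Hred w hw)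
  let X'o : X.Opens := ⟨{x | HasGoodChart f ϖ x}, isOpen_setOf_hasGoodChart f ϖ⟩
  have hC₀X : C₀ ⊆ (X'o : Set X) := fun w hw => hgood w hw
  -- every point of `Spec R` specializes to `y₀`
  have hspecy : ∀ y : Spec (CommRingCat.of R), y ⤳ y₀ := fun y => by
    rw [hy₀]
    exact IsLocalRing.specializes_closedPoint (show PrimeSpectrum R from y)
  have hsX : ∀ y, s y ∈ X'o := fun y =>
    ((hspecy y).map s.continuous).mem_open X'o.2 (hC₀X hsC₀)
  have htX : ∀ y, t y ∈ X'o := fun y =>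
    ((hspecy y).map t.continuous).mem_open X'o.2 (hC₀X h0)
  have hsr : Set.range s ⊆ Set.range X'o.ι := by
    rintro _ ⟨y, rfl⟩
    rw [Scheme.Opens.range_ι]
    exact hsX y
  have htr : Set.range t ⊆ Set.range X'o.ι := by
    rintro _ ⟨y, rfl⟩
    rw [Scheme.Opens.range_ι]
    exact htX y
  let s' : Spec (CommRingCat.of R) ⟶ (X'o : Scheme.{u}) := IsOpenImmersion.lift X'o.ι s hsr
  let t' : Spec (CommRingCat.of R) ⟶ (X'o : Scheme.{u}) := IsOpenImmersion.lift X'o.ι t htr
  have hs'ι : s' ≫ X'o.ι = s := IsOpenImmersion.lift_fac _ _ _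
  have ht'ι : t' ≫ X'o.ι = t := IsOpenImmersion.lift_fac _ _ _
  have hs'a : ∀ y, X'o.ι (s' y) = s y := fun y => by rw [← Scheme.Hom.comp_apply, hs'ι]
  have ht'a : ∀ y, X'o.ι (t' y) = t y := fun y => by rw [← Scheme.Hom.comp_apply, ht'ι]
  let f' : (X'o : Scheme.{u}) ⟶ Spec (CommRingCat.of R) := X'o.ι ≫ f
  have hf'a : ∀ w, f' w = f (X'o.ι w) := fun w => Scheme.Hom.comp_apply _ _ _
  have hs' : s' ≫ f' = 𝟙 _ := by rw [← Category.assoc, hs'ι, hs]
  have ht' : t' ≫ f' = 𝟙 _ := by rw [← Category.assoc, ht'ι, ht]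
  haveI : IsLocallyNoetherian X := inferInstance
  haveI : LocallyOfFiniteType f' := inferInstance
  haveI : QuasiCompact f' := inferInstance
  have hchart' : ∀ x : (X'o : Scheme.{u}), HasGoodChart f' ϖ x := by
    intro x
    obtain ⟨B, j, hj, φ, hxj, hφ, hnzd, hredB⟩ := x.2
    have hjr : Set.range j ⊆ Set.range X'o.ι := by
      rw [Scheme.Opens.range_ι]
      rintro _ ⟨x', rfl⟩
      exact ⟨B, j, hj, φ, ⟨x', rfl⟩, hφ, hnzd, hredB⟩
    let j' : Spec B ⟶ (X'o : Scheme.{u}) := IsOpenImmersion.lift X'o.ι j hjr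
    have hj'ι : j' ≫ X'o.ι = j := IsOpenImmersion.lift_fac _ _ _
    haveI : IsOpenImmersion (j' ≫ X'o.ι) := by rw [hj'ι]; exact hj
    haveI : IsOpenImmersion j' := IsOpenImmersion.of_comp j' X'o.ι
    refine ⟨B, j', inferInstance, φ, ?_, ?_, hnzd, hredB⟩
    · obtain ⟨x', hx'⟩ := hxj
      refine ⟨x', ?_⟩
      apply X'o.ι.isOpenEmbedding.injective
      rw [← Scheme.Hom.comp_apply, hj'ι, hx']
      rfl
    · rw [hφ, ← hj'ι, Category.assoc]
  have hQ : _root_.IsPreconnected (X'o.ι ⁻¹' C₀) := by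
    rw [← X'o.ι.isOpenEmbedding.isInducing.isPreconnected_image,
      Set.image_preimage_eq_inter_range, Scheme.Opens.range_ι, Set.inter_eq_left.2 hC₀X]
    exact isPreconnected_connectedComponentIn
  have hQsub : X'o.ι ⁻¹' C₀ ⊆ f' ⁻¹' {y₀} := by
    intro w hw
    show f' w = y₀
    rw [hf'a]
    exact hC₀sub hw
  have hs'mem : s' y₀ ∈ X'o.ι ⁻¹' C₀ := by
    show X'o.ι (s' y₀) ∈ C₀
    rw [hs'a]; exact hsC₀
  have ht'mem : t' y₀ ∈ X'o.ι ⁻¹' C₀ := by
    show X'o.ι (t' y₀) ∈ C₀
    rw [ht'a]; exact h0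
  have h0' : t' y₀ ∈ connectedComponentIn (f' ⁻¹' {y₀}) (s' y₀) :=
    hQ.subset_connectedComponentIn hs'mem hQsub ht'mem
  have key := core_dvr' f' s' t' hs' ht' hϖ hchart' η y₀ hη h0'
  have hpre : _root_.IsPreconnected (X'o.ι '' connectedComponentIn (f' ⁻¹' {η}) (s' η)) :=
    isPreconnected_connectedComponentIn.image _ X'o.ι.continuous.continuousOn
  have hsubset : X'o.ι '' connectedComponentIn (f' ⁻¹' {η}) (s' η) ⊆ f ⁻¹' {η} := by
    rintro _ ⟨w, hw, rfl⟩
    have h1 : f' w = η := connectedComponentIn_subset (f' ⁻¹' {η}) (s' η) hw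
    show f (X'o.ι w) = η
    rw [← hf'a]; exact h1
  have hmem : s η ∈ X'o.ι '' connectedComponentIn (f' ⁻¹' {η}) (s' η) := by
    refine ⟨s' η, mem_connectedComponentIn ?_, hs'a η⟩
    show f' (s' η) = η
    rw [hf'a, hs'a, hfs]
  exact hpre.subset_connectedComponentIn hmem hsubset ⟨t' η, key, ht'a η⟩

/-! ### part J1 -/
/-- the geometric fibres of `f` are reduced at all points above `x` -/
def RedAt {X Y : Scheme.{u}} (f : X ⟶ Y) (x : X) : Prop :=
  ∀ (K : Type u) [Field K] (z : Spec (CommRingCat.of K) ⟶ Y) (w' : ↥(pullback f z)),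
    pullback.fst f z w' = x → _root_.IsReduced ((pullback f z).presheaf.stalk w')

/-- reducedness of stalks along an open immersion -/
theorem isReduced_stalk_iff_of_isOpenImmersion {A B : Scheme.{u}} (θ : A ⟶ B) [IsOpenImmersion θ]
    (a : A) (b : B) (hab : θ a = b) :
    _root_.IsReduced (A.presheaf.stalk a) ↔ _root_.IsReduced (B.presheaf.stalk b) := by
  subst hab
  constructor
  · intro h
    exact isReduced_of_injective (θ.stalkMap a).hom
      ((ConcreteCategory.bijective_of_isIso (θ.stalkMap a)).1)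
  · intro h
    exact isReduced_of_injective (inv (θ.stalkMap a)).hom
      ((ConcreteCategory.bijective_of_isIso (inv (θ.stalkMap a))).1)

/-- the prelude's pointwise geometric reducedness of the fibre gives `RedAt` (factored form) -/
theorem redAt_of_isGeomReducedAt_aux {X Y : Scheme.{u}} (f : X ⟶ Y) (x : X)
    (h : FBase.IsGeomReducedAt (f.fiberToSpecResidueField (f x)) (f.asFiber x))
    (K : Type u) [Field K] (y' : Y) (φ : Y.residueField y' ⟶ CommRingCat.of K)
    (w' : ↥(pullback f (Spec.map φ ≫ Y.fromSpecResidueField y')))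
    (hw' : pullback.fst f (Spec.map φ ≫ Y.fromSpecResidueField y') w' = x) :
    _root_.IsReduced ((pullback f (Spec.map φ ≫ Y.fromSpecResidueField y')).presheaf.stalk w') := by
  have hy : y' = f x := by
    have h1 : f (pullback.fst f (Spec.map φ ≫ Y.fromSpecResidueField y') w') =
        (Spec.map φ ≫ Y.fromSpecResidueField y')
          (pullback.snd f (Spec.map φ ≫ Y.fromSpecResidueField y') w') := by
      rw [← Scheme.Hom.comp_apply, pullback.condition, Scheme.Hom.comp_apply]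
    rw [hw', Scheme.Hom.comp_apply, Scheme.fromSpecResidueField_apply] at h1
    exact h1.symm
  subst hy
  letI : Algebra (IsLocalRing.ResidueField ↑(Y.presheaf.stalk (f x))) K :=
    (show IsLocalRing.ResidueField ↑(Y.presheaf.stalk (f x)) →+* K from φ.hom).toAlgebra
  let σ := pullbackLeftPullbackSndIso f (Y.fromSpecResidueField (f x)) (Spec.map φ)
  let P : Scheme.{u} := pullback (pullback.snd f (Y.fromSpecResidueField (f x))) (Spec.map φ)
  let w'' : P := σ.inv w'
  have hfst : pullback.fst f (Y.fromSpecResidueField (f x))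
      (pullback.fst (pullback.snd f (Y.fromSpecResidueField (f x))) (Spec.map φ) w'') = x := by
    rw [← Scheme.Hom.comp_apply, ← Scheme.Hom.comp_apply, pullbackLeftPullbackSndIso_inv_fst]
    exact hw'
  have hasF : pullback.fst (pullback.snd f (Y.fromSpecResidueField (f x))) (Spec.map φ) w'' =
      f.asFiber x := by
    apply (f.fiberι (f x)).isEmbedding.injective
    rw [Scheme.Hom.fiberι_asFiber]
    exact hfst
  have hred : _root_.IsReduced (P.presheaf.stalk w'') := h K w'' hasF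
  have hσ : σ.hom w'' = w' := by
    show σ.hom (σ.inv w') = w'
    rw [← Scheme.Hom.comp_apply, Iso.inv_hom_id]; rfl
  exact (isReduced_stalk_iff_of_isOpenImmersion σ.hom w'' w' hσ).1 hred

/-- the prelude's pointwise geometric reducedness of the fibre gives `RedAt` -/
theorem redAt_of_isGeomReducedAt {X Y : Scheme.{u}} (f : X ⟶ Y) (x : X)
    (h : FBase.IsGeomReducedAt (f.fiberToSpecResidueField (f x)) (f.asFiber x)) : RedAt f x := by
  intro K _ z w' hw'
  obtain ⟨⟨y', φ⟩, hz⟩ := (Scheme.SpecToEquivOfField K Y).symm.surjective z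
  have hz' : z = Spec.map φ ≫ Y.fromSpecResidueField y' := hz.symm
  subst hz'
  exact redAt_of_isGeomReducedAt_aux f x h K y' φ w' hw'

/-! ### part J2 -/
/-- **Noetherian case, pointwise hypotheses**: generizations of points of `X_y⁰` stay in `X⁰`. -/
theorem mem_sectionComponents_of_specializes_noeth_uo {X T : Scheme.{u}} [IsLocallyNoetherian T]
    (f : X ⟶ T) [LocallyOfFiniteType f] [QuasiCompact f] (s : T ⟶ X)
    (hs : s ≫ f = 𝟙 T) (y : T)
    (hopen : ∀ w ∈ connectedComponentIn (f ⁻¹' {y}) (s y), EGA43.IsUnivOpenAt f w)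
    (hredAt : ∀ w ∈ connectedComponentIn (f ⁻¹' {y}) (s y), RedAt f w)
    (x x' : X) (hx : x ∈ connectedComponentIn (f ⁻¹' {y}) (s y)) (hsp : x' ⤳ x) :
    x' ∈ MoreMor.sectionComponents f s := by
  have hfx : f x = y := (connectedComponentIn_subset (f ⁻¹' {y}) (s y)) hx
  by_cases hne : x = x'
  · rw [← hne, mem_sectionComponents_iff f s x y hfx]
    exact hx
  haveI : IsLocallyNoetherian X := LocallyOfFiniteType.isLocallyNoetherian f
  obtain ⟨R, _, _, _, a, y₀, η, hy₀, hη, hcl, hgen⟩ := exists_dvr_of_specializes x x' hsp hne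
  -- the base change to `Spec R`
  let g₂ : Spec (CommRingCat.of R) ⟶ T := a ≫ f
  let f₂ : pullback f g₂ ⟶ Spec (CommRingCat.of R) := pullback.snd f g₂
  let g₂' : pullback f g₂ ⟶ X := pullback.fst f g₂
  have hc : IsPullback g₂' f₂ f g₂ := IsPullback.of_hasPullback f g₂
  let s₂ : Spec (CommRingCat.of R) ⟶ pullback f g₂ :=
    pullback.lift (g₂ ≫ s) (𝟙 _) (by rw [Category.assoc, hs, Category.comp_id, Category.id_comp])
  let t : Spec (CommRingCat.of R) ⟶ pullback f g₂ :=
    pullback.lift a (𝟙 _) (by rw [Category.id_comp])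
  have hs₂ : s₂ ≫ f₂ = 𝟙 _ := pullback.lift_snd _ _ _
  have ht : t ≫ f₂ = 𝟙 _ := pullback.lift_snd _ _ _
  have hs₂g : s₂ ≫ g₂' = g₂ ≫ s := pullback.lift_fst _ _ _
  have htg : t ≫ g₂' = a := pullback.lift_fst _ _ _
  have hbc := sectionComponents_baseChange f s hs f₂ g₂' g₂ hc s₂ hs₂ hs₂g
  have hft : ∀ w, f₂ (t w) = w := fun w => by
    rw [← Scheme.Hom.comp_apply, ht]; rfl
  have hgt : ∀ w, g₂' (t w) = a w := fun w => by
    rw [← Scheme.Hom.comp_apply, htg]
  have hg₂y₀ : g₂ y₀ = y := by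
    show (a ≫ f) y₀ = y
    rw [Scheme.Hom.comp_apply, hcl, hfx]
  -- points of the special component map into `X_y⁰`
  have hcomp : ∀ w ∈ connectedComponentIn (f₂ ⁻¹' {y₀}) (s₂ y₀),
      g₂' w ∈ connectedComponentIn (f ⁻¹' {y}) (s y) := by
    intro w hw
    have hfw : f₂ w = y₀ := connectedComponentIn_subset (f₂ ⁻¹' {y₀}) (s₂ y₀) hw
    rw [← mem_sectionComponents_iff f₂ s₂ w y₀ hfw, hbc] at hw
    have hw' : g₂' w ∈ MoreMor.sectionComponents f s := hw
    have hfg : f (g₂' w) = y := by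
      rw [← Scheme.Hom.comp_apply, hc.w, Scheme.Hom.comp_apply, hfw, hg₂y₀]
    rw [mem_sectionComponents_iff f s (g₂' w) y hfg] at hw'
    exact hw'
  let z := Spec.map (CommRingCat.ofHom (algebraMap R (IsLocalRing.ResidueField R)))
  -- apply the DVR core
  have h0 : t y₀ ∈ connectedComponentIn (f₂ ⁻¹' {y₀}) (s₂ y₀) := by
    rw [← mem_sectionComponents_iff f₂ s₂ (t y₀) y₀ (hft y₀), hbc]
    show g₂' (t y₀) ∈ MoreMor.sectionComponents f s
    rw [hgt, hcl, mem_sectionComponents_iff f s x y hfx]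
    exact hx
  have Hopen : ∀ w ∈ connectedComponentIn (f₂ ⁻¹' {y₀}) (s₂ y₀), w ∈ closure (f₂ ⁻¹' {η}) := by
    intro w hw
    have hfw : f₂ w = y₀ := connectedComponentIn_subset (f₂ ⁻¹' {y₀}) (s₂ y₀) hw
    have hUO := hopen _ (hcomp w hw) (Spec (CommRingCat.of R)) g₂ w rfl
    rw [mem_closure_iff_nhds]
    intro U hU
    have h1 : f₂ '' U ∈ nhds (f₂ w) := hUO U hU
    rw [hfw, hy₀] at h1
    obtain ⟨V, hVsub, hVopen, hVmem⟩ := mem_nhds_iff.1 h1
    have hVtop : (⟨V, hVopen⟩ : TopologicalSpace.Opens (PrimeSpectrum R)) = ⊤ :=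
      (IsLocalRing.closedPoint_mem_iff _).1 hVmem
    have hηV : η ∈ V := by
      have : (show PrimeSpectrum R from η) ∈
          (⟨V, hVopen⟩ : TopologicalSpace.Opens (PrimeSpectrum R)) := by
        rw [hVtop]; trivial
      exact this
    obtain ⟨u, huU, hu⟩ := hVsub hηV
    exact ⟨u, huU, hu⟩
  have Hred : ∀ w ∈ connectedComponentIn (f₂ ⁻¹' {y₀}) (s₂ y₀),
      ∀ w' : ↥(pullback f₂ z), pullback.fst f₂ z w' = w →
      _root_.IsReduced ((pullback f₂ z).presheaf.stalk w') := by
    intro w hw w' hw'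
    let σ := pullbackLeftPullbackSndIso f g₂ z
    have hfst : pullback.fst f (z ≫ g₂) (σ.hom w') = g₂' w := by
      rw [← Scheme.Hom.comp_apply, pullbackLeftPullbackSndIso_hom_fst, Scheme.Hom.comp_apply]
      show g₂' (pullback.fst f₂ z w') = g₂' w
      rw [hw']
    have hR := hredAt _ (hcomp w hw) (IsLocalRing.ResidueField R) (z ≫ g₂) (σ.hom w') hfst
    exact (isReduced_stalk_iff_of_isOpenImmersion σ.hom w' (σ.hom w') rfl).2 hR
  have key := core_dvr_open f₂ s₂ t hs₂ ht η y₀ hη hy₀ h0 Hopen Hred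
  rw [← mem_sectionComponents_iff f₂ s₂ (t η) η (hft η), hbc] at key
  have key' : g₂' (t η) ∈ MoreMor.sectionComponents f s := key
  rw [hgt, hgen] at key'
  exact key'

/-! ### part J3 -/
/-- transfer of `RedAt` to a restriction to open subschemes -/
theorem redAt_of_openImmersions {X Y U V : Scheme.{u}} (f : X ⟶ Y) (g : U ⟶ V) (ιU : U ⟶ X)
    (ιV : V ⟶ Y) [IsOpenImmersion ιU] [IsOpenImmersion ιV] (hcomm : g ≫ ιV = ιU ≫ f) (w : U)
    (h : RedAt f (ιU w)) : RedAt g w := by
  intro K _ z w' hw'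
  let θ : pullback g z ⟶ pullback f (z ≫ ιV) :=
    pullback.map g z f (z ≫ ιV) ιU (𝟙 _) ιV hcomm (by rw [Category.id_comp])
  haveI : IsOpenImmersion θ := inferInstance
  have hfst : pullback.fst f (z ≫ ιV) (θ w') = ιU w := by
    rw [← Scheme.Hom.comp_apply, pullback.lift_fst, Scheme.Hom.comp_apply, hw']
  have hR := h K (z ≫ ιV) (θ w') hfst
  exact (isReduced_stalk_iff_of_isOpenImmersion θ w' (θ w') rfl).2 hR

/-- transfer of universal openness at a point to a restriction to open subschemes -/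
theorem isUnivOpenAt_of_openImmersions {X Y U V : Scheme.{u}} (f : X ⟶ Y) (g : U ⟶ V)
    (ιU : U ⟶ X) (ιV : V ⟶ Y) [IsOpenImmersion ιU] [IsOpenImmersion ιV]
    (hcomm : g ≫ ιV = ιU ≫ f) (w : U) (h : EGA43.IsUnivOpenAt f (ιU w)) :
    EGA43.IsUnivOpenAt g w := by
  intro Y' z x' hx'
  let θ : pullback g z ⟶ pullback f (z ≫ ιV) :=
    pullback.map g z f (z ≫ ιV) ιU (𝟙 _) ιV hcomm (by rw [Category.id_comp])
  haveI : IsOpenImmersion θ := inferInstance
  have hx'' : pullback.fst g z x' = w := hx'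
  have hfst : pullback.fst f (z ≫ ιV) (θ x') = ιU w := by
    rw [← Scheme.Hom.comp_apply, pullback.lift_fst, Scheme.Hom.comp_apply, hx'']
  have hO := h Y' (z ≫ ιV) (θ x') hfst
  have hsnd : ∀ a, (pullback.snd f (z ≫ ιV)) (θ a) = pullback.snd g z a := fun a => by
    rw [← Scheme.Hom.comp_apply, pullback.lift_snd, Category.comp_id]
  intro N hN
  have h1 : θ '' N ∈ nhds (θ x') := θ.isOpenEmbedding.isOpenMap.image_mem_nhds hN
  have h2 : (pullback.snd f (z ≫ ιV)) '' (θ '' N) ∈ nhds ((pullback.snd f (z ≫ ιV)) (θ x')) :=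
    hO _ h1
  rw [hsnd] at h2
  refine Filter.mem_of_superset h2 ?_
  rintro _ ⟨_, ⟨a, ha, rfl⟩, rfl⟩
  exact ⟨a, ha, (hsnd a).symm⟩

/-- **Noetherian quasi-compact case** -/
theorem subset_interior_sectionComponents_noeth {X T : Scheme.{u}} [IsLocallyNoetherian T]
    (f : X ⟶ T) [LocallyOfFiniteType f] [QuasiCompact f] (s : T ⟶ X)
    (hs : s ≫ f = 𝟙 T) (y : T)
    (hopen : ∀ w ∈ connectedComponentIn (f ⁻¹' {y}) (s y), EGA43.IsUnivOpenAt f w)
    (hredAt : ∀ w ∈ connectedComponentIn (f ⁻¹' {y}) (s y), RedAt f w) :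
    connectedComponentIn (f ⁻¹' {y}) (s y) ⊆ interior (MoreMor.sectionComponents f s) := by
  haveI : IsLocallyNoetherian X := LocallyOfFiniteType.isLocallyNoetherian f
  haveI : LocallyOfFinitePresentation f := inferInstance
  haveI : QuasiSeparated f := inferInstance
  intro x hx
  have hE : ProCons.IsIndConstructible (MoreMor.sectionComponents f s) :=
    Groth.Agent.Lib.Helper36.isIndConstructible_of_isLocallyConstructible
      (Groth.Agent.S1326.result f s hs)
  rw [Groth.Agent.S3403.result X _ hE x]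
  intro x' hsp
  exact mem_sectionComponents_of_specializes_noeth_uo f s hs y hopen hredAt x x' hx hsp

/-- **EGA IV 15.6.4**, in terms of `RedAt` -/
theorem subset_interior_sectionComponents_uo {S X : Scheme.{u}} [IsLocallyNoetherian S]
    (f : X ⟶ S) [LocallyOfFiniteType f] (e : S ⟶ X) (he : e ≫ f = 𝟙 S) (y : S)
    (hopen : ∀ w ∈ connectedComponentIn (f ⁻¹' {y}) (e y), EGA43.IsUnivOpenAt f w)
    (hredAt : ∀ w ∈ connectedComponentIn (f ⁻¹' {y}) (e y), RedAt f w) :
    connectedComponentIn (f ⁻¹' {y}) (e y) ⊆ interior (MoreMor.sectionComponents f e) := by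
  haveI : IsLocallyNoetherian X := LocallyOfFiniteType.isLocallyNoetherian f
  intro x hx'
  have hfe : ∀ v, f (e v) = v := fun v => by
    rw [← Scheme.Hom.comp_apply, he]; rfl
  have hy : y = f x := ((connectedComponentIn_subset (f ⁻¹' {y}) (e y)) hx').symm
  obtain ⟨_, ⟨V₀, hV₀ : IsAffineOpen V₀, rfl⟩, hyV₀, -⟩ :=
    S.isBasis_affineOpens.exists_subset_of_mem_open (Set.mem_univ y) isOpen_univ
  -- the family of affine opens over `V₀`
  let 𝒲 : Set (Set X) := {W | ∃ W' : X.Opens, IsAffineOpen W' ∧ W' ≤ f ⁻¹ᵁ V₀ ∧ W = (W' : Set X)}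
  have hcov : f ⁻¹' {y} ⊆ ⋃₀ 𝒲 := by
    intro z hz
    have hzV : z ∈ f ⁻¹ᵁ V₀ := by
      show f z ∈ V₀
      rw [hz]; exact hyV₀
    obtain ⟨_, ⟨W', hW' : IsAffineOpen W', rfl⟩, hzW, hWV⟩ :=
      X.isBasis_affineOpens.exists_subset_of_mem_open hzV (f ⁻¹ᵁ V₀).2
    exact ⟨W', ⟨W', hW', hWV, rfl⟩, hzW⟩
  have hloc : ∀ W ∈ 𝒲, ∀ z ∈ W ∩ f ⁻¹' {y}, ∃ (A O : Set X), IsOpen O ∧ A = O ∩ f ⁻¹' {y} ∧
      A ⊆ W ∧ z ∈ A ∧ _root_.IsPreconnected A := by
    rintro _ ⟨W', hW', hWV, rfl⟩ z hz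
    haveI := noetherianSpace_inter_fibre f hV₀ hW' hWV y hyV₀
    exact exists_open_preconnected_piece (f ⁻¹' {y}) (W' : Set X) W'.2 z hz
  obtain ⟨𝒲', hfin, hsub, hxP⟩ :=
    exists_finite_connectedComponentIn (f ⁻¹' {y}) (e y) (hfe y) 𝒲 hcov hloc x hx'
  -- the quasi-compact open `U`
  have hUopen : IsOpen (⋃₀ 𝒲') := isOpen_sUnion fun W hW => by
    obtain ⟨W', -, -, rfl⟩ := hsub hW
    exact W'.2
  let U : X.Opens := ⟨⋃₀ 𝒲', hUopen⟩
  have hUc : IsCompact (U : Set X) := hfin.isCompact_sUnion fun W hW => by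
    obtain ⟨W', hW', -, rfl⟩ := hsub hW
    exact hW'.isCompact
  have hUV : U ≤ f ⁻¹ᵁ V₀ := by
    rintro z ⟨W, hW, hzW⟩
    obtain ⟨W', -, hWV, rfl⟩ := hsub hW
    exact hWV hzW
  set P : Set X := connectedComponentIn ((⋃₀ 𝒲') ∩ f ⁻¹' {y}) (e y) with hP
  have hPsub : P ⊆ (U : Set X) ∩ f ⁻¹' {y} := connectedComponentIn_subset _ _
  have heyP : e y ∈ P := by
    apply mem_connectedComponentIn
    by_contra hcon
    rw [hP, connectedComponentIn_eq_empty hcon] at hxP
    exact hxP
  have heyU : e y ∈ U := (hPsub heyP).1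
  -- shrink the base
  obtain ⟨_, ⟨V, hV : IsAffineOpen V, rfl⟩, hyV, hVsub⟩ :=
    S.isBasis_affineOpens.exists_subset_of_mem_open
      (show y ∈ ((e ⁻¹ᵁ U ⊓ V₀ : S.Opens) : Set S) from ⟨heyU, hyV₀⟩) (e ⁻¹ᵁ U ⊓ V₀ : S.Opens).2
  have hVU : ∀ v ∈ V, e v ∈ U := fun v hv => (hVsub hv).1
  have hVV₀ : V ≤ V₀ := fun v hv => (hVsub hv).2
  let U'' : X.Opens := U ⊓ f ⁻¹ᵁ V
  let g : (U'' : Scheme.{u}) ⟶ (V : Scheme.{u}) := f.resLE V U'' inf_le_right
  have hgι : g ≫ Scheme.Opens.ι V = Scheme.Opens.ι U'' ≫ f := Scheme.Hom.resLE_comp_ι _ _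
  have hg : ∀ w, f (Scheme.Opens.ι U'' w) = Scheme.Opens.ι V (g w) := fun w => by
    rw [← Scheme.Hom.comp_apply, ← Scheme.Hom.comp_apply, hgι]
  haveI : IsAffine (V : Scheme.{u}) := hV
  haveI : IsAffine (V₀ : Scheme.{u}) := hV₀
  -- compactness of `U''`
  haveI : CompactSpace ↥(U : Scheme.{u}) := isCompact_iff_compactSpace.1 hUc
  have hU''c : IsCompact (U'' : Set X) := by
    let gU : (U : Scheme.{u}) ⟶ (V₀ : Scheme.{u}) := f.resLE V₀ U hUV
    haveI : QuasiCompact gU := inferInstance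
    have hgU : ∀ w, f (Scheme.Opens.ι U w) = Scheme.Opens.ι V₀ (gU w) := fun w => by
      rw [← Scheme.Hom.comp_apply, ← Scheme.Hom.comp_apply, Scheme.Hom.resLE_comp_ι]
    have h1 : IsCompact ((Scheme.Opens.ι V₀) ⁻¹' (V : Set S)) := by
      rw [(Scheme.Opens.ι V₀).isOpenEmbedding.isInducing.isCompact_preimage_iff]
      · exact hV.isCompact
      · intro v hv
        rw [Scheme.Opens.range_ι]
        exact hVV₀ hv
    have h2 : IsCompact (gU ⁻¹' ((Scheme.Opens.ι V₀) ⁻¹' (V : Set S))) :=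
      QuasiCompact.isCompact_preimage _ (V.2.preimage (Scheme.Opens.ι V₀).continuous) h1
    have h3 : (U'' : Set X) =
        Scheme.Opens.ι U '' (gU ⁻¹' ((Scheme.Opens.ι V₀) ⁻¹' (V : Set S))) := by
      ext z
      constructor
      · rintro ⟨hzU, hzV⟩
        let w : (U : Scheme.{u}) := ⟨z, hzU⟩
        refine ⟨w, ?_, rfl⟩
        have hz' : f (Scheme.Opens.ι U w) ∈ V := hzV
        rw [hgU] at hz'
        exact hz' 
      · rintro ⟨w, hw, rfl⟩
        refine ⟨w.2, ?_⟩
        show f (Scheme.Opens.ι U w) ∈ V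
        rw [hgU]
        exact hw
    rw [h3]
    exact h2.image (Scheme.Opens.ι U).continuous
  haveI : CompactSpace ↥(U'' : Scheme.{u}) := isCompact_iff_compactSpace.1 hU''c
  haveI : QuasiCompact g := inferInstance
  haveI : QuasiSeparatedSpace ↥(U'' : Scheme.{u}) :=
    (Scheme.Opens.ι U'').isOpenEmbedding.quasiSeparatedSpace
  haveI : QuasiSeparated g := inferInstance
  haveI : LocallyOfFiniteType g := inferInstanceAs (LocallyOfFiniteType (f.resLE V U'' inf_le_right))
  -- the section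
  have hrange : Set.range (Scheme.Opens.ι V ≫ e) ⊆ Set.range (Scheme.Opens.ι U'') := by
    rintro _ ⟨v, rfl⟩
    rw [Scheme.Opens.range_ι]
    refine ⟨hVU _ v.2, ?_⟩
    show f ((Scheme.Opens.ι V ≫ e) v) ∈ V
    rw [Scheme.Hom.comp_apply, hfe]
    exact v.2
  let e'' : (V : Scheme.{u}) ⟶ (U'' : Scheme.{u}) :=
    IsOpenImmersion.lift (Scheme.Opens.ι U'') (Scheme.Opens.ι V ≫ e) hrange
  have he''ι : e'' ≫ Scheme.Opens.ι U'' = Scheme.Opens.ι V ≫ e := IsOpenImmersion.lift_fac _ _ _
  have he'' : e'' ≫ g = 𝟙 _ := by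
    rw [← cancel_mono (Scheme.Opens.ι V), Category.assoc, hgι, ← Category.assoc, he''ι,
      Category.assoc, he, Category.comp_id, Category.id_comp]
  have he''a : ∀ v, Scheme.Opens.ι U'' (e'' v) = e (Scheme.Opens.ι V v) := fun v => by
    rw [← Scheme.Hom.comp_apply, he''ι, Scheme.Hom.comp_apply]
  -- hypotheses for the restriction
  let y'' : (V : Scheme.{u}) := ⟨y, hyV⟩
  have htrans : ∀ w ∈ connectedComponentIn (g ⁻¹' {y''}) (e'' y''),
      Scheme.Opens.ι U'' w ∈ connectedComponentIn (f ⁻¹' {y}) (e y) := by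
    intro w hw
    have hpre : _root_.IsPreconnected
        (Scheme.Opens.ι U'' '' connectedComponentIn (g ⁻¹' {y''}) (e'' y'')) :=
      isPreconnected_connectedComponentIn.image _ (Scheme.Opens.ι U'').continuous.continuousOn
    have hsubset : Scheme.Opens.ι U'' '' connectedComponentIn (g ⁻¹' {y''}) (e'' y'') ⊆
        f ⁻¹' {y} := by
      rintro _ ⟨w', hw'', rfl⟩
      have h1 : g w' = y'' := (connectedComponentIn_subset (g ⁻¹' {y''}) (e'' y'')) hw''
      show f (Scheme.Opens.ι U'' w') = y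
      rw [hg, h1]
      rfl
    have hmem : e y ∈ Scheme.Opens.ι U'' '' connectedComponentIn (g ⁻¹' {y''}) (e'' y'') := by
      refine ⟨e'' y'', mem_connectedComponentIn ?_, ?_⟩
      · show g (e'' y'') = y''
        rw [← Scheme.Hom.comp_apply, he'']
        rfl
      · rw [he''a]
        rfl
    exact hpre.subset_connectedComponentIn hmem hsubset ⟨w, hw, rfl⟩
  have key : connectedComponentIn (g ⁻¹' {y''}) (e'' y'') ⊆
      interior (MoreMor.sectionComponents g e'') :=
    subset_interior_sectionComponents_noeth g e'' he'' y''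
      (fun w hw => isUnivOpenAt_of_openImmersions f g (Scheme.Opens.ι U'') (Scheme.Opens.ι V)
        hgι w (hopen _ (htrans w hw)))
      (fun w hw => redAt_of_openImmersions f g (Scheme.Opens.ι U'') (Scheme.Opens.ι V)
        hgι w (hredAt _ (htrans w hw)))
  -- the point `x` upstairs
  have hxU'' : x ∈ U'' := ⟨(hPsub hxP).1, by
    show f x ∈ V
    rw [← hy]; exact hyV⟩
  let x'' : (U'' : Scheme.{u}) := ⟨x, hxU''⟩
  have hx'' : x'' ∈ connectedComponentIn (g ⁻¹' {y''}) (e'' y'') := by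
    have hQ : _root_.IsPreconnected ((Scheme.Opens.ι U'') ⁻¹' P) := by
      rw [← (Scheme.Opens.ι U'').isOpenEmbedding.isInducing.isPreconnected_image,
        Set.image_preimage_eq_inter_range, Scheme.Opens.range_ι, Set.inter_eq_left.2]
      · exact isPreconnected_connectedComponentIn
      · intro z hz
        refine ⟨(hPsub hz).1, ?_⟩
        show f z ∈ V
        rw [(hPsub hz).2]
        exact hyV
    have hQsub : (Scheme.Opens.ι U'') ⁻¹' P ⊆ g ⁻¹' {y''} := by
      intro w hw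
      show g w = y''
      apply (Scheme.Opens.ι V).isOpenEmbedding.injective
      rw [← hg]
      exact (hPsub hw).2
    have hemem : e'' y'' ∈ (Scheme.Opens.ι U'') ⁻¹' P := by
      show Scheme.Opens.ι U'' (e'' y'') ∈ P
      rw [he''a]
      exact heyP
    exact hQ.subset_connectedComponentIn hemem hQsub (show Scheme.Opens.ι U'' x'' ∈ P from hxP)
  have hxint := key hx''
  rw [mem_interior]
  refine ⟨Scheme.Opens.ι U'' '' interior (MoreMor.sectionComponents g e''), ?_,
    (Scheme.Opens.ι U'').isOpenEmbedding.isOpenMap _ isOpen_interior, ⟨x'', hxint, rfl⟩⟩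
  rintro _ ⟨w, hw, rfl⟩
  have hw0 : w ∈ MoreMor.sectionComponents g e'' := interior_subset hw
  have hw' : w ∈ connectedComponentIn (g ⁻¹' {g w}) (e'' (g w)) := hw0
  show Scheme.Opens.ι U'' w ∈
    connectedComponentIn (f ⁻¹' {f (Scheme.Opens.ι U'' w)}) (e (f (Scheme.Opens.ι U'' w)))
  have hpre : _root_.IsPreconnected
      (Scheme.Opens.ι U'' '' connectedComponentIn (g ⁻¹' {g w}) (e'' (g w))) :=
    isPreconnected_connectedComponentIn.image _ (Scheme.Opens.ι U'').continuous.continuousOn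
  have hsubset : Scheme.Opens.ι U'' '' connectedComponentIn (g ⁻¹' {g w}) (e'' (g w)) ⊆
      f ⁻¹' {f (Scheme.Opens.ι U'' w)} := by
    rintro _ ⟨w', hw'', rfl⟩
    have h1 : g w' = g w := (connectedComponentIn_subset (g ⁻¹' {g w}) (e'' (g w))) hw''
    show f (Scheme.Opens.ι U'' w') = f (Scheme.Opens.ι U'' w)
    rw [hg, hg, h1]
  have hmem : e (f (Scheme.Opens.ι U'' w)) ∈
      Scheme.Opens.ι U'' '' connectedComponentIn (g ⁻¹' {g w}) (e'' (g w)) := by
    refine ⟨e'' (g w), mem_connectedComponentIn ?_, ?_⟩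
    · show g (e'' (g w)) = g w
      rw [← Scheme.Hom.comp_apply, he'']
      rfl
    · rw [he''a, hg]
  exact hpre.subset_connectedComponentIn hmem hsubset ⟨w, hw', rfl⟩

end Sch
end Groth.Agent.Lib.Helper78.SecCompUO
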