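/-
Helper library (helper78): descent of pointwise geometric reducedness (`RedAt`) along arbitrary base
change, and EGA IV 15.6.5 with pointwise hypotheses on `X_y⁰` (flat, finitely presented, any base).
-/
import Mathlib
import Groth.Prelude
import Groth.Agent.Lib.Helper78.SecCompUO

set_option autoImplicit false
set_option linter.style.haveILetI false
universe u
open TensorProduct

namespace Groth.Agent.Lib.Helper78.SecCompRedDescent
section Sch
open AlgebraicGeometry CategoryTheory Limits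
open Groth.Agent.Lib.Helper78.SecCompNbhd Groth.Agent.Lib.Helper78.SecCompUO

/-! ### part K1 -/
/-- the stalk maps of a flat morphism are injective -/
theorem stalkMap_injective_of_flat {A B : Scheme.{u}} (π : A ⟶ B) [Flat π] (a : A) :
    Function.Injective (π.stalkMap a).hom := by
  algebraize [(π.stalkMap a).hom]
  have : Module.FaithfullyFlat (B.presheaf.stalk (π a)) (A.presheaf.stalk a) :=
    @Module.FaithfullyFlat.of_flat_of_isLocalHom _ _ _ _ _ _ _
      (Flat.stalkMap π a) (π.toLRSHom.prop a)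
  exact FaithfulSMul.algebraMap_injective (B.presheaf.stalk (π a)) (A.presheaf.stalk a)

/-- reducedness of stalks descends along flat morphisms -/
theorem isReduced_stalk_of_flat {A B : Scheme.{u}} (π : A ⟶ B) [Flat π] (a : A) (b : B)
    (hab : π a = b) (h : _root_.IsReduced (A.presheaf.stalk a)) :
    _root_.IsReduced (B.presheaf.stalk b) := by
  subst hab
  exact isReduced_of_injective _ (stalkMap_injective_of_flat π a)

/-- **descent of `RedAt`** along an arbitrary base change -/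
theorem redAt_of_isPullback {X Y X₁ T : Scheme.{u}} {f : X ⟶ Y} {f₁ : X₁ ⟶ T} {g : Y ⟶ T}
    {g' : X ⟶ X₁} (hpb : IsPullback g' f f₁ g) (x₁ : X₁) (y : Y) (hy : g y = f₁ x₁)
    (h : ∀ x : X, g' x = x₁ → f x = y → RedAt f x) : RedAt f₁ x₁ := by
  intro K _ z w' hw'
  have hzw : z (pullback.snd f₁ z w') = g y := by
    rw [hy, ← hw', ← Scheme.Hom.comp_apply, ← Scheme.Hom.comp_apply, pullback.condition]
  obtain ⟨q, hq1, hq2⟩ := Scheme.Pullback.exists_preimage_pullback (f := z) (g := g)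
    (pullback.snd f₁ z w') y hzw
  let zL : Spec (CommRingCat.of ((pullback z g).residueField q)) ⟶ pullback z g :=
    (pullback z g).fromSpecResidueField q
  have hzL : ∀ p, zL p = q := fun p => Scheme.fromSpecResidueField_apply _ p
  let a : Spec (CommRingCat.of ((pullback z g).residueField q)) ⟶ Spec (CommRingCat.of K) :=
    zL ≫ pullback.fst z g
  let b : Spec (CommRingCat.of ((pullback z g).residueField q)) ⟶ Y := zL ≫ pullback.snd z g
  have hab : a ≫ z = b ≫ g := by
    simp only [a, b, Category.assoc, pullback.condition]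
  haveI : Flat a := inferInstance
  have hb : ∀ p, b p = y := fun p => by
    show (zL ≫ pullback.snd z g) p = y
    rw [Scheme.Hom.comp_apply, hzL, hq2]
  obtain ⟨pt⟩ : Nonempty ↥(Spec (CommRingCat.of ((pullback z g).residueField q))) :=
    inferInstance
  have hapt : pullback.snd f₁ z w' = a pt := by
    show _ = (zL ≫ pullback.fst z g) pt
    rw [Scheme.Hom.comp_apply, hzL, hq1]
  obtain ⟨w'', hw''1, hw''2⟩ := Scheme.Pullback.exists_preimage_pullback
    (f := pullback.snd f₁ z) (g := a) w' pt hapt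
  let π : pullback (pullback.snd f₁ z) a ⟶ pullback f₁ z := pullback.fst _ _
  haveI : Flat π := inferInstance
  have hQ : _root_.IsReduced ((pullback (pullback.snd f₁ z) a).presheaf.stalk w'') := by
    let σ := pullbackLeftPullbackSndIso f₁ z a
    let κ := pullback.congrHom (rfl : f₁ = f₁) hab
    have big : IsPullback (pullback.fst f b ≫ g') (pullback.snd f b) f₁ (b ≫ g) :=
      (IsPullback.of_hasPullback f b).paste_horiz hpb
    let τ := big.isoPullback
    let θ : pullback (pullback.snd f₁ z) a ⟶ pullback f b := σ.hom ≫ κ.hom ≫ τ.inv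
    haveI : IsIso θ := inferInstance
    have hθfst : θ ≫ pullback.fst f b ≫ g' = π ≫ pullback.fst f₁ z := by
      simp only [θ, Category.assoc]
      rw [big.isoPullback_inv_fst, pullback.congrHom_hom, pullback.lift_fst, Category.comp_id,
        pullbackLeftPullbackSndIso_hom_fst]
    have hx : g' (pullback.fst f b (θ w'')) = x₁ := by
      rw [← Scheme.Hom.comp_apply, ← Scheme.Hom.comp_apply, hθfst, Scheme.Hom.comp_apply, hw''1,
        hw']
    have hfy : f (pullback.fst f b (θ w'')) = y := by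
      rw [← Scheme.Hom.comp_apply, pullback.condition, Scheme.Hom.comp_apply, hb]
    have hR := h _ hx hfy ((pullback z g).residueField q) b (θ w'') rfl
    exact (isReduced_stalk_iff_of_isOpenImmersion θ w'' (θ w'') rfl).2 hR
  exact isReduced_stalk_of_flat π w'' w' hw''1 hQ

/-! ### part K2 -/
/-- **Affine base, pointwise reducedness**: generizations of points of `X_y⁰` stay in `X⁰`. -/
theorem mem_sectionComponents_of_specializes_affine_uo {X Y : Scheme.{u}} [IsAffine Y]
    (f : X ⟶ Y) (s : Y ⟶ X) (hs : s ≫ f = 𝟙 Y)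
    [LocallyOfFinitePresentation f] [QuasiCompact f] [QuasiSeparated f] [Flat f] (y : Y)
    (hredAt : ∀ w ∈ connectedComponentIn (f ⁻¹' {y}) (s y), RedAt f w)
    (x x' : X) (hx : x ∈ connectedComponentIn (f ⁻¹' {y}) (s y)) (hsp : x' ⤳ x) :
    x' ∈ MoreMor.sectionComponents f s := by
  obtain ⟨T, X₁, f₁, s₁, g, g', hN, hs₁, hflat, hft, hqc, hpb, hsg⟩ :=
    exists_noeth_model_section_flat f s hs
  have hbc := sectionComponents_baseChange f₁ s₁ hs₁ f g' g hpb s hs hsg
  have hfx : f x = y := (connectedComponentIn_subset (f ⁻¹' {y}) (s y)) hx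
  have hfg : f₁ (g' x) = g y := by
    rw [← Scheme.Hom.comp_apply, hpb.w, Scheme.Hom.comp_apply, hfx]
  have hx₁ : g' x ∈ connectedComponentIn (f₁ ⁻¹' {g y}) (s₁ (g y)) := by
    rw [← mem_sectionComponents_iff f₁ s₁ (g' x) (g y) hfg]
    show x ∈ g' ⁻¹' MoreMor.sectionComponents f₁ s₁
    rw [← hbc, mem_sectionComponents_iff f s x y hfx]
    exact hx
  haveI : IsLocallyNoetherian T := inferInstance
  haveI : LocallyOfFinitePresentation f₁ := inferInstance
  haveI : UniversallyOpen f₁ := inferInstance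
  have hopen₁ : ∀ w ∈ connectedComponentIn (f₁ ⁻¹' {g y}) (s₁ (g y)),
      EGA43.IsUnivOpenAt f₁ w := by
    intro w _ Y' z x' _
    exact fun _ hU => (pullback.snd f₁ z).isOpenMap.image_mem_nhds hU
  have hredAt₁ : ∀ w₁ ∈ connectedComponentIn (f₁ ⁻¹' {g y}) (s₁ (g y)), RedAt f₁ w₁ := by
    intro w₁ hw₁
    have hfw₁ : f₁ w₁ = g y := connectedComponentIn_subset (f₁ ⁻¹' {g y}) (s₁ (g y)) hw₁
    refine redAt_of_isPullback hpb w₁ y hfw₁.symm ?_
    intro w hgw hfw
    apply hredAt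
    rw [← mem_sectionComponents_iff f s w y hfw, hbc]
    show g' w ∈ MoreMor.sectionComponents f₁ s₁
    rw [hgw, mem_sectionComponents_iff f₁ s₁ w₁ (g y) hfw₁]
    exact hw₁
  have key := mem_sectionComponents_of_specializes_noeth_uo f₁ s₁ hs₁ (g y) hopen₁ hredAt₁
    (g' x) (g' x') hx₁ (hsp.map g'.continuous)
  rw [hbc]
  exact key

/-- generizations of points of `X_y⁰` stay in `X⁰` (any base), pointwise reducedness. -/
theorem mem_sectionComponents_of_specializes_uo {X Y : Scheme.{u}} (f : X ⟶ Y) (s : Y ⟶ X)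
    (hs : s ≫ f = 𝟙 Y) [LocallyOfFinitePresentation f] [QuasiCompact f] [QuasiSeparated f]
    [Flat f] (y : Y)
    (hredAt : ∀ w ∈ connectedComponentIn (f ⁻¹' {y}) (s y), RedAt f w)
    (x x' : X) (hx : x ∈ connectedComponentIn (f ⁻¹' {y}) (s y)) (hsp : x' ⤳ x) :
    x' ∈ MoreMor.sectionComponents f s := by
  have hfx : f x = y := (connectedComponentIn_subset (f ⁻¹' {y}) (s y)) hx
  obtain ⟨_, ⟨V, hV : IsAffineOpen V, rfl⟩, hyV, -⟩ :=
    Y.isBasis_affineOpens.exists_subset_of_mem_open (Set.mem_univ y) isOpen_univ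
  have : IsAffine (V : Scheme.{u}) := hV
  have hpb : IsPullback (Scheme.Opens.ι (f ⁻¹ᵁ V)) (f ∣_ V) f (Scheme.Opens.ι V) :=
    (isPullback_morphismRestrict f V).flip
  let s' : (V : Scheme.{u}) ⟶ (f ⁻¹ᵁ V : Scheme.{u}) :=
    hpb.lift (Scheme.Opens.ι V ≫ s) (𝟙 _) (by
      rw [Category.assoc, hs, Category.comp_id, Category.id_comp])
  have hs' : s' ≫ (f ∣_ V) = 𝟙 _ := hpb.lift_snd _ _ _
  have hs'g : s' ≫ Scheme.Opens.ι (f ⁻¹ᵁ V) = Scheme.Opens.ι V ≫ s := hpb.lift_fst _ _ _
  have hbc := sectionComponents_baseChange f s hs (f ∣_ V) _ _ hpb s' hs' hs'g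
  have hxV : x ∈ f ⁻¹ᵁ V := by
    show f x ∈ V
    rw [hfx]; exact hyV
  have hx'V : x' ∈ f ⁻¹ᵁ V := hsp.mem_open (f ⁻¹ᵁ V).2 hxV
  let v : (V : Scheme.{u}) := ⟨y, hyV⟩
  let w : (f ⁻¹ᵁ V : Scheme.{u}) := ⟨x, hxV⟩
  let w' : (f ⁻¹ᵁ V : Scheme.{u}) := ⟨x', hx'V⟩
  have hιv : Scheme.Opens.ι V v = y := rfl
  have hιw : Scheme.Opens.ι (f ⁻¹ᵁ V) w = x := rfl
  have hιw' : Scheme.Opens.ι (f ⁻¹ᵁ V) w' = x' := rfl
  have hfw : (f ∣_ V) w = v := by
    apply (Scheme.Opens.ι V).isOpenEmbedding.injective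
    rw [← Scheme.Hom.comp_apply, ← hpb.w, Scheme.Hom.comp_apply, hιw, hιv, hfx]
  have hredV : ∀ w₀ ∈ connectedComponentIn ((f ∣_ V) ⁻¹' {v}) (s' v), RedAt (f ∣_ V) w₀ := by
    intro w₀ hw₀
    have hfw₀ : (f ∣_ V) w₀ = v := connectedComponentIn_subset ((f ∣_ V) ⁻¹' {v}) (s' v) hw₀
    refine redAt_of_openImmersions f (f ∣_ V) (Scheme.Opens.ι (f ⁻¹ᵁ V)) (Scheme.Opens.ι V)
      hpb.w.symm w₀ ?_
    apply hredAt
    have hfι : f (Scheme.Opens.ι (f ⁻¹ᵁ V) w₀) = y := by
      rw [← Scheme.Hom.comp_apply, hpb.w, Scheme.Hom.comp_apply, hfw₀, hιv]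
    rw [← mem_sectionComponents_iff f s _ y hfι]
    show w₀ ∈ (Scheme.Opens.ι (f ⁻¹ᵁ V)) ⁻¹' MoreMor.sectionComponents f s
    rw [← hbc, mem_sectionComponents_iff (f ∣_ V) s' w₀ v hfw₀]
    exact hw₀
  have hw : w ∈ connectedComponentIn ((f ∣_ V) ⁻¹' {v}) (s' v) := by
    rw [← mem_sectionComponents_iff (f ∣_ V) s' w v hfw, hbc]
    show Scheme.Opens.ι (f ⁻¹ᵁ V) w ∈ MoreMor.sectionComponents f s
    rw [hιw, mem_sectionComponents_iff f s x y hfx]
    exact hx
  have hsp' : w' ⤳ w := by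
    apply ((Scheme.Opens.ι (f ⁻¹ᵁ V)).isOpenEmbedding.isInducing.specializes_iff).1
    rw [hιw, hιw']
    exact hsp
  have key := mem_sectionComponents_of_specializes_affine_uo (f ∣_ V) s' hs' v hredV w w' hw hsp'
  rw [hbc] at key
  exact key

end Sch
end Groth.Agent.Lib.Helper78.SecCompRedDescent
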