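import Mathlib
import Groth.Prelude.Def_SekSuwa
import Groth.Prelude.Def_NonAbH2
import Groth.Agent.Lib.Helper84.SekFlat
import Groth.Agent.Lib.Lead.GmTorsor

/-!
# Finite presentation / smoothness for `G^(λ)` and the split multiplicative group (helper78, A4)

* `finitePresentation_A` : `SekSuwa.A R lam` is a finitely presented `R`-algebra.
* `locallyOfFinitePresentation_bc` : every base change of `G^(λ)` is locally of finite presentation.
* `smooth_bc_Gm` : every base change of `Red.diag R ℤ` is smooth over the base.
* `flat_fromSpecStalk` : `X.fromSpecStalk x` is flat.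
-/

set_option autoImplicit false
set_option linter.style.haveILetI false
universe u
open CategoryTheory CategoryTheory.Limits AlgebraicGeometry

namespace Groth.Agent.Lib.Helper78.SekSmooth

section Alg
variable (R : Type u) [CommRing R] (lam : R)

/-- the coordinate ring of `G^(λ)` is finitely presented over `R`. -/
theorem finitePresentation_A : Algebra.FinitePresentation R (SekSuwa.A R lam) := by
  haveI : Algebra.FinitePresentation R (SekSuwa.Poly R lam) :=
    inferInstanceAs (Algebra.FinitePresentation R (MvPolynomial (Fin 2) R))
  have hfg : (SekSuwa.Poly.relIdeal R lam).FG := ⟨{SekSuwa.Poly.rel R lam}, by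
    rw [Finset.coe_singleton]; rfl⟩
  exact Algebra.FinitePresentation.quotient hfg

end Alg

section Geom
variable {X : Scheme.{u}} (R : Type u) [CommRing R] (lam : R) (f : X ⟶ Spec (CommRingCat.of R))

instance locallyOfFinitePresentation_G : LocallyOfFinitePresentation (SekSuwa.G R lam).hom := by
  change LocallyOfFinitePresentation
    (Spec.map (CommRingCat.ofHom (algebraMap R (SekSuwa.A R lam))))
  rw [HasRingHomProperty.Spec_iff (P := @LocallyOfFinitePresentation)]
  change (algebraMap R (SekSuwa.A R lam)).FinitePresentation
  rw [RingHom.finitePresentation_algebraMap]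
  exact finitePresentation_A R lam

/-- every base change of `G^(λ)` is locally of finite presentation over the base. -/
instance locallyOfFinitePresentation_bc :
    LocallyOfFinitePresentation (Red.bc f (SekSuwa.G R lam)).hom := by
  change LocallyOfFinitePresentation (pullback.snd (SekSuwa.G R lam).hom f)
  infer_instance

instance smooth_diag : Smooth (Red.diag R ℤ).hom := by
  change Smooth (Spec.map (CommRingCat.ofHom
    (algebraMap R (MonoidAlgebra R (Multiplicative ℤ)))))
  rw [HasRingHomProperty.Spec_iff (P := @Smooth)]
  exact RingHom.smooth_algebraMap.mpr (Groth.Agent.Lib.Lead.GmTorsor.smooth_monoidAlgebra R)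

/-- every base change of the split multiplicative group is smooth over the base. -/
instance smooth_bc_Gm : Smooth (Red.bc f (Red.diag R ℤ)).hom := by
  change Smooth (pullback.snd (Red.diag R ℤ).hom f)
  infer_instance

/-- the canonical morphism from the spectrum of a local ring of `X` is flat. -/
instance flat_fromSpecStalk (X : Scheme.{u}) (x : X) : Flat (X.fromSpecStalk x) := by
  obtain ⟨_, ⟨U, hU : IsAffineOpen U, rfl⟩, hxU, -⟩ :=
    X.isBasis_affineOpens.exists_subset_of_mem_open (Set.mem_univ x) isOpen_univ
  rw [← hU.fromSpecStalk_eq_fromSpecStalk hxU]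
  unfold IsAffineOpen.fromSpecStalk
  haveI : Flat (Spec.map (X.presheaf.germ U x hxU)) := by
    rw [HasRingHomProperty.Spec_iff (P := @Flat)]
    letI := X.presheaf.algebra_section_stalk ⟨x, hxU⟩
    haveI := hU.isLocalization_stalk ⟨x, hxU⟩
    have hfl : Module.Flat Γ(X, U) (X.presheaf.stalk x) :=
      IsLocalization.flat (X.presheaf.stalk x) (hU.primeIdealOf ⟨x, hxU⟩).asIdeal.primeCompl
    exact (RingHom.flat_algebraMap_iff).2 hfl
  infer_instance

end Geom

end Groth.Agent.Lib.Helper78.SekSmooth
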