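import Mathlib
import Groth.Agent.Lib.Helper78.Transporter

/-!
# The semidirect product structure on `A ⊗ B` (helper78)

`exists_grpObj_semidirect`: if `a : A ⟶ G` (mono) and `b : B ⟶ G` are homomorphisms of group
objects in a cartesian monoidal category and `B` normalizes `A` on points, then `A ⊗ B` carries a
group structure for which `(x, y) ↦ a(x) b(y)` is a homomorphism.
-/

set_option autoImplicit false
set_option linter.style.haveILetI false
universe u
open CategoryTheory CategoryTheory.Limits MonoidalCategory CartesianMonoidalCategory MonObj GrpObj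

namespace Groth.Agent.Lib.Helper78.Semidirect

open Groth.Agent.Lib.Helper78.Transporter

set_option backward.isDefEq.respectTransparency.types false

/-- the "semidirect product" structure on `A ⊗ B` making `(x, y) ↦ a(x) b(y)` a homomorphism,
when `B` normalizes `A` in `G`. -/
theorem exists_grpObj_semidirect {E : Type*} [Category E] [CartesianMonoidalCategory E]
    [BraidedCategory E] {G A B : E} [GrpObj G] [GrpObj A] [GrpObj B]
    (a : A ⟶ G) [IsMonHom a] [Mono a] (b : B ⟶ G) [IsMonHom b]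
    (hN : ∀ (T : E) (y : T ⟶ B) (x : T ⟶ A), ∃ x' : T ⟶ A,
      (y ≫ b) * (x ≫ a) * (y ≫ b)⁻¹ = x' ≫ a) :
    ∃ str : GrpObj (A ⊗ B), @IsMonHom E _ _ _ _ str.toMonObj _
      ((fst A B ≫ a) * (snd A B ≫ b)) := by
  let π : A ⊗ B ⟶ G := (fst A B ≫ a) * (snd A B ≫ b)
  let j : A ⊗ B ⟶ G ⊗ B := lift π (snd A B)
  have hjf : j ≫ fst G B = π := lift_fst _ _
  have hjs : j ≫ snd G B = snd A B := lift_snd _ _
  haveI : Mono j := by
    refine ⟨fun {T} z₁ z₂ h => ?_⟩
    have h2 : z₁ ≫ snd A B = z₂ ≫ snd A B := by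
      have := congr_arg (fun m => m ≫ snd G B) h
      simpa only [Category.assoc, hjs] using this
    have h1 : z₁ ≫ π = z₂ ≫ π := by
      have := congr_arg (fun m => m ≫ fst G B) h
      simpa only [Category.assoc, hjf] using this
    have h1' : (z₁ ≫ fst A B ≫ a) * (z₁ ≫ snd A B ≫ b) =
        (z₂ ≫ fst A B ≫ a) * (z₂ ≫ snd A B ≫ b) := by
      simpa only [π, MonObj.comp_mul] using h1
    have h2' : z₁ ≫ snd A B ≫ b = z₂ ≫ snd A B ≫ b := by
      rw [← Category.assoc, h2, Category.assoc]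
    rw [h2', mul_left_inj] at h1'
    ext
    · exact (cancel_mono a).mp (by simpa only [Category.assoc] using h1')
    · exact h2
  let Pr : ∀ {T : E}, (T ⟶ G ⊗ B) → Prop := fun {T} w =>
    ∃ x : T ⟶ A, w ≫ fst G B = (x ≫ a) * (w ≫ snd G B ≫ b)
  have hn : ∀ {T : E} (w : T ⟶ G ⊗ B), (∃ z : T ⟶ A ⊗ B, z ≫ j = w) ↔ Pr w := by
    intro T w
    constructor
    · rintro ⟨z, rfl⟩
      refine ⟨z ≫ fst A B, ?_⟩
      simp only [Category.assoc, hjf, reassoc_of% hjs, π, MonObj.comp_mul]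
    · rintro ⟨x, hx⟩
      refine ⟨lift x (w ≫ snd G B), ?_⟩
      ext
      · rw [Category.assoc, hjf, hx]
        simp only [π, MonObj.comp_mul, lift_fst_assoc, lift_snd_assoc, Category.assoc]
      · rw [Category.assoc, hjs, lift_snd]
  have P1 : Pr (η : 𝟙_ E ⟶ G ⊗ B) := by
    refine ⟨η, ?_⟩
    rw [IsMonHom.one_hom (fst G B), IsMonHom.one_hom a, ← Category.assoc,
      IsMonHom.one_hom (snd G B), IsMonHom.one_hom b]
    have : (η : 𝟙_ E ⟶ G) = 1 := by
      rw [Hom.one_def, toUnit_unique (toUnit (𝟙_ E)) (𝟙 _), Category.id_comp]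
    rw [this, _root_.mul_one]
  have P2 : ∀ {T : E} (w₁ w₂ : T ⟶ G ⊗ B), Pr w₁ → Pr w₂ → Pr (w₁ * w₂) := by
    rintro T w₁ w₂ ⟨x₁, h₁⟩ ⟨x₂, h₂⟩
    obtain ⟨x', hx'⟩ := hN T (w₁ ≫ snd G B) x₂
    refine ⟨x₁ * x', ?_⟩
    rw [MonObj.mul_comp, MonObj.mul_comp, ← Category.assoc, MonObj.mul_comp, MonObj.mul_comp,
      h₁, h₂, ← hx']
    simp only [Category.assoc]
    group
  have P3 : ∀ {T : E} (w : T ⟶ G ⊗ B), Pr w → Pr w⁻¹ := by
    rintro T w ⟨x, h⟩
    obtain ⟨x', hx'⟩ := hN T ((w ≫ snd G B)⁻¹) x⁻¹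
    refine ⟨x', ?_⟩
    rw [GrpObj.inv_comp, h, ← hx', ← Category.assoc, GrpObj.inv_comp, GrpObj.inv_comp,
      GrpObj.inv_comp]
    simp only [Category.assoc]
    group
  obtain ⟨str, hstr⟩ := exists_grpObj_of_pred j (fun {T} w => Pr w) hn P1 P2 P3
  refine ⟨str, ?_⟩
  have hπ : (fst A B ≫ a) * (snd A B ≫ b) = j ≫ fst G B := hjf.symm
  rw [hπ]
  refine @IsMonHom.mk _ _ _ _ _ str.toMonObj _ _ ?_ ?_
  · rw [← Category.assoc, @IsMonHom.one_hom _ _ _ _ _ str.toMonObj _ j hstr, IsMonHom.one_hom]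
  · rw [← Category.assoc, @IsMonHom.mul_hom _ _ _ _ _ str.toMonObj _ j hstr, Category.assoc,
      IsMonHom.mul_hom, ← Category.assoc, tensorHom_comp_tensorHom]

end Groth.Agent.Lib.Helper78.Semidirect
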