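import Groth.Prelude.Def_GLin
import Mathlib.RingTheory.Bialgebra.MonoidAlgebra
import Mathlib.RingTheory.HopfAlgebra.MonoidAlgebra

set_option autoImplicit false
set_option linter.unusedSectionVars false

universe u v w

open TensorProduct

namespace Groth.Agent.Lib.Helper78.Torus

section Basic

variable {k : Type u} [CommRing k] {Λ : Type v} [AddCommGroup Λ]

/-- coefficient functional on the group algebra -/
noncomputable def cf (w : Λ) : AddMonoidAlgebra k Λ →ₗ[k] k :=
  Finsupp.lapply w ∘ₗ (AddMonoidAlgebra.coeffLinearEquiv k).toLinearMap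

@[simp] theorem cf_apply (w : Λ) (a : AddMonoidAlgebra k Λ) : cf w a = a.coeff w := rfl

variable {V : Type w} [AddCommGroup V] [Module k V]

/-- slice of a tensor against the coefficient functional -/
noncomputable def sl (w : Λ) : V ⊗[k] AddMonoidAlgebra k Λ →ₗ[k] V :=
  (TensorProduct.rid k V).toLinearMap ∘ₗ (cf w).lTensor V

@[simp] theorem sl_tmul (w : Λ) (v : V) (a : AddMonoidAlgebra k Λ) :
    sl w (v ⊗ₜ[k] a) = a.coeff w • v := by
  simp [sl]

/-- slice against the counit -/
noncomputable def slc : V ⊗[k] AddMonoidAlgebra k Λ →ₗ[k] V :=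
  (TensorProduct.rid k V).toLinearMap ∘ₗ
    (CoalgebraStruct.counit (R := k) (A := AddMonoidAlgebra k Λ)).lTensor V

@[simp] theorem slc_tmul (v : V) (a : AddMonoidAlgebra k Λ) :
    slc (v ⊗ₜ[k] a) = (CoalgebraStruct.counit (R := k) a : k) • v := by
  simp [slc]

theorem counit_eq_sum (a : AddMonoidAlgebra k Λ) :
    (CoalgebraStruct.counit (R := k) a : k) = a.coeff.sum fun _ c => c := by
  classical
  induction a using AddMonoidAlgebra.induction_linear with
  | zero => simp
  | add x y hx hy =>
    rw [map_add, hx, hy, AddMonoidAlgebra.coeff_add, Finsupp.sum_add_index'] <;> simp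
  | single u c => simp

/-- finite decomposition of the counit slice into coefficient slices -/
theorem exists_finset_slc (x : V ⊗[k] AddMonoidAlgebra k Λ) :
    ∃ S : Finset Λ, (∀ w, w ∉ S → sl w x = 0) ∧ slc x = ∑ w ∈ S, sl w x := by
  classical
  induction x using TensorProduct.induction_on with
  | zero => exact ⟨∅, by simp⟩
  | tmul v a =>
    refine ⟨a.coeff.support, ?_, ?_⟩
    · intro w hw
      rw [sl_tmul, Finsupp.notMem_support_iff.mp hw, zero_smul]
    · rw [slc_tmul, counit_eq_sum, Finsupp.sum, Finset.sum_smul]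
      refine Finset.sum_congr rfl fun w _ => ?_
      rw [sl_tmul]
  | add x y hx hy =>
    obtain ⟨S, hS0, hS⟩ := hx
    obtain ⟨T, hT0, hT⟩ := hy
    refine ⟨S ∪ T, ?_, ?_⟩
    · intro w hw
      rw [Finset.mem_union, not_or] at hw
      rw [map_add, hS0 w hw.1, hT0 w hw.2, add_zero]
    · rw [map_add, hS, hT]
      simp only [map_add]
      rw [Finset.sum_add_distrib]
      congr 1
      · exact Finset.sum_subset Finset.subset_union_left
          (fun w _ hw => hS0 w hw)
      · exact Finset.sum_subset Finset.subset_union_right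
          (fun w _ hw => hT0 w hw)

end Basic

section Comod

variable {k : Type u} [CommRing k] {Λ : Type v} [AddCommGroup Λ]
variable {V : Type w} [AddCommGroup V] [Module k V] [HopfRep.Comod k (AddMonoidAlgebra k Λ) V]

/-- the coaction, with explicit parameters -/
noncomputable abbrev ρ : V →ₗ[k] V ⊗[k] AddMonoidAlgebra k Λ :=
  HopfRep.Comod.coact (k := k) (A := AddMonoidAlgebra k Λ)

/-- the weight projection -/
noncomputable def proj (w : Λ) : V →ₗ[k] V := sl w ∘ₗ (ρ : V →ₗ[k] V ⊗[k] AddMonoidAlgebra k Λ)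

theorem proj_apply (w : Λ) (v : V) :
    proj (k := k) w v = sl w (ρ (k := k) (Λ := Λ) v) := rfl

/-- contraction of the last factor of a triple tensor -/
noncomputable def T' (w : Λ) :
    V ⊗[k] (AddMonoidAlgebra k Λ ⊗[k] AddMonoidAlgebra k Λ) →ₗ[k] V ⊗[k] AddMonoidAlgebra k Λ :=
  (sl (V := AddMonoidAlgebra k Λ) w).lTensor V

theorem T'_assoc_tmul (w : Λ) (x : V ⊗[k] AddMonoidAlgebra k Λ) (a : AddMonoidAlgebra k Λ) :
    T' w (TensorProduct.assoc k V _ _ (x ⊗ₜ[k] a)) = a.coeff w • x := by
  induction x using TensorProduct.induction_on with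
  | zero => simp
  | add x y hx hy => rw [add_tmul, map_add, map_add, hx, hy, smul_add]
  | tmul v b =>
    rw [TensorProduct.assoc_tmul, T', LinearMap.lTensor_tmul, sl_tmul, TensorProduct.tmul_smul]

theorem sl_comul (w : Λ) (a : AddMonoidAlgebra k Λ) :
    sl (V := AddMonoidAlgebra k Λ) w (CoalgebraStruct.comul (R := k) a) =
      a.coeff w • AddMonoidAlgebra.single w (1 : k) := by
  classical
  induction a using AddMonoidAlgebra.induction_linear with
  | zero => simp
  | add x y hx hy => rw [map_add, map_add, hx, hy, AddMonoidAlgebra.coeff_add, Finsupp.add_apply, add_smul]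
  | single u c =>
    rw [AddMonoidAlgebra.comul_single, CommSemiring.comul_apply, TensorProduct.map_tmul,
      AddMonoidAlgebra.lsingle_apply, AddMonoidAlgebra.lsingle_apply, sl_tmul,
      AddMonoidAlgebra.coeff_single, Finsupp.single_apply]
    split_ifs with h
    · subst h
      rfl
    · rw [zero_smul, zero_smul]

theorem T'_lTensor_comul (w : Λ) (x : V ⊗[k] AddMonoidAlgebra k Λ) :
    T' w ((CoalgebraStruct.comul (R := k) (A := AddMonoidAlgebra k Λ)).lTensor V x) =
      sl w x ⊗ₜ[k] AddMonoidAlgebra.single w (1 : k) := by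
  induction x using TensorProduct.induction_on with
  | zero => simp
  | add x y hx hy => rw [map_add, map_add, hx, hy, map_add, add_tmul]
  | tmul v a =>
    rw [LinearMap.lTensor_tmul, T', LinearMap.lTensor_tmul, sl_comul, sl_tmul,
      TensorProduct.tmul_smul, TensorProduct.smul_tmul']

theorem T'_assoc_rTensor (w : Λ) (x : V ⊗[k] AddMonoidAlgebra k Λ) :
    T' w (TensorProduct.assoc k V _ _
      ((ρ : V →ₗ[k] V ⊗[k] AddMonoidAlgebra k Λ).rTensor (AddMonoidAlgebra k Λ) x)) =
      ρ (sl w x) := by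
  induction x using TensorProduct.induction_on with
  | zero => simp
  | add x y hx hy => simp only [map_add, hx, hy]
  | tmul v a =>
    rw [LinearMap.rTensor_tmul, T'_assoc_tmul, sl_tmul, map_smul]

/-- the weight projection lands in the weight space -/
theorem coact_proj (w : Λ) (v : V) :
    (ρ (proj (k := k) w v) : V ⊗[k] AddMonoidAlgebra k Λ) =
      proj (k := k) w v ⊗ₜ[k] AddMonoidAlgebra.single w (1 : k) := by
  rw [proj_apply, ← T'_assoc_rTensor, ← T'_lTensor_comul]
  congr 1
  exact LinearMap.congr_fun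
    (HopfRep.Comod.coassoc (k := k) (A := AddMonoidAlgebra k Λ) (V := V)) v

theorem proj_mem_eigenspace (w : Λ) (v : V) :
    proj (k := k) w v ∈
      HopfRep.eigenspace k (AddMonoidAlgebra k Λ) V (AddMonoidAlgebra.single w (1 : k)) :=
  coact_proj w v

theorem slc_coact (v : V) : slc (ρ (k := k) (Λ := Λ) v) = v := by
  have h := LinearMap.congr_fun
    (HopfRep.Comod.counit_comp (k := k) (A := AddMonoidAlgebra k Λ) (V := V)) v
  simp only [LinearMap.coe_comp, Function.comp_apply, LinearMap.flip_apply,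
    TensorProduct.mk_apply] at h
  rw [slc, LinearMap.coe_comp, Function.comp_apply, h]
  simp

/-- every vector is a finite sum of its weight components -/
theorem exists_finset_proj (v : V) :
    ∃ S : Finset Λ, (∀ w, w ∉ S → proj (k := k) w v = 0) ∧ v = ∑ w ∈ S, proj (k := k) w v := by
  obtain ⟨S, hS0, hS⟩ := exists_finset_slc (ρ (k := k) (Λ := Λ) v)
  exact ⟨S, hS0, (slc_coact (k := k) (Λ := Λ) v).symm.trans hS⟩

theorem proj_of_mem_eigenspace {u : Λ} {v : V}
    (hv : v ∈ HopfRep.eigenspace k (AddMonoidAlgebra k Λ) V (AddMonoidAlgebra.single u (1 : k)))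
    (w : Λ) : proj (k := k) w v = (Finsupp.single u (1 : k) w) • v := by
  have hv' : (ρ v : V ⊗[k] AddMonoidAlgebra k Λ) = v ⊗ₜ[k] AddMonoidAlgebra.single u (1 : k) := hv
  rw [proj_apply, hv', sl_tmul, AddMonoidAlgebra.coeff_single]

theorem proj_self_of_mem_eigenspace {u : Λ} {v : V}
    (hv : v ∈ HopfRep.eigenspace k (AddMonoidAlgebra k Λ) V (AddMonoidAlgebra.single u (1 : k))) :
    proj (k := k) u v = v := by
  rw [proj_of_mem_eigenspace hv, Finsupp.single_eq_same, one_smul]

theorem proj_of_mem_eigenspace_of_ne {u w : Λ} (h : u ≠ w) {v : V}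
    (hv : v ∈ HopfRep.eigenspace k (AddMonoidAlgebra k Λ) V (AddMonoidAlgebra.single u (1 : k))) :
    proj (k := k) w v = 0 := by
  rw [proj_of_mem_eigenspace hv, Finsupp.single_eq_of_ne h.symm, zero_smul]

end Comod

section Alg

variable {k : Type u} [CommRing k] {Λ : Type v} [AddCommGroup Λ]
variable {R : Type w} [CommRing R] [Algebra k R] [HopfRep.Comod k (AddMonoidAlgebra k Λ) R]
  [GLin.IsCoactAlg k (AddMonoidAlgebra k Λ) R]

theorem orbitHom_apply (x : R →ₐ[k] k) (f : R) :
    GLin.orbitHom k (AddMonoidAlgebra k Λ) x f =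
      Algebra.TensorProduct.lid k (AddMonoidAlgebra k Λ)
        (Algebra.TensorProduct.map x (AlgHom.id k (AddMonoidAlgebra k Λ))
          (ρ (k := k) (Λ := Λ) f)) := rfl

theorem coeff_lid_map (x : R →ₐ[k] k) (w : Λ) (y : R ⊗[k] AddMonoidAlgebra k Λ) :
    (Algebra.TensorProduct.lid k (AddMonoidAlgebra k Λ)
        (Algebra.TensorProduct.map x (AlgHom.id k (AddMonoidAlgebra k Λ)) y)).coeff w =
      x (sl w y) := by
  induction y using TensorProduct.induction_on with
  | zero => simp
  | add y z hy hz =>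
    rw [map_add, map_add, AddMonoidAlgebra.coeff_add, Finsupp.add_apply, hy, hz, map_add, map_add]
  | tmul r a =>
    rw [Algebra.TensorProduct.map_tmul, Algebra.TensorProduct.lid_tmul, sl_tmul,
      AddMonoidAlgebra.coeff_smul, Finsupp.smul_apply, map_smul, AlgHom.coe_id, id_eq,
      smul_eq_mul, smul_eq_mul, mul_comm]

theorem coeff_orbitHom (x : R →ₐ[k] k) (f : R) (w : Λ) :
    (GLin.orbitHom k (AddMonoidAlgebra k Λ) x f).coeff w = x (proj (k := k) w f) := by
  rw [orbitHom_apply, coeff_lid_map, proj_apply]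

theorem counit_lid_map (x : R →ₐ[k] k) (y : R ⊗[k] AddMonoidAlgebra k Λ) :
    (CoalgebraStruct.counit (R := k) (Algebra.TensorProduct.lid k (AddMonoidAlgebra k Λ)
        (Algebra.TensorProduct.map x (AlgHom.id k (AddMonoidAlgebra k Λ)) y)) : k) =
      x (slc y) := by
  induction y using TensorProduct.induction_on with
  | zero => simp
  | add y z hy hz =>
    rw [map_add, map_add, map_add, hy, hz, map_add, map_add]
  | tmul r a =>
    rw [Algebra.TensorProduct.map_tmul, Algebra.TensorProduct.lid_tmul, slc_tmul,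
      map_smul, map_smul, AlgHom.coe_id, id_eq, smul_eq_mul, smul_eq_mul, mul_comm]

theorem counit_orbitHom (x : R →ₐ[k] k) (f : R) :
    (CoalgebraStruct.counit (R := k) (GLin.orbitHom k (AddMonoidAlgebra k Λ) x f) : k) = x f := by
  rw [orbitHom_apply, counit_lid_map, slc_coact]

theorem orbitHom_of_mem_eigenspace (x : R →ₐ[k] k) {u : Λ} {h : R}
    (hh : h ∈ HopfRep.eigenspace k (AddMonoidAlgebra k Λ) R (AddMonoidAlgebra.single u (1 : k))) :
    GLin.orbitHom k (AddMonoidAlgebra k Λ) x h = AddMonoidAlgebra.single u (x h) := by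
  have hh' : (ρ h : R ⊗[k] AddMonoidAlgebra k Λ) = h ⊗ₜ[k] AddMonoidAlgebra.single u (1 : k) := hh
  rw [orbitHom_apply, hh', Algebra.TensorProduct.map_tmul, Algebra.TensorProduct.lid_tmul,
    AlgHom.coe_id, id_eq, AddMonoidAlgebra.smul_single, smul_eq_mul, mul_one]

theorem sl_mul_tmul_single (w u : Λ) (f : R) (y : R ⊗[k] AddMonoidAlgebra k Λ) :
    sl w (y * (f ⊗ₜ[k] AddMonoidAlgebra.single u (1 : k))) = sl (w + -u) y * f := by
  induction y using TensorProduct.induction_on with
  | zero => simp
  | add y z hy hz => rw [add_mul, map_add, hy, hz, map_add, add_mul]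
  | tmul r a =>
    rw [Algebra.TensorProduct.tmul_mul_tmul, sl_tmul, sl_tmul,
      AddMonoidAlgebra.coeff_mul_single_apply, mul_one, smul_mul_assoc]

theorem proj_mul_of_mem_eigenspace (w : Λ) {u : Λ} (r : R) {f : R}
    (hf : f ∈ HopfRep.eigenspace k (AddMonoidAlgebra k Λ) R (AddMonoidAlgebra.single u (1 : k))) :
    proj (k := k) w (r * f) = proj (k := k) (w + -u) r * f := by
  have hf' : (ρ f : R ⊗[k] AddMonoidAlgebra k Λ) = f ⊗ₜ[k] AddMonoidAlgebra.single u (1 : k) := hf
  rw [proj_apply, proj_apply]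
  have : (ρ (r * f) : R ⊗[k] AddMonoidAlgebra k Λ) = ρ r * ρ f :=
    GLin.IsCoactAlg.coact_mul (k := k) (A := AddMonoidAlgebra k Λ) r f
  rw [this, hf', sl_mul_tmul_single]

theorem eigenspace_zero_eq :
    (HopfRep.eigenspace k (AddMonoidAlgebra k Λ) R (AddMonoidAlgebra.single (0 : Λ) (1 : k)) : Set R)
      = (GLin.invariants k (AddMonoidAlgebra k Λ) R : Set R) := rfl

end Alg

end Groth.Agent.Lib.Helper78.Torus
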