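import Mathlib
import Groth.Agent.Lib.Helper78.GenFibreGeom

/-!
# Reduced closed subschemes and extension of the base field (EGA IV 11.10.7)

Helper library of helper78 for S4905: a reduced `k`-scheme carrying a dense family of morphisms
from schemes whose base change to `k'` is reduced has reduced base change to `k'`
(`isReduced_pullback_of_dense_family`); kernels of quasi-compact morphisms from reduced schemes are
radical; vanishing ideals and kernels.
-/

set_option autoImplicit false
set_option linter.style.haveILetI false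
universe u
open TensorProduct

namespace Groth.Agent.Lib.Helper78.VanBC

/-! ### part A1 -/
/-- coordinates of a base-changed map in the base-changed basis -/
theorem basis_repr_map {k k' B C : Type u} [Field k] [Field k'] [Algebra k k'] [CommRing B]
    [Algebra k B] [CommRing C] [Algebra k C] {J : Type*} (e : Module.Basis J k k')
    (φ : B →ₐ[k] C) (x : B ⊗[k] k') (j : J) :
    (Algebra.TensorProduct.basis C e).repr
        (Algebra.TensorProduct.map φ (AlgHom.id k k') x) j =
      φ ((Algebra.TensorProduct.basis B e).repr x j) := by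
  induction x using TensorProduct.induction_on with
  | zero => simp
  | tmul a m =>
    simp only [Algebra.TensorProduct.map_tmul, AlgHom.coe_id, id_eq,
      Algebra.TensorProduct.basis_repr_tmul, Finsupp.smul_apply, Finsupp.mapRange_apply,
      smul_eq_mul, map_mul, AlgHom.commutes]
  | add x y hx hy =>
    simp only [map_add, Finsupp.add_apply, hx, hy]

/-- reducedness of a base change to a field extension, tested on a jointly injective family -/
theorem isReduced_tensor_of_forall {k k' B : Type u} [Field k] [Field k'] [Algebra k k']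
    [CommRing B] [Algebra k B] {I : Type*} (C : I → Type u) [∀ w, CommRing (C w)]
    [∀ w, Algebra k (C w)] (φ : ∀ w, B →ₐ[k] C w) (hφ : ∀ b : B, (∀ w, φ w b = 0) → b = 0)
    (hC : ∀ w, IsReduced (C w ⊗[k] k')) : IsReduced (B ⊗[k] k') := by
  classical
  let e := Module.Free.chooseBasis k k'
  refine ⟨fun x hx => ?_⟩
  have h1 : ∀ w, Algebra.TensorProduct.map (φ w) (AlgHom.id k k') x = 0 := by
    intro w
    haveI := hC w
    exact (hx.map (Algebra.TensorProduct.map (φ w) (AlgHom.id k k'))).eq_zero
  have h2 : (Algebra.TensorProduct.basis B e).repr x = 0 := by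
    ext j
    apply hφ
    intro w
    rw [← basis_repr_map e (φ w) x j, h1 w]
    simp
  simpa using h2

section Sch
open AlgebraicGeometry CategoryTheory Limits
open Groth.Agent.Lib.Helper78.GenFibreGeom

/-! ### part A2 -/
/-- reducedness passes to the base change of an open subscheme -/
theorem isReduced_pullback_comp_openImmersion {A B S T : Scheme.{u}} (j : A ⟶ B)
    [IsOpenImmersion j] (h : B ⟶ S) (q : T ⟶ S) [IsReduced (pullback h q)] :
    IsReduced (pullback (j ≫ h) q) :=
  isReduced_of_isOpenImmersion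
    (pullback.map (j ≫ h) q h q j (𝟙 _) (𝟙 _) (by simp) (by simp))

/-- a section of a reduced scheme vanishing on all members of a dense family of morphisms is
zero -/
theorem eq_zero_of_forall_appLE_eq_zero {T : Scheme.{u}} [IsReduced T] {ι : Type*}
    (Z : ι → Scheme.{u}) (g : ∀ i, Z i ⟶ T) (hdense : Dense (⋃ i, Set.range (g i)))
    (W : T.Opens) (b : Γ(T, W))
    (hb : ∀ (i : ι) (W' : (Z i).Opens) (_ : IsAffineOpen W') (e : W' ≤ g i ⁻¹ᵁ W),
      (g i).appLE W W' e b = 0) : b = 0 := by
  rw [← basicOpen_eq_bot_iff]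
  by_contra hne
  have hne' : ((T.basicOpen b : T.Opens) : Set T).Nonempty := by
    rw [Set.nonempty_iff_ne_empty]
    intro h0
    apply hne
    ext1
    simpa using h0
  obtain ⟨t, ht, htr⟩ := hdense.inter_open_nonempty _ (T.basicOpen b).isOpen hne'
  obtain ⟨i, z, rfl⟩ := Set.mem_iUnion.1 htr
  have hzW : z ∈ g i ⁻¹ᵁ W := T.basicOpen_le b ht
  obtain ⟨_, ⟨W', hW' : IsAffineOpen W', rfl⟩, hzW', hle0⟩ :=
    (Z i).isBasis_affineOpens.exists_subset_of_mem_open hzW (g i ⁻¹ᵁ W).isOpen
  have hle : W' ≤ g i ⁻¹ᵁ W := hle0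
  have h0 := hb i W' hW' hle
  have h1 : z ∈ (Z i).basicOpen ((g i).appLE W W' hle b) := by
    rw [Scheme.basicOpen_appLE]
    exact ⟨hzW', ht⟩
  rw [h0, Scheme.basicOpen_zero] at h1
  exact h1

/-! ### part A3 -/
/-- the base change of an affine chart of a reduced `k`-scheme carrying a dense family of
geometrically reduced schemes is reduced -/
theorem isReduced_chart {k k' : Type u} [Field k] [Field k'] [Algebra k k'] {T : Scheme.{u}}
    (h : T ⟶ Spec (CommRingCat.of k)) [IsReduced T] {ι : Type*} (Z : ι → Scheme.{u})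
    (g : ∀ i, Z i ⟶ T) (hdense : Dense (⋃ i, Set.range (g i)))
    (hred : ∀ i, IsReduced (pullback (g i ≫ h)
      (Spec.map (CommRingCat.ofHom (algebraMap k k')))))
    {W : T.Opens} (hW : IsAffineOpen W) (φ : CommRingCat.of k ⟶ Γ(T, W))
    (hφ : Spec.map φ = hW.fromSpec ≫ h) :
    IsReduced (pullback (Spec.map φ) (Spec.map (CommRingCat.ofHom (algebraMap k k')))) := by
  letI : Algebra k Γ(T, W) := φ.hom.toAlgebra
  have e0 : φ = CommRingCat.ofHom (algebraMap k Γ(T, W)) := rfl
  rw [e0, isReduced_pullback_SpecMap_iff (R := k) (S := Γ(T, W)) (T := k')]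
  have hcomm : _root_.IsReduced (Γ(T, W) ⊗[k] k') → _root_.IsReduced (k' ⊗[k] Γ(T, W)) :=
    fun _ => isReduced_of_injective (Algebra.TensorProduct.comm k k' Γ(T, W))
      (AlgEquiv.injective _)
  apply hcomm
  let I := Σ i : ι, {W' : (Z i).Opens // IsAffineOpen W' ∧ W' ≤ g i ⁻¹ᵁ W}
  let C : I → Type u := fun w => Γ(Z w.1, w.2.1)
  letI : ∀ w : I, Algebra k (C w) :=
    fun w => (φ ≫ (g w.1).appLE W w.2.1 w.2.2.2).hom.toAlgebra
  let Φ : ∀ w : I, Γ(T, W) →ₐ[k] C w := fun w =>
    { toRingHom := ((g w.1).appLE W w.2.1 w.2.2.2).hom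
      commutes' := fun r => rfl }
  refine isReduced_tensor_of_forall C Φ ?_ ?_
  · intro b hb
    exact eq_zero_of_forall_appLE_eq_zero Z g hdense W b
      (fun i W' hW' e => hb ⟨i, W', hW', e⟩)
  · intro w
    have hcomm' : _root_.IsReduced (k' ⊗[k] C w) → _root_.IsReduced (C w ⊗[k] k') :=
      fun _ => isReduced_of_injective (Algebra.TensorProduct.comm k (C w) k')
        (AlgEquiv.injective _)
    apply hcomm'
    rw [← isReduced_pullback_SpecMap_iff (R := k) (S := C w) (T := k')]
    have e1 : Spec.map (CommRingCat.ofHom (algebraMap k (C w))) =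
        w.2.2.1.fromSpec ≫ (g w.1 ≫ h) := by
      show Spec.map (φ ≫ (g w.1).appLE W w.2.1 w.2.2.2) = _
      rw [Spec.map_comp, hφ, ← Category.assoc,
        IsAffineOpen.SpecMap_appLE_fromSpec (g w.1) hW w.2.2.1 w.2.2.2, Category.assoc]
    rw [e1]
    haveI := hred w.1
    exact isReduced_pullback_comp_openImmersion _ _ _

/-! ### part A4 -/
/-- **EGA IV 11.10.7, core**: a reduced `k`-scheme carrying a dense family of morphisms from
schemes whose base change to `k'` is reduced has reduced base change to `k'`. -/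
theorem isReduced_pullback_of_dense_family {k k' : Type u} [Field k] [Field k'] [Algebra k k']
    {T : Scheme.{u}} (h : T ⟶ Spec (CommRingCat.of k)) [IsReduced T] {ι : Type*}
    (Z : ι → Scheme.{u}) (g : ∀ i, Z i ⟶ T) (hdense : Dense (⋃ i, Set.range (g i)))
    (hred : ∀ i, IsReduced (pullback (g i ≫ h)
      (Spec.map (CommRingCat.ofHom (algebraMap k k'))))) :
    IsReduced (pullback h (Spec.map (CommRingCat.ofHom (algebraMap k k')))) := by
  set q := Spec.map (CommRingCat.ofHom (algebraMap k k')) with hq
  haveI : ∀ x : ↑(pullback h q), _root_.IsReduced ((pullback h q).presheaf.stalk x) := by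
    intro x
    obtain ⟨_, ⟨W, hW : IsAffineOpen W, rfl⟩, hxW, -⟩ :=
      T.isBasis_affineOpens.exists_subset_of_mem_open (Set.mem_univ (pullback.fst h q x))
        isOpen_univ
    obtain ⟨φ, hφ⟩ := Spec.map_surjective (hW.fromSpec ≫ h)
    have hred' := isReduced_chart h Z g hdense hred hW φ hφ
    let j : pullback (Spec.map φ) q ⟶ pullback h q :=
      pullback.map (Spec.map φ) q h q hW.fromSpec (𝟙 _) (𝟙 _) (by rw [hφ]; simp) (by simp)
    have hr : x ∈ Set.range j := by
      rw [Scheme.Pullback.range_map]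
      refine ⟨?_, by simp⟩
      show pullback.fst h q x ∈ Set.range hW.fromSpec
      rw [hW.range_fromSpec]
      exact hxW
    obtain ⟨t, rfl⟩ := hr
    haveI := hred'
    exact isReduced_of_injective (j.stalkMap t).hom
      ((ConcreteCategory.bijective_of_isIso (j.stalkMap t)).1)
  exact isReduced_of_isReduced_stalk _

/-! ### part B1 -/
/-- the kernel of a quasi-compact morphism from a reduced scheme is a radical ideal sheaf -/
theorem radical_ker_of_isReduced {A B : Scheme.{u}} (g : A ⟶ B) [QuasiCompact g] [IsReduced A] :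
    g.ker.radical = g.ker := by
  apply Scheme.IdealSheafData.ext
  funext U
  rw [Scheme.IdealSheafData.radical_ideal, Scheme.Hom.ker_apply]
  apply Ideal.IsRadical.radical
  rintro x ⟨n, hn⟩
  rw [RingHom.mem_ker] at hn ⊢
  rw [map_pow] at hn
  exact IsNilpotent.eq_zero ⟨n, hn⟩

/-- the vanishing ideal of a closed set containing the image of a reduced scheme lies in the
kernel -/
theorem vanishingIdeal_le_ker {Z X : Scheme.{u}} (f : Z ⟶ X) [IsReduced Z]
    (C : TopologicalSpace.Closeds X) (hC : Set.range f ⊆ (C : Set X)) :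
    Scheme.IdealSheafData.vanishingIdeal C ≤ f.ker := by
  rw [Scheme.Hom.ker, Scheme.IdealSheafData.le_ofIdeals_iff]
  intro U a ha
  rw [RingHom.mem_ker]
  rw [← basicOpen_eq_bot_iff]
  rw [← Scheme.preimage_basicOpen]
  ext z
  simp only [TopologicalSpace.Opens.coe_bot, Set.mem_empty_iff_false, iff_false]
  intro hz
  have hz' : f z ∈ X.basicOpen a := hz
  have hzU : f z ∈ (U : X.Opens) := X.basicOpen_le a hz'
  have hr : f z ∈ Set.range U.2.fromSpec := by
    rw [U.2.range_fromSpec]
    exact hzU
  obtain ⟨p, hp⟩ := hr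
  rw [Scheme.IdealSheafData.vanishingIdeal_ideal, PrimeSpectrum.mem_vanishingIdeal] at ha
  have h1 := ha p (by
    show U.2.fromSpec p ∈ (C : Set X)
    rw [hp]
    exact hC ⟨z, rfl⟩)
  have h2 : p ∈ U.2.fromSpec ⁻¹ᵁ X.basicOpen a := by
    show U.2.fromSpec p ∈ X.basicOpen a
    rw [hp]
    exact hz'
  rw [U.2.fromSpec_preimage_basicOpen] at h2
  exact h2 h1

/-- density of a lifted family in the reduced subscheme on the closure of the union of images -/
theorem dense_iUnion_range_lift {X Y : Scheme.{u}} (j : Y ⟶ X) [IsClosedImmersion j]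
    {ι : Type*} (Z : ι → Scheme.{u}) (f : ∀ i, Z i ⟶ X) (g : ∀ i, Z i ⟶ Y)
    (hg : ∀ i, g i ≫ j = f i) (hj : Set.range j = closure (⋃ i, Set.range (f i))) :
    Dense (⋃ i, Set.range (g i)) := by
  have hind : Topology.IsInducing j := j.isEmbedding.isInducing
  rw [dense_iff_closure_eq, hind.closure_eq_preimage_closure_image, Set.image_iUnion]
  have h1 : ∀ i, j '' Set.range (g i) = Set.range (f i) := by
    intro i
    rw [← Set.range_comp, ← hg i]
    rfl
  simp_rw [h1]
  rw [← hj]
  ext y
  simp

end Sch
end Groth.Agent.Lib.Helper78.VanBC
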